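import Cfsg.Agent.H4.M12R5

/-!
# Groups of order `95040` with the element order statistics of `M₁₂`: the identification
-/

set_option autoImplicit false
set_option linter.unusedSectionVars false

namespace Cfsg.Agent.H4.M12R

open Subgroup Nse MulAction Equiv M12P

variable {G : Type*} [Group G] [Finite G]

/-- A Sylow subgroup of order `27` with its centre. -/
structure Syl (P : Subgroup G) (z : G) : Prop where
  card : Nat.card P = 27
  mem : z ∈ P
  oz : orderOf z = 3
  cen : ∀ p ∈ P, Commute p z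
  cube : ∀ p ∈ P, p ^ 3 = 1
  cardC : Nat.card (centralizer ({z} : Set G)) = 54
  cardN : Nat.card (normalizer (zpowers z : Set G)) = 108
  nine : ∀ y ∈ P, y ∉ zpowers z → Nat.card (centralizer {y} ⊓ P : Subgroup G) = 9

theorem Loc.exists_syl (h : Loc G) : ∃ (P : Subgroup G) (z : G), Syl P z := by
  have := Fact.mk Nat.prime_three
  obtain ⟨x₀, hx₀, hx₀'⟩ := h.o3
  obtain ⟨P, h1, -, hP⟩ := exists_between (n := 1) (m := 3) Nat.prime_three
    (le_top (a := zpowers x₀)) (by rw [Nat.card_zpowers, hx₀, pow_one]) (by norm_num)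
    (by rw [card_top, h.card]; norm_num)
  have hx : Nat.card (centralizer ({x₀} : Set G)) = 36 := by
    rcases h.card3 hx₀ with e | e | e <;> omega
  have hp : IsPGroup 3 P := IsPGroup.of_card hP
  replace hP : Nat.card P = 27 := hP
  have : Nontrivial P := Finite.one_lt_card_iff_nontrivial.mp (by omega)
  have := hp.center_nontrivial
  obtain ⟨⟨⟨z, hz⟩, hzc⟩, hz1⟩ := exists_ne (1 : center P)
  have oz : orderOf z = 3 := orderOf_eq_prime (h.o.cube hp hz) fun e =>
    hz1 (Subtype.ext (Subtype.ext e))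
  have cen : ∀ p ∈ P, Commute p z := fun p hp => congrArg Subtype.val (mem_center_iff.mp hzc ⟨p, hp⟩)
  have h2 := card_dvd_of_le (H := P) (K := centralizer {z}) fun p hp =>
    mem_centralizer_singleton_iff.mpr (cen p hp)
  have h3 : ∀ y, 27 ∣ Nat.card (centralizer ({y} : Set G)) → ¬ IsConj x₀ y := fun y hy e => by
    obtain ⟨k, rfl⟩ := isConj_iff.mp e
    rw [card_centralizer_conj, hx] at hy
    omega
  obtain ⟨h4, h5⟩ := two_index hx₀ oz (h3 z (hP ▸ h2))
  have h6 := h.idx (centralizer {x₀})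
  have h7 := h.idx (centralizer {z})
  rw [h.m3] at h4 h5
  rw [hx] at h6
  have hC : Nat.card (centralizer ({z} : Set G)) = 54 := by
    rcases h.card3 oz with e | e | e <;> rw [e] at h7 <;> omega
  rw [hC] at h7
  have h8 : ∀ y ∈ P, y ∉ zpowers z → 9 ∣ Nat.card (centralizer {y} ⊓ P : Subgroup G) := fun y hy hyz =>
    nine_dvd (hp.to_le inf_le_right) le_rfl
      ⟨mem_centralizer_singleton_iff.mpr (cen y hy).symm, hz⟩ oz
      ⟨mem_centralizer_singleton_iff.mpr rfl, hy⟩ hyz
  have h9 : ∀ y, Nat.card (centralizer {y} ⊓ P : Subgroup G) ∣ 27 := fun y =>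
    hP ▸ card_dvd_of_le inf_le_right
  refine ⟨P, z, hP, hz, oz, cen, fun p => h.o.cube hp, hC, ?_, fun y hy hyz => ?_⟩
  · obtain ⟨k, hk⟩ := isConj_iff.mp ((h5 (by omega) z⁻¹ (by rwa [orderOf_inv])).resolve_left
      (h3 _ ((hP ▸ h2).trans (card_dvd_of_le fun c hc => mem_centralizer_singleton_iff.mpr
        (Commute.inv_right (mem_centralizer_singleton_iff.mp hc))))))
    have h10 := relIndex_mul_card (cent_le_norm z)
    rw [← ncard_conj, hC, show {y | ∃ h ∈ normalizer (zpowers z : Set G), h * z * h⁻¹ = y} = {z, z⁻¹}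
      from ?_, Set.ncard_pair fun e => ?_] at h10
    · exact h10.symm
    · have := orderOf_dvd_of_pow_eq_one (show z ^ 2 = 1 by
        rw [pow_two]; exact mul_eq_one_iff_eq_inv.mpr e)
      rw [oz] at this
      omega
    · ext w
      constructor
      · rintro ⟨n, hn, rfl⟩
        exact mem_zp3 oz (mem_normalizer_zpowers.mp hn) (by simpa using (cube_of_ord oz).2)
      · rintro (rfl | rfl)
        · exact ⟨1, one_mem _, by simp⟩
        · exact ⟨k, mem_normalizer_zpowers.mpr (hk ▸ inv_mem (mem_zpowers z)), hk⟩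
  · by_contra hne
    have h10 : P ≤ centralizer {y} := by
      refine ((eq_of_le_of_card_ge inf_le_right ?_).ge.trans inf_le_left)
      obtain ⟨k, hk⟩ := h8 y hy hyz
      have := Nat.le_of_dvd (by norm_num) (h9 y)
      have a1 := h9 y
      rw [hk] at a1
      have : k ≤ 3 := by omega
      interval_cases k <;> omega
    have hxP := h1 (mem_zpowers x₀)
    have h11 : ¬ P ≤ centralizer {x₀} := fun e => by
      have := card_dvd_of_le e
      rw [hP, hx] at this
      omega
    have h12 : z ∈ centralizer {x₀} ⊓ P := ⟨mem_centralizer_singleton_iff.mpr (cen _ hxP).symm, hz⟩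
    have h13 : y ∈ centralizer {x₀} ⊓ P := ⟨mem_centralizer_singleton_iff.mpr
      (mem_centralizer_singleton_iff.mp (h10 hxP)).symm, hy⟩
    have h14 : Nat.card (centralizer {x₀} ⊓ P : Subgroup G) = 9 := by
      have a1 := nine_dvd (hp.to_le inf_le_right) le_rfl h12 oz h13 hyz
      have a2 := hx ▸ card_dvd_of_le (inf_le_left (a := centralizer {x₀}) (b := P))
      exact Nat.dvd_antisymm (Nat.dvd_gcd (h9 x₀) a2) a1
    obtain ⟨i, -, j, -, e⟩ := exists_pow_mul_pow h14 (fun p hp' => h.o.cube hp hp'.2) h12 h13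
      (cube_of_ord oz).2 hyz ⟨mem_centralizer_singleton_iff.mpr rfl, hxP⟩
    exact h11 fun p hp => mem_centralizer_singleton_iff.mpr (e ▸ ((cen p hp).pow_right i).mul_right
      (Commute.pow_right (mem_centralizer_singleton_iff.mp (h10 hp)) j))

namespace Syl

variable {P : Subgroup G} {z : G} (s : Syl P z)
include s

theorem le : P ≤ centralizer {z} := fun p hp => mem_centralizer_singleton_iff.mpr (s.cen p hp)

theorem zle : zpowers z ≤ P := zpowers_le_of_mem s.mem

theorem pg : IsPGroup 3 P := IsPGroup.of_card (n := 3) s.card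

theorem cenZ {ζ a : G} (hζ : ζ ∈ zpowers z) (ha : Commute a z) : Commute a ζ := by
  obtain ⟨k, rfl⟩ := hζ
  exact ha.zpow_right k

theorem eq_one {a : G} (ha : a ∈ P) (h : a * a = 1) : a = 1 := by
  have := s.cube a ha
  rwa [pow_succ, pow_two, h, one_mul] at this

theorem mem_of_cube {a : G} (ha : Commute a z) (h : a ^ 3 = 1) : a ∈ P := by
  by_contra hc
  have h1 := mem_centralizer_singleton_iff.mpr ha
  have h2 := mul_mem_of_index_two s.le (by rw [s.cardC, s.card]) h1 h1 hc hc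
  have h3 := mul_mem h2 h2
  rw [show a * a * (a * a) = a ^ 3 * a by simp [pow_succ, mul_assoc], h, one_mul] at h3
  exact hc h3

theorem conj_mem {n p : G} (hn : n ∈ normalizer (zpowers z : Set G)) (hp : p ∈ P) :
    n * p * n⁻¹ ∈ P := by
  refine s.mem_of_cube ?_ (by rw [conj_pow, s.cube p hp]; simp)
  have := (s.cenZ (mem_normalizer_zpowers.mp (inv_mem hn)) (s.cen p hp)).conj n
  simpa [mul_assoc] using this

theorem norm_eq : normalizer (P : Set G) = normalizer (zpowers z : Set G) := by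
  refine le_antisymm (fun n hn => mem_normalizer_zpowers.mpr ?_)
    fun n hn => mem_normalizer_fintype fun p => s.conj_mem hn
  by_contra hc
  have h1 := s.nine _ ((mem_normalizer_iff.mp hn z).mp s.mem) hc
  have h2 : P ≤ centralizer {n * z * n⁻¹} := fun p hp => mem_centralizer_singleton_iff.mpr (by
    simpa [mul_assoc] using ((s.cen _ ((mem_normalizer_iff.mp (inv_mem hn) p).mp hp)).conj n).eq)
  rw [inf_of_le_right h2, s.card] at h1
  omega

theorem comm_mem {a b : G} (ha : a ∈ P) (hb : b ∈ P) : a * b * a⁻¹ * b⁻¹ ∈ zpowers z := by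
  have := Fact.mk Nat.prime_three
  have : ((zpowers z).subgroupOf P).Normal := ⟨fun x hx g => by
    rwa [show g * x * g⁻¹ = x from Subtype.ext
      (mul_inv_eq_iff_eq_mul.mpr (s.cenZ hx (s.cen g g.2)))]⟩
  have h1 := (IsPGroup.isMulCommutative_of_card_eq_prime_sq (G := P ⧸ (zpowers z).subgroupOf P)
    (p := 3) (relIndex_eq s.zle (by rw [Nat.card_zpowers, s.oz, s.card]; rfl))).is_comm.comm
    (⟨a, ha⟩ : P) (⟨b, hb⟩ : P)
  exact (QuotientGroup.eq_one_iff (N := (zpowers z).subgroupOf P)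
    (⟨a, ha⟩ * ⟨b, hb⟩ * ⟨a, ha⟩⁻¹ * ⟨b, hb⟩⁻¹)).mp (by
      simp only [QuotientGroup.mk_mul, QuotientGroup.mk_inv, h1]; group)

variable (h : Loc G) {r : G} (hr : r * r = 1) (hr1 : r ≠ 1) (hrz : Commute r z)
include h hr hr1 hrz

theorem fix {a : G} (ha : a ∈ P) (hc : Commute a r) : a ∈ zpowers z :=
  h.mem_zp hr hr1 s.oz (s.cube a ha) hrz.symm hc (s.cen a ha)

theorem inverts {a : G} (ha : a ∈ P) : a * (r * a * r⁻¹) ∈ zpowers z := by
  have hn := cent_le_norm z (mem_centralizer_singleton_iff.mpr hrz)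
  have h1 := s.conj_mem hn ha
  have h2 : r * (r * a * r⁻¹) * r⁻¹ = a := by
    calc _ = r * r * a * (r * r)⁻¹ := by group
      _ = _ := by simp [hr]
  generalize e : r * a * r⁻¹ = b at h1 h2 ⊢
  have h3 := s.comm_mem h1 ha
  have h4 : b * a = a * b := by
    have h5 : r * (b * a * b⁻¹ * a⁻¹) * r⁻¹ = a * b * a⁻¹ * b⁻¹ := by
      rw [← conj_mul, ← conj_mul, ← conj_mul, ← conj_inv, ← conj_inv, e, h2]
    rw [(s.cenZ h3 hrz).eq, mul_inv_cancel_right] at h5
    have h6 := s.eq_one (s.zle h3) (by nth_rw 1 [h5]; group)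
    calc _ = b * a * b⁻¹ * a⁻¹ * (a * b) := by group
      _ = _ := by rw [h6, one_mul]
  exact s.fix h hr hr1 hrz (mul_mem ha h1) (mul_inv_eq_iff_eq_mul.mp (by
    rw [← conj_mul, e, h2, h4])).symm

theorem exists_e : ∃ e, e * e = 1 ∧ Commute r e ∧ e * z * e⁻¹ = z⁻¹ := by
  have := Fact.mk Nat.prime_two
  have hc := mem_centralizer_singleton_iff.mpr hrz
  have h0 : Nat.card (zpowers r) = 2 := by rw [Nat.card_zpowers, ord_two hr hr1]
  obtain ⟨R, h1, h2, h3⟩ := exists_between (n := 1) (m := 2) Nat.prime_two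
    (zpowers_le_of_mem (cent_le_norm z hc)) h0 (by norm_num) (by rw [s.cardN]; norm_num)
  have h4 : ∀ K ≤ R, K ≤ centralizer {z} → Nat.card K ≤ 2 := fun K a b =>
    Nat.le_of_dvd two_pos (Nat.dvd_gcd (h3 ▸ card_dvd_of_le a) (s.cardC ▸ card_dvd_of_le b))
  obtain ⟨e, he, h5⟩ := SetLike.not_le_iff_exists.mp fun a => by have := h4 R le_rfl a; omega
  have h6 : e * z * e⁻¹ = z⁻¹ := (mem_zp3 s.oz (mem_normalizer_zpowers.mp (h2 he))
    (by simpa using (cube_of_ord s.oz).2)).resolve_left fun a =>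
      h5 (mem_centralizer_singleton_iff.mpr (mul_inv_eq_iff_eq_mul.mp a))
  refine ⟨e, ?_, congrArg Subtype.val ((IsPGroup.isMulCommutative_of_card_eq_prime_sq
    h3).is_comm.comm ⟨r, h1 (mem_zpowers r)⟩ ⟨e, he⟩), h6⟩
  have h7 : e * e ∈ zpowers r := (eq_of_le_of_card_ge (le_inf h1 (zpowers_le_of_mem hc))
    (h0 ▸ h4 _ inf_le_left inf_le_right)).ge ⟨mul_mem he he,
      mem_centralizer_singleton_iff.mpr (mul_inv_eq_iff_eq_mul.mp (by
        calc _ = e * (e * z * e⁻¹) * e⁻¹ := by group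
          _ = _ := by rw [h6, ← conj_inv, h6, inv_inv]))⟩
  obtain ⟨k, hk, h8⟩ := exists_pow (ord_two hr hr1) h7
  interval_cases k
  · exact h8.trans (pow_zero r)
  rw [pow_one] at h8
  obtain ⟨a, ha, haZ⟩ := SetLike.not_le_iff_exists.mp fun a : P ≤ zpowers z => by
    have := card_le_of_le a
    rw [s.card, Nat.card_zpowers, s.oz] at this
    omega
  have hZ : ∀ ζ ∈ zpowers z, e * ζ * e⁻¹ = ζ⁻¹ := by
    rintro _ ⟨k, rfl⟩
    rw [← conj_zpow, h6, inv_zpow]
  have hb := s.conj_mem (h2 he) ha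
  have h9 := s.inverts h hr hr1 hrz ha
  rw [show r * a * r⁻¹ = e * (e * a * e⁻¹) * e⁻¹ by rw [← h8]; group] at h9
  generalize e1 : e * a * e⁻¹ = b at hb h9
  obtain ⟨ζ, e2, hζ⟩ : ∃ ζ, e * b * e⁻¹ = a⁻¹ * ζ ∧ ζ ∈ zpowers z := ⟨_, by group, h9⟩
  have h10 := s.comm_mem ha hb
  have h11 : Commute b a := by
    have h12 := hZ _ h10
    rw [← conj_mul, ← conj_mul, ← conj_mul, ← conj_inv, ← conj_inv, e1, e2] at h12
    have h13 : a * b * a⁻¹ * b⁻¹ = 1 := by
      refine s.eq_one (s.zle h10) (mul_eq_one_iff_eq_inv.mpr (h12 ▸ ?_))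
      calc _ = a * b * a⁻¹ * b⁻¹ * a⁻¹ * a := by group
        _ = b * a⁻¹ * (b⁻¹ * ζ) * ζ⁻¹ * a := by
          rw [← (s.cenZ h10 (s.cen _ (inv_mem ha))).eq]; group
        _ = _ := by rw [(s.cenZ hζ (s.cen _ (inv_mem hb))).eq]; group
    calc _ = (a * b * a⁻¹ * b⁻¹)⁻¹ * (a * b) := by group
      _ = _ := by rw [h13]; group
  have hzV : z ∈ centralizer {a} ⊓ P := ⟨mem_centralizer_singleton_iff.mpr (s.cen a ha).symm, s.mem⟩
  obtain ⟨i, -, j, hj, e3⟩ := exists_pow_mul_pow (s.nine a ha haZ) (fun p hp => s.cube p hp.2) hzV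
    ⟨mem_centralizer_singleton_iff.mpr rfl, ha⟩ (cube_of_ord s.oz).2 haZ
    ⟨mem_centralizer_singleton_iff.mpr h11, hb⟩
  have h12 : a ^ (j * j + 1) ∈ zpowers z := by
    have h13 : a⁻¹ * ζ = (z ^ i)⁻¹ * (z ^ (i * j) * a ^ (j * j)) := by
      rw [← e2, e3, ← conj_mul, hZ _ (npow_mem_zpowers z i), ← conj_pow, e1, e3,
        ((s.cen a ha).symm.pow_pow i j).mul_pow, ← pow_mul, ← pow_mul]
    have h14 : a ^ (j * j + 1) = (z ^ (i * j))⁻¹ * z ^ i * (a⁻¹ * ζ * a) := by rw [h13]; group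
    rw [h14, mul_assoc a⁻¹, ← (s.cenZ hζ (s.cen a ha)).eq, inv_mul_cancel_left]
    exact mul_mem (mul_mem (inv_mem (npow_mem_zpowers z _)) (npow_mem_zpowers z i)) hζ
  refine absurd ?_ haZ
  have h13 := s.cube a ha
  interval_cases j
  · simpa using h12
  · have := pow_mem h12 2
    rwa [← pow_mul, show (1 * 1 + 1) * 2 = 3 + 1 from rfl, pow_succ, h13, one_mul] at this
  · have := pow_mem h12 2
    rwa [← pow_mul, show (2 * 2 + 1) * 2 = 3 * 3 + 1 from rfl, pow_succ, pow_mul, h13, one_pow,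
      one_mul] at this

variable {e y : G} (he : e * e = 1) (hre : Commute r e) (hez : e * z * e⁻¹ = z⁻¹) (hy : y ∈ P)
  (hyz : y ∉ zpowers z) (hye : Commute y e)
include he hre hez hy hyz hye

theorem side : Side (normalizer ((centralizer {y} ⊓ P : Subgroup G) : Set G)) (centralizer {y} ⊓ P) ∧
    normalizer (zpowers z : Set G) ≤ normalizer ((centralizer {y} ⊓ P : Subgroup G) : Set G) := by
  have hV := s.nine y hy hyz
  set V := centralizer {y} ⊓ P
  have hz1 := (cube_of_ord s.oz).2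
  have h3 : ∀ p ∈ V, p ^ 3 = 1 := fun p hp => s.cube p hp.2
  have hzV : z ∈ V := ⟨mem_centralizer_singleton_iff.mpr (s.cen y hy).symm, s.mem⟩
  have hyV : y ∈ V := ⟨mem_centralizer_singleton_iff.mpr rfl, hy⟩
  have hp : IsPGroup 3 V := s.pg.to_le inf_le_right
  have oy : orderOf y = 3 := orderOf_eq_prime (hp := ⟨Nat.prime_three⟩) (s.cube y hy)
    fun a => hyz (a ▸ one_mem _)
  have he1 : e ≠ r ∧ e ≠ 1 := by
    have : ¬ Commute e z := fun a => hz1 (s.eq_one s.mem (by
      rw [a.eq, mul_inv_cancel_right] at hez; exact mul_eq_one_iff_eq_inv.mpr hez))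
    exact ⟨fun a => this (a ▸ hrz), fun a => this (a ▸ Commute.one_left z)⟩
  have h1 : ∀ n, n * z * n⁻¹ ∈ V → n * y * n⁻¹ ∈ V → n ∈ normalizer (V : Set G) := fun n a b =>
    mem_normalizer_fintype fun p hp => by
      obtain ⟨i, -, j, -, rfl⟩ := exists_pow_mul_pow hV h3 hzV hyV hz1 hyz hp
      rw [← conj_mul, ← conj_pow, ← conj_pow]
      exact mul_mem (pow_mem a i) (pow_mem b j)
  have heV : e ∈ normalizer (V : Set G) := h1 e (hez ▸ inv_mem hzV)
    (by rwa [← hye.eq, mul_inv_cancel_right])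
  have h2 : normalizer (zpowers z : Set G) ≤ normalizer (V : Set G) := by
    refine (eq_of_le_of_card_ge inf_le_right (s.cardN ▸ Nat.le_of_dvd Nat.card_pos
      (Nat.Coprime.mul_dvd_of_dvd_of_dvd (m := 4) (n := 27) (by norm_num)
      (four_dvd ⟨h1 r ?_ ?_, cent_le_norm z (mem_centralizer_singleton_iff.mpr hrz)⟩
        ⟨heV, mem_normalizer_zpowers.mpr (hez ▸ inv_mem (mem_zpowers z))⟩ hr he hre hr1 he1.2
        he1.1.symm) (s.card ▸ card_dvd_of_le (le_inf (fun p hp => mem_normalizer_fintype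
          fun v => conj_mem_of_27 inf_le_right hV s.card hp) (s.le.trans (cent_le_norm z))))))).ge.trans
      inf_le_left
    · rwa [hrz.eq, mul_inv_cancel_right]
    · exact (mul_mem_cancel_left hyV).mp (zpowers_le_of_mem hzV (s.inverts h hr hr1 hrz hy))
  have h4 : Nat.card (centralizer ({y} : Set G)) = 54 := by
    have h5 := ord_two he he1.2 ▸ orderOf_dvd_natCard _ (mem_centralizer_singleton_iff.mpr hye.symm)
    rcases h.card3 oy with a | a | a
    · omega
    swap
    · exact a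
    have h6 := relIndex_modEq Nat.prime_three hp (H := centralizer {y})
      (by rw [relIndex_eq inf_le_left (n := 4) (a.trans (hV ▸ rfl))]; norm_num) inf_le_left
    have h7 := relIndex_mul_card_inf (normalizer (V : Set G)) (centralizer {y})
    obtain ⟨k, hk⟩ := Nat.Coprime.mul_dvd_of_dvd_of_dvd (m := 2) (n := 9) (by norm_num)
      (ord_two he he1.2 ▸ orderOf_dvd_natCard (normalizer (V : Set G) ⊓ centralizer {y})
        ⟨heV, mem_centralizer_singleton_iff.mpr hye.symm⟩)
      (hV ▸ card_dvd_of_le (le_inf le_normalizer inf_le_left))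
    have h8 : (normalizer (V : Set G)).relIndex (centralizer {y}) = 1 := by
      rw [hk, a] at h7
      rw [Nat.ModEq] at h6
      generalize (normalizer (V : Set G)).relIndex (centralizer {y}) = n at h6 h7
      have : n ∣ 2 := ⟨k, by linarith⟩
      have := Nat.le_of_dvd two_pos this
      omega
    have := card_le_of_le (h.le_of_norm oy (by rw [a]; norm_num) hp inf_le_left
      fun g hg v => (mem_normalizer_iff.mp (relIndex_eq_one.mp h8 hg) v).mp)
    rw [Nat.card_zpowers] at this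
    omega
  refine ⟨⟨le_normalizer, fun a ha p => (mem_normalizer_iff.mp ha p).mp, hV, h3,
    fun p hp q hq => comm_of_nine hV hp hq, fun a _ ha => ⟨mem_centralizer_singleton_iff.mpr
      (ha y hyV), s.mem_of_cube (ha z hzV) (h.o.cube (P := centralizer (V : Set G)) ?_
        fun p hp => (ha p hp).symm)⟩, ?_⟩, h2⟩
  · refine IsPGroup.of_card_dvd_pow (n := 3) (Nat.Coprime.dvd_of_dvd_mul_left (m := 2)
      ((Nat.coprime_comm.mp ((Nat.Prime.coprime_iff_not_dvd Nat.prime_two).mpr fun a => ?_)))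
      ((card_dvd_of_le fun c hc => mem_centralizer_singleton_iff.mpr (hc z hzV).symm).trans
        s.cardC.dvd))
    obtain ⟨u, hu, hu2⟩ := exists_mem_orderOf Nat.prime_two a
    exact h.o1 u hu2 (hV ▸ card_dvd_of_le fun p hp => mem_centralizer_singleton_iff.mpr (hu p hp))
  · have h5 := relIndex_mul_card h2
    have h6 := card_le_of_orbit (H := normalizer (V : Set G)) (x := z) (s := (V : Set G) \ {1})
      fun k hk => ⟨(mem_normalizer_iff.mp hk z).mp hzV, by simpa using hz1⟩
    rw [Set.ncard_sdiff_singleton_of_mem (one_mem V), show (V : Set G).ncard = 9 from hV] at h6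
    have h7 := s.cardC ▸ card_le_of_le (inf_le_left (a := centralizer {z})
      (b := normalizer (V : Set G)))
    have h8 := relIndex_modEq Nat.prime_three s.pg (H := normalizer (V : Set G)) (fun a => by
      have h9 := relIndex_mul_card ((s.le.trans (cent_le_norm z)).trans h2)
      have h10 := h.card ▸ (normalizer (V : Set G)).card_subgroup_dvd_card
      rw [← h9, s.card] at h10
      exact absurd ((Nat.mul_dvd_mul_right a 27).trans h10) (by norm_num))
      ((s.le.trans (cent_le_norm z)).trans h2)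
    have h9 : (normalizer (zpowers z : Set G)).relIndex (normalizer (V : Set G)) ≠ 1 := fun a => by
      obtain ⟨Q, h10, h11, h12⟩ := exists_between (n := 2) (m := 3) Nat.prime_three inf_le_left hV
        (by norm_num) (by rw [h4]; norm_num)
      have := card_le_of_le (H := Q) (K := V) fun q hq => by
        have h13 := h.o.cube (IsPGroup.of_card h12) hq
        refine ⟨h11 hq, s.mem_of_cube (commute_of_conj_mem ?_ (by rw [s.oz]; norm_num)
          (mem_normalizer_zpowers.mp (relIndex_eq_one.mp a (mem_normalizer_fintype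
            fun v => conj_mem_of_27 h10 hV h12 hq)))) h13⟩
        exact Odd.of_dvd_nat (by decide) (orderOf_dvd_of_pow_eq_one h13)
      omega
    rw [s.norm_eq, Nat.ModEq] at h8
    rw [s.cardN] at h5
    omega

end Syl

theorem side_sub {A V H : Subgroup G} (h : Side A V) (hA : A ≤ H) :
    Side (A.subgroupOf H) (V.subgroupOf H) where
  le := fun _ hx => h.le hx
  norm a ha p hp := h.norm a ha p hp
  card := by rw [card_subgroupOf, inf_of_le_left (h.le.trans hA), h.card]
  cube p hp := Subtype.ext (h.cube p hp)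
  comm p hp q hq := Subtype.ext (h.comm p hp q hq)
  cent a ha hc := h.cent a ha fun p hp => congrArg Subtype.val (hc ⟨p, hA (h.le hp)⟩ hp)
  cardA := by rw [card_subgroupOf, inf_of_le_left hA, h.cardA]

theorem Hyp.iso_of_sides (h : Hyp G) {A B V W : Subgroup G} (hA : Side A V) (hB : Side B W)
    (hVB : V ≤ B) (hWA : W ≤ A) (hVW : ¬ V ≤ W) {z : G} (hz : z ∈ V) (hz' : z ∈ W) (hz1 : z ≠ 1)
    (hN : normalizer (zpowers z : Set G) ≤ A ⊓ B) : Nonempty (G ≃* Spor.M12) := by
  have h1 : A ≤ A ⊔ B := le_sup_left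
  rcases M12P.iso_of_sides (side_sub hA h1) (side_sub hB le_sup_right)
    (by rw [← subgroupOf_sup h1 le_sup_right, subgroupOf_self]) (fun _ hx => hVB hx)
    (fun _ hx => hWA hx) (fun e => hVW fun x hx => e (show ⟨x, h1 (hA.le hx)⟩ ∈ _ from hx))
    (z₀ := ⟨z, h1 (hA.le hz)⟩) hz hz' (fun e => hz1 (congrArg Subtype.val e)) (fun n hn => by
      obtain ⟨k, hk⟩ := mem_normalizer_zpowers.mp hn
      exact hN (mem_normalizer_zpowers.mpr ⟨k, congrArg Subtype.val hk⟩)) with ⟨⟨e⟩⟩ | ⟨⟨e⟩⟩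
  · have := eq_top_of_card_eq (A ⊔ B) (by rw [Nat.card_congr e.toEquiv, Golay.card_M12, h.card])
    exact ⟨(topEquiv.symm.trans (MulEquiv.subgroupCongr this.symm)).trans e⟩
  · have := (A ⊔ B).card_subgroup_dvd_card
    rw [Nat.card_congr e.toEquiv, S3412.card_L, h.card] at this
    omega

theorem Hyp.iso (h₀ : Hyp G) : Nonempty (G ≃* Spor.M12) := by
  have h := h₀.loc
  obtain ⟨P, z, s⟩ := h.exists_syl
  obtain ⟨r, hrz, hr2⟩ := exists_mem_orderOf (H := centralizer {z}) Nat.prime_two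
    (by rw [s.cardC]; norm_num)
  obtain ⟨hr, hr1⟩ := sq_of_ord hr2
  replace hrz : Commute r z := mem_centralizer_singleton_iff.mp hrz
  have hz1 := (cube_of_ord s.oz).2
  have h1 : ∀ e, e * z * e⁻¹ = z⁻¹ → r ≠ e ∧ e ≠ 1 := fun e hez => by
    have : ¬ Commute e z := fun a => hz1 (s.eq_one s.mem (by
      rw [a.eq, mul_inv_cancel_right] at hez; exact mul_eq_one_iff_eq_inv.mpr hez))
    exact ⟨fun a => this (a ▸ hrz), fun a => this (a ▸ Commute.one_left z)⟩
  have h2 : ∀ e, e * e = 1 → Commute r e → e * z * e⁻¹ = z⁻¹ → ∀ X : Subgroup G, z ∈ X →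
      Nat.card X < 27 → ∃ y ∈ P, y ∉ X ∧ (Commute y e ∨ Commute y (r * e)) := by
    intro e he hre hez X hX hc
    by_contra hn
    push Not at hn
    have := card_le_of_le (le_of_four (X := X) hr he hre hr1 (h1 e hez).2 (h1 e hez).1
      Nat.prime_three (by norm_num) s.pg
      (fun _ => s.conj_mem (cent_le_norm z (mem_centralizer_singleton_iff.mpr hrz)))
      (fun _ => s.conj_mem (mem_normalizer_zpowers.mpr (hez ▸ inv_mem (mem_zpowers z))))
      fun g hg hc => by
        by_contra hgX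
        rcases hc with hc | hc | hc
        exacts [hgX (zpowers_le_of_mem hX (s.fix h hr hr1 hrz hg hc)), (hn g hg hgX).1 hc,
          (hn g hg hgX).2 hc])
    have := s.card
    omega
  have h3 : ∀ e, e * e = 1 → Commute r e → e * z * e⁻¹ = z⁻¹ →
      r * e * (r * e) = 1 ∧ Commute r (r * e) ∧ r * e * z * (r * e)⁻¹ = z⁻¹ := fun e he hre hez =>
    ⟨by rw [hre.symm.mul_mul_mul_comm, hr, he, one_mul], (Commute.refl r).mul_right hre, by
      calc _ = r * (e * z * e⁻¹) * r⁻¹ := by group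
        _ = _ := by rw [hez, hrz.inv_right.eq, mul_inv_cancel_right]⟩
  have key : ∀ e, e * e = 1 → Commute r e → e * z * e⁻¹ = z⁻¹ → ∀ y ∈ P, y ∉ zpowers z →
      Commute y e → Nonempty (G ≃* Spor.M12) := by
    intro e he hre hez y hy hyz hye
    have hz : ∀ y ∈ P, z ∈ centralizer {y} ⊓ P := fun y hy =>
      ⟨mem_centralizer_singleton_iff.mpr (s.cen y hy).symm, s.mem⟩
    obtain ⟨y', hy', h4, h5⟩ := h2 e he hre hez _ (hz y hy) (by rw [s.nine y hy hyz]; norm_num)
    have oy : orderOf y = 3 := orderOf_eq_prime (hp := ⟨Nat.prime_three⟩) (s.cube y hy)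
      fun a => hyz (a ▸ one_mem _)
    replace h5 := h5.resolve_left fun a => h4 (zpowers_le_of_mem (H := centralizer {y} ⊓ P)
      ⟨mem_centralizer_singleton_iff.mpr rfl, hy⟩ (h.le_zp he (h1 e hez).2 oy
        (K := centralizer {e} ⊓ P) (s.pg.to_le inf_le_right)
        ⟨mem_centralizer_singleton_iff.mpr hye, hy⟩
        (fun k hk => mem_centralizer_singleton_iff.mp hk.1)
        ⟨mem_centralizer_singleton_iff.mpr a, hy'⟩))
    obtain ⟨a1, a2, a3⟩ := h3 e he hre hez
    obtain ⟨hA, hA'⟩ := s.side h hr hr1 hrz he hre hez hy hyz hye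
    obtain ⟨hB, hB'⟩ := s.side h hr hr1 hrz a1 a2 a3 hy' (fun a => h4 (zpowers_le_of_mem (hz y hy) a)) h5
    have h6 := s.le.trans (cent_le_norm z)
    exact h₀.iso_of_sides hB hA (inf_le_right.trans (h6.trans hA')) (inf_le_right.trans (h6.trans hB'))
      (fun a => h4 (a ⟨mem_centralizer_singleton_iff.mpr rfl, hy'⟩)) (hz y' hy') (hz y hy) hz1
      (le_inf hB' hA')
  obtain ⟨e, he, hre, hez⟩ := s.exists_e h hr hr1 hrz
  obtain ⟨y, hy, hyz, hc | hc⟩ := h2 e he hre hez _ (mem_zpowers z)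
    (by rw [Nat.card_zpowers, s.oz]; norm_num)
  · exact key e he hre hez y hy hyz hc
  · obtain ⟨a1, a2, a3⟩ := h3 e he hre hez
    exact key _ a1 a2 a3 y hy hyz hc

end Cfsg.Agent.H4.M12R
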