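import Cfsg.Agent.L0.C12Fpf
import Cfsg.Agent.H9.FxTransfer

/-!
# General local lemmas: square root bound, outer involutions, critical pairs, transfer
-/

set_option autoImplicit false

namespace Cfsg.Agent.L0.C12

open Subgroup Cfsg.Agent.L0.SC3 Cfsg.Agent.H1.T3 Cfsg.Agent.H9
open scoped commutatorElement Pointwise

variable {G : Type*} [Group G]

/-- Critical pairs, general form. -/
theorem CP0 {ι : Type*} (P R Y : ι → Subgroup G) (S : Set G)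
    (hS : ∀ a, a ∈ S ∨ a⁻¹ ∈ S → ∃ k, ∀ j, ∀ r ∈ R k, a * r * a⁻¹ ∈ P j) (h0 : ∀ i j, Y i ≤ P j)
    (h : ∀ g ∈ closure S, ∀ i j, (∀ y ∈ Y i, g * y * g⁻¹ ∈ P j) → (∀ y ∈ Y j, g⁻¹ * y * g ∈ P i) →
      ∀ y ∈ Y i, g * y * g⁻¹ ∈ R j) :
    ∀ g ∈ closure S, ∀ i j, ∀ y ∈ Y i, g * y * g⁻¹ ∈ R j := by
  have hm : ∀ l : List G, (∀ a ∈ l, a ∈ S ∨ a⁻¹ ∈ S) → l.prod ∈ closure S := fun l hl =>
    list_prod_mem fun a ha => (hl a ha).elim (subset_closure ·) fun h =>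
      inv_mem_iff.mp (subset_closure h)
  have hi : ∀ l : List G, (∀ a ∈ l, a ∈ S ∨ a⁻¹ ∈ S) →
      ∀ a ∈ (l.map (·⁻¹)).reverse, a ∈ S ∨ a⁻¹ ∈ S := fun l hl a ha => by
    simpa [or_comm] using hl a⁻¹ (by simpa using ha)
  have key : ∀ n, ∀ l : List G, l.length = n → (∀ a ∈ l, a ∈ S ∨ a⁻¹ ∈ S) →
      ∀ i j, ∀ y ∈ Y i, l.prod * y * l.prod⁻¹ ∈ P j := by
    intro n
    induction n with
    | zero =>
      intro l hl _ i j y hy
      simpa [List.length_eq_zero_iff.mp hl] using h0 i j hy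
    | succ n ih =>
      rintro (_ | ⟨a, l⟩) hl hS' i j y hy
      · simp at hl
      obtain ⟨k, hk⟩ := hS a (hS' a (by simp))
      have h1 : ∀ a ∈ l, a ∈ S ∨ a⁻¹ ∈ S := fun b hb => hS' b (by simp [hb])
      have h2 := ih (l.map (·⁻¹)).reverse (by simpa using hl) (hi l h1)
      rw [← List.prod_inv_reverse, inv_inv] at h2
      simpa [mul_assoc] using hk j _ (h _ (hm l h1) i k (ih l (by simpa using hl) h1 i k) (h2 k i) y hy)
  intro g hg i j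
  obtain ⟨l, hl, rfl⟩ := Submonoid.exists_list_of_mem_closure (closure_toSubmonoid S ▸ hg :
    g ∈ Submonoid.closure (S ∪ S⁻¹))
  have h2 := key _ (l.map (·⁻¹)).reverse rfl (hi l hl)
  rw [← List.prod_inv_reverse, inv_inv] at h2
  exact h _ hg i j (key _ l rfl hl i j) (h2 j i)

theorem CP1 {H K Y : Subgroup G} {n : G} (KH : K ≤ H) (nK : ∀ h ∈ H, ∀ k ∈ K, h * k * h⁻¹ ∈ K)
    (h1 : ∀ k ∈ K, n * k * n⁻¹ ∈ H) (h2 : ∀ k ∈ K, n⁻¹ * k * n ∈ H) (YK : Y ≤ K)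
    (h : ∀ g ∈ H ⊔ zpowers n, (∀ y ∈ Y, g * y * g⁻¹ ∈ H) → (∀ y ∈ Y, g⁻¹ * y * g ∈ H) →
      ∀ y ∈ Y, g * y * g⁻¹ ∈ K) : ∀ g ∈ H ⊔ zpowers n, ∀ y ∈ Y, g * y * g⁻¹ ∈ K := by
  rw [show H ⊔ zpowers n = closure (H ∪ {n}) by
    rw [Subgroup.closure_union, closure_eq, zpowers_eq_closure]] at h ⊢
  refine fun g hg => CP0 (fun _ : Unit => H) (fun _ => K) (fun _ => Y) _ (fun a ha => ⟨(), ?_⟩)
    (fun _ _ => YK.trans KH) (fun g hg _ _ => h g hg) g hg () ()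
  rcases ha with (ha | rfl) | ha | ha
  · exact fun _ r hr => KH (nK a ha r hr)
  · exact fun _ => h1
  · exact fun _ r hr => KH (nK a (inv_mem_iff.mp ha) r hr)
  · obtain rfl := inv_eq_iff_eq_inv.mp ha
    simpa using h2

theorem CP2 {ι : Type*} {P R Y : ι → Subgroup G} (RP : ∀ i j, R i ≤ P j)
    (nR : ∀ i, ∀ g ∈ P i, ∀ r ∈ R i, g * r * g⁻¹ ∈ R i) (YR : ∀ i, Y i ≤ R i)
    (h : ∀ g ∈ ⨆ i, P i, ∀ i j, (∀ y ∈ Y i, g * y * g⁻¹ ∈ P j) → (∀ y ∈ Y j, g⁻¹ * y * g ∈ P i) →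
      ∀ y ∈ Y i, g * y * g⁻¹ ∈ R j) :
    ∀ g ∈ ⨆ i, P i, ∀ i j, ∀ y ∈ Y i, g * y * g⁻¹ ∈ R j := by
  rw [iSup_eq_closure] at h ⊢
  refine CP0 P R Y _ (fun a ha => ?_) (fun i j => (YR i).trans (RP i j)) h
  simp only [Set.mem_iUnion, SetLike.mem_coe, inv_mem_iff, or_self] at ha
  exact ha.imp fun k ha j r hr => RP k j (nR k a ha r hr)

variable [Finite G]

/-- Elements of order three in a coset of a subgroup of order prime to three. -/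
theorem conj_coset {E : Subgroup G} {b y : G} (hb : Inv b E) (b3 : b ^ 3 = 1) (y3 : y ^ 3 = 1)
    (h : y * b⁻¹ ∈ E) : ∃ f ∈ E, y = f * b * f⁻¹ := by
  classical
  have := Fact.mk Nat.prime_three
  have := Fintype.ofFinite E
  let σ : Function.End E := fun f => ⟨y * f * b⁻¹, by
    simpa [mul_assoc] using mul_mem h (hb.conj f f.2)⟩
  have h1 := Equiv.Perm.card_fixedPoints_modEq (f := σ) (p := 3) (n := 1) (funext fun f =>
    Subtype.ext (by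
      change y * (y * (y * f * b⁻¹) * b⁻¹) * b⁻¹ = f
      calc _ = y ^ 3 * f * (b ^ 3)⁻¹ := by
            simp only [pow_succ, pow_zero, one_mul, mul_inv_rev, mul_assoc]
        _ = _ := by rw [y3, b3]; simp))
  obtain ⟨f, hf⟩ : Nonempty σ.fixedPoints := Fintype.card_pos_iff.mp (Nat.pos_of_ne_zero
    fun e => not_dvd_card_iff.mpr hb.cube (by
      rwa [e, Nat.modEq_zero_iff_dvd, ← Nat.card_eq_fintype_card] at h1))
  have h2 : y * f * b⁻¹ = f := congrArg Subtype.val hf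
  exact ⟨f, f.2, by rw [← mul_inv_eq_iff_eq_mul.mp h2]; simp⟩

/-- A power of an element of the coset `K x` is conjugate to `x`. -/
theorem pow_conj {K : Subgroup G} {x g : G} (hx : Inv x K) (x3 : x ^ 3 = 1) (h : g * x⁻¹ ∈ K) :
    ∃ m : ℕ, ∃ w ∈ K, g ^ m = w * x * w⁻¹ := by
  have h1 : ∀ m : ℕ, g ^ m * (x ^ m)⁻¹ ∈ K := fun m => by
    induction m with
    | zero => simp
    | succ m ih =>
      convert mul_mem h (hx.conj _ ih) using 1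
      rw [pow_succ', pow_succ' x]; group
  have h2 : g ^ 3 ∈ K := by simpa [x3] using h1 3
  have h3 : ¬ 3 ∣ orderOf (g ^ 3) := fun e =>
    not_dvd_card_iff.mpr hx.cube (e.trans (orderOf_dvd_natCard K h2))
  have h4 := h1 (orderOf (g ^ 3) ^ 2)
  rw [← pow_mod_orderOf x] at h4
  have h5 : x ^ (orderOf (g ^ 3) ^ 2) = x := by
    rw [← Nat.div_add_mod (orderOf (g ^ 3) ^ 2) 3, pow_add, pow_mul, x3, one_pow, one_mul,
      Nat.pow_mod]
    have : orderOf (g ^ 3) % 3 = 1 ∨ orderOf (g ^ 3) % 3 = 2 := by omega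
    rcases this with h | h <;> simp [h]
  rw [pow_mod_orderOf, h5] at h4
  exact ⟨_, conj_coset hx x3 (by
    rw [← pow_mul, mul_comm, pow_mul, sq, pow_mul, pow_orderOf_eq_one, one_pow]) h4⟩

theorem card_mul_le {A A' B : Subgroup G} (h : A ≤ B) (h' : A' ≤ B) :
    Nat.card A * Nat.card A' ≤ Nat.card (A ⊓ A' : Subgroup G) * Nat.card B := by
  rw [← card_mul_relIndex_of_le h, ← card_mul_relIndex_of_le (inf_le_right : A ⊓ A' ≤ A'),
    inf_relIndex_right, mul_left_comm]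
  gcongr
  exact relIndex_le_of_le_right h' (index_ne_zero_of_finite)

/-- The square root bound for centralizers of outer elements. -/
theorem sqrt {x τ : G} {L K B D A : Subgroup G} (x3 : x ^ 3 = 1) (x1 : x ≠ 1) (xL : x ∈ L)
    (KL : K ≤ L) (xK : Inv x K) (xB : ∀ b ∈ B, x * b * x⁻¹ ∈ B)
    (D3 : ∀ d ∈ D, d ^ 3 = 1 → d = 1) (nD : ∀ l ∈ L, ∀ d ∈ D, l * d * l⁻¹ ∈ D) (DB : D ≤ B)
    (hD : ∀ y ∈ L, y ^ 3 = 1 → y ≠ 1 → ∀ b ∈ B, Commute y b → b ∈ D) (τL : τ ∈ L)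
    (out : τ * x * τ⁻¹ * x ∈ K) (AB : A ≤ B) (hA : ∀ a ∈ A, ⁅a, τ⁆ ∈ D) :
    Nat.card A ^ 2 ≤ Nat.card D * Nat.card B := by
  have := card_mul_le AB (A' := MulAut.conj x • A) fun a ha => by
    simpa [mul_assoc] using xB _ (AB (mem_conj_smul_iff.mp ha))
  rw [card_conj_smul, ← sq] at this
  refine this.trans (Nat.mul_le_mul_right _ (card_le_of_le fun a ⟨h1, h2⟩ => ?_))
  obtain ⟨m, w, hw, e⟩ := pow_conj (g := τ * (x * τ * x⁻¹)⁻¹) xK x3 (by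
    convert out using 1
    simp only [mul_inv_rev, inv_inv, mul_assoc, inv_mul_inv_of_cube x3])
  let Q : Subgroup G :=
    { carrier := {l | l ∈ L ∧ ⁅a, l⁆ ∈ D}
      one_mem' := ⟨one_mem _, by simp⟩
      mul_mem' := fun {l k} hl hk => ⟨mul_mem hl.1 hk.1, by
        convert mul_mem hl.2 (nD l hl.1 _ hk.2) using 1
        simp only [commutatorElement_def]; group⟩
      inv_mem' := fun {l} hl => ⟨inv_mem hl.1, by
        convert nD _ (inv_mem hl.1) _ (inv_mem hl.2) using 1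
        simp only [commutatorElement_def]; group⟩ }
  obtain ⟨h3, h4⟩ : w * x * w⁻¹ ∈ Q := e ▸ Q.pow_mem (Q.mul_mem ⟨τL, hA a h1⟩ (Q.inv_mem
    ⟨mul_mem (mul_mem xL τL) (inv_mem xL), by
      convert nD x xL _ (hA _ (mem_conj_smul_iff.mp h2)) using 1
      simp only [commutatorElement_def]; group⟩)) m
  generalize hy : w * x * w⁻¹ = y at h3 h4
  have y3 : y ^ 3 = 1 := by rw [← hy, conj_pow, x3]; simp
  obtain ⟨f, hf, e⟩ := conj_coset (b := y) (y := a * y * a⁻¹) ⟨nD y h3, D3⟩ y3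
    (by rw [conj_pow, y3]; simp) h4
  have := hD y h3 y3 (by rw [← hy]; simpa using x1) (f⁻¹ * a) (mul_mem (inv_mem (DB hf)) (AB h1)) (by
    change y * (f⁻¹ * a) = f⁻¹ * a * y
    calc _ = f⁻¹ * (f * y * f⁻¹) * a := by group
      _ = _ := by rw [← e]; group)
  exact (mul_mem_cancel_left (inv_mem hf)).mp this

/-- The form of the square root bound for a type I subgroup. -/
theorem TI.sqrt {x τ : G} {L K B D A : Subgroup G} (c : TI x L K) (x3 : x ^ 3 = 1) (x1 : x ≠ 1)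
    (B3 : ∀ b ∈ B, b ^ 3 = 1 → b = 1) (DB : D ≤ B) (nB : ∀ l ∈ L, ∀ b ∈ B, l * b * l⁻¹ ∈ B)
    (nD : ∀ l ∈ L, ∀ d ∈ D, l * d * l⁻¹ ∈ D)
    (hD : ∀ y ∈ L, y ^ 3 = 1 → y ≠ 1 → ∀ b ∈ B, Commute y b → b ∈ D) (τL : τ ∈ L)
    (out : τ * x * τ⁻¹ * x ∈ K) (AB : A ≤ B) (hA : ∀ a ∈ A, ⁅a, τ⁆ ∈ D) :
    Nat.card A ^ 2 ≤ Nat.card D * Nat.card B :=
  C12.sqrt x3 x1 c.mem c.le c.toCore.inv (nB x c.mem) (fun d hd => B3 d (DB hd)) nD DB hD τL out AB hA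

/-- Outer elements whose square lies in `D` are conjugate modulo `D`. -/
theorem Fpf.outer_mod {x τ k : G} {B D : Subgroup G} (f : Fpf x B D) (hτ : τ * x * τ⁻¹ = x⁻¹)
    (τB : ∀ b ∈ B, τ * b * τ⁻¹ ∈ B) (τD : ∀ d ∈ D, τ * d * τ⁻¹ ∈ D) (hk : k ∈ B)
    (h2 : k * τ * (k * τ) ∈ D) : ∃ w ∈ B, ∃ d ∈ D, k * τ = d * (w * τ * w⁻¹) := by
  have xx := mul_self_of_cube f.cube
  obtain ⟨m, w, hw, e⟩ := pow_conj (g := k * τ * (x * (k * τ)⁻¹ * x⁻¹)) f.inv f.cube (by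
    convert mul_mem hk (f.inv.conj _ (f.inv.conj _ (inv_mem hk))) using 1
    calc _ = k * (τ * x * τ⁻¹) * k⁻¹ * (x * x)⁻¹ := by group
      _ = _ := by rw [hτ]; nth_rewrite 1 [← xx]; group)
  have kD : ∀ d ∈ D, k * τ * d * (k * τ)⁻¹ ∈ D := fun d hd => by
    simpa [mul_assoc] using f.nD k hk _ (τD d hd)
  obtain ⟨σ, hσ⟩ : ∃ σ, σ = k * τ := ⟨_, rfl⟩
  rw [← hσ] at e kD h2
  have kD' : ∀ d ∈ D, σ⁻¹ * d * σ ∈ D := fun d hd => by
    simpa using conj_mem_of_mem_normalizer (inv_mem (mem_normalizer_of_conj_mem kD)) hd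
  have xD' : ∀ d ∈ D, x⁻¹ * d * x ∈ D := fun d hd => by
    simpa using conj_mem_of_mem_normalizer (inv_mem (mem_normalizer_of_conj_mem f.xD)) hd
  have h3 : ∀ m : ℕ, σ * (σ * (x * σ⁻¹ * x⁻¹)) ^ m * σ⁻¹ * (σ * (x * σ⁻¹ * x⁻¹)) ^ m ∈ D := by
    intro m
    induction m with
    | zero => simp
    | succ m ih =>
      convert mul_mem (mul_mem h2 (f.xD _ (kD' _ (xD' _ (kD' _ ih))))) (f.xD _ (inv_mem h2)) using 1
      nth_rewrite 1 [pow_succ']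
      rw [pow_succ]
      generalize (σ * (x * σ⁻¹ * x⁻¹)) ^ m = a
      group
  have h4 := h3 m
  rw [e] at h4
  have y3 : (w * x⁻¹ * w⁻¹) ^ 3 = 1 := by rw [conj_pow, inv_pow, f.cube]; simp
  obtain ⟨d, hd, e⟩ := conj_coset (E := D) (b := w * x⁻¹ * w⁻¹) (y := σ * (w * x * w⁻¹) * σ⁻¹)
    ⟨fun d hd => by
      simpa [mul_assoc] using f.nD w hw _ (xD' _ (f.nD _ (inv_mem hw) d hd)),
      fun d hd => f.inv.cube d (f.le hd)⟩ y3 (by rw [conj_pow, conj_pow, f.cube]; simp)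
    (by simpa [mul_assoc] using h4)
  have h5 := f.fix (w⁻¹ * d⁻¹ * k * (τ * w * τ⁻¹))
    (mul_mem (mul_mem (mul_mem (inv_mem hw) (inv_mem (f.le hd))) hk) (τB w hw)) (by
      refine Commute.inv_left_iff.mp (conj_eq_iff.mp ?_).symm
      calc _ = w⁻¹ * d⁻¹ * (k * τ) * w * (τ⁻¹ * (τ * x * τ⁻¹) * τ) * w⁻¹ * (k * τ)⁻¹ * d * w := by
            rw [hτ]; group
        _ = w⁻¹ * d⁻¹ * (σ * (w * x * w⁻¹) * σ⁻¹) * d * w := by rw [hσ]; group
        _ = _ := by rw [e]; group)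
  exact ⟨w, hw, _, mul_mem hd (f.nD w hw _ h5), by group⟩

theorem Fpf.outer {x τ k : G} {B : Subgroup G} (f : Fpf x B ⊥) (hτ : τ * x * τ⁻¹ = x⁻¹)
    (τB : ∀ b ∈ B, τ * b * τ⁻¹ ∈ B) (hk : k ∈ B) (h2 : k * τ * (k * τ) = 1) :
    ∃ w ∈ B, k * τ = w * τ * w⁻¹ := by
  obtain ⟨w, hw, _, rfl, e⟩ := f.outer_mod hτ τB (by simp) hk h2
  exact ⟨w, hw, by rw [e, one_mul]⟩

/-- Involutions centralized by an outer involution are commutators. -/
theorem Fpf.outer_comm {x τ k : G} {B : Subgroup G} (f : Fpf x B ⊥) (hτ : τ * x * τ⁻¹ = x⁻¹)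
    (ττ : τ * τ = 1) (τB : ∀ b ∈ B, τ * b * τ⁻¹ ∈ B) (hk : k ∈ B) (h2 : k * k = 1)
    (hc : Commute k τ) : ∃ w ∈ B, k = ⁅w, τ⁆ := by
  obtain ⟨w, hw, e⟩ := f.outer hτ τB hk (by rw [← sq, hc.mul_pow, sq, sq, h2, ττ, one_mul])
  exact ⟨w, hw, by rw [commutatorElement_def, ← e, mul_inv_cancel_right]⟩

theorem Fpf.conj_inv {x : G} {B D : Subgroup G} (f : Fpf x B D) {b : G} (hb : b ∈ B) :
    x⁻¹ * b * x ∈ B := by
  simpa using conj_mem_of_mem_normalizer (inv_mem (mem_normalizer_of_conj_mem f.inv.conj)) hb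

theorem Fpf.surj_inv {x b : G} {B : Subgroup G} (h : Fpf x B ⊥) (hb : b ∈ B) :
    ∃ w ∈ B, w * x⁻¹ * w⁻¹ = b * x⁻¹ := by
  let f : B → B := fun w => ⟨w * (x⁻¹ * (w : G)⁻¹ * x), B.mul_mem w.2 (h.conj_inv (B.inv_mem w.2))⟩
  have hf : Function.Injective f := by
    intro v w e
    have e' : (v : G) * (x⁻¹ * (v : G)⁻¹ * x) = w * (x⁻¹ * (w : G)⁻¹ * x) := congrArg Subtype.val e
    have := h.fix _ (B.mul_mem (B.inv_mem w.2) v.2) (Commute.inv_left_iff.mp (by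
      change x⁻¹ * ((w : G)⁻¹ * v) = (w : G)⁻¹ * v * x⁻¹
      calc _ = (w : G)⁻¹ * (w * (x⁻¹ * (w : G)⁻¹ * x)) * x⁻¹ * v := by group
        _ = _ := by rw [← e']; group))
    exact Subtype.ext (inv_mul_eq_one.mp this).symm
  obtain ⟨w, hw⟩ := Finite.surjective_of_injective hf ⟨b, hb⟩
  have e : (w : G) * (x⁻¹ * (w : G)⁻¹ * x) = b := congrArg Subtype.val hw
  exact ⟨w, w.2, by rw [← e]; group⟩

theorem Fpf.dec {x z q : G} {B : Subgroup G} (h : Fpf x B ⊥) (hz : z * x * z⁻¹ = x⁻¹)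
    (zz : z * z = 1) (zB : ∀ b ∈ B, z * b * z⁻¹ ∈ B) (hq : q ∈ B) :
    ∃ c ∈ B ⊓ centralizer {z}, ∃ d ∈ B ⊓ centralizer {z}, q = c * (x * d * x⁻¹) := by
  have zi : z⁻¹ = z := inv_eq_of_mul_eq_one_right zz
  have e1 : x * z * x⁻¹ = x⁻¹ * z := by
    calc _ = x * (z * x * z⁻¹)⁻¹ * z := by group
      _ = _ := by rw [hz, inv_inv, mul_self_of_cube h.cube]
  obtain ⟨c, hc, e2⟩ := h.surj_inv
    (B.mul_mem hq (h.inv.conj _ (zB _ (h.conj_inv (B.inv_mem hq)))))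
  have e3 : c * x⁻¹ * c⁻¹ = q * (x * z * x⁻¹) * q⁻¹ * z := by
    rw [e2]
    calc _ = q * (x * z * x⁻¹) * q⁻¹ * (x * z * x⁻¹) * x⁻¹ := by rw [zi]; group
      _ = q * (x * z * x⁻¹) * q⁻¹ * (x⁻¹ * (z * x * z⁻¹)⁻¹ * z) := by
        nth_rewrite 2 [e1]
        group
      _ = _ := by rw [hz]; group
  have e4 : z * c * z⁻¹ * x⁻¹ * (z * c * z⁻¹)⁻¹ = c * x⁻¹ * c⁻¹ := by
    calc _ = z * (c * (z⁻¹ * x⁻¹ * z) * c⁻¹) * z⁻¹ := by group
      _ = z * (c * x⁻¹ * c⁻¹)⁻¹ * z⁻¹ := by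
        rw [show z⁻¹ * x⁻¹ * z = x by rw [← hz]; group]; group
      _ = z * z⁻¹ * (q * (x * z⁻¹ * x⁻¹) * q⁻¹) * z⁻¹ := by rw [e3]; group
      _ = _ := by rw [e3, mul_inv_cancel, one_mul, zi]
  have e5 : c⁻¹ * (z * c * z⁻¹) = 1 := h.fix _ (B.mul_mem (B.inv_mem hc) (zB c hc)) (by
    refine Commute.inv_left_iff.mp (Commute.symm (mul_inv_eq_iff_eq_mul.mp ?_))
    calc _ = c⁻¹ * (z * c * z⁻¹ * x⁻¹ * (z * c * z⁻¹)⁻¹) * c := by group
      _ = _ := by rw [e4]; group)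
  have e6 : z * c = c * z := by rw [inv_mul_eq_one, eq_mul_inv_iff_mul_eq] at e5; exact e5.symm
  refine ⟨c, ⟨hc, H1.T3.mem_cent.mpr e6.symm⟩, x⁻¹ * (c⁻¹ * q) * x,
    ⟨h.conj_inv (B.mul_mem (B.inv_mem hc) hq), H1.T3.mem_cent.mpr (conj_eq_iff.mp ?_)⟩, by group⟩
  calc _ = x⁻¹ * c⁻¹ * (q * (x * z * x⁻¹) * q⁻¹ * z) * (z⁻¹ * c) * x := by group
    _ = x⁻¹ * (x⁻¹ * z) * x := by
      rw [← e3, zi, e6]; group
    _ = z := by rw [← e1]; group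

/-- The centralizer of an outer involution has order the square root. -/
theorem Fpf.card_cent {x z : G} {B : Subgroup G} (h : Fpf x B ⊥) (hz : z * x * z⁻¹ = x⁻¹)
    (zz : z * z = 1) (zB : ∀ b ∈ B, z * b * z⁻¹ ∈ B) :
    Nat.card B = Nat.card (B ⊓ centralizer {z} : Subgroup G) ^ 2 := by
  let f : (B ⊓ centralizer {z} : Subgroup G) × (B ⊓ centralizer {z} : Subgroup G) → B :=
    fun p => ⟨p.1 * (x * p.2 * x⁻¹), B.mul_mem p.1.2.1 (h.inv.conj _ p.2.2.1)⟩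
  rw [sq, ← Nat.card_prod]
  refine (Nat.card_eq_of_bijective f ⟨?_, fun q => ?_⟩).symm
  · rintro ⟨c, d⟩ ⟨c', d'⟩ e
    have e1 : (c : G) * (x * d * x⁻¹) = c' * (x * d' * x⁻¹) := congrArg Subtype.val e
    have e2 : ((c'⁻¹ * c : (B ⊓ centralizer {z} : Subgroup G)) : G) =
        x * (d' * d⁻¹ : (B ⊓ centralizer {z} : Subgroup G)) * x⁻¹ := by
      rw [coe_mul, coe_mul, coe_inv, coe_inv, inv_mul_eq_iff_eq_mul, eq_mul_inv_of_mul_eq e1]
      group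
    have e3 := H1.T3.mem_cent.mp (c'⁻¹ * c).2.2
    have e4 := H1.T3.mem_cent.mp (d' * d⁻¹).2.2
    have e5 := (d' * d⁻¹).2.1
    have e6 : d' * d⁻¹ = 1 := by
      refine Subtype.ext ?_
      rw [e2] at e3
      generalize ((d' * d⁻¹ : (B ⊓ centralizer {z} : Subgroup G)) : G) = k at e3 e4 e5 ⊢
      refine h.fix _ e5 (Commute.inv_left_iff.mp ?_)
      rw [← mul_self_of_cube h.cube, Commute, SemiconjBy, ← mul_inv_eq_iff_eq_mul]
      calc _ = x * (x * k * x⁻¹ * z) * z⁻¹ * x⁻¹ := by group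
        _ = x * (z * x * z⁻¹) * (z * k * z⁻¹) * (z * x * z⁻¹)⁻¹ * x⁻¹ := by rw [e3]; group
        _ = k := by rw [hz, ← e4]; group
    obtain rfl : d' = d := mul_inv_eq_one.mp e6
    rw [Subtype.ext (mul_right_cancel e1)]
  · obtain ⟨c, hc, d, hd, e⟩ := h.dec hz zz zB q.2
    exact ⟨(⟨c, hc⟩, ⟨d, hd⟩), Subtype.ext e.symm⟩

/-- Extremal form of Thompson's transfer lemma. -/
theorem extremal {S M : Subgroup G} {u : G} (hS : IsSylowIn 2 S ⊤) (MS : M ≤ S)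
    (hM : Nat.card S = 2 * Nat.card M) (hu : u * u = 1) (hN : ∀ N, Idx2 N ⊤ → u ∈ N) :
    ∃ g, g * u * g⁻¹ ∈ M ∧
      IsSylowIn 2 (S ⊓ centralizer {g * u * g⁻¹}) (centralizer {g * u * g⁻¹}) := by
  classical
  have := Fintype.ofFinite (G ⧸ M)
  let χ : (⊤ : Subgroup G) →* ℤˣ :=
    (Equiv.Perm.sign.comp (MulAction.toPermHom G (G ⧸ M))).comp (⊤ : Subgroup G).subtype
  have h1 : Equiv.Perm.sign (MulAction.toPermHom G (G ⧸ M) u) = 1 :=
    ((idx2_of_hom χ).2 u trivial).mp (hN _ (idx2_of_hom χ).1)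
  have h2 : (MulAction.toPermHom G (G ⧸ M) u) ^ 2 = 1 := by rw [← map_pow, sq, hu, map_one]
  have h3 := Equiv.Perm.card_fixedPoints_modEq (p := 2) (n := 1)
    (f := (MulAction.toPermHom G (G ⧸ M) u : G ⧸ M → G ⧸ M)) (congrArg DFunLike.coe h2)
  rw [Equiv.Perm.sign_of_pow_two_eq_one h2, neg_one_pow_eq_one_iff_even (by decide),
    Nat.even_iff] at h1
  have h4 : M.relIndex S = 2 := Nat.eq_of_mul_eq_mul_left Nat.card_pos (by
    rw [card_mul_relIndex_of_le MS, hM, mul_comm])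
  have h5 : Fintype.card (G ⧸ M) = 2 * S.index := by
    rw [← Nat.card_eq_fintype_card, ← index_eq_card, ← relIndex_mul_index MS, h4]
  have h6 := hS.not_dvd
  rw [relIndex_top_right] at h6
  have h7 := set_fintype_card_le_univ (Function.fixedPoints (MulAction.toPermHom G (G ⧸ M) u))
  obtain ⟨R, hR⟩ := exists_isSylowIn 2 (centralizer {u})
  let F : SubMulAction R (G ⧸ S) :=
    { carrier := {q | ∃ g : G, g⁻¹ * u * g ∈ M ∧ q = g}
      smul_mem' := by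
        rintro r _ ⟨g, hg, rfl⟩
        refine ⟨r * g, ?_, rfl⟩
        rwa [mul_inv_rev, mul_assoc g⁻¹, ← mul_assoc, mul_assoc g⁻¹, mul_assoc _ u,
          ← H1.T3.mem_cent.mp (hR.le r.2), inv_mul_cancel_left] }
  have h8 : QuotientGroup.mk ⁻¹' (F : Set (G ⧸ S)) =
      QuotientGroup.mk ⁻¹' Function.fixedPoints (MulAction.toPermHom G (G ⧸ M) u) := by
    ext g
    refine Iff.trans ⟨?_, fun h => ⟨g, h, rfl⟩⟩ (Fx4.smul_mk_iff u g).symm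
    rintro ⟨k, hk, e⟩
    rw [QuotientGroup.eq] at e
    have : (M.subgroupOf S).Normal := normal_of_index_eq_two h4
    simpa [mem_subgroupOf, mul_assoc] using this.conj_mem ⟨_, MS hk⟩ hk ⟨_, e⟩
  have h9 := congrArg (fun s : Set G => Nat.card s) h8
  simp only [QuotientGroup.card_preimage_mk, hM] at h9
  rw [mul_comm 2, mul_assoc, Nat.mul_right_inj Nat.card_pos.ne', Nat.card_eq_fintype_card
    (α := Function.fixedPoints _)] at h9
  obtain ⟨⟨_, g, hg, rfl⟩, h⟩ := hR.isPGroup.nonempty_fixed_point_of_prime_not_dvd_card F (by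
    change ¬ 2 ∣ Nat.card (F : Set (G ⧸ S))
    unfold Nat.ModEq at h3
    omega)
  have h10 := hR.conj g⁻¹
  rw [show MulAut.conj g⁻¹ • centralizer {u} = centralizer {g⁻¹ * u * g⁻¹⁻¹} by
    ext a; rw [mem_conj_smul_iff, H1.T3.mem_cent, H1.T3.mem_cent, ← conj_eq_iff, ← conj_eq_iff,
      ← mul_right_inj g⁻¹, ← mul_left_inj g⁻¹⁻¹]; simp [mul_assoc]] at h10
  refine ⟨g⁻¹, by simpa using hg, ?_⟩
  rwa [h10.eq_of_le (hS.isPGroup.to_le inf_le_left) inf_le_right (le_inf (fun a ha => ?_) h10.le)]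
  rw [mem_conj_smul_iff] at ha
  simpa [mul_assoc] using (Fx4.smul_mk_iff _ g).mp (congrArg Subtype.val (h ⟨_, ha⟩))

/-- Transfer into an abelian quotient of a Sylow subgroup with one coset of outer involutions. -/
theorem transfer_coset (hG : commutator G = ⊤) {S D : Subgroup G} {u : G} (hS : IsSylowIn 2 S ⊤)
    (hD : ∀ a ∈ S, ∀ b ∈ S, ⁅a, b⁆ ∈ D)
    (h : ∀ a ∈ S, ∀ b ∈ S, a ∉ D → b ∉ D → a * a = 1 → b * b = 1 → IsConj a b → a * b ∈ D)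
    (hu : u * u = 1) : ∃ g, g * u * g⁻¹ ∈ D := by
  by_contra! k
  have h6 := hS.not_dvd
  rw [relIndex_top_right] at h6
  obtain ⟨g, hg⟩ := H3.exists_conj_mem_of_not_dvd_index Nat.prime_two h6 (k := 1) (x := u)
    (by simpa [sq] using hu)
  have h2 : ∀ g : G, g * u * g⁻¹ * (g * u * g⁻¹) = 1 := fun g => by
    simp [mul_assoc, ← mul_assoc u, hu]
  have h3 := Fx4.transfer_pow' (M := D) hG (commutator_le.mpr hD) hg fun n a ha => by
    rcases Fx4.pow_of_sq (h2 g) n with e | e <;> rw [e] at ha ⊢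
    · simp
    · rw [inv_eq_of_mul_eq_one_right (h2 g)]
      have e : a⁻¹ * (g * u * g⁻¹) * a = a⁻¹ * g * u * (a⁻¹ * g)⁻¹ := by group
      rw [e] at ha ⊢
      exact h _ ha _ hg (k _) (k _) (h2 _) (h2 _) ((isConj_mk _ _).symm.trans (isConj_mk _ _))
  obtain ⟨n, hn⟩ : Odd S.index := Nat.odd_iff.mpr (by omega)
  rw [hn, pow_succ, pow_mul, sq, h2, one_pow, one_mul] at h3
  exact k g h3

/-- Transfer into a cyclic quotient of a Sylow subgroup. -/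
theorem transfer_cyclic (hG : commutator G = ⊤) {S D : Subgroup G} {u c : G}
    (hS : IsSylowIn 2 S ⊤) (nD : ∀ a ∈ S, ∀ d ∈ D, a * d * a⁻¹ ∈ D) (cS : c ∈ S)
    (hc : ∀ a ∈ S, ∃ k : ℤ, (c ^ k)⁻¹ * a ∈ D) (hu : u * u = 1) : ∃ g, g * u * g⁻¹ ∈ D := by
  classical
  have : (D.subgroupOf S).Normal := ⟨fun d hd a => nD a a.2 d hd⟩
  let π := QuotientGroup.mk' (D.subgroupOf S)
  have hπ : ∀ a : S, π a = 1 ↔ (a : G) ∈ D := fun a => QuotientGroup.eq_one_iff a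
  have : IsCyclic (S ⧸ D.subgroupOf S) := ⟨π ⟨c, cS⟩, fun q => by
    obtain ⟨a, rfl⟩ := QuotientGroup.mk'_surjective _ q
    exact (hc a a.2).imp fun k hk => (map_zpow π _ _).symm.trans (QuotientGroup.eq.mpr hk)⟩
  refine transfer_coset hG hS (fun a ha b hb => (hπ ⁅(⟨a, ha⟩ : S), ⟨b, hb⟩⁆).mp ?_)
    (fun a ha b hb h1 h2 h3 h4 _ => (hπ (⟨a, ha⟩ * ⟨b, hb⟩)).mp ?_) hu
  · rw [map_commutatorElement, commutatorElement_eq_one_iff_mul_comm]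
    exact IsCyclic.isMulCommutative.is_comm.comm _ _
  · have := Fintype.ofFinite (S ⧸ D.subgroupOf S)
    have k : ∀ a (ha : a ∈ S), a * a = 1 → π ⟨a, ha⟩ * π ⟨a, ha⟩ = 1 := fun a ha h =>
      (map_mul π _ _).symm.trans ((hπ _).mpr (by simp [h]))
    by_contra h5
    refine (IsCyclic.card_pow_eq_one_le (α := S ⧸ D.subgroupOf S) two_pos).not_gt
      (Finset.two_lt_card_iff.mpr ⟨1, π ⟨a, ha⟩, π ⟨b, hb⟩, by simp, by simpa [sq] using k a ha h3,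
        by simpa [sq] using k b hb h4, fun e => h1 ((hπ _).mp e.symm), fun e => h2 ((hπ _).mp e.symm),
        fun e => h5 (by rw [map_mul, e, k b hb h4])⟩)

omit [Finite G] in
theorem comm_top_of_simple [IsSimpleGroup G] (h : ∃ a b : G, a * b ≠ b * a) : commutator G = ⊤ :=
  (IsSimpleGroup.eq_bot_or_eq_top_of_normal _ inferInstance).resolve_left fun e =>
    let ⟨a, b, h⟩ := h
    h (commutatorElement_eq_one_iff_mul_comm.mp
      (mem_bot.mp (e ▸ commutator_mem_commutator (mem_top a) (mem_top b))))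

end Cfsg.Agent.L0.C12
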