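import Cfsg.Agent.H5.MwE

/-! An element of order five acting on the `11'`-part of the centraliser of an element of order `11`. -/

set_option autoImplicit false

namespace Cfsg.Agent.H4.B24

open Cfsg Cfsg.Agent.H3 Cfsg.Agent.H2.D1 Cfsg.Agent.H5.MW Subgroup

variable {G : Type*} [Group G] [Finite G] [NS G] {y : G}

theorem gl (hG : Nat.card G = 244823040) (h : Ctx 11 y) (he : 5 ∣ Nat.card h.H) :
    ∃ (z : G) (g : Ctx 5 z), z ∈ normalizer (zpowers y : Set G) ∧ ¬ Commute y z ∧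
      ∃ i ∈ [1, 16, 256], i * Nat.card (h.K ⊓ g.K : Subgroup G) = Nat.card h.K := by
  have : Fact (Nat.Prime 23) := ⟨by norm_num⟩
  have hn : ¬ 5 ^ 2 ∣ Nat.card G := by rw [hG]; norm_num
  have rc := not_dvd_K h he hn
  set N := normalizer (zpowers y : Set G) with hN
  obtain ⟨z, hz⟩ := exists_prime_orderOf_dvd_card' (G := N) 5 (h.card_N ▸ he.mul_right _)
  have c1 : Ctx 5 z := ⟨by norm_num, hz, fun e => hn (e.trans (card_subgroup_dvd_card N))⟩
  have c2 : Ctx 5 (z : G) := ⟨by norm_num, by rw [orderOf_coe, hz], hn⟩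
  have KN : h.K ≤ N := fun k hk => mem_normalizer_fintype (by
    rintro _ ⟨i, rfl⟩
    exact ⟨i, by simp only [← ((h.mem_K.1 hk).1.zpow_left i).eq, mul_inv_cancel_right]⟩)
  have : (h.K.subgroupOf N).Normal := ⟨fun k hk n => by
    rw [mem_subgroupOf, h.mem_K] at hk ⊢
    refine ⟨?_, hk.2.conj n⟩
    obtain ⟨i, hi⟩ := (mem_normalizer_iff.1 (inv_mem n.2) y).1 (mem_zpowers y)
    have := (hk.1.zpow_left i).eq
    simp only [Subgroup.coe_inv] at hi
    rw [hi] at this
    change y * (n * k * (n : G)⁻¹) = (n * k * (n : G)⁻¹) * y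
    calc _ = n * ((n : G)⁻¹ * y * (n : G)⁻¹⁻¹ * k) * (n : G)⁻¹ := by group
      _ = _ := by rw [this]; group⟩
  have cM : Nat.card (h.K.subgroupOf N) = Nat.card h.K :=
    Nat.card_congr (subgroupOfEquivOfLe KN).toEquiv
  have e1 : (h.K ⊓ c2.K).subgroupOf N = h.K.subgroupOf N ⊓ centralizer {z} := by
    ext k
    simp only [mem_subgroupOf, mem_inf, c2.mem_K, mem_centralizer_singleton_iff]
    exact and_congr_right fun hk => ⟨fun e => Subtype.ext e.1.eq.symm, fun e =>
      ⟨(congrArg Subtype.val e).symm, (Nat.prime_five.coprime_iff_not_dvd.2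
        fun e => rc (e.trans (orderOf_dvd_natCard _ hk))).symm⟩⟩
  have e2 := card_mul_rel (inf_le_left : h.K.subgroupOf N ⊓ centralizer {z} ≤ _)
  have e3 := card_modEq_cent (Q := h.K.subgroupOf N) (c1.isPElt (mem_zpowers z))
    (by rw [normalizer_eq_top]; trivial)
  rw [inf_relIndex_left] at e2
  rw [← e1, Nat.card_congr (subgroupOfEquivOfLe (inf_le_left.trans KN)).toEquiv, cM] at e2 e3
  have k : ∀ r : ℕ, r.Prime → (∀ j < 10, 0 < j → r ^ j ∣ 244823040 → r ^ j % 5 ≠ 1) →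
      ¬ r ^ 10 ∣ 244823040 → ¬ r ∣ (centralizer {z}).relIndex (h.K.subgroupOf N) :=
    fun r hr h1 h2 => c1.not_dvd_rel (cM ▸ rc) hr fun j j0 e => by
      have := hG ▸ (cM ▸ e).trans (card_subgroup_dvd_card h.K)
      exact h1 j (lt_of_not_ge fun e => h2 ((pow_dvd_pow r e).trans this)) j0 this
  have k3 := k 3 Nat.prime_three (by decide) (by decide)
  have k7 := k 7 (by norm_num) (by decide) (by decide)
  obtain ⟨w, hw⟩ := H2.D1.exists_ctx (G := G) (p := 23) (by norm_num) (by norm_num [hG])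
    (by norm_num [hG])
  have k23 := not_dvd_K' hw h (by norm_num) (by rw [(cent23 (.inr hG) hw).1]; norm_num)
  have k11 := (Nat.Prime.coprime_iff_not_dvd (by norm_num)).1 h.cop_K.symm
  refine ⟨z, c2, z.2, fun c => rc (c2.ord ▸ orderOf_dvd_natCard _ (h.mem_K.2
    ⟨c, by rw [IsPReg, c2.ord]; norm_num⟩)), _, ?_, (mul_comm _ _).trans e2⟩
  generalize (centralizer {z}).relIndex (h.K.subgroupOf N) = i at e2 k3 k7
  have d : i ∣ Nat.card h.K := Dvd.intro_left _ e2
  have d5 : i ≡ 1 [MOD 5] := Nat.ModEq.cancel_left_of_coprime (Nat.prime_five.coprime_iff_not_dvd.2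
    fun e => rc (e.trans (Dvd.intro _ e2))) (by rwa [mul_one, e2])
  have c : ∀ {r : ℕ}, r.Prime → ¬ r ∣ i → i.Coprime r := fun hr e =>
    (hr.coprime_iff_not_dvd.2 e).symm
  exact (by decide +kernel : ∀ i ∈ Nat.divisors 1024, i % 5 = 1 % 5 → i ∈ [1, 16, 256]) i
    (Nat.mem_divisors.2 ⟨Nat.Coprime.dvd_of_dvd_mul_right (n := 3 ^ 3 * 5 * 7 * 11 * 23)
      ((((((c Nat.prime_three k3).pow_right 3).mul_right (c Nat.prime_five (mt (·.trans d) rc))).mul_right
        (c (by norm_num) k7)).mul_right (c (by norm_num) (mt (·.trans d) k11))).mul_right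
        (c (by norm_num) (mt (·.trans d) k23)))
      (d.trans ((card_subgroup_dvd_card _).trans hG.dvd)), by norm_num⟩) d5

end Cfsg.Agent.H4.B24
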