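import Cfsg.Prelude.Def_Spor_Mathieu
import Cfsg.Agent.H4.Refine
import Cfsg.Agent.H4.Act
import Cfsg.Agent.S3362

/-!
# The Mathieu groups `M₁₂` and `M₁₁` of the Prelude as permutation groups on `Fin 12`

`phi : M12 →* Perm (Fin 12)` is injective and its range is the group generated by the eight
permutations of S3362.
-/

set_option autoImplicit false

namespace Cfsg.Agent.H4.Golay

open Equiv Cfsg.Spor
open scoped Pointwise

/-- The number of a point. -/
def ix : GolayPt → ℕ
  | none => 23
  | some x => x.val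

/-- Numbering of the points. -/
def e24 : GolayPt ≃ Fin 24 where
  toFun q := ⟨ix q, by revert q; decide⟩
  invFun i := if i.val = 23 then none else some (i.val : ZMod 23)
  left_inv := by decide
  right_inv := by decide

/-- The binary word of a bit mask. -/
def word (m : ℕ) : GolayPt → ZMod 2 := fun q => if m.testBit (ix q) then 1 else 0

theorem word_xor (a b : ℕ) : word (a ^^^ b) = word a + word b := by
  funext q
  simp only [word, Nat.testBit_xor, Pi.add_apply]
  cases a.testBit (ix q) <;> cases b.testBit (ix q) <;> rfl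

theorem word_zero : word 0 = 0 := by funext q; simp [word]

theorem mem_support_word {m : ℕ} {q : GolayPt} : q ∈ support₂ (word m) ↔ m.testBit (ix q) := by
  simp [support₂, word]

/-- Sum of the rows selected by the bits of the argument. -/
noncomputable def xorSel (l : List ℕ) : ℕ → ℕ :=
  List.rec (fun _ => 0)
    (fun r _ ih h => Nat.xor (Nat.mul (Nat.mod h 2) r) (force (Nat.shiftRight h 1) ih)) l

theorem word_xorSel {W : Submodule (ZMod 2) (GolayPt → ZMod 2)} {l : List ℕ}
    (hl : ∀ r ∈ l, word r ∈ W) (h : ℕ) : word (xorSel l h) ∈ W := by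
  induction l generalizing h with
  | nil => exact word_zero ▸ W.zero_mem
  | cons r l ih =>
    show word ((h % 2 * r) ^^^ force (Nat.shiftRight h 1) (xorSel l)) ∈ W
    rw [word_xor, force_eq]
    refine W.add_mem ?_ (ih (fun r hr => hl r (by simp [hr])) _)
    rcases Nat.mod_two_eq_zero_or_one h with e | e <;> rw [e]
    · rw [zero_mul, word_zero]; exact W.zero_mem
    · rw [one_mul]; exact hl r (by simp)

/-- Run a check on all sums of rows. -/
noncomputable def allSpan (chk : ℕ → Bool) (l : List ℕ) : ℕ → Bool :=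
  List.rec (fun a => chk a) (fun r _ ih a => band (ih a) (force (Nat.xor a r) ih)) l

theorem allSpan_sound {chk : ℕ → Bool} {l : List ℕ} {a : ℕ} (h : allSpan chk l a = true)
    {w : GolayPt → ZMod 2} (hw : w ∈ Submodule.span (ZMod 2) (word '' {r | r ∈ l})) :
    ∃ m, word m = word a + w ∧ chk m = true := by
  induction l generalizing a w with
  | nil => exact ⟨a, by simpa using hw, h⟩
  | cons r l ih =>
    have h' : band (allSpan chk l a) (force (Nat.xor a r) (allSpan chk l)) = true := h
    rw [band_eq_true, force_eq] at h'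
    have : word '' {x | x ∈ r :: l} = insert (word r) (word '' {x | x ∈ l}) := by
      rw [← Set.image_insert_eq]; congr 1; ext x; simp
    rw [this, Submodule.mem_span_insert] at hw
    obtain ⟨c, z, hz, rfl⟩ := hw
    have hc : ∀ c : ZMod 2, c = 0 ∨ c = 1 := by decide
    rcases hc c with rfl | rfl
    · simpa using ih h'.1 hz
    · obtain ⟨m, hm, hc⟩ := ih h'.2 hz
      exact ⟨m, by rw [hm, one_smul, ← add_assoc, ← word_xor]; rfl, hc⟩

def rows : List ℕ :=
    [340831, 681662, 1363324, 2726648, 5453296, 2517985, 5035970, 1683333, 3366666, 6733332,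
    5078057, 16777215]

noncomputable def BT : Trie :=
    (.node (.node (.node (.node (.node (.node (.node (.node (.leaf (nat_lit 5279)) (.leaf (nat_lit
    10486557))) (.leaf (nat_lit 1315526))) (.node (.leaf (nat_lit 352547)) (.leaf (nat_lit
    4403780)))) (.node (.node (.leaf (nat_lit 145176)) (.leaf (nat_lit 2372388))) (.node (.leaf
    (nat_lit 663645)) (.leaf (nat_lit 8455014))))) (.node (.node (.node (.leaf (nat_lit 72588))
    (.leaf (nat_lit 2106966))) (.node (.leaf (nat_lit 459847)) (.leaf (nat_lit 4788761)))) (.node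
    (.node (.leaf (nat_lit 277580)) (.leaf (nat_lit 3216208))) (.node (.leaf (nat_lit 1053483))
    (.leaf (nat_lit 8683614)))))) (.node (.node (.node (.node (.leaf (nat_lit 39257)) (.leaf
    (nat_lit 1413139))) (.node (.leaf (nat_lit 396116)) (.leaf (nat_lit 4536592)))) (.node (.node
    (.leaf (nat_lit 237906)) (.leaf (nat_lit 2430217))) (.node (.leaf (nat_lit 832080)) (.leaf
    (nat_lit 8524371))))) (.node (.node (.node (.leaf (nat_lit 95313)) (.leaf (nat_lit 2183687)))
    (.node (.leaf (nat_lit 596054)) (.leaf (nat_lit 6365962)))) (.node (.node (.leaf (nat_lit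
    307594)) (.leaf (nat_lit 4223245))) (.node (.leaf (nat_lit 1122713)) (.leaf (nat_lit
    8925710))))))) (.node (.node (.node (.node (.node (.node (.leaf (nat_lit 21116)) (.leaf
    (nat_lit 12656663))) (.leaf (nat_lit 1384564))) (.node (.leaf (nat_lit 371206)) (.leaf (nat_lit
    4470275)))) (.node (.node (.leaf (nat_lit 210955)) (.leaf (nat_lit 2392899))) (.node (.leaf
    (nat_lit 797449)) (.leaf (nat_lit 8474906))))) (.node (.node (.node (.leaf (nat_lit 78514))
    (.leaf (nat_lit 2162811))) (.node (.leaf (nat_lit 525274)) (.leaf (nat_lit 5255258)))) (.node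
    (.node (.leaf (nat_lit 283537)) (.leaf (nat_lit 4196943))) (.node (.leaf (nat_lit 1065303))
    (.leaf (nat_lit 8721940)))))) (.node (.node (.node (.node (.leaf (nat_lit 57883)) (.leaf
    (nat_lit 1647171))) (.node (.leaf (nat_lit 421910)) (.leaf (nat_lit 4563017)))) (.node (.node
    (.leaf (nat_lit 267634)) (.leaf (nat_lit 2634003))) (.node (.leaf (nat_lit 864389)) (.leaf
    (nat_lit 8663097))))) (.node (.node (.node (.leaf (nat_lit 104010)) (.leaf (nat_lit 2232654)))
    (.node (.leaf (nat_lit 615188)) (.leaf (nat_lit 8398155)))) (.node (.node (.leaf (nat_lit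
    337856)) (.leaf (nat_lit 4261212))) (.node (.leaf (nat_lit 1245726)) (.leaf (nat_lit
    9506893)))))))) (.node (.node (.node (.node (.node (.node (.node (.leaf (nat_lit 10558)) (.leaf
    (nat_lit 10825794))) (.leaf (nat_lit 1378634))) (.node (.leaf (nat_lit 361272)) (.leaf (nat_lit
    4465308)))) (.node (.node (.leaf (nat_lit 201013)) (.leaf (nat_lit 2384216))) (.node (.leaf
    (nat_lit 786999)) (.leaf (nat_lit 8464984))))) (.node (.node (.node (.leaf (nat_lit 75309))
    (.leaf (nat_lit 2110153))) (.node (.leaf (nat_lit 463064)) (.leaf (nat_lit 4989254)))) (.node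
    (.node (.leaf (nat_lit 280334)) (.leaf (nat_lit 3416079))) (.node (.leaf (nat_lit 1063445))
    (.leaf (nat_lit 8716939)))))) (.node (.node (.node (.node (.leaf (nat_lit 45159)) (.leaf
    (nat_lit 1454401))) (.node (.leaf (nat_lit 402026)) (.leaf (nat_lit 4538962)))) (.node (.node
    (.leaf (nat_lit 262637)) (.leaf (nat_lit 2564625))) (.node (.leaf (nat_lit 861210)) (.leaf
    (nat_lit 8657159))))) (.node (.node (.node (.leaf (nat_lit 99029)) (.leaf (nat_lit 2207772)))
    (.node (.leaf (nat_lit 602472)) (.leaf (nat_lit 6557781)))) (.node (.node (.leaf (nat_lit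
    334433)) (.leaf (nat_lit 4231958))) (.node (.leaf (nat_lit 1127686)) (.leaf (nat_lit
    9240913))))))) (.node (.node (.node (.node (.node (.node (.leaf (nat_lit 31554)) (.leaf
    (nat_lit 12849992))) (.leaf (nat_lit 1405448))) (.node (.leaf (nat_lit 381252)) (.leaf (nat_lit
    4526126)))) (.node (.node (.leaf (nat_lit 213833)) (.leaf (nat_lit 2425238))) (.node (.leaf
    (nat_lit 806987)) (.leaf (nat_lit 8499969))))) (.node (.node (.node (.leaf (nat_lit 90318))
    (.leaf (nat_lit 2173253))) (.node (.leaf (nat_lit 530245)) (.leaf (nat_lit 5571333)))) (.node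
    (.node (.leaf (nat_lit 304405)) (.leaf (nat_lit 4203377))) (.node (.leaf (nat_lit 1090380))
    (.leaf (nat_lit 8855820)))))) (.node (.node (.node (.node (.leaf (nat_lit 69395)) (.leaf
    (nat_lit 1839388))) (.node (.leaf (nat_lit 430605)) (.leaf (nat_lit 4587803)))) (.node (.node
    (.leaf (nat_lit 272595)) (.leaf (nat_lit 2949708))) (.node (.leaf (nat_lit 987906)) (.leaf
    (nat_lit 8675909))))) (.node (.node (.node (.leaf (nat_lit 140167)) (.leaf (nat_lit 2365978)))
    (.node (.leaf (nat_lit 622863)) (.leaf (nat_lit 8401364)))) (.node (.node (.leaf (nat_lit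
    346141)) (.leaf (nat_lit 4264387))) (.node (.leaf (nat_lit 1312345)) (.leaf (nat_lit
    9708306)))))))))

noncomputable def BH : Trie :=
    (.node (.node (.node (.node (.node (.node (.node (.node (.leaf (nat_lit 345)) (.leaf (nat_lit
    3284))) (.leaf (nat_lit 2041))) (.node (.leaf (nat_lit 1381)) (.leaf (nat_lit 305)))) (.node
    (.node (.leaf (nat_lit 135)) (.leaf (nat_lit 1576))) (.node (.leaf (nat_lit 1087)) (.leaf
    (nat_lit 2813))))) (.node (.node (.node (.leaf (nat_lit 1330)) (.leaf (nat_lit 240))) (.node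
    (.leaf (nat_lit 134)) (.leaf (nat_lit 1294)))) (.node (.node (.leaf (nat_lit 1130)) (.leaf
    (nat_lit 1617))) (.node (.leaf (nat_lit 120)) (.leaf (nat_lit 2958)))))) (.node (.node (.node
    (.node (.leaf (nat_lit 960)) (.leaf (nat_lit 267))) (.node (.leaf (nat_lit 1261)) (.leaf
    (nat_lit 1500)))) (.node (.node (.leaf (nat_lit 1836)) (.leaf (nat_lit 241))) (.node (.leaf
    (nat_lit 786)) (.leaf (nat_lit 3235))))) (.node (.node (.node (.leaf (nat_lit 957)) (.leaf
    (nat_lit 845))) (.node (.leaf (nat_lit 211)) (.leaf (nat_lit 326)))) (.node (.node (.leaf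
    (nat_lit 1779)) (.leaf (nat_lit 523))) (.node (.leaf (nat_lit 2040)) (.leaf (nat_lit
    2204))))))) (.node (.node (.node (.node (.node (.node (.leaf (nat_lit 1380)) (.leaf (nat_lit
    3474))) (.leaf (nat_lit 121))) (.node (.leaf (nat_lit 961)) (.leaf (nat_lit 439)))) (.node
    (.node (.leaf (nat_lit 1260)) (.leaf (nat_lit 1882))) (.node (.leaf (nat_lit 210)) (.leaf
    (nat_lit 3993))))) (.node (.node (.node (.leaf (nat_lit 1920)) (.leaf (nat_lit 1577))) (.node
    (.leaf (nat_lit 1505)) (.leaf (nat_lit 1815)))) (.node (.node (.leaf (nat_lit 741)) (.leaf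
    (nat_lit 1501))) (.node (.leaf (nat_lit 1308)) (.leaf (nat_lit 3109)))))) (.node (.node (.node
    (.node (.leaf (nat_lit 1046)) (.leaf (nat_lit 537))) (.node (.leaf (nat_lit 827)) (.leaf
    (nat_lit 1564)))) (.node (.node (.leaf (nat_lit 1752)) (.leaf (nat_lit 1096))) (.node (.leaf
    (nat_lit 1504)) (.leaf (nat_lit 2812))))) (.node (.node (.node (.leaf (nat_lit 1963)) (.leaf
    (nat_lit 119))) (.node (.leaf (nat_lit 1797)) (.leaf (nat_lit 3108)))) (.node (.node (.leaf
    (nat_lit 344)) (.leaf (nat_lit 438))) (.node (.leaf (nat_lit 1574)) (.leaf (nat_lit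
    2693)))))))) (.node (.node (.node (.node (.node (.node (.node (.leaf (nat_lit 690)) (.leaf
    (nat_lit 3285))) (.leaf (nat_lit 715))) (.node (.leaf (nat_lit 371)) (.leaf (nat_lit 238))))
    (.node (.node (.leaf (nat_lit 1630)) (.leaf (nat_lit 844))) (.node (.leaf (nat_lit 608)) (.leaf
    (nat_lit 2127))))) (.node (.node (.node (.leaf (nat_lit 1753)) (.leaf (nat_lit 425))) (.node
    (.leaf (nat_lit 479)) (.leaf (nat_lit 1295)))) (.node (.node (.leaf (nat_lit 956)) (.leaf
    (nat_lit 1616))) (.node (.leaf (nat_lit 714)) (.leaf (nat_lit 3452)))))) (.node (.node (.node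
    (.node (.leaf (nat_lit 370)) (.leaf (nat_lit 1575))) (.node (.leaf (nat_lit 1631)) (.leaf
    (nat_lit 522)))) (.node (.node (.leaf (nat_lit 1921)) (.leaf (nat_lit 118))) (.node (.leaf
    (nat_lit 1209)) (.leaf (nat_lit 2126))))) (.node (.node (.node (.leaf (nat_lit 1778)) (.leaf
    (nat_lit 1883))) (.node (.leaf (nat_lit 609)) (.leaf (nat_lit 327)))) (.node (.node (.leaf
    (nat_lit 691)) (.leaf (nat_lit 1565))) (.node (.leaf (nat_lit 1697)) (.leaf (nat_lit
    2205))))))) (.node (.node (.node (.node (.node (.node (.leaf (nat_lit 2006)) (.leaf (nat_lit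
    3475))) (.leaf (nat_lit 1309))) (.node (.leaf (nat_lit 1047)) (.leaf (nat_lit 1902)))) (.node
    (.node (.leaf (nat_lit 826)) (.leaf (nat_lit 424))) (.node (.leaf (nat_lit 1796)) (.leaf
    (nat_lit 2959))))) (.node (.node (.node (.leaf (nat_lit 740)) (.leaf (nat_lit 1179))) (.node
    (.leaf (nat_lit 1208)) (.leaf (nat_lit 1814)))) (.node (.node (.leaf (nat_lit 1962)) (.leaf
    (nat_lit 1903))) (.node (.leaf (nat_lit 266)) (.leaf (nat_lit 3234)))))) (.node (.node (.node
    (.node (.leaf (nat_lit 1131)) (.leaf (nat_lit 536))) (.node (.leaf (nat_lit 1837)) (.leaf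
    (nat_lit 304)))) (.node (.node (.leaf (nat_lit 1331)) (.leaf (nat_lit 1097))) (.node (.leaf
    (nat_lit 1086)) (.leaf (nat_lit 3992))))) (.node (.node (.node (.leaf (nat_lit 478)) (.leaf
    (nat_lit 1178))) (.node (.leaf (nat_lit 787)) (.leaf (nat_lit 3453)))) (.node (.node (.leaf
    (nat_lit 2007)) (.leaf (nat_lit 239))) (.node (.leaf (nat_lit 1696)) (.leaf (nat_lit
    2692)))))))))

noncomputable def adj : Trie :=
    (.node (.node (.node (.node (.node (.node (.node (.node (.leaf (nat_lit
    30752066721486227177439403539525735426738356224)) (.leaf (nat_lit 4788761))) (.leaf (nat_lit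
    459847))) (.node (.leaf (nat_lit 72588)) (.leaf (nat_lit 2106966)))) (.node (.node (.node
    (.leaf (nat_lit 36708341949971992648085996245320424293270552576)) (.leaf (nat_lit 8683614)))
    (.leaf (nat_lit 1053483))) (.node (.leaf (nat_lit 277580)) (.leaf (nat_lit 3216208))))) (.node
    (.node (.node (.node (.leaf (nat_lit 55131436557894264275914478148337558913525219328)) (.leaf
    (nat_lit 8455014))) (.leaf (nat_lit 663645))) (.node (.leaf (nat_lit 145176)) (.leaf (nat_lit
    2372388)))) (.node (.node (.node (.leaf (nat_lit 5279)) (.leaf (nat_lit 10486557))) (.leaf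
    (nat_lit 1315526))) (.node (.leaf (nat_lit 352547)) (.leaf (nat_lit 4403780)))))) (.node (.node
    (.node (.node (.node (.leaf (nat_lit 32232124852207361249565912236713905552028073984)) (.leaf
    (nat_lit 6365962))) (.leaf (nat_lit 596054))) (.node (.leaf (nat_lit 95313)) (.leaf (nat_lit
    2183687)))) (.node (.node (.node (.leaf (nat_lit
    4281747161521859664238977540174089043723681792)) (.leaf (nat_lit 8925710))) (.leaf (nat_lit
    1122713))) (.node (.leaf (nat_lit 307594)) (.leaf (nat_lit 4223245))))) (.node (.node (.node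
    (.node (.leaf (nat_lit 58974028414429358339065601311098469343555485696)) (.leaf (nat_lit
    8524371))) (.leaf (nat_lit 832080))) (.node (.leaf (nat_lit 237906)) (.leaf (nat_lit
    2430217)))) (.node (.node (.leaf (nat_lit 39257)) (.leaf (nat_lit 1413139))) (.node (.leaf
    (nat_lit 396116)) (.leaf (nat_lit 4536592))))))) (.node (.node (.node (.node (.node (.node
    (.leaf (nat_lit 30633006098856922833536793740576930768497934336)) (.leaf (nat_lit 5255258)))
    (.leaf (nat_lit 525274))) (.node (.leaf (nat_lit 78514)) (.leaf (nat_lit 2162811)))) (.node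
    (.node (.node (.leaf (nat_lit 61012065899527558930556878294286759033072254976)) (.leaf (nat_lit
    8721940))) (.leaf (nat_lit 1065303))) (.node (.leaf (nat_lit 283537)) (.leaf (nat_lit
    4196943))))) (.node (.node (.node (.node (.leaf (nat_lit
    89224764515149012689097342805441440791920640)) (.leaf (nat_lit 8474906))) (.leaf (nat_lit
    797449))) (.node (.leaf (nat_lit 210955)) (.leaf (nat_lit 2392899)))) (.node (.node (.node
    (.leaf (nat_lit 21116)) (.leaf (nat_lit 12656663))) (.leaf (nat_lit 1384564))) (.node (.leaf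
    (nat_lit 371206)) (.leaf (nat_lit 4470275)))))) (.node (.node (.node (.node (.node (.leaf
    (nat_lit 59265963893474486840258585877765133627834761216)) (.leaf (nat_lit 8398155))) (.leaf
    (nat_lit 615188))) (.node (.leaf (nat_lit 104010)) (.leaf (nat_lit 2232654)))) (.node (.node
    (.node (.leaf (nat_lit 68507911027936788043425248879036520194220490752)) (.leaf (nat_lit
    9506893))) (.leaf (nat_lit 1245726))) (.node (.leaf (nat_lit 337856)) (.leaf (nat_lit
    4261212))))) (.node (.node (.node (.node (.leaf (nat_lit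
    11498864361406802361781807953531226011205632)) (.leaf (nat_lit 8663097))) (.leaf (nat_lit
    864389))) (.node (.leaf (nat_lit 267634)) (.leaf (nat_lit 2634003)))) (.node (.node (.leaf
    (nat_lit 57883)) (.leaf (nat_lit 1647171))) (.node (.leaf (nat_lit 421910)) (.leaf (nat_lit
    4563017)))))))) (.node (.node (.node (.node (.node (.node (.node (.leaf (nat_lit
    37536800614055672159045710241906860549757468672)) (.leaf (nat_lit 4989254))) (.leaf (nat_lit
    463064))) (.node (.leaf (nat_lit 75309)) (.leaf (nat_lit 2110153)))) (.node (.node (.node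
    (.leaf (nat_lit 179799929634218723023997924184268565114781696)) (.leaf (nat_lit 8716939)))
    (.leaf (nat_lit 1063445))) (.node (.leaf (nat_lit 280334)) (.leaf (nat_lit 3416079))))) (.node
    (.node (.node (.node (.leaf (nat_lit 54739539680649648512229271767285225967457402880)) (.leaf
    (nat_lit 8464984))) (.leaf (nat_lit 786999))) (.node (.leaf (nat_lit 201013)) (.leaf (nat_lit
    2384216)))) (.node (.node (.node (.leaf (nat_lit 10558)) (.leaf (nat_lit 10825794))) (.leaf
    (nat_lit 1378634))) (.node (.leaf (nat_lit 361272)) (.leaf (nat_lit 4465308)))))) (.node (.node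
    (.node (.node (.node (.leaf (nat_lit 5662309260947357741048869119041168541220864)) (.leaf
    (nat_lit 6557781))) (.leaf (nat_lit 602472))) (.node (.leaf (nat_lit 99029)) (.leaf (nat_lit
    2207772)))) (.node (.node (.node (.leaf (nat_lit
    17126988646045899885951654671624882753240039424)) (.leaf (nat_lit 9240913))) (.leaf (nat_lit
    1127686))) (.node (.leaf (nat_lit 334433)) (.leaf (nat_lit 4231958))))) (.node (.node (.node
    (.node (.leaf (nat_lit 37661327513084275264032480777119306184849883136)) (.leaf (nat_lit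
    8657159))) (.leaf (nat_lit 861210))) (.node (.leaf (nat_lit 262637)) (.leaf (nat_lit
    2564625)))) (.node (.node (.leaf (nat_lit 45159)) (.leaf (nat_lit 1454401))) (.node (.leaf
    (nat_lit 402026)) (.leaf (nat_lit 4538962))))))) (.node (.node (.node (.node (.node (.node
    (.leaf (nat_lit 53416411803450826096650700088669822710286647296)) (.leaf (nat_lit 5571333)))
    (.leaf (nat_lit 530245))) (.node (.leaf (nat_lit 90318)) (.leaf (nat_lit 2173253)))) (.node
    (.node (.node (.leaf (nat_lit 1070436790380464955675336725663233049333071872)) (.leaf (nat_lit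
    8855820))) (.leaf (nat_lit 1090380))) (.node (.leaf (nat_lit 304405)) (.leaf (nat_lit
    4203377))))) (.node (.node (.node (.node (.leaf (nat_lit
    2961839010107744030287486890404330447306752)) (.leaf (nat_lit 8499969))) (.leaf (nat_lit
    806987))) (.node (.leaf (nat_lit 213833)) (.leaf (nat_lit 2425238)))) (.node (.node (.node
    (.leaf (nat_lit 31554)) (.leaf (nat_lit 12849992))) (.leaf (nat_lit 1405448))) (.node (.leaf
    (nat_lit 381252)) (.leaf (nat_lit 4526126)))))) (.node (.node (.node (.node (.node (.leaf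
    (nat_lit 44645049863259533930968837741000203163402240)) (.leaf (nat_lit 8401364))) (.leaf
    (nat_lit 622863))) (.node (.leaf (nat_lit 140167)) (.leaf (nat_lit 2365978)))) (.node (.node
    (.node (.leaf (nat_lit 91343830555109949447668640388792813095330250752)) (.leaf (nat_lit
    9708306))) (.leaf (nat_lit 1312345))) (.node (.leaf (nat_lit 346141)) (.leaf (nat_lit
    4264387))))) (.node (.node (.node (.node (.leaf (nat_lit
    22997728722813604723563615550152387040641024)) (.leaf (nat_lit 8675909))) (.leaf (nat_lit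
    987906))) (.node (.leaf (nat_lit 272595)) (.leaf (nat_lit 2949708)))) (.node (.node (.leaf
    (nat_lit 69395)) (.leaf (nat_lit 1839388))) (.node (.leaf (nat_lit 430605)) (.leaf (nat_lit
    4587803)))))))))

def qrH : List ℕ :=
    [1, 2, 4, 8, 16, 32, 64, 128, 256, 512, 1024, 739, 1478, 367, 734, 1468, 411, 822, 1644, 1595,
    1685, 1993, 1393]

def pi0 : Perm (Fin 24) :=
  ⟨![0, 1, 2, 4, 12, 15, 16, 7, 9, 13, 10, 22, 3, 8, 21, 19, 18, 17, 6, 5, 14, 20, 23, 11],
   ![0, 1, 2, 12, 3, 19, 18, 7, 13, 8, 10, 23, 4, 9, 20, 5, 6, 17, 16, 15, 21, 14, 11, 22],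
   by decide, by decide⟩

def hn0 : List ℕ :=
    [1, 92, 488, 901, 2541, 402, 4076, 306, 1244, 3852, 3089, 2048]

def pi1 : Perm (Fin 24) :=
  ⟨![0, 1, 2, 13, 8, 19, 4, 17, 6, 16, 7, 22, 9, 18, 14, 5, 12, 10, 3, 15, 20, 21, 23, 11],
   ![0, 1, 2, 18, 6, 15, 8, 10, 4, 12, 17, 23, 16, 3, 14, 19, 9, 7, 13, 5, 20, 21, 11, 22],
   by decide, by decide⟩

def hn1 : List ℕ :=
    [1, 369, 1938, 1035, 4066, 1733, 3893, 1978, 1283, 2787, 3172, 2048]

def pi2 : Perm (Fin 24) :=
  ⟨![0, 1, 2, 3, 13, 23, 8, 21, 9, 16, 20, 19, 18, 12, 17, 11, 6, 14, 4, 22, 7, 10, 15, 5],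
   ![0, 1, 2, 3, 18, 23, 16, 20, 6, 8, 21, 15, 13, 4, 17, 22, 9, 14, 12, 11, 10, 7, 19, 5],
   by decide, by decide⟩

def hn2 : List ℕ :=
    [1, 2297, 2952, 3504, 3899, 2902, 1185, 1645, 123, 613, 2214, 2048]

def pi3 : Perm (Fin 24) :=
  ⟨![0, 1, 2, 3, 8, 17, 18, 15, 12, 13, 19, 21, 16, 6, 23, 10, 4, 5, 9, 7, 11, 22, 20, 14],
   ![0, 1, 2, 3, 16, 17, 13, 19, 4, 18, 15, 20, 8, 9, 23, 7, 12, 5, 6, 10, 22, 11, 21, 14],
   by decide, by decide⟩

def hn3 : List ℕ :=
    [1, 2096, 3201, 1842, 1926, 3222, 2254, 1745, 2920, 1414, 3859, 2048]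

def pi4 : Perm (Fin 24) :=
  ⟨![0, 1, 2, 3, 6, 14, 12, 22, 13, 4, 11, 7, 9, 16, 5, 21, 18, 23, 8, 20, 15, 19, 10, 17],
   ![0, 1, 2, 3, 9, 14, 4, 11, 18, 12, 22, 10, 6, 8, 5, 20, 13, 23, 16, 21, 19, 15, 7, 17],
   by decide, by decide⟩

def hn4 : List ℕ :=
    [1, 2620, 1805, 442, 3566, 3351, 1365, 1407, 3293, 3422, 1782, 2048]

def pi5 : Perm (Fin 24) :=
  ⟨![0, 1, 3, 2, 4, 5, 9, 10, 13, 6, 7, 11, 12, 8, 14, 20, 18, 23, 16, 21, 15, 19, 22, 17],
   ![0, 1, 3, 2, 4, 5, 9, 10, 13, 6, 7, 11, 12, 8, 14, 20, 18, 23, 16, 21, 15, 19, 22, 17],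
   by decide, by decide⟩

def hn5 : List ℕ :=
    [1, 2281, 348, 90, 3512, 2451, 1283, 1225, 2489, 2745, 273, 2048]

def pi6 : Perm (Fin 24) :=
  ⟨![0, 2, 1, 3, 4, 23, 8, 10, 6, 16, 7, 15, 12, 18, 14, 11, 9, 17, 13, 22, 20, 21, 19, 5],
   ![0, 2, 1, 3, 4, 23, 8, 10, 6, 16, 7, 15, 12, 18, 14, 11, 9, 17, 13, 22, 20, 21, 19, 5],
   by decide, by decide⟩

def hn6 : List ℕ :=
    [1, 4080, 2977, 3746, 4066, 2116, 897, 1423, 921, 1623, 3172, 2048]

def pi7 : Perm (Fin 24) :=
  ⟨![1, 0, 2, 3, 4, 14, 9, 10, 18, 6, 7, 11, 12, 16, 5, 21, 13, 17, 8, 20, 19, 15, 22, 23],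
   ![1, 0, 2, 3, 4, 14, 9, 10, 18, 6, 7, 11, 12, 16, 5, 21, 13, 17, 8, 20, 19, 15, 22, 23],
   by decide, by decide⟩

def hn7 : List ℕ :=
    [1, 539, 1055, 1580, 1900, 1570, 102, 2010, 126, 856, 1857, 2048]

theorem rows_mem : ∀ r ∈ rows, word r ∈ golayCode := by
  intro r hr
  refine Submodule.subset_span ?_
  have : ∀ r ∈ rows, (∃ t, qrWord t = word r) ∨ word r = 1 := by decide +kernel
  exact this r hr

theorem code_eq : golayCode = Submodule.span (ZMod 2) (word '' {r | r ∈ rows}) := by
  refine le_antisymm (Submodule.span_le.mpr ?_) (Submodule.span_le.mpr ?_)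
  · have h : ∀ r ∈ rows, word r ∈ Submodule.span (ZMod 2) (word '' {r | r ∈ rows}) :=
      fun r hr => Submodule.subset_span ⟨r, hr, rfl⟩
    rintro _ (⟨t, rfl⟩ | rfl)
    · have : ∀ t, qrWord t = word (xorSel rows (qrH.getD t.val 0)) := by decide +kernel
      rw [this]
      exact word_xorSel h _
    · have : 1 = word 16777215 := by decide +kernel
      rw [this]
      exact h _ (by decide)
  · rintro _ ⟨r, hr, rfl⟩
    exact rows_mem r hr

theorem smul_support (g : Perm GolayPt) (w : GolayPt → ZMod 2) :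
    g • support₂ w = support₂ (w ∘ ⇑g⁻¹) := by
  ext q
  rw [← Finset.inv_smul_mem_iff]
  simp [support₂]

theorem mem_M24_of {g : Perm GolayPt} (h : ∀ r ∈ rows, word r ∘ ⇑g⁻¹ ∈ golayCode) : g ∈ M24 := by
  rw [MulAction.mem_stabilizer_set_iff_smul_set_subset (Set.toFinite _)]
  rintro _ ⟨_, ⟨w, hw, rfl⟩, rfl⟩
  refine ⟨w ∘ ⇑g⁻¹, ?_, (smul_support g w).symm⟩
  have : golayCode ≤ golayCode.comap (LinearMap.funLeft (ZMod 2) (ZMod 2) ⇑g⁻¹) := by
    conv_lhs => rw [code_eq]
    refine Submodule.span_le.mpr ?_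
    rintro _ ⟨r, hr, rfl⟩
    exact h r hr
  exact this hw

theorem dodecad_eq : squareDodecad = support₂ (word 340831) := by
  rw [squareDodecad, show qrWord 0 = word 340831 by decide +kernel]

/-- A permutation of the points from a permutation of their numbers. -/
def lift24 (π : Perm (Fin 24)) : Perm GolayPt := e24.symm.permCongr π

theorem mem_M12_of {π : Perm (Fin 24)} (hn : List ℕ)
    (h : ∀ x ∈ rows.zip hn, word x.1 ∘ ⇑(lift24 π)⁻¹ = word (xorSel rows x.2))
    (hl : (rows.zip hn).map Prod.fst = rows)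
    (hD : word 340831 ∘ ⇑(lift24 π)⁻¹ = word 340831) : lift24 π ∈ M12 := by
  refine ⟨mem_M24_of fun r hr => ?_, ?_⟩
  · rw [← hl] at hr
    obtain ⟨x, hx, rfl⟩ := List.mem_map.mp hr
    rw [h x hx]
    exact word_xorSel rows_mem _
  · show lift24 π • squareDodecad = squareDodecad
    rw [dodecad_eq, smul_support, hD]

/-- Number of bits among the first `24`. -/
noncomputable def pc (m : ℕ) : ℕ := sumN (fun i => Nat.mod (Nat.shiftRight m i) 2) 24

theorem card_support_word (m : ℕ) : (support₂ (word m)).card = pc m := by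
  rw [pc, sumN_eq, Finset.sum_range, support₂, Finset.card_filter, ← Equiv.sum_comp e24]
  refine Finset.sum_congr rfl fun q _ => ?_
  show _ = m >>> ix q % 2
  rw [Nat.shiftRight_eq_div_pow, ← Nat.toNat_testBit, word]
  cases m.testBit (ix q) <;> simp

theorem support_word_and (a b : ℕ) :
    support₂ (word (a &&& b)) = support₂ (word a) ∩ support₂ (word b) := by
  ext q
  simp [mem_support_word]

/-- Octads meeting the dodecad in six points are in the table. -/
noncomputable def chkB (m : ℕ) : Bool :=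
  Bool.rec true (Bool.rec true (Bool.rec true false
    (allB (fun j => Bool.rec true false (Nat.beq m (BT.get j))) 132))
    (Nat.beq (pc m) 8)) (Nat.beq (pc (Nat.land m 340831)) 6)

theorem span_chk : allSpan chkB rows 0 = true := by decide +kernel

/-- The octads meeting the dodecad in six points. -/
noncomputable def blk (j : ℕ) : Finset GolayPt := support₂ (word (BT.get j))

theorem BT_spec : allB (fun j => band (Nat.beq (BT.get j) (xorSel rows (BH.get j)))
    (band (Nat.beq (pc (BT.get j)) 8) (band (Nat.beq (pc (Nat.land (BT.get j) 340831)) 6)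
      (band (Nat.ble (BT.get j) 16777215) (Nat.ble (BT.get j + 1) (BT.get (j + 1) +
        Bool.rec 0 16777216 (Nat.beq j 131))))))) 132 = true := by decide +kernel

theorem smul_blk {g : Perm GolayPt} (hg : g ∈ M12) {j : ℕ} (hj : j < 132) :
    ∃ k < 132, g • blk j = blk k := by
  have h := allB_iff.mp BT_spec j hj
  simp only [band_eq_true, Nat.beq_eq] at h
  obtain ⟨h1, h2, h3, -⟩ := h
  have h4 : blk j ∈ supports (golayCode : Set (GolayPt → ZMod 2)) :=
    ⟨_, by rw [h1]; exact word_xorSel rows_mem _, rfl⟩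
  have h5 : g • blk j ∈ supports (golayCode : Set (GolayPt → ZMod 2)) := by
    rw [← MulAction.mem_stabilizer_iff.mp hg.1]
    exact Set.smul_mem_smul_set h4
  obtain ⟨w, hw, e⟩ := h5
  rw [code_eq] at hw
  obtain ⟨m, hm, hc⟩ := allSpan_sound span_chk hw
  rw [word_zero, zero_add] at hm
  subst hm
  have h6 : pc m = 8 := by
    rw [← card_support_word, e, Finset.card_smul_finset, blk, card_support_word, h2]
  have h7 : pc (Nat.land m 340831) = 6 := by
    have hD : g • squareDodecad = squareDodecad := hg.2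
    rw [← h3, ← card_support_word, ← card_support_word]
    show (support₂ (word (m &&& 340831))).card = (support₂ (word (BT.get j &&& 340831))).card
    rw [support_word_and, support_word_and, e, ← dodecad_eq, ← hD, ← Finset.smul_finset_inter,
      Finset.card_smul_finset, hD, blk]
  rw [chkB, h6, h7] at hc
  by_contra hk
  have : allB (fun j => Bool.rec true false (Nat.beq m (BT.get j))) 132 = true := by
    rw [allB_iff]
    intro k hk'
    rw [show Nat.beq m (BT.get k) = false from Bool.eq_false_iff.mpr fun e' =>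
      hk ⟨k, hk', by rw [← e, show m = BT.get k from Nat.beq_eq.mp e', blk]⟩]
  rw [this] at hc
  exact absurd hc (by decide)

theorem blk_inj {j k : ℕ} (hj : j < 132) (hk : k < 132) (h : blk j = blk k) : j = k := by
  have hs := allB_iff.mp BT_spec
  simp only [band_eq_true, Nat.beq_eq, Nat.ble_eq] at hs
  have h1 : BT.get j = BT.get k := by
    apply Nat.eq_of_testBit_eq
    intro i
    by_cases hi : i < 24
    · have := congrArg (fun s => e24.symm ⟨i, hi⟩ ∈ s) h
      simp only [blk, mem_support_word, eq_iff_iff] at this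
      rw [show ix (e24.symm ⟨i, hi⟩) = i from congrArg Fin.val (e24.apply_symm_apply _)] at this
      exact Bool.eq_iff_iff.mpr this
    · have h2 : 2 ^ 24 ≤ 2 ^ i := Nat.pow_le_pow_right two_pos (by omega)
      have h3 := (hs j hj).2.2.2.1
      have h4 := (hs k hk).2.2.2.1
      rw [Nat.testBit_lt_two_pow (by omega), Nat.testBit_lt_two_pow (by omega)]
  have hm : StrictMonoOn BT.get (Set.Iio 132) := by
    refine strictMonoOn_of_lt_succ Set.ordConnected_Iio fun a _ ha hb => ?_
    have h2 := (hs a ha).2.2.2.2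
    have h3 : a + 1 < 132 := hb
    rw [show Nat.beq a 131 = false from Bool.eq_false_iff.mpr fun e => by
      have := Nat.beq_eq.mp e; omega] at h2
    exact h2
  exact hm.injOn hj hk h1

/-- Points and octads. -/
noncomputable def pt (i : Fin 156) : GolayPt ⊕ Finset GolayPt :=
  if h : i.val < 24 then .inl (e24.symm ⟨i, h⟩) else .inr (blk (i - 24))

theorem pt_inj : Function.Injective pt := by
  intro i j h
  unfold pt at h
  split_ifs at h with hi hj hj
  · exact Fin.ext (by simpa using h)
  · have := blk_inj (by omega) (by omega) (Sum.inr_injective h)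
    exact Fin.ext (by omega)

/-- Incidence. -/
def rel : GolayPt ⊕ Finset GolayPt → GolayPt ⊕ Finset GolayPt → Prop
  | .inl a, .inr b => a ∈ b
  | .inr b, .inl a => a ∈ b
  | _, _ => False

theorem rel_smul (g : Perm GolayPt) (x y : GolayPt ⊕ Finset GolayPt) :
    rel (g • x) (g • y) ↔ rel x y := by
  rcases x with a | a <;> rcases y with b | b
  · rfl
  · exact Finset.smul_mem_smul_finset_iff g
  · exact Finset.smul_mem_smul_finset_iff g
  · rfl

theorem adj_spec : allB (fun i => force (adj.get i) fun a => allB (fun j =>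
    Nat.beq (Nat.mod (Nat.shiftRight a j) 2) (Bool.rec
      (Bool.rec 0 (Nat.mod (Nat.shiftRight (BT.get (Nat.sub j 24)) i) 2) (Nat.ble 24 j))
      (Bool.rec (Nat.mod (Nat.shiftRight (BT.get (Nat.sub i 24)) j) 2) 0 (Nat.ble 24 j))
      (Nat.ble 24 i))) 156) 156 = true := by decide +kernel

theorem adj_iff (i j : Fin 156) : (adj.get i).testBit j ↔ rel (pt i) (pt j) := by
  have h := adj_spec
  simp only [allB_iff, force_eq, Nat.beq_eq] at h
  have h := h i i.2 j j.2
  have hb : ∀ a u : ℕ, Nat.mod (Nat.shiftRight a u) 2 = (a.testBit u).toNat := by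
    intro a u
    show a >>> u % 2 = _
    rw [Nat.toNat_testBit, Nat.shiftRight_eq_div_pow]
  have hx : ∀ (i : ℕ) (hi : i < 24), ix (e24.symm ⟨i, hi⟩) = i := fun i hi =>
    congrArg Fin.val (e24.apply_symm_apply _)
  have hf : ∀ i : ℕ, i < 24 → Nat.ble 24 i = false := fun i hi =>
    Bool.eq_false_iff.mpr fun e => by have := Nat.ble_eq.mp e; omega
  have ht : ∀ i : ℕ, ¬ i < 24 → Nat.ble 24 i = true := fun i hi => Nat.ble_eq.mpr (by omega)
  have hn : ∀ a b : Bool, a.toNat = b.toNat → a = b := by decide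
  simp only [hb] at h
  unfold pt
  split_ifs with hi hj hj
  · rw [hf _ hi, hf _ hj] at h
    simpa [rel] using h
  · rw [hf _ hi, ht _ hj] at h
    rw [hn _ _ h, rel, blk, mem_support_word, hx]
    rfl
  · rw [ht _ hi, hf _ hj] at h
    rw [hn _ _ h, rel, blk, mem_support_word, hx]
    rfl
  · rw [ht _ hi, ht _ hj] at h
    simpa [rel] using h

theorem refine_chk : force (colF 24 16777216 16777213 156 adj 7 [0, 1, 2, 3, 4])
    (discr 24 16777216 156) = true := by decide +kernel

/-- An element of `M12` fixing the residues `0, 1, 2, 3, 4` is trivial. -/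
theorem eq_one_of_fix {g : Perm GolayPt} (hg : g ∈ M12)
    (h : ∀ x ∈ [0, 1, 2, 3, 4], g (some x) = some x) : g = 1 := by
  obtain ⟨φ, hφ⟩ := exists_perm_hom M12 pt_inj fun g hg i => by
    unfold pt
    split_ifs with hi
    · refine ⟨⟨e24 (g (e24.symm ⟨i, hi⟩)), lt_trans (e24 _).2 (by norm_num)⟩, ?_⟩
      rw [dif_pos (e24 _).2]
      simp
    · obtain ⟨k, hk, e⟩ := smul_blk hg (j := i - 24) (by omega)
      refine ⟨⟨k + 24, by omega⟩, ?_⟩
      rw [dif_neg (by simp)]
      simp [e]
  have h1 : φ ⟨g, hg⟩ = 1 := by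
    refine eq_one_of_refine (by norm_num) (by norm_num) (by norm_num) refine_chk (fun i j => ?_)
      fun i hi => pt_inj ?_
    · rw [Bool.eq_iff_iff, adj_iff, adj_iff, ← hφ, ← hφ, rel_smul]
    · rw [← hφ]
      have : ∀ i : Fin 156, i.val ∈ [0, 1, 2, 3, 4] → ∃ x ∈ [0, 1, 2, 3, 4],
        pt i = .inl (some x) := by decide +kernel
      obtain ⟨x, hx, e⟩ := this i hi
      rw [e]
      exact congrArg Sum.inl (h x hx)
  ext1 q
  have := hφ ⟨g, hg⟩ ⟨e24 q, lt_trans (e24 q).2 (by norm_num)⟩
  rw [h1, Perm.one_apply, pt, dif_pos (e24 q).2] at this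
  simpa using this

/-- The points of the dodecad. -/
def p12 : Fin 12 → GolayPt := fun i => some (![2, 1, 0, 3, 4, 12, 13, 8, 9, 18, 6, 16] i)

theorem p12_inj : Function.Injective p12 := by decide

theorem exists_phi : ∃ φ : M12 →* Perm (Fin 12), ∀ (g : M12) (i : Fin 12),
    (g : Perm GolayPt) • p12 i = p12 (φ g i) := by
  refine exists_perm_hom M12 p12_inj fun g hg i => ?_
  have h : ∀ q, q ∈ squareDodecad ↔ ∃ j, q = p12 j := by
    simp only [dodecad_eq, mem_support_word]
    decide +kernel
  have hD : g • squareDodecad = squareDodecad := hg.2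
  rw [← h, ← hD]
  exact Finset.smul_mem_smul_finset ((h _).mpr ⟨i, rfl⟩)

/-- The action of `M12` on the dodecad. -/
noncomputable def phi : M12 →* Perm (Fin 12) := exists_phi.choose

theorem phi_spec (g : M12) (i : Fin 12) : (g : Perm GolayPt) (p12 i) = p12 (phi g i) :=
  exists_phi.choose_spec g i

theorem eq_one_of_phi_fix {g : M12} (h : ∀ i ∈ [2, 1, 0, 3, 4], phi g i = i) : g = 1 := by
  refine Subtype.ext (eq_one_of_fix g.2 fun x hx => ?_)
  have : ∀ x ∈ [0, 1, 2, 3, 4], ∃ i ∈ [2, 1, 0, 3, 4], some x = p12 i := by decide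
  obtain ⟨i, hi, e⟩ := this x hx
  rw [e, phi_spec, h i hi]

theorem phi_inj : Function.Injective phi :=
  (injective_iff_map_eq_one _).mpr fun g hg => eq_one_of_phi_fix fun i _ => by rw [hg]; rfl

/-- A generator of S3362. -/
def gs : Perm (Fin 12) :=
  swap 3 5 * swap 3 4 * swap 6 8 * swap 6 7 * swap 9 11 * swap 9 10

/-- A generator of S3362. -/
def gt : Perm (Fin 12) :=
  swap 3 9 * swap 3 6 * swap 4 10 * swap 4 7 * swap 5 11 * swap 5 8

/-- A generator of S3362. -/
def gu : Perm (Fin 12) :=
  swap 4 9 * swap 4 5 * swap 4 6 * swap 7 10 * swap 7 11 * swap 7 8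

/-- A generator of S3362. -/
def gv : Perm (Fin 12) :=
  swap 4 11 * swap 4 5 * swap 4 7 * swap 6 8 * swap 6 9 * swap 6 10

/-- A generator of S3362. -/
def gw : Perm (Fin 12) :=
  swap 4 8 * swap 4 5 * swap 4 10 * swap 6 7 * swap 6 9 * swap 6 11

/-- A generator of S3362. -/
def gx1 : Perm (Fin 12) :=
  swap 0 3 * swap 6 7 * swap 8 10 * swap 9 11

/-- A generator of S3362. -/
def gx2 : Perm (Fin 12) :=
  swap 0 1 * swap 6 9 * swap 7 10 * swap 8 11

/-- A generator of S3362. -/
def gx3 : Perm (Fin 12) :=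
  swap 1 2 * swap 6 11 * swap 7 9 * swap 8 10

/-- The group `M₁₂` of S3362. -/
def MM12 : Subgroup (Perm (Fin 12)) := Subgroup.closure {gs, gt, gu, gv, gw, gx1, gx2, gx3}

/-- The group `M₁₁` of S3362. -/
def MM11 : Subgroup (Perm (Fin 12)) := Subgroup.closure {gs, gt, gu, gv, gw, gx1, gx2}

theorem MM_spec : MulAction.IsMultiplyPretransitive MM12 (Fin 12) 5 ∧
    (∀ y : Fin 5 ↪ Fin 12, MulAction.stabilizer MM12 y = ⊥) ∧ Nat.card MM12 = 95040 ∧
    Nat.card MM11 = 7920 ∧ MM11 = MM12 ⊓ MulAction.stabilizer (Perm (Fin 12)) (2 : Fin 12) :=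
  S3362.result gs gt gu gv gw gx1 gx2 gx3 rfl rfl rfl rfl rfl rfl rfl rfl _ _ rfl rfl

theorem mem_range_of {π : Perm (Fin 24)} (h : lift24 π ∈ M12) {σ : Perm (Fin 12)}
    (hσ : ∀ i, lift24 π (p12 i) = p12 (σ i)) : σ ∈ phi.range :=
  ⟨⟨_, h⟩, Equiv.ext fun i => p12_inj ((phi_spec ⟨_, h⟩ i).symm.trans (hσ i))⟩

theorem MM12_le : MM12 ≤ phi.range := by
  rw [MM12, Subgroup.closure_le]
  rintro σ (rfl | rfl | rfl | rfl | rfl | rfl | rfl | rfl)
  · exact mem_range_of (mem_M12_of (π := pi0) hn0 (by decide +kernel) (by decide +kernel)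
      (by decide +kernel)) (by decide +kernel)
  · exact mem_range_of (mem_M12_of (π := pi1) hn1 (by decide +kernel) (by decide +kernel)
      (by decide +kernel)) (by decide +kernel)
  · exact mem_range_of (mem_M12_of (π := pi2) hn2 (by decide +kernel) (by decide +kernel)
      (by decide +kernel)) (by decide +kernel)
  · exact mem_range_of (mem_M12_of (π := pi3) hn3 (by decide +kernel) (by decide +kernel)
      (by decide +kernel)) (by decide +kernel)
  · exact mem_range_of (mem_M12_of (π := pi4) hn4 (by decide +kernel) (by decide +kernel)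
      (by decide +kernel)) (by decide +kernel)
  · exact mem_range_of (mem_M12_of (π := pi5) hn5 (by decide +kernel) (by decide +kernel)
      (by decide +kernel)) (by decide +kernel)
  · exact mem_range_of (mem_M12_of (π := pi6) hn6 (by decide +kernel) (by decide +kernel)
      (by decide +kernel)) (by decide +kernel)
  · exact mem_range_of (mem_M12_of (π := pi7) hn7 (by decide +kernel) (by decide +kernel)
      (by decide +kernel)) (by decide +kernel)

theorem card_M12_le : Nat.card M12 ≤ 95040 := by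
  let y₀ : Fin 5 ↪ Fin 12 := ⟨![2, 1, 0, 3, 4], by decide⟩
  have : Function.Injective fun g : M12 => y₀.trans (phi g).toEmbedding := by
    intro g h e
    rw [← inv_mul_eq_one]
    refine eq_one_of_phi_fix fun i hi => ?_
    have h1 : ∀ i ∈ [2, 1, 0, 3, 4], ∃ k, i = y₀ k := by decide
    obtain ⟨k, rfl⟩ := h1 i hi
    have h2 : phi g (y₀ k) = phi h (y₀ k) := congrArg (fun y : Fin 5 ↪ Fin 12 => y k) e
    rw [map_mul, map_inv, Perm.mul_apply, ← h2]
    simp
  refine (Nat.card_le_card_of_injective _ this).trans (le_of_eq ?_)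
  rw [Nat.card_eq_fintype_card, Fintype.card_embedding_eq]
  simp

theorem range_phi : phi.range = MM12 := by
  refine (Subgroup.eq_of_le_of_card_ge MM12_le ?_).symm
  rw [MM_spec.2.2.1, ← Nat.card_congr (MonoidHom.ofInjective phi_inj).toEquiv]
  exact card_M12_le

/-- The Prelude's `M12` is the group of S3362. -/
noncomputable def isoM12 : M12 ≃* MM12 :=
  (MonoidHom.ofInjective phi_inj).trans (MulEquiv.subgroupCongr range_phi)

theorem card_M12 : Nat.card M12 = 95040 := by
  rw [Nat.card_congr isoM12.toEquiv, MM_spec.2.2.1]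

/-- The action of `M11` on the dodecad; the point `2` is fixed. -/
noncomputable def phi11 : M11 →* Perm (Fin 12) := phi.comp (Subgroup.inclusion inf_le_left)

theorem phi11_inj : Function.Injective phi11 := phi_inj.comp (Subgroup.inclusion_injective _)

theorem range_phi11 : phi11.range = MM11 := by
  rw [MM_spec.2.2.2.2, ← range_phi]
  ext σ
  constructor
  · rintro ⟨g, rfl⟩
    refine ⟨⟨_, rfl⟩, p12_inj ?_⟩
    exact (phi_spec _ 2).symm.trans g.2.2
  · rintro ⟨⟨g, rfl⟩, h⟩
    refine ⟨⟨g, g.2, ?_⟩, rfl⟩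
    exact (phi_spec g 2).trans (congrArg p12 h)

/-- The Prelude's `M11` is the group of S3362. -/
noncomputable def isoM11 : M11 ≃* MM11 :=
  (MonoidHom.ofInjective phi11_inj).trans (MulEquiv.subgroupCongr range_phi11)

theorem card_M11 : Nat.card M11 = 7920 := by
  rw [Nat.card_congr isoM11.toEquiv, MM_spec.2.2.2.1]

end Cfsg.Agent.H4.Golay
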