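import Cfsg.Agent.H4.O8F1
import Cfsg.Agent.H5.O8xEA

/-!
# The normalizer of the extraspecial group
-/

set_option autoImplicit false
set_option maxRecDepth 100000
set_option synthInstance.maxSize 100000

namespace Cfsg.Agent.H4.O8

open Subgroup Cfsg.Agent.H3.L43 Cfsg.Agent.H1.T3 Cfsg.Agent.H9 Cfsg.Agent.H3.O8 Cfsg.Agent.H5.O8

variable {G : Type*} [Group G]

/-- Elements of order three in a coset of a subgroup of order prime to three. -/
theorem conj_of_coset {E : Subgroup G} [Finite E] (hE : ¬ 3 ∣ Nat.card E) {b y : G}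
    (hb : ∀ e ∈ E, cj b e ∈ E) (b3 : b ^ 3 = 1) (y3 : y ^ 3 = 1) (h : y * b⁻¹ ∈ E) :
    ∃ f ∈ E, cj f y = b := by
  classical
  have := Fact.mk Nat.prime_three
  have := Fintype.ofFinite E
  let σ : Function.End E := fun f => ⟨y * f * b⁻¹, by
    simpa [cj, mul_assoc] using mul_mem h (hb f f.2)⟩
  have h1 := Equiv.Perm.card_fixedPoints_modEq (f := σ) (p := 3) (n := 1) (funext fun f =>
    Subtype.ext (by
      change y * (y * (y * f * b⁻¹) * b⁻¹) * b⁻¹ = f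
      calc _ = y ^ 3 * f * (b ^ 3)⁻¹ := by
            simp only [pow_succ, pow_zero, one_mul, mul_inv_rev, mul_assoc]
        _ = _ := by rw [y3, b3]; simp))
  obtain ⟨f, hf⟩ : Nonempty σ.fixedPoints := Fintype.card_pos_iff.mp (Nat.pos_of_ne_zero
    fun e => hE (by rwa [e, Nat.modEq_zero_iff_dvd, ← Nat.card_eq_fintype_card] at h1))
  have h2 : y * f * b⁻¹ = f := congrArg Subtype.val hf
  exact ⟨f⁻¹, inv_mem f.2, by rw [cj, inv_inv, mul_assoc, mul_inv_eq_iff_eq_mul.mp h2]; simp⟩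

theorem not_cyc : ∀ u : V, (ee 0 = 0 ∨ ee 0 = u ∨ ee 0 = -u) →
    ¬ (ee 1 = 0 ∨ ee 1 = u ∨ ee 1 = -u) := by decide +kernel

theorem fix_J0 : ∀ a : SP, ee 0 - a.act (ee 0) = 0 → ee 1 - a.act (ee 1) = 0 →
    ee 2 - a.act (ee 2) = 0 → a = 1 ∨ a = sg 3 := by decide +kernel

variable {ξ : V → G} {μ : SP → G} {i : G}

/-- The normalizer of the elementary abelian subgroup. -/
def NJ (c : Cfg true ξ μ i) : Subgroup G where
  carrier := {g | ∃ v a, g = ξ v * μ a}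
  one_mem' := ⟨0, 1, by rw [c.zero, c.one, one_mul]⟩
  mul_mem' := by
    rintro _ _ ⟨u, a, rfl⟩ ⟨v, a', rfl⟩
    exact ⟨_, _, c.nf_mul (ok_true _) (ok_true _) u v⟩
  inv_mem' := by
    rintro _ ⟨u, a, rfl⟩
    exact ⟨a⁻¹.act (-u), a⁻¹, by
      rw [← c.mx (ok_true _), c.inv (ok_true _), c.neg, mul_inv_rev]⟩

variable (c : Cfg true ξ μ i)
include c

theorem mu_NJ (a : SP) : μ a ∈ NJ c := ⟨0, a, by rw [c.zero, one_mul]⟩

theorem comm_act {g : G} {a : SP} {v : V} (h : Commute g (ξ (a.act v))) :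
    Commute (cj (μ a)⁻¹ g) (ξ v) := by
  have := cj_comm (g := (μ a)⁻¹) h
  rwa [← c.act a v (ok_true _), inv_cj_cj] at this

omit c in
theorem mem_of_cj {H : Subgroup G} {g x : G} (hx : x ∈ H) (h : cj x⁻¹ g ∈ H) : g ∈ H := by
  simpa [cj, mul_assoc] using mul_mem (mul_mem hx h) (inv_mem hx)

theorem normEE [Finite G] (hE : HE ξ μ i) (F1 : ∀ g, Commute g (ξ (ee 3)) → ∃ v a, g = ξ v * μ a)
    (hb : ∀ g, Commute g (μ (sg 3)) → Commute g (ξ vv) →
      ∃ e ∈ EE ξ μ i, ∃ v a, g = e * ξ v * μ a) :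
    ∀ g, Commute g (μ (sg 3)) → g ∈ normalizer (EE ξ μ i : Set G) →
      ∃ e ∈ EE ξ μ i, ∃ v a, v 3 = 0 ∧ a.p 3 = 3 ∧ g = e * ξ v * μ a := by
  have o := ok_true
  let N0 := NJ c ⊓ centralizer {μ (sg 3)}
  have n0 : ∀ g ∈ N0, ∃ v a, v 3 = 0 ∧ a.p 3 = 3 ∧ g = ξ v * μ a := by
    rintro _ ⟨⟨v, a, rfl⟩, h⟩
    exact ⟨v, a, (c.nf_t (o _) (mem_cent.mp h)).1, (c.nf_t (o _) (mem_cent.mp h)).2, rfl⟩
  have nx : ∀ v : V, v 3 = 0 → ξ v ∈ normalizer (EE ξ μ i : Set G) := fun v h =>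
    mem_normalizer_of_conj_mem fun _ => nJ c hE h
  have nm : ∀ a : SP, a.p 3 = 3 → μ a ∈ normalizer (EE ξ μ i : Set G) := fun a h =>
    mem_normalizer_of_conj_mem fun _ => nM c hE (o a) h
  have hM : ∀ g ∈ EE ξ μ i ⊔ N0, ∃ e ∈ EE ξ μ i, ∃ v a, v 3 = 0 ∧ a.p 3 = 3 ∧
      g = e * ξ v * μ a := fun g hg => by
    rw [← SetLike.mem_coe, coe_mul_of_right_le_normalizer_left _ _ (fun g hg => by
      obtain ⟨v, a, h1, h2, rfl⟩ := n0 g hg
      exact mul_mem (nx v h1) (nm a h2))] at hg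
    obtain ⟨e, he, n, hn, rfl⟩ := hg
    obtain ⟨v, a, h1, h2, rfl⟩ := n0 n hn
    exact ⟨e, he, v, a, h1, h2, (mul_assoc _ _ _).symm⟩
  have hM' : ∀ g, Commute g (μ (sg 3)) → ∀ e ∈ EE ξ μ i, ∀ n ∈ NJ c, g = e * n →
      g ∈ EE ξ μ i ⊔ N0 := by
    rintro _ h e he n hn rfl
    exact mul_mem (mem_sup_left he) (mem_sup_right ⟨hn, mem_cent.mpr (by
      simpa using ((comm_t c hE (inv_mem he)).mul_left h).eq)⟩)
  have mM : ∀ a : SP, a.p 3 = 3 → μ a ∈ EE ξ μ i ⊔ N0 := fun a h =>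
    mem_sup_right ⟨mu_NJ c a, mem_cent.mpr (mu_t c (o a) h)⟩
  have c1 : ∀ (a : SP) g, Commute g (ξ (a.act (ee 3))) → g ∈ NJ c := fun a g h =>
    mem_of_cj (mu_NJ c a) (F1 _ (comm_act c h))
  have cx : ∀ u : V, u 3 = 0 → u ≠ 0 → ∀ g, Commute g (μ (sg 3)) → Commute g (ξ u) →
      g ∈ EE ξ μ i ⊔ N0 := fun u h3 h0 g h1 h2 => by
    have k : ∀ u : V, u 3 = 0 → u ≠ 0 → ∃ a : SP, u = a.act (ee 3) ∨
        a.p 3 = 3 ∧ (u = a.act vv ∨ u = a.act vz) := by decide +kernel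
    obtain ⟨a, rfl | ⟨a3, h⟩⟩ := k u h3 h0
    · exact hM' g h1 1 (one_mem _) g (c1 a g h2) (one_mul g).symm
    have h4 : Commute (cj (μ a)⁻¹ g) (μ (sg 3)) := by
      have := cj_comm (g := (μ a)⁻¹) h1
      rwa [cj_fix.mpr (mu_t c (o a) a3).inv_left] at this
    refine mem_of_cj (mM a a3) ?_
    rcases h with rfl | rfl
    · obtain ⟨e, he, v, a', h⟩ := hb _ h4 (comm_act c h2)
      exact hM' _ h4 e he _ ⟨v, a', rfl⟩ (h.trans (mul_assoc _ _ _))
    · obtain ⟨e, he, v, a', -, h⟩ := c.czt _ (comm_act c h2) h4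
      exact hM' _ h4 e (E1_le c hE he) _ ⟨v, a', rfl⟩ (h.trans (mul_assoc _ _ _))
  have co : ∀ {u : V} {y : G}, u 3 = 0 → y ^ 3 = 1 → ∀ g, cj g y * (ξ u)⁻¹ ∈ EE ξ μ i →
      ∃ f ∈ EE ξ μ i, cj (f * g) y = ξ u := fun h3 hy g h => by
    simpa only [mul_cj] using conj_of_coset (by rw [card_EE c hE]; norm_num) (fun _ => nJ c hE h3)
      (c.cube _) (by rw [← cj_pow, hy, cj_one]) h
  have st3 : μ st ^ 3 = 1 := by rw [← c.pow (o _), ← c.one]; congr 1; decide +kernel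
  have k2 : ∀ u : V, u 3 = 0 → ∀ g ∈ centralizer {μ (sg 3)} ⊓ normalizer (EE ξ μ i : Set G),
      cj g (μ st) * (ξ u)⁻¹ ∉ EE ξ μ i := fun u hu g _ h =>
    let ⟨f, _, e⟩ := co hu st3 g h
    c.tauJ (f * g) 0 u (by rwa [c.zero, one_mul])
  have k3 : ∀ u v : V, u 3 = 0 ∧ F v ≠ F u →
      ∀ g ∈ centralizer {μ (sg 3)} ⊓ normalizer (EE ξ μ i : Set G),
      cj g (ξ v) * (ξ u)⁻¹ ∉ EE ξ μ i := fun u v hu g _ h =>
    let ⟨_, _, e⟩ := co hu.1 (c.cube v) g h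
    hu.2 (c.fJ _ _ _ e)
  intro g h1 h2
  have := sec c (L := centralizer {μ (sg 3)} ⊓ normalizer (EE ξ μ i : Set G)) (Z := EE ξ μ i)
    (le_inf (fun e he => mem_cent.mpr (comm_t c hE he)) le_normalizer) inf_le_right
    (fun v h => ⟨mem_cent.mpr (xi_t c h), nx v h⟩)
    ⟨mem_cent.mpr (mu_t c (o _) (by decide)), nm _ (by decide)⟩
    ⟨mem_cent.mpr (mu_t c (o _) (by decide)), nm _ (by decide)⟩ (fun g hg h => ?_)
    (fun h => absurd (xi_mem c hE h) (by decide))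
    (by
      simp only [List.pairwise_cons, List.forall_mem_cons]
      exact ⟨⟨k3 _ _ (by decide +kernel), k3 _ _ (by decide +kernel), k2 _ rfl, by simp⟩,
        ⟨k3 _ _ (by decide +kernel), k2 _ rfl, by simp⟩, ⟨k2 _ rfl, by simp⟩, by simp⟩)
    (fun K m h1 h2 h3 h4 h5 => ?_) g ⟨mem_cent.mpr h1, h2⟩ (ee 0) rfl
  · obtain ⟨u, hu, h⟩ := this
    obtain ⟨f, hf, e⟩ := co hu (c.cube _) g h
    have k : ∀ u : V, u 3 = 0 → F (ee 0) = F u → ∃ a a' : SP, u = a.act (ee 0) ∧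
        ee 0 = a'.act (ee 3) := by decide +kernel
    obtain ⟨a, a', rfl, e'⟩ := k u hu (c.fJ _ _ _ e)
    have h3 := c1 a' ((μ a)⁻¹ * (f * g)) (cj_fix.mp (by
      rw [← e', mul_cj, e, ← c.act _ _ (o _), inv_cj_cj]))
    exact hM g (hM' g h1 f⁻¹ (inv_mem hf) _ (mul_mem (mu_NJ c a) h3) (by simp))
  · obtain ⟨f, hf, e⟩ := co rfl (c.cube _) g h
    have h3 := (comm_t c hE hf).mul_left (mem_cent.mp hg.1)
    obtain ⟨e', he, v, a, -, h4⟩ := c.czt _ (cj_fix.mp e) h3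
    have h5 : Commute e' (ξ vz) := mem_cent.mp ((closure_le (centralizer {ξ vz})).mpr (by
      have := c.iJ vz rfl (by decide)
      rintro _ (rfl | rfl)
      · exact mem_cent.mpr this
      · have := cj_comm (g := ξ (ee 0)) this
        rw [cj_fix.mpr (c.comm _ _)] at this
        exact mem_cent.mpr this) he)
    have h6 : ξ v * μ a = e'⁻¹ * (f * g) := by rw [h4]; group
    obtain ⟨v3, a3⟩ := c.nf_t (o a) (v := v)
      (h6 ▸ (comm_t c hE (inv_mem (E1_le c hE he))).mul_left h3)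
    have h7 := c.fix_of_comm (o a) (u := v) (h6 ▸ h5.inv_left.mul_left (cj_fix.mp e))
    rw [show g = f⁻¹ * e' * (ξ v * μ a) by rw [h6]; group]
    refine mul_mem (mem_sup_right (mul_mem (inv_mem hf) (E1_le c hE he))) (mul_mem
      (mem_of_basis c ?_ ?_ ?_ (.inl v3))
      (mem_of_fix c ?_ ?_ h7 a3 (.inr (mem_sup_right (t_mem c hE))))) <;>
      exact mem_sup_left (subset_closure (by simp))
  · have := Fact.mk Nat.prime_three
    have hK : (Nat.card K).Coprime 3 := by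
      rw [h4, card_EE c hE]; exact Nat.Coprime.mul_left (by norm_num) h3
    have k0 : ∀ u, ξ u ∈ K → u = 0 := fun u hu => c.inj u (orderOf_eq_one_iff.mp
      (Nat.eq_one_of_dvd_coprimes hK (orderOf_dvd_natCard K hu) (orderOf_dvd_of_pow_eq_one (c.cube u))))
    have hA : ∀ x ∈ closure {ξ (ee 0), ξ (ee 1), ξ (ee 2)}, x ^ 3 = 1 := fun x hx => by
      obtain ⟨v, -, rfl⟩ := J0_ex c hx
      exact c.cube v
    have := le_of_cent1 (p := 3) (A := closure {ξ (ee 0), ξ (ee 1), ξ (ee 2)}) (L := K)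
      (X := EE ξ μ i ⊔ N0) (fun x => ⟨1, Subtype.ext (hA x x.2)⟩) (fun x hx y hy => by
        obtain ⟨u, -, rfl⟩ := J0_ex c hx
        obtain ⟨v, -, rfl⟩ := J0_ex c hy
        exact c.comm u v) (fun h => by
        obtain ⟨⟨_, hx⟩, hg⟩ := h.exists_generator
        obtain ⟨u, -, rfl⟩ := J0_ex c hx
        have k : ∀ v, ξ v ∈ closure {ξ (ee 0), ξ (ee 1), ξ (ee 2)} → v = 0 ∨ v = u ∨ v = -u :=
          fun v hv => by
            obtain ⟨n, e⟩ := hg ⟨_, hv⟩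
            simpa only [← c.neg, ← c.zero, (show Function.Injective ξ from
              fun _ _ => c.injective).eq_iff] using
              (mem_zpowers_three (c.cube u)).mp ⟨n, congrArg Subtype.val e⟩
        have k0 := k (ee 0) (subset_closure (by simp))
        have k1 := k (ee 1) (subset_closure (by simp))
        exact not_cyc u k0 k1)
      (fun x hx => by obtain ⟨v, h, rfl⟩ := J0_ex c hx; exact h5 v h) hK fun x hx x1 g hg e => by
        obtain ⟨v, h, rfl⟩ := J0_ex c hx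
        exact cx v h (fun e => x1 (e ▸ c.zero)) g (mem_cent.mp (h2 hg).1) e
    intro g hg
    obtain ⟨e, he, v, a, v3, a3, rfl⟩ := hM g (this hg)
    rw [mul_assoc, mul_mem_cancel_left (h1 he)] at hg
    have k1 : ∀ u : V, u 3 = 0 → u - a.act u = 0 := fun u hu => k0 _ (by
      have := mul_mem (conj_mem_of_mem_normalizer (h5 u hu) hg) (inv_mem hg)
      rwa [show ξ u * (ξ v * μ a) * (ξ u)⁻¹ * (ξ v * μ a)⁻¹ = ξ u * (cj (ξ v * μ a) (ξ u))⁻¹ by
        simp [cj, mul_assoc], c.act' (o a), ← c.sub] at this)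
    have ha : μ a ∈ EE ξ μ i := by
      rcases fix_J0 a (k1 _ rfl) (k1 _ rfl) (k1 _ rfl) with rfl | rfl
      exacts [c.one ▸ one_mem _, t_mem c hE]
    rw [k0 v ((mul_mem_cancel_right (h1 ha)).mp hg), c.zero, mul_one]
    exact mul_mem he ha

end Cfsg.Agent.H4.O8
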