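import Cfsg.Agent.H4.NseSolve

/-!
# The verified search with a free order of the divisors and an additional filter
-/

set_option autoImplicit false
set_option linter.unusedSectionVars false

namespace Cfsg.Agent.H4.Nse

/-- All admissible completions of the partial assignment `acc`. -/
def go2 (S : List ℕ) (ex : ℕ → ℕ → Bool) (B : ℕ) :
    List ℕ → List (ℕ × ℕ) → ℕ → List (List (ℕ × ℕ))
  | [], acc, _ => [acc]
  | d :: ds, acc, tot =>
    (((0 :: S).filter (ex d)).filter (okv B d tot (acc.filter fun p => d % p.1 == 0))).flatMap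
      fun v => go2 S ex B ds ((d, v) :: acc) (tot + v)

variable {G : Type*} [Group G] [Finite G]

theorem mem_go2 {S : List ℕ} (hS : ∀ n, mo G n ∈ 0 :: S) {ex : ℕ → ℕ → Bool}
    (hex : ∀ n, ex n (mo G n) = true) {B : ℕ} :
    ∀ (ds pre : List ℕ), (pre.reverse ++ ds).Pairwise (fun a b => ¬ b ∣ a) →
      (∀ d ∈ ds, d ∣ Nat.card G ∧ ∀ e, e ∣ d → e ∈ pre.reverse ++ ds) →
      ((pre.reverse ++ ds).map (mo G)).sum ≤ B →
      (ds.reverse ++ pre).map (fun d => (d, mo G d)) ∈
        go2 S ex B ds (pre.map fun d => (d, mo G d)) (pre.map (mo G)).sum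
  | [], pre, _, _, _ => by simp [go2]
  | d :: ds, pre, hs, hd, hB => by
    rw [go2, List.mem_flatMap]
    have hd0 : d ≠ 0 := ne_zero_of_dvd_ne_zero Nat.card_pos.ne' (hd d List.mem_cons_self).1
    have hlt : ∀ e ∈ pre, ¬ d ∣ e := fun e he =>
      (List.pairwise_append.mp hs).2.2 e (List.mem_reverse.mpr he) d List.mem_cons_self
    have hpn : pre.Nodup := List.nodup_reverse.mp ((List.pairwise_append.mp hs).1.imp
      fun h (e : _ = _) => h e.symm.dvd)
    have hsub : (pre.filter fun e => d % e == 0).toFinset = d.properDivisors := by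
      ext e
      simp only [List.toFinset_filter, Finset.mem_filter, List.mem_toFinset, beq_iff_eq,
        Nat.mem_properDivisors]
      refine ⟨fun h => ⟨Nat.dvd_of_mod_eq_zero h.2, lt_of_le_of_ne (Nat.le_of_dvd (Nat.pos_of_ne_zero hd0)
        (Nat.dvd_of_mod_eq_zero h.2)) fun e' => hlt e h.1 (e' ▸ dvd_rfl)⟩, fun h => ⟨?_, Nat.mod_eq_zero_of_dvd h.1⟩⟩
      rcases List.mem_append.mp ((hd d List.mem_cons_self).2 e h.1) with h1 | h1
      · exact List.mem_reverse.mp h1
      · rcases List.mem_cons.mp h1 with h1 | h1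
        · exact absurd h.2 (by omega)
        · exact absurd h.1 ((List.pairwise_cons.mp (List.pairwise_append.mp hs).2.1).1 e h1)
    have hfil : ((pre.map fun d => (d, mo G d)).filter fun p => d % p.1 == 0) =
        (pre.filter fun e => d % e == 0).map fun d => (d, mo G d) := by
      rw [List.filter_map]
      rfl
    refine ⟨mo G d, List.mem_filter.mpr ⟨List.mem_filter.mpr ⟨hS d, hex d⟩, ?_⟩, ?_⟩
    · rw [hfil, okv, List.map_map, List.length_map]
      have h1 : ((pre.filter fun e => d % e == 0).map (Prod.snd ∘ fun d => (d, mo G d))).sum =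
          ∑ e ∈ d.properDivisors, mo G e := by
        rw [← hsub, List.sum_toFinset _ (hpn.filter _)]
        rfl
      have h2 := frob (hd d List.mem_cons_self).1
      rw [← Nat.cons_self_properDivisors hd0, Finset.sum_cons, add_comm] at h2
      have h3 : (pre.map (mo G)).sum + mo G d ≤ B := by
        simp only [List.map_append, List.map_reverse, List.map_cons, List.sum_append,
          List.sum_reverse, List.sum_cons] at hB
        omega
      rw [h1, Nat.mod_eq_zero_of_dvd h2]
      simp only [BEq.rfl, h3, decide_true, Bool.and_self, Bool.true_and]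
      split_ifs with h0
      · rw [← List.toFinset_card_of_nodup (hpn.filter _), hsub, decide_eq_true_eq]
        by_contra h4
        by_cases h5 : d = 1
        · rw [h5, mo_one] at h0
          exact one_ne_zero h0
        have h6 : d.Prime := by
          rw [Nat.prime_def_lt]
          refine ⟨by omega, fun m hm hmd => ?_⟩
          exact Finset.card_le_one.mp (by omega) m (Nat.mem_properDivisors.mpr ⟨hmd, hm⟩) 1
            (Nat.one_mem_properDivisors_iff_one_lt.mpr (by omega))
        exact (mo_pos_prime h6 (hd d List.mem_cons_self).1).ne' h0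
      · simp only [List.all_map, Bool.and_eq_true, List.all_eq_true, List.mem_filter, beq_iff_eq,
          Function.comp_apply, bne_iff_ne, ne_eq, Bool.or_eq_true, and_imp]
        refine ⟨⟨fun e _ he => (mo_pos_of_dvd' (Nat.pos_of_ne_zero h0)
          (Nat.dvd_of_mod_eq_zero he)).ne', ?_⟩, ?_⟩
        · by_cases h5 : d = 1
          · rw [h5, mo_one]
            exact Or.inr rfl
          · exact Or.inl h5
        · rw [phi_eq]
          exact Nat.mod_eq_zero_of_dvd (totient_dvd_mo d)
    · have := mem_go2 hS hex (B := B) ds (d :: pre) (by simpa using hs)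
        (fun e he => by simpa using hd e (List.mem_cons_of_mem _ he)) (by simpa using hB)
      simpa [add_comm] using this

/-- The complete solutions for the order `N`, a divisor of the number with divisors `L`. -/
def sols2 (S : List ℕ) (ex : ℕ → ℕ → Bool) (L : List ℕ) (N : ℕ) : List (List (ℕ × ℕ)) :=
  ((go2 S ex N (L.filter fun e => N % e == 0) [] 0).filter fun s =>
    (s.map Prod.snd).sum == N && S.all fun c => s.any fun p => p.2 == c).map fun s =>
      s.filter fun p => p.2 != 0

theorem exists_mem_sols2 {S : List ℕ} (hS : ∀ n, mo G n ∈ 0 :: S) (hS' : ∀ c ∈ S, ∃ n, mo G n = c)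
    (hS0 : 0 ∉ S) {ex : ℕ → ℕ → Bool} (hex : ∀ n, ex n (mo G n) = true) {D : List ℕ}
    (hD : D.Pairwise fun a b => ¬ b ∣ a) (hd : ∀ e, e ∣ Nat.card G → e ∈ D) :
    ∃ s ∈ sols2 S ex D (Nat.card G), (∀ p ∈ s, mo G p.1 = p.2) ∧
      ∀ g : G, orderOf g ∈ s.map Prod.fst := by
  set L := D.filter fun e => Nat.card G % e == 0 with hL
  have hs : L.Pairwise (fun a b => ¬ b ∣ a) := hD.filter _
  have hn : L.Nodup := hs.imp fun h (e : _ = _) => h e.symm.dvd
  have hm : ∀ e, e ∈ L ↔ e ∣ Nat.card G := fun e => by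
    simp only [hL, List.mem_filter, beq_iff_eq]
    exact ⟨fun h => Nat.dvd_of_mod_eq_zero h.2, fun h => ⟨hd e h, Nat.mod_eq_zero_of_dvd h⟩⟩
  have h1 := mem_go2 hS hex (B := Nat.card G) L [] (by simpa using hs)
    (fun e he => ⟨(hm e).mp he, fun f hf => by simpa using (hm f).mpr (hf.trans ((hm e).mp he))⟩)
    (by simpa using sum_list_le hn)
  simp only [List.map_nil, List.sum_nil, List.append_nil] at h1
  refine ⟨_, List.mem_map.mpr ⟨_, List.mem_filter.mpr ⟨h1, ?_⟩, rfl⟩, fun p hp => ?_, fun g => ?_⟩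
  · simp only [List.map_map, Bool.and_eq_true, beq_iff_eq, List.all_eq_true, List.any_eq_true]
    refine ⟨?_, fun c hc => ?_⟩
    · rw [List.map_reverse, List.sum_reverse, ← List.sum_toFinset _ hn]
      exact sum_eq fun g => List.mem_toFinset.mpr ((hm _).mpr (orderOf_dvd_natCard g))
    · obtain ⟨n, hn⟩ := hS' c hc
      refine ⟨(n, c), List.mem_map.mpr ⟨n, List.mem_reverse.mpr ((hm n).mpr (dvd_of_mo_pos ?_)),
        by rw [hn]⟩, rfl⟩
      rw [hn]
      exact Nat.pos_of_ne_zero fun h => hS0 (h ▸ hc)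
  · obtain ⟨n, -, rfl⟩ := List.mem_map.mp (List.mem_filter.mp hp).1
    rfl
  · refine List.mem_map.mpr ⟨(orderOf g, mo G (orderOf g)), List.mem_filter.mpr ⟨List.mem_map.mpr
      ⟨_, List.mem_reverse.mpr ((hm _).mpr (orderOf_dvd_natCard g)), rfl⟩, ?_⟩, rfl⟩
    simpa using (mo_pos g).ne'

end Cfsg.Agent.H4.Nse
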