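import Cfsg.Agent.H4.M11Nse
import Cfsg.Agent.H4.NseSolve2

/-!
# The numbers of elements of each order in `M₁₂`
-/

set_option autoImplicit false

namespace Cfsg.Agent.H4

open Finset

theorem Coding.card_eq_of_msum {G M : Type*} [Group G] [Monoid M] {K : Coding G M} [Fintype G]
    {one : ℕ} (h1 : K.R one 1) {Ls : List MLevel} (hm : ∀ L ∈ Ls, ∀ i < L.m, K.In ⊤ (L.T.get i))
    (hf : ∀ g, K.Fc Ls g) (hc : (Ls.map MLevel.m).prod ≤ Nat.card G) {f n s : ℕ}
    (hG : Nat.card G < 2 ^ f) {w : ℕ → ℕ} {o : G → ℕ} (ho : ∀ g, o g ≤ n)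
    (hw : ∀ c g, K.R c g → w c = 2 ^ (f * o g)) (hs : msum K.mul w Ls one = s) {k : ℕ}
    (hk : k ≤ n) : #{g | o g = k} = (s >>> (f * k)) % 2 ^ f := by
  classical
  have h3 : s = pk f (n + 1) fun k => #{g | o g = k} := by
    rw [← hs, Coding.sum_eq_msum hm hf hc hw h1, pk,
      ← sum_fiberwise_of_maps_to (g := o) (t := range (n + 1)) fun g _ =>
        mem_range.mpr (Nat.lt_succ_of_le (ho g))]
    refine sum_congr rfl fun k _ => ?_
    rw [sum_congr rfl fun g hg => by rw [(mem_filter.mp hg).2], sum_const, smul_eq_mul]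
  rw [h3]
  symm
  exact pk_shift_mod (fun i _ => lt_of_le_of_lt (card_filter_le _ _)
    (by rwa [card_univ, ← Nat.card_eq_fintype_card])) (by omega)

namespace M12R

open Nse Cfsg.Spor Golay M11

/-- The coding of `M₁₂`. -/
noncomputable def K12 : Coding M12 (Function.End (Fin 12)) where
  ι := MulAction.toEndHom.comp phi
  inj := fun _ _ h => phi_inj (Equiv.ext fun i => congrFun h i)
  dec := decP 4 16 12
  mul := mMul
  dec_mul := K.dec_mul

/-- The inclusion. -/
def incl : M11 →* M12 := Subgroup.inclusion inf_le_left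

theorem exists_x3 : ∃ x : M12, phi x = gx3 := by
  show gx3 ∈ phi.range
  rw [range_phi]
  exact Subgroup.subset_closure (by simp)

theorem card_coset {x : M12} (hx : phi x = gx3) (k : ℕ) :
    Nat.card {g : M11 // orderOf (x * incl g) = k} = if k ≤ 11 then
      (137925861415345324911459225511702914866445606903129047040 >>> (16 * k)) % 2 ^ 16 else 0 := by
  classical
  have := Fintype.ofFinite M11
  have hG := Coding.good R_one ms S_In
  have h1 : K12.R mOne 1 := by
    have := R_one
    rwa [Coding.R, map_one, ← map_one K12.ι] at this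
  have h2 : K12.R 114875801284896 x := by
    refine funext fun i => ?_
    show ent 114875801284896 i = phi x i
    rw [hx]
    revert i
    decide +kernel
  have key : ∀ k ≤ 11, #{g : M11 | (if orderOf (x * incl g) ≤ 11 then orderOf (x * incl g) else 0) = k}
      = (137925861415345324911459225511702914866445606903129047040 >>> (16 * k)) % 2 ^ 16 :=
    fun k hk => Coding.card_eq_of_msum R_one (fun L hL i hi => (hG.mem L hL i hi).mono le_top)
      (fun g => hG.fac g (mem_Gr g)) (by rw [card_M11]; decide +kernel)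
      (by rw [card_M11]; norm_num) (fun g => by split_ifs <;> omega)
      (w := fun c => force (mMul 114875801284896 c) (ordW mMul mOne 16 11)) (fun c g hc => by
        have := Coding.ordC_eq (K := K12) K_canon h1 (by decide +kernel)
          (h2.mul (show K12.R c (incl g) from hc)) 11 (k := 0) (by rwa [pow_zero]) (orderOf_pos _)
        rw [zero_add, zero_add] at this
        rw [force_eq, ordW]
        exact (congrArg (fun k => Nat.shiftLeft 1 (Nat.mul 16 k)) this).trans (Nat.one_shiftLeft _))
      (by decide +kernel) hk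
  have h5 : ∀ g, orderOf (x * incl g) ≤ 11 := fun g => by
    have h6 := key 0 (by omega)
    rw [show _ % 2 ^ 16 = 0 by decide +kernel, card_eq_zero, filter_eq_empty_iff] at h6
    by_contra h7
    exact h6 (mem_univ g) (if_neg h7)
  rw [Nat.card_eq_fintype_card, Fintype.card_subtype]
  split_ifs with hk
  · rw [← key k hk]
    simp only [if_pos (h5 _)]
  · rw [card_eq_zero, filter_eq_empty_iff]
    intro g _ e
    exact hk (e ▸ h5 g)

theorem exists_incl {g : M12} (h : phi g 2 = 2) : ∃ m, incl m = g :=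
  ⟨⟨g, g.2, (phi_spec g 2).trans (congrArg p12 h)⟩, rfl⟩

theorem phi_incl (m : M11) : phi (incl m) 2 = 2 := p12_inj ((phi_spec _ 2).symm.trans m.2.2)

theorem mo_M12_eq {x : M12} (hx : phi x = gx3) (k : ℕ) :
    mo M12 k = mo M11 k + 11 * Nat.card {g : M11 // orderOf (x * incl g) = k} := by
  classical
  have := Fintype.ofFinite M11
  have := Fintype.ofFinite M12
  have hi : Function.Injective incl := Subgroup.inclusion_injective _
  have hx2 : phi x 2 = 1 := by rw [hx]; decide
  have h2 : MulAction.IsMultiplyPretransitive MM12 (Fin 12) 2 :=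
    have := MM_spec.1
    MulAction.isMultiplyPretransitive_of_le (n := 5) (by norm_num) (by simp)
  have h3 : ∀ j : Fin 12, j ≠ 2 → #{g : M12 | orderOf g = k ∧ phi g 2 = j} =
      Nat.card {g : M11 // orderOf (x * incl g) = k} := by
    intro j hj
    obtain ⟨⟨σ, hσ⟩, e1, e2⟩ := MulAction.is_two_pretransitive_iff.mp h2
      (show (1 : Fin 12) ≠ 2 by decide) hj
    obtain ⟨h, rfl⟩ : σ ∈ phi.range := range_phi ▸ hσ
    change phi h 1 = j at e1
    change phi h 2 = 2 at e2
    have e3 : (phi h)⁻¹ 2 = 2 := by rw [Equiv.Perm.inv_eq_iff_eq, e2]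
    rw [Nat.card_eq_fintype_card, Fintype.card_subtype]
    refine (card_bij (fun g _ => h * (x * incl g) * h⁻¹) (fun g hg => ?_) (fun a _ b _ e => ?_)
      fun g hg => ?_).symm
    · simp only [mem_filter, mem_univ, true_and] at hg ⊢
      rw [orderOf_conj', map_mul, map_mul, map_mul, map_inv]
      simp only [Equiv.Perm.mul_apply, e3, phi_incl, hx2, e1, hg, and_self]
    · simpa [hi.eq_iff] using e
    · simp only [mem_filter, mem_univ, true_and] at hg ⊢
      obtain ⟨m, hm⟩ := exists_incl (g := x⁻¹ * (h⁻¹ * g * h)) (by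
        simp only [map_mul, map_inv, Equiv.Perm.mul_apply, e2, hg.2]
        rw [← e1, ← hx2]
        simp)
      refine ⟨m, ?_, by rw [hm]; group⟩
      rw [hm, ← hg.1, ← orderOf_conj' h]
      congr 1
      group
  have h4 : #{g : M12 | orderOf g = k ∧ phi g 2 = 2} = mo M11 k := by
    rw [mo_eq]
    refine (card_bij (fun g _ => incl g) (fun g hg => ?_) (fun a _ b _ e => hi e)
      fun g hg => ?_).symm
    · simp only [mem_filter, mem_univ, true_and] at hg ⊢
      exact ⟨(orderOf_injective _ hi g).trans hg, phi_incl g⟩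
    · simp only [mem_filter, mem_univ, true_and] at hg ⊢
      obtain ⟨m, rfl⟩ := exists_incl hg.2
      exact ⟨m, (orderOf_injective _ hi m).symm.trans hg.1, rfl⟩
  rw [mo_eq, card_eq_sum_card_fiberwise (f := fun g => phi g 2) (t := univ) fun _ _ => mem_univ _,
    ← add_sum_erase _ _ (mem_univ 2)]
  simp only [filter_filter]
  rw [h4, sum_congr rfl fun j hj => h3 j (ne_of_mem_erase hj), sum_const, smul_eq_mul]
  rfl

/-- The numbers of elements of order `0, …, 11`. -/
def cnt : List ℕ := [0, 1, 891, 4400, 5940, 9504, 23760, 0, 23760, 0, 9504, 17280]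

theorem mo_M12 (k : ℕ) : mo M12 k = cnt.getD k 0 := by
  obtain ⟨x, hx⟩ := exists_x3
  rw [mo_M12_eq hx, card_coset hx, M11R.mo_M11]
  split_ifs with h
  · revert k
    decide +kernel
  · rw [List.getD_eq_default _ _ (by simp [cnt]; omega)]

/-- The values of the counting function. -/
def S : List ℕ := [1, 891, 4400, 5940, 9504, 23760, 17280]

theorem mo_M12_mem (k : ℕ) : mo M12 k ∈ 0 :: S := by
  rw [mo_M12]
  by_cases h : k < 12
  · revert k
    decide +kernel
  · rw [List.getD_eq_default _ _ (by simp [cnt]; omega)]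
    simp

theorem exists_mo_M12 : ∀ c ∈ S, 0 < c ∧ ∃ n, mo M12 n = c := by
  have : ∀ c ∈ S, 0 < c ∧ ∃ k < 12, cnt.getD k 0 = c := by decide +kernel
  intro c hc
  obtain ⟨h1, k, -, e⟩ := this c hc
  exact ⟨h1, k, by rw [mo_M12, e]⟩

/-- The hypothesis. -/
structure Hyp (G : Type*) [Group G] : Prop where
  card : Nat.card G = 95040
  ord : ∀ g : G, orderOf g ∈ [1, 2, 3, 4, 5, 6, 8, 10, 11]
  m2 : mo G 2 = 891
  m3 : mo G 3 = 4400
  m5 : mo G 5 = 9504
  m6 : mo G 6 = 23760
  m10 : mo G 10 = 9504
  m11 : mo G 11 = 17280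

/-- The divisors of the order. -/
def D : List ℕ :=
  [1, 3, 5, 11, 33, 55, 2, 10, 22, 110, 15, 165, 4, 44, 20, 220, 8, 40, 88, 440, 16, 80, 176, 32,
  160, 64, 320, 352, 704, 880, 1760, 3520, 6, 30, 66, 330, 12, 24, 48, 96, 9, 18, 27, 36, 45, 54,
  60, 72, 90, 99, 108, 120, 132, 135, 144, 180, 192, 198, 216, 240, 264, 270, 288, 297, 360, 396,
  432, 480, 495, 528, 540, 576, 594, 660, 720, 792, 864, 960, 990, 1056, 1080, 1188, 1320, 1440,
  1485, 1584, 1728, 1980, 2112, 2160, 2376, 2640, 2880, 2970, 3168, 3960, 4320, 4752, 5280, 5940,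
  6336, 7920, 8640, 9504, 10560, 11880, 15840, 19008, 23760, 31680, 47520, 95040]

/-- The additional filter. -/
def ex (n v : ℕ) : Bool :=
  (n % 11 != 0 || n == 11 || v % 1728 == 0) && (n % 5 != 0 || n == 5 || v % 2376 == 0)

theorem sols_spec : (sols2 S ex D 95040).all (fun s =>
    s.map Prod.fst == [6, 8, 4, 10, 2, 11, 5, 3, 1] &&
    [(2, 891), (3, 4400), (6, 23760), (10, 9504)].all s.contains) = true := by
  decide +kernel

theorem hyp_of_nse {G : Type*} [Group G] [Finite G] (hc : Nat.card G = 95040)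
    (h1 : ∀ n, mo G n ∈ 0 :: S) (h2 : ∀ c ∈ S, ∃ n, mo G n = c) : Hyp G := by
  have f5 : 5 ∣ mo G 1 + mo G 5 := frob (d := 5) (by rw [hc]; norm_num)
  have f11 : 11 ∣ mo G 1 + mo G 11 := frob (d := 11) (by rw [hc]; norm_num)
  rw [mo_one] at f5 f11
  have m5 : mo G 5 = 9504 := by
    have := h1 5
    simp only [S, List.mem_cons, List.not_mem_nil, or_false] at this
    omega
  have m11 : mo G 11 = 17280 := by
    have := h1 11
    simp only [S, List.mem_cons, List.not_mem_nil, or_false] at this
    omega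
  obtain ⟨s, hs, h3, h4⟩ := exists_mem_sols2 h1 h2 (by decide) (ex := ex) (fun n => by
      have a := mo_prime_dvd (G := G) (p := 5) (n := n) (by norm_num) (by rw [hc]; norm_num)
      have b := mo_prime_dvd (G := G) (p := 11) (n := n) (by norm_num) (by rw [hc]; norm_num)
      rw [m5] at a
      rw [m11] at b
      simp only [ex, Bool.and_eq_true, Bool.or_eq_true, bne_iff_ne, beq_iff_eq]
      omega) (D := D) (by decide +kernel)
    fun e he => mem_of_dvd_mul (a := 288) (b := 330) (by norm_num) (by norm_num)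
      (by decide +kernel) (by rwa [hc] at he)
  have h5 := List.all_eq_true.mp sols_spec s (hc ▸ hs)
  simp only [Bool.and_eq_true, beq_iff_eq, List.all_cons, List.all_nil, List.contains_iff_mem] at h5
  obtain ⟨h6, a, b, c, d, -⟩ := h5
  refine ⟨hc, fun g => ?_, h3 _ a, h3 _ b, m5, h3 _ c, h3 _ d, m11⟩
  have := h4 g
  rw [h6] at this
  revert this
  generalize orderOf g = n
  simp only [List.mem_cons, List.not_mem_nil, or_false]
  omega

end M12R

end Cfsg.Agent.H4
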