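import Cfsg.Agent.H4.C12V2B3
import Cfsg.Agent.H8.C12D32
import Cfsg.Agent.H1.C12S3

/-!
# The case `|V| = 2` with `T` not Sylow
-/

set_option autoImplicit false

namespace Cfsg.Agent.L0.C12

open Subgroup Cfsg.Agent.L0.SC3 Cfsg.Agent.H9
open Cfsg.Agent.H1.T3 hiding mem_cent
open scoped commutatorElement Pointwise

universe u

variable {G : Type u} [Group G] [Finite G] {x s t : G} {K : Subgroup G}

namespace CB

variable (c : CB x s t K)
include c

omit [Finite G] in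
theorem tY : t ∈ omz K := ⟨c.tK, c.tt, fun _ hq => (c.kt hq).symm⟩

theorem nY : ∀ l ∈ centralizer ({t} : Set G), ∀ a ∈ omz K, l * a * l⁻¹ ∈ omz K :=
  fun l hl _ => omz_conj (mem_normalizer_of_conj (c.ti.normal l hl))

theorem conj_w {v : G} (vY : v ∈ omz K) (sv : Commute s v)
    (N : v * (x * v * x⁻¹) * (x⁻¹ * v * x) = 1) :
    x * (x * v * x⁻¹) * x⁻¹ = v * (x * v * x⁻¹) ∧ ∀ τ ∈ K ⊔ zpowers s, τ ∉ K →
      τ * (x * v * x⁻¹) * τ⁻¹ = v * (x * v * x⁻¹) := by
  have wY := c.nY x c.ti.mem v vY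
  have h1 : x⁻¹ * v * x = v * (x * v * x⁻¹) := by
    rw [eq_inv_of_mul_eq_one_right N, inv_eq_of_mul_eq_one_right (mul_mem vY wY).2.1]
  refine ⟨?_, fun τ hτ τK => ?_⟩
  · calc _ = x * x * v * (x * x)⁻¹ := by group
      _ = _ := by rw [c.t3.mul_self, inv_inv, h1]
  · have h2 := ((mul_mem vY wY).2.2 _ ((c.memT.1 hτ).resolve_left τK)).eq
    have h3 : s⁻¹ * (x * v * x⁻¹) * s⁻¹⁻¹ = v * (x * v * x⁻¹) := by
      rw [inv_inv, ← inv_eq_of_mul_eq_one_right c.ss, inv_inv, ← conj_mul, ← conj_mul, ← conj_inv,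
        c.sx, inv_inv, sv.eq, mul_inv_cancel_right, h1]
    calc _ = τ * s * (s⁻¹ * (x * v * x⁻¹) * s⁻¹⁻¹) * (τ * s)⁻¹ := by group
      _ = _ := by rw [h3, ← h2, mul_inv_cancel_right]

variable {n : G} (nT : n ∈ normalizer ((K ⊔ zpowers s : Subgroup G) : Set G))
  (nn : n * n ∈ K ⊔ zpowers s) (n1 : ¬ Commute n t)
include nT

omit [Finite G] in
theorem T_le : K ⊔ zpowers s ≤ centralizer {n * t * n⁻¹} := fun g hg => mem_cent.2 (by
  simpa [mul_assoc] using (mem_cent.1 (sup_le c.ti.le (zpowers_le_of_mem c.sH)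
    (conj_mem_of_mem_normalizer (inv_mem nT) hg))).conj n)

theorem t'Y : n * t * n⁻¹ ∈ omz K :=
  ⟨c.memK_of_cent c.two_lt ((El2.of_sq c.tt).conj n) fun _ ha =>
    mem_cent.1 (c.T_le nT (mem_sup_left ha)), (c.conj n).tt,
    fun _ hq => (mem_cent.1 (c.T_le nT (mem_sup_left hq))).symm⟩

include nn n1

theorem zcl' : IsConj (t * (n * t * n⁻¹)) (s * t) := by
  have T2 := c.sylT.isPGroup
  have e2 : El2 n := by
    obtain ⟨k, hk⟩ := El2.of_mem T2 nn
    exact ⟨k + 1, by rw [pow_succ', pow_mul, pow_two, hk]⟩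
  refine c.zcl (P := K ⊔ zpowers s ⊔ zpowers n) (mul_mem c.tY (c.t'Y nT)).2.1 (fun e => n1 ?_)
    (T2.to_sup_of_normal_left' e2.isPGroup (zpowers_le_of_mem nT)) (sup_le (fun g hg => mem_cent.2
      ((mem_cent.1 (c.sylT.le hg)).mul_right (mem_cent.1 (c.T_le nT hg))))
      (zpowers_le_of_mem (mem_cent.2 ?_))) ?_
  · rw [Commute, SemiconjBy, ← mul_inv_eq_iff_eq_mul, eq_inv_of_mul_eq_one_right e,
      inv_eq_of_mul_eq_one_right c.tt]
  · calc n * (t * (n * t * n⁻¹)) = n * t * n⁻¹ * (n * n * t * (n * n)⁻¹) * n := by group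
      _ = _ := by rw [(mem_cent.1 (c.sylT.le nn)).eq, mul_inv_cancel_right,
        (c.kt (c.t'Y nT).1).eq]
  · have := two_mul_card_le (le_sup_left (b := zpowers n)) fun e =>
      n1 (mem_cent.1 (c.sylT.le (e (mem_sup_right (mem_zpowers n)))))
    have := c.cardT
    have := c.two_lt
    omega

theorem case1 (N : n * t * n⁻¹ * (x * (n * t * n⁻¹) * x⁻¹) * (x⁻¹ * (n * t * n⁻¹) * x) = t) :
    False := by
  have := Fact.mk Nat.prime_two
  have cn := c.conj n
  have T2 := c.sylT.isPGroup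
  have t'Y := c.t'Y nT
  have vY := mul_mem c.tY t'Y
  have vz := c.zcl' nT nn n1
  have xt : x * t * x⁻¹ = t := mul_inv_eq_iff_eq_mul.2 c.xt.eq
  have nt' : n * (n * t * n⁻¹) * n⁻¹ = t := by
    calc _ = n * n * t * (n * n)⁻¹ := by group
      _ = _ := by rw [(mem_cent.1 (c.sylT.le nn)).eq, mul_inv_cancel_right]
  have nv : n * (t * (n * t * n⁻¹)) * n⁻¹ = t * (n * t * n⁻¹) := by
    rw [← conj_mul, nt', (c.kt t'Y.1).eq]
  have tv : t * (t * (n * t * n⁻¹)) = n * t * n⁻¹ := by rw [← mul_assoc, c.tt, one_mul]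
  obtain ⟨xw, hw⟩ := c.conj_w vY (c.st.mul_right (mem_cent.1 (c.T_le nT
      (mem_sup_right (mem_zpowers s))))) (by
    have b := c.kt (c.xK t'Y.1)
    calc _ = t * (n * t * n⁻¹) * (x * t * x⁻¹ * (x * (n * t * n⁻¹) * x⁻¹)) *
          (x⁻¹ * (t * x) * (x⁻¹ * (n * t * n⁻¹) * x)) := by group
      _ = t * (t * t) * (n * t * n⁻¹ * (x * (n * t * n⁻¹) * x⁻¹) * (x⁻¹ * (n * t * n⁻¹) * x)) := by
        rw [xt, ← c.xt.eq, inv_mul_cancel_left]
        generalize x * (n * t * n⁻¹) * x⁻¹ = b' at b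
        generalize x⁻¹ * (n * t * n⁻¹) * x = d
        have a := c.kt t'Y.1
        generalize n * t * n⁻¹ = a' at a
        simp only [mul_assoc, a.left_comm, b.left_comm]
      _ = 1 := by rw [N, c.tt, mul_one, c.tt])
  generalize t * (n * t * n⁻¹) = v at *
  have wY := c.nY x c.ti.mem v vY
  have wv := isConj_mk x v
  have tw : IsConj t (t * (x * v * x⁻¹)) := by
    have := (isConj_mk n t).trans (isConj_mk x _)
    rwa [← tv, ← conj_mul, xt] at this
  generalize x * v * x⁻¹ = w at *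
  have v1 : v ≠ 1 := fun e => (c.toCtx.shift (mem_zpowers t)).s_ne (by simpa [e, eq_comm] using vz)
  have vt : ¬ IsConj t v := fun e => c.main.1 (e.trans vz)
  have wT := conj_mem_of_mem_normalizer nT (mem_sup_left wY.1)
  have hK' : ∀ k ∈ MulAut.conj n • K, Commute (n * w * n⁻¹) k := fun k hk => by
    simpa [mul_assoc] using (wY.2.2 _ (mem_conj_smul_iff.1 hk)).conj n
  have hf := fun a (ha : a ∈ K) b (hb : b ∈ K) =>
    cn.half T2 (c.T_le nT) a (mem_sup_left ha) b (mem_sup_left hb)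
  by_cases h : n * w * n⁻¹ ∈ K
  · by_cases hK : K ≤ MulAut.conj n • K
    · exact c.star c.two c.tK c.ti.normal (fun a ha => by
        rw [eq_of_le_of_card_ge hK (card_conj_smul K n).le]; exact conj_mem_conj_smul ha n) nT nn n1
    obtain ⟨k, hk, hk'⟩ := SetLike.not_le_iff_exists.1 hK
    have h1 := c.fpfK.central_of_index_two h (F := MulAut.conj n • K) (fun u hu _ => by
      rw [commutatorElement_eq_one_iff_commute.2 (hK' u hu)]; exact one_mem _) hf k hk
    have h2 := hw _ (conj_mem_of_mem_normalizer (inv_mem nT) (mem_sup_left hk)) fun e =>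
      hk' (mem_conj_smul_iff.2 (by simpa using e))
    have h3 : ⁅n * w * n⁻¹, k⁆ = v := by
      calc _ = n * (w * (n⁻¹ * k * n⁻¹⁻¹ * w * (n⁻¹ * k * n⁻¹⁻¹)⁻¹)⁻¹) * n⁻¹ := by
            rw [commutatorElement_def]; group
        _ = v := by rw [h2, mul_inv_rev, mul_inv_cancel_left, inv_eq_of_mul_eq_one_right vY.2.1, nv]
    rw [h3] at h1
    exact ((mem_zpowers_invol c.tt).1 h1).elim v1 fun e => vt (e ▸ IsConj.refl _)
  have w2 : n * w * n⁻¹ * (n * w * n⁻¹) = 1 := by rw [conj_mul, wY.2.1]; simp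
  have h1 := c.sqrtK (El2.of_sq w2) (mem_cent.1 (c.sylT.le wT)) h
    (A := K ⊓ MulAut.conj n • K) inf_le_left fun a ha => (hK' a ha.2).symm
  have h2 := card_half hf
  have vw' : Commute v (n * w * n⁻¹) := nv ▸ (vY.2.2 w wY.1).conj n
  have h16 : C16 t w (n * w * n⁻¹) v :=
    ⟨⟨c.tt, wY.2.1, w2, vY.2.1, (c.kt wY.1).symm, (mem_cent.1 (c.sylT.le wT)).symm, vY.2.2 w wY.1,
      vw', by rw [mul_inv_eq_iff_eq_mul.1 (hw _ wT h), mul_assoc,
        ((vY.2.2 w wY.1).mul_right vw').eq], c.t1, v1, fun e => vt (e ▸ IsConj.refl _)⟩, vt,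
      fun e => vt (e.trans wv.symm), fun e => vt ((e.trans (isConj_mk n w).symm).trans wv.symm),
      tv ▸ isConj_mk n t, tw, by
        have := tw.trans (isConj_mk x _)
        rw [← conj_mul, xt, xw, ← mul_assoc, tv] at this
        replace := this.trans (isConj_mk n _)
        rwa [← conj_mul, nt'] at this⟩
  have hT : h16.T = K ⊔ zpowers s := eq_of_le_of_card_ge
    (h16.T_le (mem_sup_left c.tK) (mem_sup_left wY.1) wT) (by rw [h16.card_T, c.cardT]; nlinarith)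
  have e2 : El2 n := by
    obtain ⟨k, hk⟩ := El2.of_mem T2 nn
    exact ⟨k + 1, by rw [pow_succ', pow_mul, pow_two, hk]⟩
  obtain ⟨S, hS, PS⟩ := exists_isSylowIn_ge le_top
    (T2.to_sup_of_normal_left' e2.isPGroup (zpowers_le_of_mem nT))
  have := c.simple
  refine h16.d32 (comm_top_of_simple c.nab) hS (hT ▸ le_sup_left.trans PS)
    (fun g hg e => hT ▸ c.memT_of hS.isPGroup (le_sup_left.trans PS) hg e)
    (PS (mem_sup_right (mem_zpowers n))) (fun e => n1 (h16.comm_t e).symm)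
    (fun a ha => hT ▸ conj_mem_of_mem_normalizer nT (hT ▸ ha)) fun e => h ?_
  have a := c.tK
  have b := vY.1
  have d := wY.1
  rcases h16.mem_E_iff.1 e with e | e | e | e | e | e | e | e <;> rw [e] <;>
    apply_rules [mul_mem, one_mem]

theorem crit (N : n * t * n⁻¹ * (x * (n * t * n⁻¹) * x⁻¹) * (x⁻¹ * (n * t * n⁻¹) * x) = 1) {g : G}
    (g1 : ∀ y ∈ omz K, g * y * g⁻¹ ∈ K ⊔ zpowers s)
    (g2 : ∀ y ∈ omz K, g⁻¹ * y * g ∈ centralizer {t}) {y : G} (hy : y ∈ omz K) :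
    g * y * g⁻¹ ∈ K := by
  by_contra aK
  have cn := c.conj n
  have c' := c.conj g
  have T2 := c.sylT.isPGroup
  have vY := c.t'Y nT
  have vz := c.zcl' nT nn n1
  have Tv := c.T_le nT
  have sv := mem_cent.1 (Tv (mem_sup_right (mem_zpowers s)))
  have vt : n * t * n⁻¹ ≠ t := fun e => n1 (mul_inv_eq_iff_eq_mul.1 e)
  have v1 := cn.t1
  obtain ⟨-, hw⟩ := c.conj_w vY sv N
  have wY := c.nY x c.ti.mem _ vY
  generalize x * (n * t * n⁻¹) * x⁻¹ = w at *
  generalize n * t * n⁻¹ = v at *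
  have aT := g1 y hy
  have aa : g * y * g⁻¹ * (g * y * g⁻¹) = 1 := by rw [conj_mul, hy.2.1]; simp
  have hK : ∀ y ∈ omz K, ∀ k ∈ MulAut.conj g • K, Commute (g * y * g⁻¹) k := fun y hy k hk => by
    simpa [mul_assoc] using (hy.2.2 _ (mem_conj_smul_iff.1 hk)).conj g
  have Yt : omz K ≤ centralizer {g * t * g⁻¹} := fun y hy =>
    cent_conj g t ▸ mem_conj_smul_iff.2 (g2 y hy)
  have tl := zpowers_le_of_mem c.tY
  have one : ∀ {a b : G} (D : Subgroup G), Commute a b → ⁅a, b⁆ ∈ D := fun D h => by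
    rw [commutatorElement_eq_one_iff_commute.2 h]; exact one_mem _
  have Y8 : Nat.card (omz K) ≤ 8 := by
    have h1 := c.sqrt (El2.of_sq aa) (mem_cent.1 (c.sylT.le aT)) aK omz_le (mem_zpowers t) tl c.nY
      c.nt (A := omz K ⊓ MulAut.conj g • K) inf_le_left fun a ha => one _ (hK y hy a ha.2).symm
    have h2 := card_half (c'.half omz_two Yt)
    rw [c.card_t] at h1
    nlinarith
  have vt' : v ∉ zpowers t := fun e => ((mem_zpowers_invol c.tt).1 e).elim v1 vt
  have Y8' := c.four_le omz_two (c.nY x c.ti.mem) (c.nt x c.ti.mem) (mem_zpowers t) tl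
    fun e => vt' (e vY)
  have Y4 : Nat.card (omz K ⊓ centralizer {s} : Subgroup G) = 4 := by
    have h1 := c.sqrt (El2.of_sq c.ss) c.st (c.ti.notMem_of_inverts c.t3 c.sx) omz_le
      (mem_zpowers t) tl c.nY c.nt (A := omz K ⊓ centralizer {s}) inf_le_left
      fun a ha => one _ (mem_cent.1 ha.2)
    have h2 := two_mul_card_le (le_inf tl (zpowers_le_of_mem (mem_cent.2 c.st.symm)))
      fun e => vt' (e ⟨vY, mem_cent.2 sv.symm⟩)
    rw [c.card_t] at h1 h2
    nlinarith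
  rw [c.card_t] at Y8'
  have aw := hw _ aT aK
  have naw : ¬ Commute (g * y * g⁻¹) w := fun e => v1 (by
    rwa [e.eq, mul_inv_cancel_right, eq_comm, mul_eq_right] at aw)
  have wK : w ∉ MulAut.conj g • K := fun e => naw (hK y hy w e)
  have cw : ∀ τ ∈ K ⊔ zpowers s, ⁅τ, w⁆ = 1 ∨ ⁅τ, w⁆ = v := fun τ hτ => by
    by_cases h : τ ∈ K
    · exact .inl (commutatorElement_eq_one_iff_commute.2 (wY.2.2 τ h).symm)
    · exact .inr (by rw [commutatorElement_def, hw τ hτ h, mul_inv_cancel_right])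
  have av : w * (g * y * g⁻¹) * w⁻¹ = g * y * g⁻¹ * v := by
    have := mul_inv_eq_iff_eq_mul.1 aw
    rw [(mem_cent.1 (Tv aT)).eq, mul_inv_eq_iff_eq_mul, mul_assoc v, this, ← mul_assoc v,
      ← mul_assoc v, vY.2.1, one_mul]
  have Kv : ∀ k ∈ MulAut.conj g • K, Commute v k := fun k hk => by
    have h1 := hK _ (c.nY _ (g2 w wY) y hy) k hk
    rw [show g * (g⁻¹ * w * g * y * (g⁻¹ * w * g)⁻¹) * g⁻¹ = w * (g * y * g⁻¹) * w⁻¹ by group,
      av] at h1
    simpa [mul_assoc] using (hK y hy k hk).inv_left.mul_left h1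
  have wn := c'.ti.normal w (Yt wY)
  have cT := card_sup_invol wY.2.1 wn wK
  have mT := fun k => mem_sup_invol (g := k) wY.2.1 wn
  have T2' := isPGroup_sup_invol wY.2.1 wn c'.two
  have Tv' : MulAut.conj g • K ⊔ zpowers w ≤ centralizer {v} :=
    sup_le (fun k hk => mem_cent.2 (Kv k hk).symm) (zpowers_le_of_mem (mem_cent.2 (wY.2.2 v vY.1)))
  have Tt : MulAut.conj g • K ⊔ zpowers w ≤ centralizer {g * t * g⁻¹} :=
    sup_le c'.ti.le (zpowers_le_of_mem (Yt wY))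
  have aT' : g * y * g⁻¹ ∈ MulAut.conj g • K ⊔ zpowers w :=
    mem_sup_left (conj_mem_conj_smul hy.1 g)
  have wT' : w ∈ MulAut.conj g • K ⊔ zpowers w := mem_sup_right (mem_zpowers w)
  rw [card_conj_smul] at cT
  have KT : MulAut.conj n • K ≤ MulAut.conj g • K ⊔ zpowers w := by
    have := card_half (cn.half T2' Tv')
    exact (eq_of_le_of_card_ge inf_le_right (by rw [card_conj_smul]; omega)).ge.trans inf_le_left
  have key : ∀ e ∈ K ⊔ zpowers s, e ∈ MulAut.conj g • K ⊔ zpowers w → e ∈ MulAut.conj n • K := by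
    intro e e1 e2
    by_contra e3
    have h1 : ∀ k ∈ K ⊔ zpowers s, Commute k (g * t * g⁻¹) := fun k hk => by
      by_cases h : k ∈ MulAut.conj n • K
      · exact mem_cent.1 (Tt (KT h))
      · exact mem_cent.1 (Tt ((mul_mem_cancel_right e2).1 (KT (cn.half T2 Tv k hk e e1 h e3))))
    have h2 := c.memK_of_cent c.two_lt (El2.of_sq c'.tt) fun a ha => h1 a (mem_sup_left ha)
    rcases mem_four Y4 (g := g * t * g⁻¹) ⟨c.tY, mem_cent.2 c.st.symm⟩ ⟨vY, mem_cent.2 sv.symm⟩ c.tt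
      c.t1 v1 vt.symm ⟨⟨h2, c'.tt, fun q hq => (h1 q (mem_sup_left hq)).symm⟩,
        mem_cent.2 (h1 s (mem_sup_right (mem_zpowers s))).symm⟩ with h | h | h | h
    · exact c'.t1 h
    · exact aK (c.ti.normal g (mem_cent.2 (mul_inv_eq_iff_eq_mul.1 h)) y hy.1)
    · have h3 := c.sqrt (τ := g⁻¹ * w * g) (by simpa using (El2.of_sq wY.2.1).conj g⁻¹)
        (mem_cent.1 (g2 w wY)) (fun e => wK (mem_conj_smul_iff.2 e)) omz_le (mem_zpowers t) tl c.nY
        c.nt le_rfl fun a ha => by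
          rw [show ⁅a, g⁻¹ * w * g⁆ = g⁻¹ * ⁅g * a * g⁻¹, w⁆ * g by
            simp only [commutatorElement_def]; group]
          rcases cw _ (g1 a ha) with e | e <;> rw [e] <;> simp [← h, mul_assoc]
      rw [c.card_t] at h3
      nlinarith
    · exact c.nc (isConj_mk g t).symm (h ▸ vz)
  have K32 : Nat.card K ≤ 32 := by
    have h1 := c.sqrt (El2.of_sq aa) (mem_cent.1 (c.sylT.le aT)) aK le_rfl c.tY omz_le c.ti.normal
      c.nY (A := K ⊓ MulAut.conj n • K) inf_le_left fun k hk => by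
        rcases (mT k).1 (KT hk.2) with h | h
        · exact one _ (hK y hy k h).symm
        · rw [show ⁅k, g * y * g⁻¹⁆ =
            k * w * (w⁻¹ * (g * y * g⁻¹) * w⁻¹⁻¹) * (k * w)⁻¹ * (g * y * g⁻¹)⁻¹ by
              rw [commutatorElement_def]; group, inv_eq_of_mul_eq_one_right wY.2.1, av,
            ← ((hK y hy _ h).mul_left (Kv _ h)).eq, mul_inv_cancel_right,
            (mem_cent.1 (Tv aT)).eq, mul_inv_cancel_right]
          exact vY
    have h2 := card_half fun a (ha : a ∈ K) b (hb : b ∈ K) =>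
      cn.half T2 Tv a (mem_sup_left ha) b (mem_sup_left hb)
    nlinarith
  have a0 := mem_conj_smul_iff.1 (key _ aT aT')
  have w0 := mem_conj_smul_iff.1 (key _ (mem_sup_left wY.1) wT')
  have nc : ¬ Commute (n⁻¹ * (g * y * g⁻¹) * n) (n⁻¹ * w * n) := fun e =>
    naw (by simpa [mul_assoc] using e.conj n)
  have a2 : n⁻¹ * (g * y * g⁻¹) * n * (n⁻¹ * (g * y * g⁻¹) * n) = 1 := by
    calc _ = n⁻¹ * (g * y * g⁻¹ * (g * y * g⁻¹)) * n := by group
      _ = 1 := by rw [aa]; group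
  generalize n⁻¹ * (g * y * g⁻¹) * n = a at *
  have tr := c.fpfK.trick (fun d => (mem_zpowers_invol c.tt).1) (fun b hb => (c.kt hb).symm) c.tt
    a0 a2
  have x3 : x * (x * a * x⁻¹) * x⁻¹ = x⁻¹ * a * x := by
    calc _ = x * x * a * (x * x)⁻¹ := by group
      _ = _ := by rw [c.t3.mul_self, inv_inv]
  have h4 := c.four_le (A := omz K) (B := K ⊓ (centralizer {a} ⊓ (centralizer {x * a * x⁻¹} ⊓
      centralizer {x⁻¹ * a * x}))) c.two.to_inf_left (fun b hb => ⟨c.xK hb.1,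
        mem_cent.2 (by simpa [mul_assoc] using (mem_cent.1 hb.2.2.2).conj x),
        mem_cent.2 ((mem_cent.1 hb.2.1).conj x), mem_cent.2 (x3 ▸ (mem_cent.1 hb.2.2.1).conj x)⟩)
    (c.nY x c.ti.mem) c.tY (fun b hb => ⟨hb.1, mem_cent.2 (hb.2.2 _ a0),
      mem_cent.2 (hb.2.2 _ (c.xK a0)), mem_cent.2 (hb.2.2 _ (c.fpfK.conj' a0))⟩)
    fun e => nc ((e ⟨a0, mem_cent.2 rfl, mem_cent.2 tr, mem_cent.2 (T3.commute_conj tr.symm)⟩).2.2
      _ w0)
  exact nc (mem_cent.1 (((eq_of_le_of_card_ge inf_le_left (K32.trans (le_trans (by omega) h4))).ge.trans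
    (inf_le_right.trans inf_le_left)) w0)).symm

theorem case2 (N : n * t * n⁻¹ * (x * (n * t * n⁻¹) * x⁻¹) * (x⁻¹ * (n * t * n⁻¹) * x) = 1) :
    False := by
  have h := CP1 (Y := omz K) (n := n) c.ti.le c.ti.normal
    (fun k hk => c.sylT.le (conj_mem_of_mem_normalizer nT (mem_sup_left hk)))
    (fun k hk => c.sylT.le (by
      simpa using conj_mem_of_mem_normalizer (inv_mem nT) (mem_sup_left hk))) omz_le
    fun g _ g1 g2 y hy => by
      obtain ⟨l, hl, e⟩ := exists_conj_le c.sylT (R := MulAut.conj g • omz K) (omz_two.map _)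
        fun a ha => by obtain ⟨b, hb, rfl⟩ := exists_of_mem_conj_smul ha; exact g1 b hb
      have := c.crit nT nn n1 N (g := l * g) (fun y hy => by
        simpa [mul_assoc] using e (conj_mem_conj_smul (conj_mem_conj_smul hy g) l))
        (fun y hy => by simpa [mul_assoc] using g2 _ (c.nY _ (inv_mem hl) y hy)) hy
      simpa [mul_assoc] using c.ti.normal' hl this
  let O : Subgroup G := ⨅ g ∈ centralizer {t} ⊔ zpowers n, K.comap (MulAut.conj g).toMonoidHom
  have hO : ∀ a, a ∈ O ↔ ∀ g ∈ centralizer {t} ⊔ zpowers n, g * a * g⁻¹ ∈ K := fun a => by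
    simp [O, mem_iInf]
  have nO : ∀ l ∈ centralizer {t} ⊔ zpowers n, ∀ a ∈ O, l * a * l⁻¹ ∈ O := fun l hl a ha =>
    (hO _).2 fun g hg => by simpa [mul_assoc] using (hO a).1 ha _ (mul_mem hg hl)
  exact c.star (c.two.to_le fun a ha => by simpa using (hO a).1 ha 1 (one_mem _))
    ((hO t).2 fun g hg => h g hg t c.tY) (fun l hl => nO l (mem_sup_left hl))
    (nO n (mem_sup_right (mem_zpowers n))) nT nn n1

end CB

theorem CB.false (c : CB x s t K) : False := by
  have := Fact.mk Nat.prime_two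
  obtain ⟨S, hS, hT⟩ := exists_isSylowIn_ge le_top c.sylT.isPGroup
  obtain ⟨m, m1, m2, m3⟩ := exists_mem_normalizer hS.isPGroup hT
    fun e => c.ns (le_antisymm e hT ▸ hS)
  obtain ⟨n, hn, n1, nn⟩ := exists_sq_mem (El2.of_mem hS.isPGroup m1) m2
  have nT := zpowers_le_of_mem m3 hn
  have n2 : ¬ Commute n t := fun e => n1 (c.memT_of hS.isPGroup hT (zpowers_le_of_mem m1 hn) e)
  exact ((mem_zpowers_invol c.tt).1 (c.fpfK.norm (c.t'Y nT).1)).elim (c.case2 nT nn n2)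
    (c.case1 nT nn n2)

theorem C2.caseB (c : C2 x s t) {K : Subgroup G} (h : TI x (centralizer {t}) K)
    (h2 : IsPGroup 2 K) (hS : ¬ IsSylowIn 2 (K ⊔ zpowers s) ⊤) : Nat.card G < 6000 :=
  (CB.false ⟨c, h, h2, hS⟩).elim

end Cfsg.Agent.L0.C12
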