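import Cfsg.Agent.L0.C12Sq
import Cfsg.Agent.H1.C12DI

/-!
# The case `|V| = 2` with `T` not Sylow: basic facts
-/

set_option autoImplicit false

namespace Cfsg.Agent.L0.C12

open Subgroup Cfsg.Agent.L0.SC3 Cfsg.Agent.H9
open Cfsg.Agent.H1.T3 hiding mem_cent
open scoped commutatorElement Pointwise

universe u

/-- The configuration of case B. -/
structure CB {G : Type u} [Group G] (x s t : G) (K : Subgroup G) : Prop extends C2 x s t where
  ti : TI x (centralizer {t}) K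
  two : IsPGroup 2 K
  ns : ¬ IsSylowIn 2 (K ⊔ zpowers s) ⊤

theorem mem_zpowers_invol {G : Type*} [Group G] {t g : G} (tt : t * t = 1) :
    g ∈ zpowers t ↔ g = 1 ∨ g = t := by
  refine ⟨?_, by rintro (rfl | rfl) <;> simp⟩
  rintro ⟨k, rfl⟩
  have h : ∀ j : ℤ, t ^ (2 * j) = 1 := fun j => by rw [zpow_mul, zpow_two, tt, one_zpow]
  rcases Int.even_or_odd' k with ⟨j, rfl | rfl⟩
  · exact .inl (h j)
  · exact .inr (by simp only [zpow_add, h, zpow_one, one_mul])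

variable {G : Type u} [Group G] [Finite G] {x s t : G} {K : Subgroup G}

theorem two_pow_le_of_dvd {P Q : Subgroup G} (hP : IsPGroup 2 P) (hQ : IsPGroup 2 Q) {a o : ℕ}
    (ho : Odd o) (h : Nat.card P ∣ Nat.card Q * 2 ^ a * o) : Nat.card P ≤ 2 ^ a * Nat.card Q := by
  obtain ⟨i, hi⟩ := hP.exists_card_eq
  obtain ⟨j, hj⟩ := hQ.exists_card_eq
  rw [hi, hj] at h ⊢
  rw [mul_comm]
  exact Nat.le_of_dvd (by positivity)
    ((Nat.Coprime.pow_left i (Nat.coprime_two_left.mpr ho)).dvd_of_dvd_mul_right h)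

namespace CB

variable (c : CB x s t K)
include c

omit [Finite G] in
theorem tt : t * t = 1 := ((c.memV t).1 (mem_zpowers t)).2

omit [Finite G] in
theorem xt : Commute x t := ((c.memV t).1 (mem_zpowers t)).1

omit [Finite G] in
theorem st : Commute s t := c.sV t (mem_zpowers t)

omit [Finite G] in
theorem sH : s ∈ centralizer ({t} : Set G) := mem_cent.2 c.st

omit [Finite G] in
theorem tK : t ∈ K := c.ti.cen t (mem_cent.2 rfl) c.xt c.tt

omit [Finite G] in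
theorem kt {k : G} (hk : k ∈ K) : Commute k t := mem_cent.1 (c.ti.le hk)

omit [Finite G] in
theorem sK {k : G} (hk : k ∈ K) : s * k * s⁻¹ ∈ K := c.ti.normal s c.sH k hk

omit [Finite G] in
theorem xK {k : G} (hk : k ∈ K) : x * k * x⁻¹ ∈ K := c.ti.normal x c.ti.mem k hk

omit [Finite G] in
theorem memT {g : G} : g ∈ K ⊔ zpowers s ↔ g ∈ K ∨ g * s ∈ K :=
  mem_sup_invol c.ss fun _ => c.sK

omit [Finite G] in
theorem conj (g : G) : CB (g * x * g⁻¹) (g * s * g⁻¹) (g * t * g⁻¹) (MulAut.conj g • K) where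
  toC2 := c.toC2.conj g
  ti := cent_conj g t ▸ c.ti.conj g
  two := c.two.map _
  ns := fun h => c.ns (by
    have := h.conj_top g⁻¹
    rwa [show zpowers (g * s * g⁻¹) = MulAut.conj g • zpowers s from
      (MonoidHom.map_zpowers (MulAut.conj g).toMonoidHom s).symm, ← Subgroup.smul_sup, map_inv, inv_smul_smul] at this)

theorem fix {B : Subgroup G} (hB : IsPGroup 2 B) {b : G} (hb : b ∈ B) (h : Commute x b) :
    b = 1 ∨ b = t :=
  (mem_zpowers_invol c.tt).1 (c.toCtx.mem_of_commute (cube_of_two hB) hb h)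

omit [Finite G] in
theorem card_t : Nat.card (zpowers t) = 2 := by
  rw [Nat.card_zpowers, orderOf_eq_prime (p := 2) (by rw [pow_two, c.tt]) c.t1]

theorem fpf {B D : Subgroup G} (hB : IsPGroup 2 B) (xB : ∀ b ∈ B, x * b * x⁻¹ ∈ B) (tD : t ∈ D)
    (DB : D ≤ B) (nD : ∀ b ∈ B, ∀ d ∈ D, b * d * b⁻¹ ∈ D) (xD : ∀ d ∈ D, x * d * x⁻¹ ∈ D) :
    Fpf x B D :=
  ⟨c.t3.cube, c.t3.ne, ⟨xB, cube_of_two hB⟩, DB, nD, xD, fun b hb h => by
    rcases c.fix hB hb h with rfl | rfl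
    exacts [one_mem _, tD]⟩

omit [Finite G] in
theorem nt : ∀ l ∈ centralizer ({t} : Set G), ∀ d ∈ zpowers t, l * d * l⁻¹ ∈ zpowers t :=
  fun l hl d hd => by
    rcases (mem_zpowers_invol c.tt).1 hd with rfl | rfl
    · simp
    · rw [(mem_cent.1 hl).eq]; simp

theorem fpfK : Fpf x K (zpowers t) :=
  c.fpf c.two (fun _ => c.xK) (mem_zpowers t) (zpowers_le_of_mem c.tK)
    (fun b hb => c.nt b (c.ti.le hb)) (c.nt x c.ti.mem)

theorem mod3 {B : Subgroup G} (hB : IsPGroup 2 B) (xB : ∀ b ∈ B, x * b * x⁻¹ ∈ B) (tB : t ∈ B) :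
    Nat.card B % 3 = 2 := by
  have := card_mod_three c.t3.cube xB
  rwa [c.toCtx.inf_eq (cube_of_two hB) (zpowers_le_of_mem tB), c.card_t] at this

/-- An invariant subgroup properly above an invariant subgroup has index at least four. -/
theorem four_le {A B : Subgroup G} (hB : IsPGroup 2 B) (xB : ∀ b ∈ B, x * b * x⁻¹ ∈ B)
    (xA : ∀ b ∈ A, x * b * x⁻¹ ∈ A) (tA : t ∈ A) (AB : A ≤ B) (h : ¬ B ≤ A) :
    4 * Nat.card A ≤ Nat.card B := by
  have h1 := c.mod3 hB xB (AB tA)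
  have h2 := c.mod3 (hB.to_le AB) xA tA
  have h3 := two_mul_card_le AB h
  obtain ⟨r, hr⟩ := card_dvd_of_le AB
  have h4 : ¬ 3 ∣ r := fun ⟨q, hq⟩ => by rw [hr, hq, mul_left_comm] at h1; omega
  rw [hr] at h1 h3 ⊢
  have : 0 < Nat.card A := Nat.card_pos
  obtain rfl | rfl | rfl | rfl | h5 : r = 0 ∨ r = 1 ∨ r = 2 ∨ r = 3 ∨ 4 ≤ r := by omega
  any_goals omega
  exact (mul_comm _ _).trans_le (Nat.mul_le_mul_left _ h5)

theorem cardH : Nat.card (centralizer ({t} : Set G)) = 6 * Nat.card K :=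
  c.ti.card c.t3 c.sH c.sx

theorem cardT : Nat.card (K ⊔ zpowers s : Subgroup G) = 2 * Nat.card K :=
  c.ti.card_S c.t3 c.sH c.sx c.ss

theorem sylT : IsSylowIn 2 (K ⊔ zpowers s) (centralizer {t}) :=
  c.ti.sylow c.t3 c.sH c.sx c.ss c.two

theorem memT_of {P : Subgroup G} (hP : IsPGroup 2 P) (h : K ⊔ zpowers s ≤ P) {g : G} (hg : g ∈ P)
    (gt : Commute g t) : g ∈ K ⊔ zpowers s :=
  c.sylT.eq_of_le (hP.to_inf_left (K := centralizer {t})) inf_le_right (le_inf h c.sylT.le) ▸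
    (⟨hg, mem_cent.2 gt⟩ : g ∈ P ⊓ centralizer {t})

theorem card_le_of_conj {u : G} (h : IsConj u t) {P : Subgroup G} (hP : IsPGroup 2 P)
    (hu : P ≤ centralizer {u}) : Nat.card P ≤ 2 * Nat.card K := by
  refine two_pow_le_of_dvd hP c.two (a := 1) (o := 3) (by decide) ?_
  have := card_dvd_of_le hu
  rw [card_cent_conj h, c.cardH] at this
  rwa [mul_assoc, mul_comm]

theorem zcl {u : G} (uu : u * u = 1) (u1 : u ≠ 1) {P : Subgroup G} (hP : IsPGroup 2 P)
    (hu : P ≤ centralizer {u}) (h : 2 * Nat.card K < Nat.card P) : IsConj u (s * t) :=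
  (c.cls u uu u1).resolve_left fun e => (c.card_le_of_conj e hP hu).not_gt h

theorem main : ¬ IsConj t (s * t) ∧ ∀ z, IsConj z (s * t) →
    IsSylowIn 2 (centralizer {z}) ⊤ ∧ Nat.card (centralizer ({z} : Set G)) ≤ 8 * Nat.card K := by
  have := Fact.mk Nat.prime_two
  obtain ⟨S, hS, hT⟩ := exists_isSylowIn_ge le_top c.sylT.isPGroup
  have h1 := two_mul_card_le hT fun e => c.ns (le_antisymm e hT ▸ hS)
  have h0 : 0 < Nat.card K := Nat.card_pos
  rw [c.cardT] at h1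
  obtain ⟨z, hz, z1, zz, hc⟩ := exists_invol_center hS.isPGroup (by
    rintro rfl; rw [card_bot] at h1; omega)
  have h2 : S ≤ centralizer {z} := fun q hq => mem_cent.2 (hc q hq).symm
  have h3 := c.zcl zz z1 hS.isPGroup h2 (by omega)
  have h4 : ¬ IsConj t (s * t) := fun e => by
    have := c.card_le_of_conj (h3.trans e.symm) hS.isPGroup h2
    omega
  have h5 := c.hi h4
  rw [c.cardH] at h5
  refine ⟨h4, fun w hw => ⟨?_, by rw [card_cent_conj hw]; omega⟩⟩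
  have h6 : centralizer {z} = S := by
    by_contra hn
    have h7 := card_mul_relIndex_of_le h2
    have h8 := (hS.of_le h2 le_top).not_dvd
    have h9 := two_mul_card_le h2 fun e => hn (le_antisymm e h2)
    rw [card_cent_conj h3] at h7 h9
    generalize S.relIndex _ = r at h7 h8
    obtain rfl | rfl | rfl | h : r = 0 ∨ r = 1 ∨ r = 2 ∨ 3 ≤ r := by omega
    any_goals omega
    have := Nat.mul_le_mul_left (Nat.card S) h
    omega
  obtain ⟨g, rfl⟩ := isConj_iff.1 (h3.trans hw.symm)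
  rw [cent_conj, h6]
  exact hS.conj_top g

theorem nc {u : G} (h : IsConj u t) (h' : IsConj u (s * t)) : False := c.main.1 (h.symm.trans h')

theorem two_le {P : Subgroup G} (hP : IsPGroup 2 P) : Nat.card P ≤ 8 * Nat.card K := by
  obtain ⟨h1, h2⟩ := c.main.2 _ (IsConj.refl _)
  obtain ⟨l, -, h⟩ := exists_conj_le h1 hP le_top
  exact ((card_conj_smul P l).symm.trans_le (card_le_of_le h)).trans h2

theorem half {P : Subgroup G} (hP : IsPGroup 2 P) (h : P ≤ centralizer {t}) :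
    ∀ a ∈ P, ∀ b ∈ P, a ∉ K → b ∉ K → a * b ∈ K :=
  fun _ ha _ hb => c.ti.mul_mem_of_notMem c.t3 (cube_of_two hP) h ha hb

theorem sqrt {τ : G} (τ2 : El2 τ) (τH : Commute τ t) (τK : τ ∉ K) {B D A : Subgroup G}
    (BK : B ≤ K) (tD : t ∈ D) (DB : D ≤ B)
    (nB : ∀ l ∈ centralizer ({t} : Set G), ∀ b ∈ B, l * b * l⁻¹ ∈ B)
    (nD : ∀ l ∈ centralizer ({t} : Set G), ∀ b ∈ D, l * b * l⁻¹ ∈ D) (AB : A ≤ B)
    (hA : ∀ a ∈ A, ⁅a, τ⁆ ∈ D) : Nat.card A ^ 2 ≤ Nat.card D * Nat.card B := by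
  have B3 := cube_of_two (c.two.to_le BK)
  refine c.ti.sqrt c.t3.cube c.t3.ne B3 DB nB nD (fun y hy y3 y1 b hb h => ?_) (mem_cent.2 τH)
    (c.ti.outer_of_el2 c.t3 τ2 (mem_cent.2 τH) τK) AB hA
  obtain ⟨l, hl, e⟩ := c.t3.exists_conj c.ti.mem hy y1 y3
  have h1 : Commute x (l⁻¹ * b * l) := by
    rcases e with rfl | rfl
    · exact T3.commute_conj h
    · simpa using (T3.commute_conj h).inv_left
  have h2 : l⁻¹ * b * l ∈ D := by
    rcases c.fix (c.two.to_le BK) (by simpa using nB _ (inv_mem hl) b hb) h1 with e | e <;> rw [e]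
    exacts [one_mem _, tD]
  simpa [mul_assoc] using nD l hl _ h2

theorem sqrtK {τ : G} (τ2 : El2 τ) (τH : Commute τ t) (τK : τ ∉ K) {A : Subgroup G} (AK : A ≤ K)
    (hA : ∀ a ∈ A, Commute a τ) : Nat.card A ^ 2 ≤ 2 * Nat.card K :=
  c.card_t ▸ c.sqrt τ2 τH τK le_rfl (mem_zpowers t) (zpowers_le_of_mem c.tK) c.ti.normal c.nt AK
    fun a ha => by rw [commutatorElement_eq_one_iff_commute.2 (hA a ha)]; exact one_mem _

theorem memK_of_cent (h : 2 < Nat.card K) {τ : G} (τ2 : El2 τ) (hτ : ∀ a ∈ K, Commute a τ) :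
    τ ∈ K := by
  by_contra hn
  have := c.sqrtK τ2 (hτ t c.tK).symm hn le_rfl hτ
  nlinarith

end CB

end Cfsg.Agent.L0.C12
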