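import Cfsg.Agent.H4.C12V2B1
import Cfsg.Agent.L0.C12S1a

/-!
# The case `|V| = 2` with `T` not Sylow: the case `|K| = 2`
-/

set_option autoImplicit false

namespace Cfsg.Agent.L0.C12

open Subgroup Cfsg.Agent.L0.SC3 Cfsg.Agent.H9
open Cfsg.Agent.H1.T3 hiding mem_cent
open scoped commutatorElement Pointwise

universe u

variable {G : Type u} [Group G] [Finite G] {x s t : G} {K : Subgroup G}

theorem CB.two_lt (c : CB x s t K) : 2 < Nat.card K := by
  by_contra h2
  have hK : ∀ k ∈ K, k = 1 ∨ k = t := fun k hk => (mem_zpowers_invol c.tt).1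
    (eq_of_le_of_card_ge (zpowers_le_of_mem c.tK) (by rw [c.card_t]; omega) ▸ hk)
  have st := c.st.eq
  have si := inv_eq_of_mul_eq_one_right c.ss
  have ti := inv_eq_of_mul_eq_one_right c.tt
  have hT : ∀ g ∈ K ⊔ zpowers s, g = 1 ∨ g = t ∨ g = s ∨ g = s * t := fun g hg => by
    rcases c.memT.1 hg with h | h <;> rcases hK _ h with e | e
    · exact .inl e
    · exact .inr (.inl e)
    · exact .inr (.inr (.inl (si ▸ eq_inv_of_mul_eq_one_left e)))
    · exact .inr (.inr (.inr (by rw [st, ← e, mul_assoc, c.ss, mul_one])))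
  obtain ⟨hS, h8⟩ := c.main.2 _ (IsConj.refl _)
  have mS : ∀ g, g ∈ centralizer {s * t} ↔ Commute g (s * t) := fun g => mem_cent
  generalize centralizer {s * t} = S at hS h8 mS
  have tS := (mS t).2 (c.st.symm.mul_right rfl)
  have TS : K ⊔ zpowers s ≤ S := sup_le (fun k hk => by
    rcases hK k hk with rfl | rfl
    exacts [one_mem _, tS]) (zpowers_le_of_mem ((mS s).2 ((Commute.refl s).mul_right c.st)))
  have tT : t ∈ K ⊔ zpowers s := mem_sup_left c.tK
  have key : ∀ n ∈ S, n ∉ K ⊔ zpowers s → n ∈ normalizer ((K ⊔ zpowers s : Subgroup G) : Set G) →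
      n * t * n⁻¹ = s := fun n hn hT' hN => by
    rcases hT _ (conj_mem_of_mem_normalizer hN tT) with e | e | e | e
    · exact absurd (by simpa using e) c.t1
    · exact absurd (c.memT_of hS.isPGroup TS hn (mul_inv_eq_iff_eq_mul.1 e)) hT'
    · exact e
    · exact (c.main.1 (e ▸ isConj_mk n t)).elim
  have k2 : ∀ n ∈ S, n * t * n⁻¹ = s → n * s * n⁻¹ = t := fun n hn e => by
    have := ((mS n).1 hn).eq
    calc n * s * n⁻¹ = n * (s * t) * n⁻¹ * (n * t * n⁻¹)⁻¹ := by group
      _ = t := by rw [this, e, st]; group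
  have zz : s * t * (s * t) = 1 := (c.toCtx.shift (mem_zpowers t)).ss
  have z1 : s * t ≠ 1 := (c.toCtx.shift (mem_zpowers t)).s_ne
  have ts : t ≠ s := fun e => z1 (by rw [← e, c.tt])
  obtain ⟨n, hn, nT, hN⟩ := exists_mem_normalizer hS.isPGroup TS fun e =>
    c.ns (le_antisymm e TS ▸ hS)
  obtain ⟨d, hd, dT, dN, dd⟩ : ∃ d ∈ S, d ∉ K ⊔ zpowers s ∧
      d ∈ normalizer ((K ⊔ zpowers s : Subgroup G) : Set G) ∧ d * d = s * t := by
    have e1 := key n hn nT hN
    have e2 := k2 n hn e1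
    rcases hT _ (c.memT_of hS.isPGroup TS (mul_mem hn hn) (show n * n * t = t * (n * n) by
      rw [← mul_inv_eq_iff_eq_mul]
      refine Eq.trans ?_ e2
      rw [← e1]; group)) with e | e | e | e
    · refine ⟨n * t, mul_mem hn tS, fun h => nT ((mul_mem_cancel_right tT).1 h),
        mul_mem hN (le_normalizer tT), ?_⟩
      rw [← e1, inv_eq_of_mul_eq_one_right e]; group
    · exact absurd (by rw [← e1, ← e]; group) ts
    · exact absurd (by rw [← e2, ← e]; group) ts
    · exact ⟨n, hn, nT, hN, e⟩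
  have d1 := key d hd dT dN
  have i2 : Idx2 (S ⊓ normalizer ((K ⊔ zpowers s : Subgroup G) : Set G)) S :=
    ⟨inf_le_left, fun a ha b hb => mul_mem_iff_of_card inf_le_left (by
      have := two_mul_card_le (le_inf TS le_normalizer) fun e => dT (e ⟨hd, dN⟩)
      have := c.cardT
      have := card_le_of_le (zpowers_le_of_mem c.tK)
      rw [c.card_t] at this
      omega) ha hb⟩
  have h3 : ∀ g ∈ S, g * d * g⁻¹ = d ∨ g * d * g⁻¹ = d * (s * t) := fun g hg => by
    obtain ⟨a1, a2⟩ := (i2.conj hd hg).2 ⟨hd, dN⟩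
    have a3 : g * d * g⁻¹ * (g * d * g⁻¹) = s * t := by
      rw [← mul_inv_cancel_right (s * t) g, ← ((mS g).1 hg).eq, ← dd]; group
    generalize g * d * g⁻¹ = b at *
    have a4 := key b a1 (fun h => z1 (by
      rw [← a3]
      rcases hT b h with rfl | rfl | rfl | rfl
      exacts [one_mul 1, c.tt, c.ss, zz])) a2
    have a5 := c.memT_of hS.isPGroup TS (mul_mem (inv_mem hd) a1) (show d⁻¹ * b * t = t * _ by
      rw [mul_assoc, mul_inv_eq_iff_eq_mul.1 a4, ← d1]; group)
    obtain ⟨a, rfl⟩ : ∃ a, b = d * a := ⟨d⁻¹ * b, by group⟩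
    have a6 : d * a * (d * a) = d * a * d⁻¹ * (s * t) * a := by rw [← dd]; group
    rw [inv_mul_cancel_left] at a5
    rcases hT a a5 with e | e | e | e
    · exact .inl (by rw [e, mul_one])
    · rw [a3, e, d1, ← mul_assoc, c.ss, one_mul, c.tt] at a6
      exact absurd a6 z1
    · rw [a3, e, k2 d hd d1, st, ← mul_assoc, c.tt, one_mul, c.ss] at a6
      exact absurd (st.trans a6) z1
    · exact .inr (by rw [e])
  obtain ⟨g, ⟨-, hg⟩, -⟩ := extremal (M := S ⊓ centralizer {d}) (u := t) hS inf_le_left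
    (le_antisymm (card_half (half_cent h3)) (two_mul_card_le inf_le_left fun e => ts (by
      rw [← d1, ← (mem_cent.1 (e tS).2).eq]; group))) c.tt
    fun N h => c.toCtx.eq_top_of_idx2 h ▸ mem_top t
  have h4 := T3.commute_conj (mem_cent.1 hg)
  have h5 : g⁻¹ * d * g * (g⁻¹ * d * g) = g⁻¹ * (s * t) * g⁻¹⁻¹ := by rw [← dd]; group
  have h6 : g⁻¹ * d * g * (g⁻¹ * d * g) ∈ K := by
    by_cases h : g⁻¹ * d * g ∈ K
    · exact mul_mem h h
    · exact c.half (El2.isPGroup (by simpa using (El2.of_mem hS.isPGroup hd).conj g⁻¹))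
        (zpowers_le_of_mem (mem_cent.2 h4.symm)) _ (mem_zpowers _) _ (mem_zpowers _) h h
  rw [h5] at h6
  rcases hK _ h6 with e | e
  · exact z1 (conj_eq_one_iff.1 e)
  · exact c.main.1 (e ▸ isConj_mk g⁻¹ (s * t)).symm

end Cfsg.Agent.L0.C12
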