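import Cfsg.Agent.H4.C12V2B2
import Cfsg.Agent.H7.C12Z6

/-!
# The case `|V| = 2` with `T` not Sylow: no normal `2`-subgroup
-/

set_option autoImplicit false

namespace Cfsg.Agent.L0.C12

open Subgroup Cfsg.Agent.L0.SC3 Cfsg.Agent.H9
open Cfsg.Agent.H1.T3 hiding mem_cent
open scoped commutatorElement Pointwise

universe u

variable {G : Type u} [Group G] [Finite G] {x s t : G} {K : Subgroup G}

namespace CB

variable (c : CB x s t K)
include c

theorem dvd_cent {u : G} (uu : u * u = 1) (u1 : u ≠ 1) :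
    ¬ 7 ∣ Nat.card (centralizer ({u} : Set G)) := fun h => by
  obtain ⟨j, hj⟩ := c.two.exists_card_eq
  rcases c.cls u uu u1 with e | e
  · rw [card_cent_conj e, c.cardH, hj] at h
    exact absurd ((Nat.Coprime.pow_right j (by decide)).dvd_of_dvd_mul_right h) (by decide)
  · exact not_dvd_of_two (by decide) (by decide) (c.main.2 u e).1.isPGroup h

theorem notII {X U M P : Subgroup G} (h : TII x X U M) (tU : t ∈ U) (h1 : ¬ U ≤ zpowers t)
    (hP : IsPGroup 2 P) (PX : P ≤ X) (h4 : 4 * Nat.card K ≤ Nat.card P) : False := by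
  have U2 := c.toCtx.Lodd h
  have q := h.quo.resolve_right fun q => h1 (c.toCtx.L13 h q).1
  obtain ⟨θ, hθ, o7, e⟩ := h.theta c.t3 U2 q
  have xU := h.nK x (h.le' h.mem)
  have h8 := FC U2 (h.nK θ (h.le' hθ)) xU (o7 ▸ pow_orderOf_eq_one θ) c.t3.cube e fun a ha hc => by
    by_contra a1
    obtain ⟨z, hz, z1, zz, -⟩ := exists_invol_center (El2.of_mem U2 ha).isPGroup (by simpa using a1)
    obtain ⟨k, rfl⟩ := hz
    exact c.dvd_cent zz z1 (o7 ▸ Subgroup.orderOf_dvd_natCard _ (mem_cent.2 (hc.zpow_right k)))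
  rw [c.toCtx.inf_eq h.cube (zpowers_le_of_mem tU), c.card_t] at h8
  have hX : X = M := le_antisymm (fun g hg => by
    obtain ⟨m, hm, d, -, d1, d2, rfl⟩ := h.fra g hg
    exact mul_mem hm (h.le (zpowers_le_of_mem tU ((c.memV d).2 ⟨d1, d2⟩)))) h.le'
  have hc := q.card h.le
  rw [(sf7.card.resolve_right (by simp)).2, ← hX] at hc
  have h5 := card_le_orbit (fun g hg => h.nK g hg t tU)
  have h6 := two_pow_le_of_dvd hP U2 (a := 3) (o := 21) (by decide)
    (by rw [mul_assoc]; exact hc ▸ card_dvd_of_le PX)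
  rw [c.cardH, hc] at h5
  have := Nat.le_of_mul_le_mul_left h5 Nat.card_pos
  omega

theorem notI {X U : Subgroup G} (h : TI x X U) (U2 : IsPGroup 2 U)
    (HX : centralizer {t} ≤ X) {n : G} (nU : n ∈ U) (n1 : ¬ Commute n t)
    (n2 : Commute (n * n) t) (n3 : Commute s (n * t * n⁻¹)) : False := by
  have sX := HX c.sH
  have KU : K ≤ U := h.le_of_inv c.t3 c.ti.inv (c.ti.le.trans HX)
  have xU := h.normal x h.mem
  have UH : ∀ u ∈ U, Commute u t → u ∈ K := fun u hu e =>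
    c.ti.le_of_inv c.t3 (B := U ⊓ centralizer {t}) (h.inv.mono inf_le_left fun b hb =>
      ⟨xU b hb.1, Subgroup.mul_mem _ (mul_mem c.ti.mem hb.2) (inv_mem c.ti.mem)⟩) inf_le_right
      ⟨hu, mem_cent.2 e⟩
  have nK : n ∉ K := fun e => n1 (c.kt e)
  have S2 := isPGroup_sup_invol c.ss (h.normal s sX) U2
  have cS := h.card_S c.t3 sX c.sx c.ss
  have c8 := c.two_le S2
  have c4 := c.four_le U2 xU (fun _ => c.xK) c.tK KU fun e => nK (e nU)
  have all : ∀ B, K ≤ B → (∀ b ∈ B, x * b * x⁻¹ ∈ B) → ¬ U ⊓ B ≤ K → U ≤ B := fun B h1 h2 h3 => by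
    have := c.four_le (U2.to_inf_left (K := B)) (fun b hb => ⟨xU b hb.1, h2 b hb.2⟩)
      (fun _ => c.xK) c.tK (le_inf KU h1) h3
    exact (eq_of_le_of_card_ge (inf_le_left (a := U) (b := B)) (by omega)).ge.trans inf_le_right
  have xN := mem_normalizer_of_conj (g := x) fun _ => c.xK
  have nrm : ∀ u ∈ U, ∀ k ∈ K, u * k * u⁻¹ ∈ K := fun u hu k => conj_mem_of_mem_normalizer (by
    obtain ⟨m, h1, h2, h3⟩ := exists_mem_normalizer U2 KU fun e => nK (e nU)
    exact all _ le_normalizer (fun b hb => mul_mem (mul_mem xN hb) (inv_mem xN))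
      (fun e => h2 (e ⟨h1, h3⟩)) hu)
  have f := c.fpf U2 xU c.tK KU nrm fun _ => c.xK
  have Z : ∀ u ∈ U, u * t * u⁻¹ ∈ omz K := fun u hu =>
    omz_conj (mem_normalizer_of_conj (nrm u hu)) ⟨c.tK, c.tt, fun q hq => (c.kt hq).symm⟩
  have xt := c.xt.eq
  have x3 : x * x = x⁻¹ := c.t3.mul_self
  obtain ⟨a, ha⟩ : ∃ a, a = n * t * n⁻¹ := ⟨_, rfl⟩
  have na : n * a * n⁻¹ = t := by
    rw [← mul_inv_cancel_right t (n * n), ← n2.eq, ha]; group
  have aZ : a ∈ omz K := ha ▸ Z n nU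
  have tZ : t ∈ omz K := by simpa using Z 1 (one_mem _)
  have bZ := omz_conj xN aZ
  have dZ := omz_conj (inv_mem xN) aZ
  rw [inv_inv] at dZ
  have nb : n * (x * a * x⁻¹) * n⁻¹ = x⁻¹ * a * x := by
    have e := (dZ.2.2 _ (f.norm nU)).eq
    generalize hk : n * (x * n * x⁻¹) * (x⁻¹ * n * x) = k at e
    have e1 : x⁻¹ * a * x = (x⁻¹ * n * x)⁻¹ * t * (x⁻¹ * n * x) := by
      rw [← na]
      calc _ = x⁻¹ * n⁻¹ * (n * a * n⁻¹) * n * x := by group
        _ = x⁻¹ * n⁻¹ * (x * t * x⁻¹) * n * x := by rw [na, xt]; group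
        _ = _ := by rw [na]; group
    calc _ = n * (x * n * (x⁻¹ * (t * x) * x⁻¹) * x * n⁻¹ * x⁻¹) * n⁻¹ := by rw [ha, ← xt]; group
      _ = k * ((x⁻¹ * n * x)⁻¹ * t * (x⁻¹ * n * x)) * k⁻¹ := by rw [← hk]; group
      _ = _ := by rw [← e1, ← e]; group
  have nd : n * (x⁻¹ * a * x) * n⁻¹ = x * a * x⁻¹ := by
    rw [← nb]
    calc _ = n * n * (x * a * x⁻¹) * (n * n)⁻¹ := by group
      _ = _ := by rw [← (bZ.2.2 _ (UH _ (mul_mem nU nU) n2)).eq, mul_inv_cancel_right]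
  have xb : x * (x * a * x⁻¹) * x⁻¹ = x⁻¹ * a * x := by
    calc _ = x * x * a * (x * x)⁻¹ := by group
      _ = _ := by rw [x3, inv_inv]
  have xd : x * (x⁻¹ * a * x) * x⁻¹ = a := by group
  have sb : s * (x * a * x⁻¹) * s⁻¹ = x⁻¹ * a * x := by
    rw [← conj_mul, ← conj_mul, ← conj_inv, c.sx, inv_inv, ha, n3.eq, mul_inv_cancel_right]
  have xt' : x * t * x⁻¹ = t := mul_inv_eq_iff_eq_mul.2 xt
  obtain ⟨b, xa⟩ : ∃ b, x * a * x⁻¹ = b := ⟨_, rfl⟩
  generalize x⁻¹ * a * x = d at *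
  rw [xa] at bZ nb nd xb sb
  rw [← ha] at n3
  have ta := tZ.2.2 a aZ.1
  have tb := tZ.2.2 b bZ.1
  have td := tZ.2.2 d dZ.1
  have ab := aZ.2.2 b bZ.1
  have ad := aZ.2.2 d dZ.1
  have bd := bZ.2.2 d dZ.1
  have sq : ∀ a ∈ omz K, ∀ y, a * (a * y) = y := fun a ha y => by rw [← mul_assoc, ha.2.1, one_mul]
  have hp : t * a * (b * d) = 1 := by
    refine (c.fix c.two (mul_mem (mul_mem c.tK aZ.1) (mul_mem bZ.1 dZ.1)) ?_).resolve_right
      fun e => n1 ?_
    · rw [Commute, SemiconjBy, ← mul_inv_eq_iff_eq_mul, ← conj_mul, ← conj_mul, ← conj_mul, xt',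
        xa, xb, xd]
      simp only [mul_assoc, ab.left_comm, ad.eq]
    · rw [← e, Commute, SemiconjBy, ← mul_inv_eq_iff_eq_mul, ← conj_mul, ← conj_mul, ← conj_mul,
        ← ha, na, nb, nd, ta.eq, bd.eq]
  obtain rfl : d = t * (a * b) := by
    rw [← mul_one (t * (a * b)), ← hp]
    simp only [mul_assoc, tb.symm.left_comm, ta.symm.left_comm, ab.symm.left_comm, sq _ aZ, sq _ bZ,
      sq _ tZ]
  have vZ := mul_mem tZ aZ
  have wZ := mul_mem tZ bZ
  have xv : x * (t * a) * x⁻¹ = t * b := by rw [← conj_mul, xt', xa]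
  have xw : x * (t * b) * x⁻¹ = t * a * (t * b) := by
    rw [← conj_mul, xt', xb]
    simp only [mul_assoc, ta.left_comm]
  have nv : n * (t * a) * n⁻¹ = t * a := by rw [← conj_mul, ← ha, na, ta.eq]
  have nw : n * (t * b) * n⁻¹ = t * b := by
    rw [← conj_mul, ← ha, nb]
    simp only [mul_assoc, ta.symm.left_comm, sq _ aZ]
  have sw : s * (t * b) * s⁻¹ = t * a * (t * b) := by
    rw [← conj_mul, sb, c.st.eq, mul_inv_cancel_right]
    simp only [mul_assoc, ta.left_comm]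
  have sv : Commute s (t * a) := c.st.mul_right n3
  have v1 : t * a ≠ 1 := fun e => n1 (by
    rw [Commute, SemiconjBy, ← mul_inv_eq_iff_eq_mul, ← ha, ← sq t tZ a, e, mul_one])
  have hv : t * (t * a) = n⁻¹ * t * n⁻¹⁻¹ := by rw [sq t tZ, ← na]; group
  clear xb xd sb nb nd na ta tb td ab ad bd hp dZ xa n3
  generalize t * a = v at *
  generalize t * b = w at *
  have UC := all (centralizer {v} ⊓ centralizer {w}) (fun k hk => ⟨mem_cent.2 (vZ.2.2 k hk).symm,
    mem_cent.2 (wZ.2.2 k hk).symm⟩) (fun g hg => by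
      have h1 := (mem_cent.1 hg.1).conj x
      have h2 := (mem_cent.1 hg.2).conj x
      rw [xv] at h1
      rw [xw] at h2
      exact ⟨mem_cent.2 (by simpa using h2.mul_right h1.inv_right), mem_cent.2 h1⟩)
    fun e => nK (e ⟨nU, mem_cent.2 (mul_inv_eq_iff_eq_mul.1 nv),
      mem_cent.2 (mul_inv_eq_iff_eq_mul.1 nw)⟩)
  have SC : U ⊔ zpowers s ≤ centralizer {v} :=
    sup_le (fun u hu => (UC hu).1) (zpowers_le_of_mem (mem_cent.2 sv))
  have h0 : 0 < Nat.card K := Nat.card_pos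
  have vz := c.zcl vZ.2.1 v1 S2 SC (by omega)
  have CS := eq_of_le_of_card_ge SC (by have := (c.main.2 v vz).2; omega)
  have i2 := h.idx2 c.t3 sX c.sx c.ss
  obtain ⟨g, hg⟩ := isConj_iff.1 vz
  have c' := c.toCtx.shift (mem_zpowers t)
  have zT : ∀ k, k ∈ K ∨ k * (s * t) ∈ K → k ∈ U ⊔ zpowers s := fun k hk =>
    sup_le_sup_right KU _ (c.memT.2 (hk.imp id fun e => by
      simpa [mul_assoc, c.tt] using mul_mem e c.tK))
  have zS := zT _ (.inr (c'.ss ▸ one_mem _))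
  have zU := h.notMem_of_inverts c.t3 c'.sx
  have z2 := (c.main.2 _ (IsConj.refl _)).1.isPGroup
  have zc : ∀ k, Commute k (s * t) → g⁻¹ * k * g ∈ U ⊔ zpowers s := fun k hk =>
    CS ▸ mem_cent.2 (T3.commute_conj (hg ▸ hk.symm)).symm
  have az : Commute (g * w * g⁻¹) (s * t) := hg ▸ (wZ.2.2 v vZ.1).conj g
  have aU : ∀ k, g⁻¹ * k * g ∈ U → Commute (g * w * g⁻¹) k := fun k hk => by
    simpa [mul_assoc] using (mem_cent.1 (UC hk).2).symm.conj g
  have key : ∀ u ∈ U, Commute (u⁻¹ * t * u⁻¹⁻¹) (s * t) → g⁻¹ * (u⁻¹ * t * u⁻¹⁻¹) * g ∈ U →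
      g * w * g⁻¹ ∈ U ⊔ zpowers s := fun u hu h1 h2 => by
    have h3 := aU _ h2
    have h4 : ∀ k, u * k * u⁻¹ ∈ K → k ∈ K := fun k hk => by
      simpa [mul_assoc] using nrm _ (inv_mem hu) _ hk
    have h5 : ∀ k, Commute k (u⁻¹ * t * u⁻¹⁻¹) → u * k * u⁻¹ ∈ centralizer {t} := fun k hk =>
      mem_cent.2 (by simpa [mul_assoc] using hk.conj u)
    refine zT _ (or_iff_not_imp_left.2 fun e => h4 _ ?_)
    rw [← conj_mul]
    exact c.half (P := centralizer {t} ⊓ MulAut.conj u • centralizer {s * t})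
      (z2.map _).to_inf_right inf_le_left _ ⟨h5 _ h3, conj_mem_conj_smul (mem_cent.2 az) u⟩ _
      ⟨h5 _ h1.symm, conj_mem_conj_smul (mem_cent.2 rfl) u⟩ (fun e' => e (h4 _ e'))
      fun e' => zU (KU (h4 _ e'))
  have tz : Commute t (s * t) := c.st.symm.mul_right rfl
  have vz' : Commute v (s * t) := sv.symm.mul_right (vZ.2.2 t c.tK)
  have aS : g * w * g⁻¹ ∈ U ⊔ zpowers s := by
    by_cases h1 : g⁻¹ * v * g ∈ U
    · exact CS ▸ mem_cent.2 (aU v h1)
    by_cases h2 : g⁻¹ * t * g ∈ U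
    · exact key 1 (one_mem _) (by simpa using tz) (by simpa using h2)
    · refine key n nU (hv ▸ tz.mul_left vz') ?_
      rw [← hv]
      simpa [mul_assoc] using (i2.mul _ (zc t tz) _ (zc v vz')).2 (iff_of_false h2 h1)
  have SX : centralizer {v} ≤ X := CS ▸ sup_le h.le (zpowers_le_of_mem sX)
  have cX : ∀ y ∈ X, ∀ k, Commute (y * v * y⁻¹) k → k ∈ X := fun y hy k hk => by
    simpa [mul_assoc] using mul_mem (mul_mem hy (SX (mem_cent.2 (T3.commute_conj hk).symm)))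
      (inv_mem hy)
  have yX : g⁻¹ * w * g ∈ X := by
    by_cases h1 : g * w * g⁻¹ ∈ U
    · exact cX x h.mem _ (by rw [xv]; exact T3.commute_conj (mem_cent.1 (UC h1).2))
    · have := (i2.mul _ zS _ aS).2 (iff_of_false zU h1)
      rw [← hg, conj_mul, ← xw] at this
      refine cX (x * x) (mul_mem h.mem h.mem) _ ?_
      rw [show x * x * v * (x * x)⁻¹ = x * (x * v * x⁻¹) * x⁻¹ by group, xv]
      exact T3.commute_conj (mem_cent.1 (UC this).2)
  have vw : v = w * (s * t) * w⁻¹ * (s * t)⁻¹ := by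
    calc v = w * (v * w)⁻¹ := by
          rw [mul_inv_rev, mul_inv_cancel_left, inv_eq_of_mul_eq_one_right vZ.2.1]
      _ = w * (s * (t * w⁻¹ * t⁻¹) * s⁻¹) := by
          rw [← sw, ← (wZ.2.2 t c.tK).inv_left.eq]; group
      _ = _ := by group
  have U'S : MulAut.conj g • U ≤ U ⊔ zpowers s := fun k hk => by
    rw [mem_conj_smul_iff] at hk
    have h1 : Commute k (s * t) := by
      simpa [mul_assoc, ← hg] using (mem_cent.1 (UC hk).1).conj g
    have h2 := (mem_cent.1 (UC (h.normal' yX hk)).1).conj (w * g)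
    rw [CS, mem_cent, vw]
    exact Commute.mul_right (by simpa [mul_assoc, ← hg] using h2) h1.inv_right
  have h5 := card_half (A := MulAut.conj g • U) (D := U) fun a ha b hb h1 h2 =>
    (i2.mul _ (U'S ha) _ (U'S hb)).2 (iff_of_false h1 h2)
  have h6 := c.toCtx.sqrtV' (A := MulAut.conj g • U ⊓ U) c'.sx h.inv inf_le_right fun k hk => by
    simpa [mul_assoc, ← hg] using (mem_cent.1 (UC (mem_conj_smul_iff.1 hk.1)).1).symm.conj g
  rw [card_conj_smul] at h5
  rw [c.card_t] at h6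
  have := c.two_lt
  nlinarith

theorem star {O : Subgroup G} (hO : IsPGroup 2 O) (tO : t ∈ O)
    (nH : ∀ l ∈ centralizer ({t} : Set G), ∀ a ∈ O, l * a * l⁻¹ ∈ O) {n : G}
    (nO : ∀ a ∈ O, n * a * n⁻¹ ∈ O) (nT : n ∈ normalizer ((K ⊔ zpowers s : Subgroup G) : Set G))
    (nn : n * n ∈ K ⊔ zpowers s) (n1 : ¬ Commute n t) : False := by
  have HX : centralizer {t} ≤ normalizer (O : Set G) := fun l hl => mem_normalizer_of_conj (nH l hl)
  have nX := mem_normalizer_of_conj nO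
  have O1 : O ≠ ⊥ := fun e => c.t1 (by simpa [e] using tO)
  have T2 := c.sylT.isPGroup
  have e2 : El2 n := by
    obtain ⟨k, hk⟩ := El2.of_mem T2 nn
    exact ⟨k + 1, by rw [pow_succ', pow_mul, pow_two, hk]⟩
  have P2 : IsPGroup 2 (K ⊔ zpowers s ⊔ zpowers n : Subgroup G) :=
    T2.to_sup_of_normal_left' e2.isPGroup (zpowers_le_of_mem nT)
  have PX := sup_le (c.sylT.le.trans HX) (zpowers_le_of_mem nX)
  have xO : x ∉ O := fun e => c.t3.ne (cube_of_two hO x e c.t3.cube)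
  have nO' : ∀ l ∈ normalizer (O : Set G), ∀ a ∈ O, l * a * l⁻¹ ∈ O :=
    fun l hl a => conj_mem_of_mem_normalizer hl
  rcases c.toCtx.str_sub (c.toCtx.normalizer_ne_top' O1 (cube_of_two hO)) (HX c.ti.mem) with
    ⟨U, h⟩ | ⟨U, M, h⟩
  · have OU := h.le_of_normal c.t3 le_normalizer nO' xO
    obtain ⟨Q, QU, nQ, oQ, j, hj⟩ := c.toC2.z6 h (HX c.sH)
    have cop : (Nat.card Q).Coprime (Nat.card O) := by
      obtain ⟨i, hi⟩ := hO.exists_card_eq
      exact hi ▸ Nat.Coprime.pow_right i (Nat.coprime_two_right.2 oQ)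
    have QK : Q ≤ K := c.ti.le_of_inv c.t3 (h.inv.mono QU (nQ x h.mem)) fun q hq => by
      have : q * t * q⁻¹ * t⁻¹ ∈ Q ⊓ O := ⟨by
        simpa [mul_assoc] using mul_mem hq (nQ t (le_normalizer tO) _ (inv_mem hq)),
        O.mul_mem (nO' q (h.le (QU hq)) t tO) (inv_mem tO)⟩
      rw [(disjoint_of_coprime_natCard cop).eq_bot, mem_bot, mul_inv_eq_one, mul_inv_eq_iff_eq_mul] at this
      exact mem_cent.2 this
    have U2 : IsPGroup 2 U := by
      obtain ⟨i, hi⟩ := (c.two.to_le QK).exists_card_eq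
      exact IsPGroup.of_card (n := i + j) (by rw [hj, hi, pow_add])
    have sT : s ∈ K ⊔ zpowers s := mem_sup_right (mem_zpowers s)
    have n3 : Commute s (n * t * n⁻¹) := by
      simpa [mul_assoc] using (mem_cent.1 (c.sylT.le
        (conj_mem_of_mem_normalizer (inv_mem nT) sT))).conj n
    have n2 := mem_cent.1 (c.sylT.le nn)
    by_cases nU : n ∈ U
    · exact c.notI h U2 HX nU n1 n2 n3
    · have e : n * s * t * (n * s)⁻¹ = n * t * n⁻¹ := by rw [mul_assoc n, c.st.eq]; group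
      refine c.notI h U2 HX (h.mul_mem_of_notMem c.t3 (cube_of_two P2) PX
        (mem_sup_right (mem_zpowers n)) (mem_sup_left sT) nU (h.notMem_of_inverts c.t3 c.sx))
        (fun e' => n1 (by simpa using e'.mul_left c.st.inv_left)) ?_ (e ▸ n3)
      have := mul_mem (mul_mem (conj_mem_of_mem_normalizer nT sT) nn) sT
      exact mem_cent.1 (c.sylT.le (by simpa [mul_assoc] using this))
  · have OU := h.max O le_normalizer nO' xO
    refine c.notII h (OU tO) (fun e => ?_) P2 PX ?_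
    · rcases (mem_zpowers_invol c.tt).1 (e (OU (nO t tO))) with e | e
      · exact c.t1 (conj_eq_one_iff.1 e)
      · exact n1 (mul_inv_eq_iff_eq_mul.1 e)
    · have := two_mul_card_le (le_sup_left (b := zpowers n)) fun e =>
        n1 (mem_cent.1 (c.sylT.le (e (mem_sup_right (mem_zpowers n)))))
      have := c.cardT
      omega

end CB

end Cfsg.Agent.L0.C12
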