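import Cfsg.Agent.H4.EdD

/-!
# Some irreducible degrees of the Mathieu groups
-/

set_option autoImplicit false
set_option maxRecDepth 100000

namespace Cfsg.Agent.H4.Ed

open Equiv Finset Cfsg.Agent.Ma.Md Cfsg.Spor Cfsg.Agent.H4.Golay
open scoped Classical

theorem Bk_inj : ∀ j < 1059, ∀ k < 1059,
    (∀ x : Fin 24, (Bk j).testBit x = (Bk k).testBit x) → j = k :=
  inj_of_lt (fun _ => lt_of_le_of_lt Nat.and_le_right (by norm_num)) fun j hj =>
    Nat.blt_eq.mp (allB_iff.mp (show allB (fun j => Nat.blt (Bk j) (Bk (j + 1))) 1058 = true by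
      decide +kernel) j (by omega))

theorem fo_one {n : ℕ} (B ty : ℕ → ℕ) (N t : ℕ) : fo B ty N t (1 : Perm (Fin n)) =
    sumF (fun j => Bool.rec 0 1 (Nat.beq (ty (B j)) t)) N := by
  rw [sumF_eq, fo, card_filter]
  refine sum_congr rfl fun j _ => ?_
  by_cases h : ty (B j) = t
  · rw [if_pos ⟨h, fun _ => rfl⟩, Nat.beq_eq.mpr h]
  · rw [if_neg fun e => h e.1, Bool.eq_false_iff.mpr fun e => h (Nat.beq_eq.mp e)]

/-- A character with values in `ℕ`. -/
def Ch {G : Type*} [Group G] (P : G → ℕ) : Prop := IsCharacter G fun g => (P g : ℂ)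

theorem Ch.add {G : Type*} [Group G] {P Q : G → ℕ} (h : Ch P) (h' : Ch Q) : Ch (P + Q) := by
  have e : (fun g => ((P + Q) g : ℂ)) = (fun g => (P g : ℂ)) + fun g => (Q g : ℂ) :=
    funext fun g => Nat.cast_add (P g) (Q g)
  rw [Ch, e]
  exact H3.isCharacter_add h h'

theorem Ch.mul {G : Type*} [Group G] {P Q : G → ℕ} (h : Ch P) (h' : Ch Q) : Ch (P * Q) := by
  have e : (fun g => ((P * Q) g : ℂ)) = (fun g => (P g : ℂ)) * fun g => (Q g : ℂ) :=
    funext fun g => Nat.cast_mul (P g) (Q g)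
  rw [Ch, e]
  exact H3.isCharacter_mul h h'

theorem Ch.one {G : Type*} [Group G] : Ch (1 : G → ℕ) := by
  have e : (fun g => ((1 : G → ℕ) g : ℂ)) = 1 := funext fun _ => Nat.cast_one (R := ℂ)
  rw [Ch, e]
  exact H3.isCharacter_one

/-- The fixed block numbers on a subgroup. -/
noncomputable def fk (K : Subgroup (Perm (Fin 24))) (s t : ℕ) : K → ℕ :=
  fun g => fo Bk (tyS s) 1059 t g.1

variable {F : List (Fin 24)} {K : Subgroup (Perm (Fin 24))} {s : ℕ}

theorem ch_fk (h : K ≤ clG Bk (tyS s) 1059) (t : ℕ) : Ch (fk K s t) := isChar_fo h Bk_inj t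

theorem sum_run (hK : ∀ k, k ∈ K ↔ k ∈ H0 ∧ ∀ x ∈ F, k x = x) (h : K ≤ clG Bk (tyS s) 1059)
    {l : List (Fin 24 × Fin 24)} (hl : ∀ p ∈ l, p.1 = p.2 ∧ p.1 ∈ F) {S : ((ℕ → ℕ) → ℕ) → ℕ}
    (hS : ∀ Φ φ, Dat F K Φ φ → Sm K Φ l = S φ) (ts : List ℕ) (Fn : List ℕ → ℕ) :
    ∑ g : K, Fn (ts.map fun t => fk K s t g) = run Bk (tyS s) CT.get 12 1059 24 ts Fn S := by
  obtain ⟨φ, h1, h2⟩ := run_eq (B := Bk) (ty := tyS s) (w := 12) (N := 1059) (n := 24)
    (by norm_num) (by norm_num) CT_eq ts Fn S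
  rw [h1, ← hS _ φ ⟨hK, h2, fun u hu g hg => congrArg Fn (List.map_congr_left fun t _ =>
    conj_eq (ch_fk h t) ⟨u, hu⟩ ⟨g, hg⟩)⟩, Sm]
  refine (sum_subtype _ (fun g => ?_) fun g => Fn (ts.map fun t => fo Bk (tyS s) 1059 t g)).symm
  simp only [mem_filter, mem_univ, true_and, and_iff_left_iff_imp]
  exact fun hg p hp => (hl p hp).1 ▸ ((hK g).mp hg).2 _ (hl p hp).2

theorem transfer {X : Subgroup (Perm GolayPt)} (hX : ∀ g, lift24 g ∈ X ↔ g ∈ K) {M : Type*}
    [Group M] (h : Nonempty (M ≃* X)) : charDegrees K ⊆ charDegrees M := by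
  obtain ⟨e⟩ := h
  let ψ : K →* X := ((e24.symm.permCongrHom : Perm (Fin 24) →* Perm GolayPt).comp
    K.subtype).codRestrict X fun g => (hX g).mpr g.2
  have h1 : Function.Bijective ψ :=
    ⟨fun a b h => Subtype.ext (e24.symm.permCongr.injective (congrArg Subtype.val h)),
      fun ⟨g, hg⟩ => by
        obtain ⟨g, rfl⟩ := e24.symm.permCongr.surjective g
        exact ⟨⟨g, (hX g).mp hg⟩, rfl⟩⟩
  let e' := e.trans (MulEquiv.ofBijective ψ h1).symm
  exact H6.charDegrees_subset e'.toMonoidHom e'.surjective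

/-- The sum of the squares for `M₂₂`. -/
def F22 : List ℕ → ℕ
  | [a, p, h, o] => dsq a 1 + (dsq h a + (dsq p h + (dsq (a * a + 1) (a + a + p) + (dsq o p + 0))))
  | _ => 0

theorem run22 : run Bk (tyS 8388609) CT.get 12 1059 24 [1, 2, 72, 8] F22 S00 = 5 * 443520 := by
  decide +kernel

theorem le22 : Grp 8 255 24 L2.S ≤ clG Bk (tyS 8388609) 1059 := Grp_le_clG (by decide +kernel)

/-- Irreducible degrees of `M₂₂`. -/
theorem deg22 {M : Type*} [Group M] (h : IsoM22 M) : 21 ∈ charDegrees M ∧ 55 ∈ charDegrees M ∧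
    154 ∈ charDegrees M ∧ 210 ∈ charDegrees M ∧ 99 ∈ charDegrees M := by
  have c := ch_fk le22
  have hc : Nat.card (Grp 8 255 24 L2.S) = 443520 :=
    (ok.2.2.2.2.card (by norm_num) s2).trans (by decide +kernel)
  have e1 : fk (Grp 8 255 24 L2.S) 8388609 1 1 = 22 := (fo_one _ _ _ _).trans (by decide +kernel)
  have e2 : fk (Grp 8 255 24 L2.S) 8388609 2 1 = 231 := (fo_one _ _ _ _).trans (by decide +kernel)
  have e3 : fk (Grp 8 255 24 L2.S) 8388609 72 1 = 77 := (fo_one _ _ _ _).trans (by decide +kernel)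
  have e4 : fk (Grp 8 255 24 L2.S) 8388609 8 1 = 330 := (fo_one _ _ _ _).trans (by decide +kernel)
  have h1 := (sum_run (fun _ => m2) le22 (by decide) (fun _ _ D => D.n00 fun _ h => h) _ _).trans run22
  generalize fk (Grp 8 255 24 L2.S) 8388609 = f at c e1 e2 e3 e4 h1
  have h2 := degs [(f 1, 1), (f 72, f 1), (f 2, f 72), (f 1 * f 1 + 1, f 1 + f 1 + f 2), (f 8, f 2)]
    (by
      simp only [List.forall_mem_cons, Pi.add_apply, Pi.mul_apply, Pi.one_apply, e1, e2, e3, e4]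
      exact ⟨⟨c 1, Ch.one, by norm_num⟩, ⟨c 72, c 1, by norm_num⟩, ⟨c 2, c 72, by norm_num⟩,
        ⟨((c 1).mul (c 1)).add Ch.one, ((c 1).add (c 1)).add (c 2), by norm_num⟩,
        ⟨c 8, c 2, by norm_num⟩, by simp⟩) (hc ▸ h1)
  simp only [List.forall_mem_cons, Pi.add_apply, Pi.mul_apply, Pi.one_apply, e1, e2, e3, e4] at h2
  have h3 := transfer (K := Grp 8 255 24 L2.S) (fun g => by
    rw [m2]
    simp [mem_H0, M22, M23, lift24, Equiv.symm_apply_eq, show e24 none = 23 from rfl,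
      show e24 (some 0) = 0 from rfl, and_assoc, and_comm (a := g 0 = 0)]) h
  exact ⟨h3 h2.1, h3 h2.2.1, h3 h2.2.2.1, h3 h2.2.2.2.1, h3 h2.2.2.2.2.1⟩

/-- The sum of the squares for `M₂₃` and `M₂₄`. -/
def F23 : List ℕ → ℕ
  | [a, p, o] => dsq a 1 + (dsq p a + (dsq (a * a + 1) (a + a + p) + (dsq o p + 0)))
  | _ => 0

theorem degs23 {G : Type*} [Group G] [Fintype G] {a p o : G → ℕ} (ha : Ch a) (hp : Ch p) (ho : Ch o)
    (h : 1 < a 1 ∧ a 1 < p 1 ∧ a 1 + a 1 + p 1 < a 1 * a 1 + 1 ∧ p 1 < o 1)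
    (hs : ∑ g, F23 [a g, p g, o g] = 4 * Nat.card G) : a 1 - 1 ∈ charDegrees G ∧
      p 1 - a 1 ∈ charDegrees G ∧ a 1 * a 1 + 1 - (a 1 + a 1 + p 1) ∈ charDegrees G ∧
      o 1 - p 1 ∈ charDegrees G := by
  have h2 := degs [(a, 1), (p, a), (a * a + 1, a + a + p), (o, p)]
    (by
      simp only [List.forall_mem_cons]
      exact ⟨⟨ha, Ch.one, h.1⟩, ⟨hp, ha, h.2.1⟩,
        ⟨(ha.mul ha).add Ch.one, (ha.add ha).add hp, h.2.2.1⟩, ⟨ho, hp, h.2.2.2⟩, by simp⟩) hs
  simp only [List.forall_mem_cons] at h2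
  exact ⟨h2.1, h2.2.1, h2.2.2.1, h2.2.2.2.1⟩

theorem run23 : run Bk (tyS 8388608) CT.get 12 1059 24 [1, 2, 8] F23 S0 = 4 * 10200960 := by
  decide +kernel

theorem le23 : Grp 8 255 24 L1.S ≤ clG Bk (tyS 8388608) 1059 := Grp_le_clG (by decide +kernel)

/-- Irreducible degrees of `M₂₃`. -/
theorem deg23 {M : Type*} [Group M] (h : IsoM23 M) : 22 ∈ charDegrees M ∧ 230 ∈ charDegrees M ∧
    231 ∈ charDegrees M ∧ 253 ∈ charDegrees M := by
  have c := ch_fk le23
  have hc : Nat.card (Grp 8 255 24 L1.S) = 10200960 :=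
    (ok.2.2.card (by norm_num) s1).trans (by decide +kernel)
  have e1 : fk (Grp 8 255 24 L1.S) 8388608 1 1 = 23 := (fo_one _ _ _ _).trans (by decide +kernel)
  have e2 : fk (Grp 8 255 24 L1.S) 8388608 2 1 = 253 := (fo_one _ _ _ _).trans (by decide +kernel)
  have e4 : fk (Grp 8 255 24 L1.S) 8388608 8 1 = 506 := (fo_one _ _ _ _).trans (by decide +kernel)
  have h1 := (sum_run (fun _ => m1) le23 (by decide) (fun _ _ D => D.n0 fun _ h => h) _ _).trans run23
  generalize fk (Grp 8 255 24 L1.S) 8388608 = f at c e1 e2 e4 h1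
  have h2 := degs23 (c 1) (c 2) (c 8) (by rw [e1, e2, e4]; norm_num) (hc ▸ h1)
  rw [e1, e2, e4] at h2
  have h3 := transfer (K := Grp 8 255 24 L1.S) (fun g => by
    rw [m1]
    simp [mem_H0, M23, lift24, Equiv.symm_apply_eq, show e24 none = 23 from rfl]) h
  exact ⟨h3 h2.1, h3 h2.2.1, h3 h2.2.2.1, h3 h2.2.2.2⟩

theorem run24 : run Bk (tyS 0) CT.get 12 1059 24 [1, 2, 8] F23 S = 4 * 244823040 := by
  decide +kernel

theorem le24 : H0 ≤ clG Bk (tyS 0) 1059 := H0_eq ▸ Grp_le_clG (by decide +kernel)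

/-- Irreducible degrees of `M₂₄`. -/
theorem deg24 {M : Type*} [Group M] (h : IsoM24 M) : 23 ∈ charDegrees M ∧ 252 ∈ charDegrees M ∧
    253 ∈ charDegrees M ∧ 483 ∈ charDegrees M := by
  have c := ch_fk le24
  have e1 : fk H0 0 1 1 = 24 := (fo_one _ _ _ _).trans (by decide +kernel)
  have e2 : fk H0 0 2 1 = 276 := (fo_one _ _ _ _).trans (by decide +kernel)
  have e4 : fk H0 0 8 1 = 759 := (fo_one _ _ _ _).trans (by decide +kernel)
  have h1 := (sum_run (F := []) (fun _ => by simp) le24 (by decide)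
    (fun _ _ D => D.n fun _ h => h) _ _).trans run24
  generalize fk H0 0 = f at c e1 e2 e4 h1
  have h2 := degs23 (c 1) (c 2) (c 8) (by rw [e1, e2, e4]; norm_num) (card_H0 ▸ h1)
  rw [e1, e2, e4] at h2
  have h3 := transfer (K := H0) (X := M24) (fun g => Iff.rfl) h
  exact ⟨h3 h2.1, h3 h2.2.1, h3 h2.2.2.1, h3 h2.2.2.2⟩

theorem mok : SSOK 8 255 24 mch := SSOK_of_ssChk mch_ok

theorem mF : List.Forall₂ (Rep 8 255) mL0.S [pa, pb] := by decide +kernel

theorem ms0 : ∀ c ∈ mL0.S, InG 8 255 (⊤ : Subgroup (Perm (Fin 24))) c := InG_top_of_forall₂ mF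

theorem card11 : Nat.card (Grp 8 255 24 mL0.S) = 7920 :=
  (mok.card (by norm_num) ms0).trans (by decide +kernel)

theorem mem11 (g : Perm (Fin 24)) : lift24 g ∈ M11 ↔ g ∈ Grp 8 255 24 mL0.S := by
  have h : Grp 8 255 24 mL0.S =
      M11.comap (e24.symm.permCongrHom : Perm (Fin 24) →* Perm GolayPt) := by
    refine Subgroup.eq_of_le_of_card_ge ?_ ?_
    · rw [Grp_eq_closure (by norm_num) mF, Subgroup.closure_le]
      rintro _ (_ | ⟨_, _ | ⟨_, ⟨⟩⟩⟩)
      · exact ⟨mem_M12_of ha (by decide +kernel) (by decide +kernel) (by decide +kernel),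
          show lift24 pa (some 0) = some 0 by decide +kernel⟩
      · exact ⟨mem_M12_of hb (by decide +kernel) (by decide +kernel) (by decide +kernel),
          show lift24 pb (some 0) = some 0 by decide +kernel⟩
    · rw [card11, ← card_M11]
      exact Nat.card_le_card_of_injective (fun g => ⟨_, g.2⟩) fun a b h =>
        Subtype.ext (e24.symm.permCongr.injective (congrArg Subtype.val h))
  rw [h]
  rfl

/-- The sum of the squares for `M₁₁`. -/
def F11 : List ℕ → ℕ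
  | [a, p, b, q] => dsq a 1 + (dsq (a * a + 1) (a + a + p) + (dsq b (1 + 1) +
      (dsq (q + (1 + 1)) (b + b) + (dsq (b * b + (1 + 1 + 1)) (b + b + b + q) + 0))))
  | _ => 0

theorem run11 : run Bk (tyS 340831) CT.get 12 1059 24 [1, 2, 33, 66] F11
    (fun φ => esum 255 φ mch fun x => x) = 5 * 7920 := by
  decide +kernel

theorem le11 : Grp 8 255 24 mL0.S ≤ clG Bk (tyS 340831) 1059 := Grp_le_clG (by decide +kernel)

/-- Irreducible degrees of `M₁₁`. -/
theorem deg11 {M : Type*} [Group M] (h : IsoM11 M) : 11 ∈ charDegrees M ∧ 55 ∈ charDegrees M ∧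
    10 ∈ charDegrees M ∧ 44 ∈ charDegrees M ∧ 45 ∈ charDegrees M := by
  have c := ch_fk le11
  have e1 : fk (Grp 8 255 24 mL0.S) 340831 1 1 = 12 := (fo_one _ _ _ _).trans (by decide +kernel)
  have e2 : fk (Grp 8 255 24 mL0.S) 340831 2 1 = 66 := (fo_one _ _ _ _).trans (by decide +kernel)
  have e3 : fk (Grp 8 255 24 mL0.S) 340831 33 1 = 12 := (fo_one _ _ _ _).trans (by decide +kernel)
  have e4 : fk (Grp 8 255 24 mL0.S) 340831 66 1 = 66 := (fo_one _ _ _ _).trans (by decide +kernel)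
  have h1 : ∑ g, F11 ([1, 2, 33, 66].map fun t => fk (Grp 8 255 24 mL0.S) 340831 t g) =
      5 * Nat.card (Grp 8 255 24 mL0.S) := by
    obtain ⟨φ, h1, h2⟩ := run_eq (B := Bk) (ty := tyS 340831) (w := 12) (N := 1059) (n := 24)
      (by norm_num) (by norm_num) CT_eq [1, 2, 33, 66] F11 fun φ => esum 255 φ mch fun x => x
    rw [card11, ← run11, h1, esum_eq (H := ⊤) (by norm_num) (fun f g _ => h2 f g) mok ms0 le_top
      (Subgroup.mem_top 1) RepF.one]
    simp only [one_mul]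
    exact (sum_subtype _ (fun g => by simp; rfl)
      fun g => F11 ([1, 2, 33, 66].map fun t => fo Bk (tyS 340831) 1059 t g)).symm
  generalize fk (Grp 8 255 24 mL0.S) 340831 = f at c e1 e2 e3 e4 h1
  have o := Ch.one (G := Grp 8 255 24 mL0.S)
  have h2 := degs [(f 1, 1), (f 1 * f 1 + 1, f 1 + f 1 + f 2), (f 33, 1 + 1),
    (f 66 + (1 + 1), f 33 + f 33), (f 33 * f 33 + (1 + 1 + 1), f 33 + f 33 + f 33 + f 66)]
    (by
      simp only [List.forall_mem_cons, Pi.add_apply, Pi.mul_apply, Pi.one_apply, e1, e2, e3, e4]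
      exact ⟨⟨c 1, o, by norm_num⟩,
        ⟨((c 1).mul (c 1)).add o, ((c 1).add (c 1)).add (c 2), by norm_num⟩,
        ⟨c 33, o.add o, by norm_num⟩, ⟨(c 66).add (o.add o), (c 33).add (c 33), by norm_num⟩,
        ⟨((c 33).mul (c 33)).add ((o.add o).add o), (((c 33).add (c 33)).add (c 33)).add (c 66),
          by norm_num⟩, by simp⟩) h1
  simp only [List.forall_mem_cons, Pi.add_apply, Pi.mul_apply, Pi.one_apply, e1, e2, e3, e4] at h2
  have h3 := transfer mem11 h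
  exact ⟨h3 h2.1, h3 h2.2.1, h3 h2.2.2.1, h3 h2.2.2.2.1, h3 h2.2.2.2.2.1⟩

end Cfsg.Agent.H4.Ed
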