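import Cfsg.Agent.H4.ElP
import Cfsg.Agent.H2.ElB

/-! Degree `2 p q`: the shape of the Sylow `p`-subgroup. -/

set_option autoImplicit false
set_option linter.unusedSectionVars false

namespace Cfsg.Agent.H1.El

open Subgroup MulAction Finset H4.El

variable {G : Type*} [Group G] [Finite G] {Ω : Type*} [MulAction G Ω] [FaithfulSMul G Ω]
  [Fintype Ω] [DecidableEq Ω] {p q : ℕ}

theorem Bas.fac4 (h : Bas G Ω p q) (w : Ω) :
    (Nat.card (stabilizer G w)).factorization p + 1 = (Nat.card G).factorization p := by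
  have : IsPretransitive G Ω := ⟨h.tr⟩
  have h1 := (stabilizer G w).card_mul_index
  have h2 : ¬ p ∣ 2 * q := fun e => by
    have := h.qp
    have := h.hq.two_le
    rcases (Nat.Prime.dvd_mul h.hp).1 e with e | e <;>
      have := Nat.le_of_dvd (by omega) e <;> omega
  rw [index_stabilizer_of_transitive, Nat.card_eq_fintype_card (α := Ω), h.card,
    show 2 * p * q = p * (2 * q) by ring] at h1
  have h3 : 2 * q ≠ 0 := fun e => h2 (e ▸ dvd_zero p)
  rw [← h1, Nat.factorization_mul Nat.card_pos.ne' (mul_ne_zero h.hp.ne_zero h3),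
    Nat.factorization_mul h.hp.ne_zero h3]
  simp [h.hp.factorization_self, Nat.factorization_eq_zero_of_not_dvd h2]

theorem card_st4 (P : Subgroup G) (w : Ω) :
    Nat.card (P.subgroupOf (stabilizer G w)) = Nat.card (stabilizer P w) :=
  Nat.card_congr ⟨fun u => ⟨⟨u.1.1, u.2⟩, u.1.2⟩, fun u => ⟨⟨u.1.1, u.2⟩, u.1.2⟩, fun _ => rfl,
    fun _ => rfl⟩

theorem Bas.idx4 (h : Bas G Ω p q) (P : Sylow p G) (w : Ω) :
    (stabilizer P w).index = p ∨ (stabilizer P w).index = p ^ 2 := by
  have := Fact.mk h.hp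
  obtain ⟨k, hk⟩ := P.2.index (stabilizer P w)
  have h1 : k ≠ 0 := by
    rintro rfl
    have h2 := (stabilizer P w).card_mul_index
    rw [hk, pow_zero, mul_one, ← card_st4, P.card_eq_multiplicity, ← h.fac4 w] at h2
    exact Nat.pow_succ_factorization_not_dvd Nat.card_pos.ne' h.hp
      (h2 ▸ card_subgroup_dvd_card _)
  have h2 : p ^ k < p ^ 3 := by
    have h3 : (orbit P w).ncard ≤ Nat.card Ω := Set.ncard_le_card _
    rw [← index_stabilizer, hk, Nat.card_eq_fintype_card, h.card] at h3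
    have := h.qp
    have := h.hq.two_le
    nlinarith [mul_pos h.hp.pos h.hp.pos]
  have := (Nat.pow_lt_pow_iff_right h.hp.one_lt).1 h2
  rw [hk]
  interval_cases k <;> simp at h1 ⊢

theorem Bas.cj4 (h : Bas G Ω p q) (P : Sylow p G) {w w' : Ω} (hw : (stabilizer P w).index = p) :
    ∃ f : stabilizer P w' →* stabilizer P w, Function.Injective f := by
  have := Fact.mk h.hp
  have h1 := (stabilizer P w).card_mul_index
  rw [hw, ← card_st4, P.card_eq_multiplicity, ← h.fac4 w, pow_succ] at h1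
  let S := Sylow.ofCard _ (Nat.eq_of_mul_eq_mul_right h.hp.pos h1)
  obtain ⟨g, hg⟩ := h.tr w' w
  let φ : stabilizer P w' →* stabilizer G w :=
    (((MulAut.conj g).toMonoidHom.comp (P : Subgroup G).subtype).comp (Subgroup.subtype _)).codRestrict _
      fun u => by
        have : (u : G) • w' = w' := u.2
        simp [← hg, mul_smul, this]
  have hφ : Function.Injective φ := fun u v e =>
    Subtype.ext (Subtype.ext ((MulAut.conj g).injective (congrArg Subtype.val e)))
  obtain ⟨T, hT⟩ := (((P.2.to_subgroup _).to_subgroup ⊤).map φ).exists_le_sylow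
  let ψ : S →* stabilizer P w :=
    ⟨⟨fun u => ⟨⟨u.1.1, u.2⟩, u.1.2⟩, rfl⟩, fun _ _ => rfl⟩
  have hψ : Function.Injective ψ := fun u v e =>
    Subtype.ext (Subtype.ext (congrArg (fun t : stabilizer P w => (t : G)) e))
  exact ⟨(ψ.comp (Sylow.equiv T S).toMonoidHom).comp (φ.codRestrict _ fun u =>
    hT ⟨u, mem_top _, rfl⟩), fun u v e =>
      hφ (congrArg Subtype.val ((Sylow.equiv T S).injective (hψ e)))⟩

theorem Bas.cx (h : Bas G Ω p q) (P : Sylow p G) :
    ∃ (E : Subgroup G) (x : G) (F : Finset Ω), Cx p q P E x F := by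
  classical
  have := Fact.mk h.hp
  have co : ∀ (K : Subgroup G) (w : Ω), Nat.card (orbit K w) = (stabilizer K w).index :=
    fun K w => (index_stabilizer K w).symm
  by_cases h1 : ∀ w : Ω, (stabilizer P w).index = p
  · exact (h.aii P P le_rfl (fun y hy _ => hy) fun w => (co _ w).trans (h1 w)).elim
  obtain ⟨a, ha⟩ := not_forall.1 h1
  replace ha := (h.idx4 P a).resolve_left ha
  have few : Fintype.card Ω < 2 * p ^ 2 := by
    have := h.qp
    rw [h.card]; nlinarith [h.hp.pos]
  have iw : ∀ w, w ∉ orbit P a → (stabilizer P w).index = p := fun w hw =>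
    (h.idx4 P w).resolve_right fun e => by
      have h3 : (orbit P w ∪ orbit P a).ncard ≤ Nat.card Ω := Set.ncard_le_card _
      rw [Set.ncard_union_eq (Set.disjoint_left.2 fun u h1 h2 => hw (by
        rw [← orbit_eq_iff.2 h2, orbit_eq_iff.2 h1]; exact mem_orbit_self w)), ← index_stabilizer,
        ← index_stabilizer, e, ha, Nat.card_eq_fintype_card] at h3
      omega
  obtain ⟨n, hn⟩ := IsPGroup.iff_card.1 (P.2.to_subgroup (stabilizer P a))
  have h2 := (stabilizer P a).card_mul_index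
  rw [hn, ha] at h2
  obtain ⟨E, hE, le⟩ := Sylow.exists_subgroup_card_pow_succ (n := n)
    (h2 ▸ ⟨p, by ring⟩) hn
  have iE : E.index = p := Nat.eq_of_mul_eq_mul_left (pow_pos h.hp.pos (n + 1))
    (by rw [← hE, E.card_mul_index, ← h2, hE]; ring)
  have := nrm P.2 iE
  have dv : ∀ w, w ∉ orbit P a → (stabilizer E w).index ∣ p := fun w hw => by
    have := nrm P.2 (iw w hw)
    have := relIndex_dvd_index_of_normal (stabilizer P w) E
    rwa [iw w hw] at this
  have ce : ∀ w : Ω, Nat.card (orbit E w) = (stabilizer E w).index := fun w =>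
    (index_stabilizer E w).symm
  obtain ⟨cm, ex⟩ := ea (Ω := Ω) h.hp E (P.2.to_subgroup E) fun w => by
    rw [ce]
    by_cases hw : w ∈ orbit P a
    · exact (relE le ha iE hw).le
    · exact Nat.le_of_dvd h.hp.pos (dv w hw)
  have C : Pc P p a E := ⟨P.2, by have := h.qp; have := h.hq.two_le; omega, ha, iw, few,
    fun y y1 y2 => h.el y (by
      rw [orderOf_coe, orderOf_eq_prime y2 y1]; exact h.hp),
    fun w w' hw _ => h.cj4 P (iw w hw), le, iE, cm, ex⟩
  have om : ∀ y ∈ (P : Subgroup G), y ^ p = 1 ↔ y ∈ E.map (P : Subgroup G).subtype := fun y hy =>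
    ⟨fun e => ⟨⟨y, hy⟩, C.om (Subtype.ext e), rfl⟩, by
      rintro ⟨u, hu, rfl⟩; exact congrArg Subtype.val (ex u hu)⟩
  by_cases h3 : ∀ w, w ∉ orbit P a → ¬ E ≤ stabilizer P w
  · refine (h.aii P _ (map_subtype_le E) (fun y hy => (om y hy).1) fun w => ?_).elim
    rw [show orbit (E.map (P : Subgroup G).subtype) w = orbit E w from Set.ext fun u =>
      ⟨by rintro ⟨⟨_, e, he, rfl⟩, rfl⟩; exact ⟨⟨e, he⟩, rfl⟩,
        by rintro ⟨e, rfl⟩; exact ⟨⟨e, e, e.2, rfl⟩, rfl⟩⟩, ce]
    by_cases hw : w ∈ orbit P a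
    · exact relE le ha iE hw
    · exact ((Nat.dvd_prime h.hp).1 (dv w hw)).resolve_left fun e =>
        h3 w hw (relIndex_eq_one.1 e)
  push Not at h3
  obtain ⟨w, hw, h3⟩ := h3
  have eqE : ∀ u, u ∉ orbit P a → (E ≤ stabilizer P u ↔ stabilizer P u ≤ E) := fun u hu =>
    ⟨fun e => by
      have := relIndex_mul_index e
      rwa [iE, iw u hu, mul_eq_right₀ h.hp.ne_zero, relIndex_eq_one] at this, fun e => by
      have := relIndex_mul_index e
      rwa [iE, iw u hu, mul_eq_right₀ h.hp.ne_zero, relIndex_eq_one] at this⟩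
  have h4 : ∀ u, u ∉ orbit P a → E ≤ stabilizer P u := fun u hu => by
    obtain ⟨f, hf⟩ := C.cj w u hw hu
    exact (eqE u hu).2 fun y hy => C.om (congrArg Subtype.val (hf (a₁ := ⟨y, hy⟩ ^ p) (a₂ := 1)
      (by rw [map_pow, map_one]; exact Subtype.ext (ex _ ((eqE w hw).1 h3 (f _).2)))))
  obtain ⟨x, hx⟩ : ∃ x, x ∉ E := not_forall.1 fun e => h.hp.one_lt.ne'
    (iE.symm.trans (index_eq_one.2 ((eq_top_iff' E).2 e)))
  have zm : ∀ b, b ∈ orbit P a → x ^ p • b ≠ b := fun b hb e =>
    hx (C.om (C.cen (C.cen_pow hx) (fun w hw => C.powF hw x) hb e))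
  have zE : x ^ p ∈ E := by
    have := pow_index_mem E x
    rwa [iE] at this
  refine ⟨E.map (P : Subgroup G).subtype, x, univ.filter (· ∉ orbit P a), h, map_subtype_le E,
    by rw [Subgroup.card_subtype, ← E.card_mul_index, iE, mul_comm], ?_, om, x.2,
    fun e => hx ((mem_map_iff_mem (subtype_injective _)).1 e), fun b => ?_, ?_,
    fun b hb => zm b (by simpa using hb), ?_⟩
  · rintro _ ⟨u, hu, rfl⟩ _ ⟨v, hv, rfl⟩
    exact congrArg Subtype.val (cm u hu v hv)
  · rw [mem_filter]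
    refine ⟨fun hb => ?_, fun e => ⟨mem_univ _, fun hb => zm b hb (e _ ⟨_, zE, rfl⟩)⟩⟩
    rintro _ ⟨u, hu, rfl⟩
    exact h4 b hb.2 hu
  · rw [← ha, index_stabilizer, Set.ncard_eq_toFinset_card', ← card_univ,
      ← card_filter_add_card_filter_not (s := univ) (· ∈ orbit P a)]
    congr 2; ext; simp
  · rintro b hb _ ⟨u, hu, rfl⟩
    have hb' : b ∈ orbit P a := by simpa using hb
    exact C.orb hb' zE (zm b hb') hu

end Cfsg.Agent.H1.El
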