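import Cfsg.Agent.H1.ElDef

/-! A `p`-group with one orbit of length `p ^ 2` and fewer than `p` orbits of length `p`. -/

set_option autoImplicit false
set_option linter.unusedSectionVars false

namespace Cfsg.Agent.H4.El

open Subgroup MulAction Finset
open scoped Classical

variable {H : Type*} [Group H] [Finite H] {Ω : Type*} [MulAction H Ω] [FaithfulSMul H Ω]
  [Fintype Ω] {p : ℕ} [hp : Fact p.Prime]

theorem nrm (hH : IsPGroup p H) {K : Subgroup H} (h : K.index = p) : K.Normal := by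
  obtain ⟨n, hn⟩ := IsPGroup.iff_card.1 hH
  have := h ▸ K.index_dvd_card
  refine normal_of_index_eq_minFac_card ?_
  rw [h, hn, hp.out.pow_minFac]
  rintro rfl
  rw [hn, pow_zero, Nat.dvd_one] at this
  exact hp.out.one_lt.ne' this

theorem gen {K : Subgroup H} [K.Normal] (h : K.index = p) {x : H} (hx : x ∉ K) (y : H) :
    ∃ i : ℕ, ∃ e ∈ K, y = e * x ^ i := by
  obtain ⟨i, hi⟩ := mem_powers_of_prime_card (G := H ⧸ K) h (g := (x : H ⧸ K)) (g' := y)
    (by rwa [Ne, QuotientGroup.eq_one_iff])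
  refine ⟨i, y * (x ^ i)⁻¹, ?_, by simp⟩
  rw [← div_eq_mul_inv, ← QuotientGroup.eq_iff_div_mem, ← hi]
  rfl

theorem root (hH : IsPGroup p H) (y : H) {i : ℕ} (hi : ¬ p ∣ i) : ∃ m : ℕ, (y ^ i) ^ m = y := by
  obtain ⟨k, hk⟩ := IsPGroup.iff_orderOf.1 hH y
  exact exists_pow_eq_self_of_coprime
    (hk ▸ ((hp.out.coprime_iff_not_dvd.2 hi).symm.pow_right k))

variable (H p) in
/-- the data. -/
structure Pc (a : Ω) (E : Subgroup H) : Prop where
  hH : IsPGroup p H
  p2 : p ≠ 2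
  ia : (stabilizer H a).index = p ^ 2
  iw : ∀ w, w ∉ orbit H a → (stabilizer H w).index = p
  few : Fintype.card Ω < 2 * p ^ 2
  el : ∀ y : H, y ≠ 1 → y ^ p = 1 → ∃ w : Ω, y • w = w
  cj : ∀ w w', w ∉ orbit H a → w' ∉ orbit H a →
    ∃ f : stabilizer H w' →* stabilizer H w, Function.Injective f
  le : stabilizer H a ≤ E
  iE : E.index = p
  comm : ∀ u ∈ E, ∀ v ∈ E, u * v = v * u
  ex : ∀ u ∈ E, u ^ p = 1

theorem stabE {a : Ω} {E : Subgroup H} [hn : E.Normal] (le : stabilizer H a ≤ E) {b : Ω}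
    (hb : b ∈ orbit H a) : stabilizer H b ≤ E := by
  obtain ⟨g, rfl⟩ := hb
  intro y hy
  have : g⁻¹ * y * g ∈ E := le (by
    rw [mem_stabilizer_iff, mul_smul, mul_smul, inv_smul_eq_iff]; exact hy)
  simpa [mul_assoc] using hn.conj_mem _ this g

theorem relE {a : Ω} {E : Subgroup H} [E.Normal] (le : stabilizer H a ≤ E)
    (ia : (stabilizer H a).index = p ^ 2) (iE : E.index = p) {b : Ω} (hb : b ∈ orbit H a) :
    (stabilizer E b).index = p := by
  have h := relIndex_mul_index (stabE le hb)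
  rw [index_stabilizer, orbit_eq_iff.2 hb, ← index_stabilizer, ia, iE, sq] at h
  exact Nat.eq_of_mul_eq_mul_right hp.out.pos h

theorem fixF {w : Ω} [hn : (stabilizer H w).Normal] {y : H} (hy : y • w = w) (g : H) :
    y • g • w = g • w := by
  have : (g⁻¹ * y * g⁻¹⁻¹) • w = w := hn.conj_mem y hy g⁻¹
  rwa [inv_inv, mul_smul, mul_smul, inv_smul_eq_iff] at this

namespace Pc

variable {a : Ω} {E : Subgroup H} (h : Pc H p a E)
include h

theorem nE : E.Normal := nrm h.hH h.iE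

theorem nw {w : Ω} (hw : w ∉ orbit H a) : (stabilizer H w).Normal := nrm h.hH (h.iw w hw)

theorem powF {w : Ω} (hw : w ∉ orbit H a) (y : H) : y ^ p • w = w := by
  have := h.nw hw
  exact h.iw w hw ▸ pow_index_mem (stabilizer H w) y

theorem orb {b : Ω} (hb : b ∈ orbit H a) {z : H} (hz : z ∈ E) (h1 : z • b ≠ b) {e : H}
    (he : e ∈ E) : ∃ k : ℕ, e • b = z ^ k • b := by
  have := h.nE
  have h2 := relE h.le h.ia h.iE hb
  have := nrm (h.hH.to_subgroup E) h2
  obtain ⟨i, u, hu, e'⟩ := gen h2 (x := ⟨z, hz⟩) h1 ⟨e, he⟩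
  refine ⟨i, ?_⟩
  rw [show e = u * z ^ i from congrArg Subtype.val e', h.comm _ u.2 _ (pow_mem hz i), mul_smul]
  exact congrArg _ hu

theorem cen {z : H} (hz : ∀ g, g * z = z * g) (hF : ∀ w, w ∉ orbit H a → z • w = w) {b : Ω}
    (hb : b ∈ orbit H a) (h1 : z • b = b) : z = 1 := by
  refine eq_of_smul_eq_smul (α := Ω) fun w => ?_
  rw [one_smul]
  by_cases hw : w ∈ orbit H a
  · obtain ⟨g, rfl⟩ := orbit_eq_iff.2 hb ▸ hw
    simp only [← mul_smul, ← hz, mul_smul g, h1]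
  · exact hF w hw

theorem cen_pow {x : H} (hx : x ∉ E) (g : H) : g * x ^ p = x ^ p * g := by
  have := h.nE
  obtain ⟨i, e, he, rfl⟩ := gen h.iE hx g
  rw [mul_assoc, (Commute.pow_pow_self x i p).eq, ← mul_assoc,
    h.comm e he _ (h.iE ▸ pow_index_mem E x), mul_assoc]

theorem cover {x : H} (hx : x ∉ E) {K : Subgroup H} (hK : ∀ e ∈ K, e ∈ E ∧ (e * x) ^ p = 1) :
    ∃ w, w ∉ orbit H a ∧ x • w = w ∧ K ≤ stabilizer H w := by
  have := h.nE
  have := Fintype.ofFinite H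
  by_contra! hc
  have h1 := card_mul_le_card_mul (s := univ.filter (· ∈ K)) (t := univ.filter (· ∉ orbit H a))
    (fun e w => (e * x) • w = w) (m := p) (n := Nat.card K / p) (fun e he => ?_) fun w hw => ?_
  · have h2 : #(univ.filter (· ∉ orbit H a)) + p ^ 2 = Fintype.card Ω := by
      rw [← h.ia, index_stabilizer, Set.ncard_eq_toFinset_card', ← card_univ,
        ← card_filter_add_card_filter_not (s := univ) (· ∈ orbit H a), add_comm]
      congr 2; ext; simp
    have h3 := h.few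
    have h4 := Nat.mul_div_le (Nat.card K) p
    have h5 : 0 < Nat.card K := Nat.card_pos
    rw [← Fintype.card_subtype, ← Nat.card_eq_fintype_card] at h1
    have h6 : #(univ.filter (· ∉ orbit H a)) + 1 ≤ p * p := by rw [← sq]; omega
    nlinarith [Nat.mul_le_mul_left p h1, Nat.mul_le_mul_left #(univ.filter (· ∉ orbit H a)) h4,
      Nat.mul_le_mul_left (Nat.card K) h6]
  · obtain ⟨h2, h3⟩ := hK e (mem_filter.1 he).2
    have h4 : e * x ∉ E := fun h => hx ((mul_mem_cancel_left h2).1 h)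
    obtain ⟨w, hw⟩ := h.el (e * x) (fun e => h4 (e ▸ one_mem _)) h3
    have h5 : w ∉ orbit H a := fun hb => h4 (stabE h.le hb hw)
    have := h.nw h5
    rw [← h.iw w h5, index_stabilizer, Set.ncard_eq_toFinset_card']
    refine card_le_card fun u hu => ?_
    obtain ⟨g, rfl⟩ := Set.mem_toFinset.1 hu
    simp only [bipartiteAbove, mem_filter, mem_univ, true_and]
    exact ⟨fun hb => h5 (by simpa using mem_orbit_of_mem_orbit g⁻¹ hb), fixF hw g⟩
  · rcases (bipartiteBelow (fun e w => (e * x) • w = w) (univ.filter (· ∈ K)) w).eq_empty_or_nonempty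
      with e | ⟨e, he⟩
    · simp [e]
    simp only [bipartiteBelow, mem_filter, mem_univ, true_and] at he hw
    have h2 : ¬ K ≤ stabilizer H w := fun h => hc w hw
      ((mul_mem_cancel_left (h he.1)).1 (show e * x ∈ stabilizer H w from he.2)) h
    have h3 := ((stabilizer H w).subgroupOf K).card_mul_index
    have h4 : p ∣ ((stabilizer H w).subgroupOf K).index := by
      obtain ⟨n, hn⟩ := (h.hH.to_subgroup K).index ((stabilizer H w).subgroupOf K)
      rw [hn]
      refine dvd_pow_self p ?_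
      rintro rfl
      exact h2 (subgroupOf_eq_top.1 (index_eq_one.1 hn))
    have h5 := Nat.le_of_dvd (Nat.pos_of_ne_zero index_ne_zero_of_finite) h4
    refine (Nat.le_div_iff_mul_le hp.out.pos).2 (h3 ▸ Nat.mul_le_mul ?_ h5)
    rw [← Fintype.card_coe, ← Nat.card_eq_fintype_card]
    refine Nat.card_le_card_of_injective (fun u => ⟨⟨u * e⁻¹, ?_⟩, ?_⟩) fun u v e => ?_
    · exact mul_mem (mem_filter.1 (mem_filter.1 u.2).1).2 (inv_mem he.1)
    · have := mul_mem (show u * x ∈ stabilizer H w from (mem_filter.1 u.2).2)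
        (inv_mem (show e * x ∈ stabilizer H w from he.2))
      simpa [mem_subgroupOf, mul_assoc] using this
    · exact Subtype.ext (by simpa using e)

theorem om {x : H} (hx1 : x ^ p = 1) : x ∈ E := by
  by_contra hx
  have := h.nE
  let _ : CommGroup E := { (inferInstance : Group E) with
    mul_comm := fun u v => Subtype.ext (h.comm _ u.2 _ v.2) }
  let σ : MulAut E := MulAut.conjNormal x
  have hσ : ∀ (j : ℕ) (e : E), ((σ ^ j) e : H) = x ^ j * e * (x ^ j)⁻¹ := fun j e => by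
    rw [← map_pow, MulAut.conjNormal_apply]
  have hN : ∀ e : E, (e * x : H) ^ p = (∏ j ∈ range p, (σ ^ j) e : E) := fun e => by
    have : ∀ n, (e * x : H) ^ n = (∏ j ∈ range n, (σ ^ j) e : E) * x ^ n := fun n => by
      induction n with
      | zero => simp
      | succ n ih => rw [pow_succ, ih, prod_range_succ, Subgroup.coe_mul, hσ, pow_succ]; group
    rw [this, hx1, mul_one]
  let N : E →* E := ⟨⟨fun e => ∏ j ∈ range p, (σ ^ j) e, by simp⟩, fun u v => by
    simp [prod_mul_distrib]⟩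
  have hN' : ∀ e : E, (N e : H) = (e * x) ^ p := fun e => (hN e).symm
  have nx : ∀ e : E, (e * x : H) ∉ E := fun e h => hx ((mul_mem_cancel_left e.2).1 h)
  have cN : ∀ (e : E) (g : H), g * N e = N e * g := fun e g => hN' e ▸ h.cen_pow (nx e) g
  have fN : ∀ (e : E) w, w ∉ orbit H a → (N e : H) • w = w := fun e w hw => hN' e ▸ h.powF hw _
  obtain ⟨w, hw, xw, kw⟩ := h.cover hx (K := N.ker.map E.subtype) (by
    rintro _ ⟨e, he, rfl⟩
    exact ⟨e.2, (hN' e).symm.trans (congrArg Subtype.val he)⟩)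
  have k1 : ∀ e : E, N e = 1 → (e : H) • w = w := fun e he => kw ⟨e, he, rfl⟩
  have := h.nw hw
  obtain ⟨e0, he0, e1⟩ : ∃ e0 ∈ E, e0 ∉ stabilizer H w := SetLike.not_le_iff_exists.1 fun hle => by
    have h1 := relIndex_mul_index hle
    rw [h.iE, h.iw w hw, mul_eq_right₀ hp.out.ne_zero, relIndex_eq_one] at h1
    exact hx (h1 xw)
  have aa := mem_orbit_self (M := H) a
  have k2 : ∀ e : E, (e : H) • w = w → N e = 1 := fun e he => by
    by_contra hn
    obtain ⟨k, hk⟩ := h.orb aa (N e).2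
      (fun h1 => hn (Subtype.ext (h.cen (cN e) (fN e) aa h1))) (N ⟨e0, he0⟩).2
    have h1 := k1 ((e ^ k)⁻¹ * ⟨e0, he0⟩) (Subtype.ext (h.cen (cN _) (fN _) aa (by
      simp only [map_mul, map_inv, map_pow, Subgroup.coe_mul, Subgroup.coe_inv, Subgroup.coe_pow]
      rw [mul_smul, hk, inv_smul_smul])))
    exact e1 ((mul_mem_cancel_left (inv_mem (pow_mem (show (e : H) ∈ stabilizer H w from he) k))).1
      (show _ ∈ stabilizer H w from h1))
  have k3 : ∀ y, y ∉ E → ∃ (i m : ℕ) (e : E), y ^ i = e * x ∧ (y ^ i) ^ m = y := fun y hy => by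
    obtain ⟨i, e, he, e'⟩ := gen h.iE hy x
    obtain ⟨m, hm⟩ := root h.hH y (i := i) (by
      rintro ⟨i, rfl⟩
      exact hx (e' ▸ mul_mem he (pow_mul y p i ▸ pow_mem (h.iE ▸ pow_index_mem E y) i)))
    exact ⟨i, m, ⟨e, he⟩⁻¹, by simp [e'], hm⟩
  have k4 : ∀ y ∈ stabilizer H w, y ^ p = 1 := fun y hy => by
    by_cases hE : y ∈ E
    · exact h.ex y hE
    obtain ⟨i, m, e, h1, h2⟩ := k3 y hE
    have := k2 e ((mul_mem_cancel_right (show x ∈ stabilizer H w from xw)).1 (h1 ▸ pow_mem hy i))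
    rw [← h2, ← pow_mul, mul_comm, pow_mul, h1, ← hN', this]
    simp
  have k5 : ∀ y, y ∉ E → y ^ p = 1 → y ∈ stabilizer H w := fun y hE hy => by
    obtain ⟨i, m, e, h1, h2⟩ := k3 y hE
    have := k1 e (Subtype.ext (by
      rw [hN', ← h1, ← pow_mul, mul_comm, pow_mul, hy, one_pow]; rfl))
    rw [← h2, h1]
    exact pow_mem (mul_mem this xw) m
  have z1 : N ⟨e0, he0⟩ ≠ 1 := fun h => e1 (k1 _ h)
  have k6 : ∀ u, u ∉ orbit H a → stabilizer H u ≤ stabilizer H w := fun u hu => by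
    obtain ⟨f, hf⟩ := h.cj w u hw hu
    refine (SubgroupClass.subset_union.1 fun y hy => or_iff_not_imp_left.2 fun hE => k5 y hE ?_ :
      stabilizer H u ≤ E ∨ _).resolve_left fun hle => z1 ?_
    · exact congrArg Subtype.val (hf (a₁ := ⟨y, hy⟩ ^ p) (a₂ := 1)
        (by rw [map_pow, map_one]; exact Subtype.ext (k4 _ (f _).2)))
    obtain ⟨f', hf'⟩ := h.cj u w hu hw
    let c : E := σ ⟨e0, he0⟩ * ⟨e0, he0⟩⁻¹
    have c1 : (c : H) ∈ stabilizer H w := by
      have := mul_mem xw (‹(stabilizer H w).Normal›.conj_mem _ (inv_mem xw) e0)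
      simpa [c, σ, mul_assoc] using this
    have c2 : σ c = c := Subtype.ext (by
      have : x * c = c * x := congrArg Subtype.val (hf' (a₁ := ⟨x, xw⟩ * ⟨c, c1⟩)
        (a₂ := ⟨c, c1⟩ * ⟨x, xw⟩) (by
          rw [map_mul, map_mul]; exact Subtype.ext (h.comm _ (hle (f' _).2) _ (hle (f' _).2))))
      rw [MulAut.conjNormal_apply, this, mul_inv_cancel_right])
    have c3 : ∀ j : ℕ, (σ ^ j) ⟨e0, he0⟩ = c ^ j * ⟨e0, he0⟩ := fun j => by
      induction j with
      | zero => simp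
      | succ j ih =>
        rw [pow_succ', MulAut.mul_apply, ih, map_mul, map_pow, c2, pow_succ, mul_assoc,
          inv_mul_cancel_right]
    obtain ⟨m, hm⟩ : p ∣ ∑ j ∈ range p, j :=
      ((Nat.coprime_primes hp.out Nat.prime_two).2 h.p2).dvd_of_dvd_mul_right
        ⟨_, sum_range_id_mul_two p⟩
    show ∏ j ∈ range p, (σ ^ j) ⟨e0, he0⟩ = 1
    simp only [c3, prod_mul_distrib, prod_const, card_range]
    rw [prod_pow_eq_pow_sum, hm, pow_mul]
    exact Subtype.ext (by simp [h.ex _ c.2, h.ex _ he0])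
  have i1 := relE h.le h.ia h.iE aa
  let π := QuotientGroup.mk' (stabilizer E a)
  have π1 : π (N ⟨e0, he0⟩) ≠ 1 := fun h1 =>
    z1 (Subtype.ext (h.cen (cN _) (fN _) aa ((QuotientGroup.eq_one_iff _).1 h1)))
  have sj : ∀ g : E ⧸ stabilizer E a, ∃ j ∈ range p, π ((σ ^ j) ⟨e0, he0⟩) = g := fun g => by
    obtain ⟨k, hk⟩ := mem_powers_of_prime_card (G := E ⧸ stabilizer E a) i1 π1 (g' := g⁻¹)
    have n1 : e0 * N ⟨e0, he0⟩ ^ k ∉ stabilizer H w := fun h1 =>
      e1 ((mul_mem_cancel_right (pow_mem (show _ ∈ stabilizer H w from fN _ w hw) k)).1 h1)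
    obtain ⟨b, hb⟩ := h.el (e0 * N ⟨e0, he0⟩ ^ k) (fun e => n1 (e ▸ one_mem _))
      (h.ex _ (mul_mem he0 (pow_mem (N _).2 k)))
    obtain ⟨g', rfl⟩ : b ∈ orbit H a := by_contra fun h1 => n1 (k6 b h1 hb)
    obtain ⟨i, e, he, e'⟩ := gen h.iE hx g'⁻¹
    refine ⟨i % p, mem_range.2 (Nat.mod_lt _ hp.out.pos), ?_⟩
    rw [← mul_inv_eq_one, ← show π (N ⟨e0, he0⟩ ^ k) = _ from (map_pow π _ k).trans hk, ← map_mul]
    refine (QuotientGroup.eq_one_iff _).2 ?_
    have h3 : x ^ (i % p) = x ^ i := (pow_eq_pow_mod i hx1).symm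
    have h4 : (x ^ i)⁻¹ * N ⟨e0, he0⟩ ^ k = N ⟨e0, he0⟩ ^ k * (x ^ i)⁻¹ :=
      (Commute.pow_right (cN _ _) k).eq
    have h5 : e * ((σ ^ (i % p)) ⟨e0, he0⟩ * N ⟨e0, he0⟩ ^ k) * e⁻¹ =
        g'⁻¹ * (e0 * N ⟨e0, he0⟩ ^ k) * g' := by
      rw [hσ, h3, mul_assoc _ (x ^ i)⁻¹, h4, e', ← inv_inv g', e']; group
    have h6 : (e * ((σ ^ (i % p)) ⟨e0, he0⟩ * N ⟨e0, he0⟩ ^ k) * e⁻¹) • a = a := by
      rw [h5, mul_smul, mul_smul, inv_smul_eq_iff]; exact hb
    rwa [h.comm e he _ (mul_mem (SetLike.coe_mem _) (pow_mem (SetLike.coe_mem _) k)),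
      mul_inv_cancel_right] at h6
  have := Fintype.ofFinite (E ⧸ stabilizer E a)
  have i2 : Fintype.card (E ⧸ stabilizer E a) = p := Nat.card_eq_fintype_card.symm.trans i1
  refine π1 ?_
  show π (∏ j ∈ range p, (σ ^ j) ⟨e0, he0⟩) = 1
  rw [map_prod, prod_nbij (t := univ) (g := fun g => g) (fun j => π ((σ ^ j) ⟨e0, he0⟩))
    (fun _ _ => mem_univ _) (fun i hi j hj e => inj_on_of_surj_on_of_card_le
      (t := univ) (fun j _ => π ((σ ^ j) ⟨e0, he0⟩)) (fun _ _ => mem_univ _)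
      (fun g _ => by simpa using sj g) (by simp [i2]) hi hj e) (fun g _ => by simpa using sj g)
    fun _ _ => rfl]
  refine prod_involution (fun g _ => g⁻¹) (by simp) (fun g _ h1 h2 => h1 ?_) (by simp) (by simp)
  refine orderOf_eq_one_iff.1 (Nat.eq_one_of_dvd_coprimes
    ((Nat.coprime_primes hp.out Nat.prime_two).2 h.p2) (i2 ▸ orderOf_dvd_card)
    (orderOf_dvd_of_pow_eq_one ?_))
  rw [sq]; nth_rw 1 [← h2]; exact inv_mul_cancel g

end Pc

end Cfsg.Agent.H4.El
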