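import Cfsg.Agent.H4.J1Data
import Cfsg.Prelude.Def_Spor_J1

/-! The element orders of the first Janko group. -/

set_option autoImplicit false

namespace Cfsg.Agent.H4.J1

open Cfsg.Spor

/-- The coding of `GL (Fin 7) (ZMod 11)`. -/
def K : Coding (GL (Fin 7) (ZMod 11)) (Matrix (Fin 7) (Fin 7) (ZMod 11)) where
  ι := Units.coeHom _
  inj := Units.val_injective
  dec := decM 7 11 21 4
  mul := mMul
  dec_mul a b := by rw [mMul_eq]; exact decM_mul mPar a b

theorem R_one : K.R mOne 1 := by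
  show decM 7 11 21 4 mOne = 1
  decide +kernel

theorem R_X : K.R g0_0 jankoX := by
  show decM 7 11 21 4 g0_0 = jankoMatrixX
  decide +kernel

theorem R_Y : K.R g0_1 jankoY := by
  show decM 7 11 21 4 g0_1 = jankoMatrixY
  decide +kernel

theorem hF : List.Forall₂ K.R L0.S [jankoX, jankoY] := .cons R_X (.cons R_Y .nil)

theorem Gr_eq : K.Gr L0.S = J1 := by
  rw [Coding.Gr_eq_closure hF, J1]
  congr 1
  ext g
  simp

theorem chk_sound {c : ℕ} {g : GL (Fin 7) (ZMod 11)} (h : K.R c g) (hc : chk c = true) :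
    g ^ 10 = 1 ∨ g ^ 7 = 1 ∨ g ^ 6 = 1 ∨ g ^ 11 = 1 ∨ g ^ 15 = 1 ∨ g ^ 19 = 1 := by
  simp only [chk, force_eq, bor_eq_true, Nat.beq_eq] at hc
  have h2 := h.mul h
  have h3 := h2.mul h
  have h5 := h3.mul h2
  have h10 := h5.mul h5
  have h7 := h5.mul h2
  have h6 := h3.mul h3
  have key : ∀ {a : ℕ} {x : GL (Fin 7) (ZMod 11)}, K.R a x → a = mOne → x = 1 :=
    fun ha e => (e ▸ ha).unique R_one
  rcases hc with hc | hc | hc | hc | hc | hc
  · left; rw [← key h10 hc]; simp only [pow_succ, pow_zero, one_mul, mul_assoc]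
  · right; left; rw [← key h7 hc]; simp only [pow_succ, pow_zero, one_mul, mul_assoc]
  · right; right; left; rw [← key h6 hc]; simp only [pow_succ, pow_zero, one_mul, mul_assoc]
  · right; right; right; left
    rw [← key (h10.mul h) hc]; simp only [pow_succ, pow_zero, one_mul, mul_assoc]
  · right; right; right; right; left
    rw [← key (h10.mul h5) hc]; simp only [pow_succ, pow_zero, one_mul, mul_assoc]
  · right; right; right; right; right
    rw [← key (h10.mul (h7.mul h2)) hc]; simp only [pow_succ, pow_zero, one_mul, mul_assoc]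

theorem pow_cases (g : J1) :
    g ^ 10 = 1 ∨ g ^ 7 = 1 ∨ g ^ 6 = 1 ∨ g ^ 11 = 1 ∨ g ^ 15 = 1 ∨ g ^ 19 = 1 := by
  obtain ⟨k, -, b, hb, hc⟩ := Coding.forall_of_menum (K := K) R_one ms
    (Coding.In_top_of_forall₂ hF) (R := [0, 1, 3, 13, 18]) (by decide) dbl (chk := chk)
    (by
      intro r hr
      simp only [List.mem_cons, List.not_mem_nil, or_false] at hr
      rcases hr with rfl | rfl | rfl | rfl | rfl
      exacts [en0, en1, en3, en13, en18]) (g := g) (by rw [Gr_eq]; exact g.2)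
  have := chk_sound hb hc
  simp only [conj_pow, mul_inv_eq_one, mul_eq_left] at this
  simpa only [Subtype.ext_iff, Subgroup.coe_pow, Subgroup.coe_one] using this

theorem mem_spec {k : ℕ} (l : List ℕ) (hl : ∀ c ∈ l, c ∈ L0.S) (hk : 0 < k)
    (h2 : mword mMul (List.replicate k (mword mMul l mOne)) mOne = mOne)
    (h3 : ∀ p ∈ k.primeFactors, decM 7 11 21 4
      (mword mMul (List.replicate (k / p) (mword mMul l mOne)) mOne) ≠ decM 7 11 21 4 mOne) :
    k ∈ Set.range (orderOf : J1 → ℕ) := by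
  obtain ⟨g, hg, ho⟩ := Coding.exists_orderOf (K := K) R_one (Coding.mword_In
    (fun c hc => Coding.In_Gr (hl c hc) (Coding.In_top_of_forall₂ hF c (hl c hc))) R_one) hk h2 h3
  exact ⟨⟨g, Gr_eq ▸ hg⟩, by rw [← Subgroup.orderOf_coe]; exact ho⟩

theorem six_mem : 6 ∈ Set.range (orderOf : J1 → ℕ) :=
  mem_spec [g0_0, g0_1, g0_1, g0_1] (by decide +kernel) (by norm_num) (by decide +kernel)
    (by decide +kernel)

theorem seven_mem : 7 ∈ Set.range (orderOf : J1 → ℕ) :=
  mem_spec [g0_0] (by decide +kernel) (by norm_num) (by decide +kernel) (by decide +kernel)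

theorem ten_mem : 10 ∈ Set.range (orderOf : J1 → ℕ) :=
  mem_spec [g0_0, g0_1] (by decide +kernel) (by norm_num) (by decide +kernel) (by decide +kernel)

theorem eleven_mem : 11 ∈ Set.range (orderOf : J1 → ℕ) :=
  mem_spec [g0_0, g0_1, g0_1] (by decide +kernel) (by norm_num) (by decide +kernel)
    (by decide +kernel)

theorem fifteen_mem : 15 ∈ Set.range (orderOf : J1 → ℕ) :=
  mem_spec [g0_0, g0_0, g0_1, g0_1, g0_0, g0_1, g0_0, g0_1, g0_1] (by decide +kernel)
    (by norm_num) (by decide +kernel) (by decide +kernel)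

theorem nineteen_mem : 19 ∈ Set.range (orderOf : J1 → ℕ) :=
  mem_spec [g0_0, g0_0, g0_0, g0_1] (by decide +kernel) (by norm_num) (by decide +kernel)
    (by decide +kernel)

theorem orderOf_mem (g : J1) : orderOf g ∈ [1, 2, 3, 5, 6, 7, 10, 11, 15, 19] := by
  have key : ∀ k ∈ [10, 7, 6, 11, 15, 19], ∀ d ∈ Nat.divisors k,
      d ∈ [1, 2, 3, 5, 6, 7, 10, 11, 15, 19] := by decide +kernel
  rcases pow_cases g with h | h | h | h | h | h <;>
    exact key _ (by simp) _ (Nat.mem_divisors.mpr ⟨orderOf_dvd_of_pow_eq_one h, by norm_num⟩)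

end Cfsg.Agent.H4.J1
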