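import Cfsg.Agent.H4.J2e
import Cfsg.Agent.H4.J2Data

/-! The element orders of the Hall–Janko group. -/

set_option autoImplicit false

namespace Cfsg.Agent.H4.J2

open Quaternion Cfsg.Spor Matrix
open scoped QuadraticAlgebra

instance instFiniteTwoJ2 : Finite twoJ2 := Finite.of_injective _ rho_inj

/-- The coding of `2·J₂`. -/
noncomputable def K : Coding twoJ2 (Matrix (Fin 6) (Fin 6) (ZMod 19)) where
  ι := rho
  inj := rho_inj
  dec := decM 6 19 26 5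
  mul := mMul
  dec_mul a b := by rw [mMul_eq]; exact decM_mul mPar a b

theorem R_one : K.R mOne 1 := by
  show decM 6 19 26 5 mOne = rho 1
  rw [map_one]
  decide +kernel

theorem dec_neg : decM 6 19 26 5 mNeg = -1 := by decide +kernel

theorem trip_mem (p : ℕ × ℕ × ℕ) (a0 b0 c0 d0 a1 b1 c1 d1 a2 b2 c2 d2 a3 b3 c3 d3 a4 b4 c4 d4
    a5 b5 c5 d5 : T) (h0 : dq p.1 = icoP a0 b0 c0 d0) (h1 : dq p.2.1 = icoP a1 b1 c1 d1)
    (h2 : dq p.2.2 = icoP a2 b2 c2 d2) (h3 : icoP a3 b3 c3 d3 * HH = 2 * (dq p.1 - dq p.2.1))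
    (h4 : icoP a4 b4 c4 d4 * HH = 2 * (dq p.2.1 - dq p.2.2))
    (h5 : icoP a5 b5 c5 d5 * star HH = 2 * (dq p.1 + dq p.2.1 + dq p.2.2)) :
    hf ∘ trip p ∈ icoLeech := by
  have e3 := li_of_coords h3
  have e4 := li_of_coords h4
  have e5 := li_of_coords h5
  rw [hf_sub, hf_HH] at e3 e4
  rw [hf_add, hf_add, hf_star, hf_HH] at e5
  refine ⟨fun t => ?_, e3, e4, e5⟩
  fin_cases t
  · show hf (dq p.1) ∈ _
    rw [h0]; exact icoP_mem _ _ _ _
  · show hf (dq p.2.1) ∈ _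
    rw [h1]; exact icoP_mem _ _ _ _
  · show hf (dq p.2.2) ∈ _
    rw [h2]; exact icoP_mem _ _ _ _

theorem trip_qip (p : ℕ × ℕ × ℕ)
    (h : normSq (dq p.1) + normSq (dq p.2.1) + normSq (dq p.2.2) = 16) :
    qip (hf ∘ trip p) (hf ∘ trip p) = 4 := by
  have e := congrArg ev h
  rw [map_add, map_add, map_ofNat] at e
  rw [qip_self]
  have : normSq ((hf ∘ trip p) 0) + normSq ((hf ∘ trip p) 1) + normSq ((hf ∘ trip p) 2) = 4 := by
    show normSq (hf (dq p.1)) + normSq (hf (dq p.2.1)) + normSq (hf (dq p.2.2)) = 4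
    simp only [normSq_hf]
    linarith
  rw [this]
  ext <;> simp

theorem mem0 : hf ∘ trip (5059779, 4527201, 4793490) ∈ icoLeech :=
  trip_mem _ ⟨2, -2⟩ ⟨1, 0⟩ ⟨-1, 1⟩ ⟨1, -1⟩ ⟨-2, 2⟩ ⟨-1, 0⟩ ⟨1, -1⟩ ⟨-1, 1⟩ ⟨0, 0⟩ ⟨0, 0⟩ ⟨0, 0⟩
    ⟨0, 0⟩ ⟨2, 0⟩ ⟨0, 0⟩ ⟨0, 0⟩ ⟨0, 0⟩ ⟨-1, 0⟩ ⟨0, 0⟩ ⟨0, 0⟩ ⟨0, 0⟩ ⟨0, 0⟩ ⟨0, 0⟩ ⟨0, 0⟩ ⟨0, 0⟩
    (by ext <;> decide +kernel) (by ext <;> decide +kernel) (by ext <;> decide +kernel)
    (by ext <;> decide +kernel) (by ext <;> decide +kernel) (by ext <;> decide +kernel)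

theorem mem1 : hf ∘ trip (4793490, 5059779, 4527201) ∈ icoLeech :=
  trip_mem _ ⟨0, 0⟩ ⟨0, 0⟩ ⟨0, 0⟩ ⟨0, 0⟩ ⟨2, -2⟩ ⟨1, 0⟩ ⟨-1, 1⟩ ⟨1, -1⟩ ⟨-2, 2⟩ ⟨-1, 0⟩ ⟨1, -1⟩
    ⟨-1, 1⟩ ⟨-1, 0⟩ ⟨0, 0⟩ ⟨0, 0⟩ ⟨0, 0⟩ ⟨2, 0⟩ ⟨0, 0⟩ ⟨0, 0⟩ ⟨0, 0⟩ ⟨0, 0⟩ ⟨0, 0⟩ ⟨0, 0⟩ ⟨0, 0⟩
    (by ext <;> decide +kernel) (by ext <;> decide +kernel) (by ext <;> decide +kernel)
    (by ext <;> decide +kernel) (by ext <;> decide +kernel) (by ext <;> decide +kernel)

theorem mem2 : hf ∘ trip (4793494, 4793490, 4793490) ∈ icoLeech :=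
  trip_mem _ ⟨2, 0⟩ ⟨0, 0⟩ ⟨0, 0⟩ ⟨0, 0⟩ ⟨0, 0⟩ ⟨0, 0⟩ ⟨0, 0⟩ ⟨0, 0⟩ ⟨0, 0⟩ ⟨0, 0⟩ ⟨0, 0⟩ ⟨0, 0⟩
    ⟨-1, 0⟩ ⟨-1, 0⟩ ⟨1, -1⟩ ⟨-1, 1⟩ ⟨0, 0⟩ ⟨0, 0⟩ ⟨0, 0⟩ ⟨0, 0⟩ ⟨2, -2⟩ ⟨1, 0⟩ ⟨-1, 1⟩ ⟨1, -1⟩
    (by ext <;> decide +kernel) (by ext <;> decide +kernel) (by ext <;> decide +kernel)
    (by ext <;> decide +kernel) (by ext <;> decide +kernel) (by ext <;> decide +kernel)

theorem mem3 : hf ∘ trip (5117009, 4785298, 4793492) ∈ icoLeech :=
  trip_mem _ ⟨-2, 1⟩ ⟨2, -1⟩ ⟨-1, 1⟩ ⟨-3, 1⟩ ⟨-2, 1⟩ ⟨1, -1⟩ ⟨0, 0⟩ ⟨-2, 2⟩ ⟨1, 0⟩ ⟨0, 0⟩ ⟨0, 0⟩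
    ⟨0, 0⟩ ⟨0, 0⟩ ⟨1, -1⟩ ⟨-1, 1⟩ ⟨0, 1⟩ ⟨-1, 1⟩ ⟨1, 0⟩ ⟨0, 0⟩ ⟨-1, 0⟩ ⟨0, 0⟩ ⟨2, -1⟩ ⟨-2, 1⟩
    ⟨-2, 1⟩
    (by ext <;> decide +kernel) (by ext <;> decide +kernel) (by ext <;> decide +kernel)
    (by ext <;> decide +kernel) (by ext <;> decide +kernel) (by ext <;> decide +kernel)

/-- The generators. -/
noncomputable def gen0 : twoJ2 := refl mem0 (trip_qip _ (by decide +kernel))

/-- The generators. -/
noncomputable def gen1 : twoJ2 := refl mem1 (trip_qip _ (by decide +kernel))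

/-- The generators. -/
noncomputable def gen2 : twoJ2 := refl mem2 (trip_qip _ (by decide +kernel))

/-- The generators. -/
noncomputable def gen3 : twoJ2 := refl mem3 (trip_qip _ (by decide +kernel))

theorem R_refl {c : ℕ} {p : ℕ × ℕ × ℕ} {h1 : hf ∘ trip p ∈ icoLeech}
    {h2 : qip (hf ∘ trip p) (hf ∘ trip p) = 4}
    (h : decM 6 19 26 5 c = reflMat (qmap psi ∘ trip p)) : K.R c (refl h1 h2) :=
  h.trans (rho_refl fun x => by rw [refl_apply, qrefl_eq]).symm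

theorem hF : List.Forall₂ K.R K0.S [gen0, gen1, gen2, gen3] :=
  .cons (R_refl (by decide +kernel)) (.cons (R_refl (by decide +kernel))
    (.cons (R_refl (by decide +kernel)) (.cons (R_refl (by decide +kernel)) .nil)))

/-- The code of a word in the generators. -/
noncomputable def wd (l : List ℕ) : ℕ := mword mMul (l.map fun i => K0.S.getD i mOne) mOne

theorem wd_In (l : List ℕ) : K.In (K.Gr K0.S) (wd l) := by
  refine Coding.mword_In (fun c hc => ?_) R_one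
  obtain ⟨i, -, rfl⟩ := List.mem_map.mp hc
  by_cases hi : i < K0.S.length
  · rw [List.getD_eq_getElem _ _ hi]
    exact Coding.In_Gr (List.getElem_mem hi) (Coding.In_top_of_forall₂ hF _ (List.getElem_mem hi))
  · rw [List.getD_eq_default _ _ (not_lt.mp hi)]
    exact ⟨1, Subgroup.one_mem _, R_one⟩

/-- The word represents the reflection. -/
noncomputable def chkW (x : (ℕ × ℕ × ℕ) × List ℕ) : Bool :=
  force (wd x.2) fun c => decide (decM 6 19 26 5 c = reflMat (qmap psi ∘ trip x.1))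

theorem chkW1 : allL chkW (LW.take 30) = true := by decide +kernel

theorem chkW2 : allL chkW ((LW.drop 30).take 30) = true := by decide +kernel

theorem chkW3 : allL chkW ((LW.drop 30).drop 30) = true := by decide +kernel

theorem LW_fst : LW.map Prod.fst = L0 := by decide +kernel

theorem exists_code {p : ℕ × ℕ × ℕ} (hp : p ∈ L0) :
    ∃ c, K.In (K.Gr K0.S) c ∧ decM 6 19 26 5 c = reflMat (qmap psi ∘ trip p) := by
  rw [← LW_fst] at hp
  obtain ⟨x, hx, rfl⟩ := List.mem_map.mp hp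
  have : chkW x = true := by
    rw [← List.take_append_drop 30 LW, ← List.take_append_drop 30 (LW.drop 30), List.mem_append,
      List.mem_append] at hx
    rcases hx with hx | hx | hx
    exacts [allL_iff.mp chkW1 x hx, allL_iff.mp chkW2 x hx, allL_iff.mp chkW3 x hx]
  rw [chkW, force_eq, decide_eq_true_eq] at this
  exact ⟨_, wd_In _, this⟩

theorem gen_mem {g : twoJ2} (hg : g ∈ [gen0, gen1, gen2, gen3]) : g ∈ K.Gr K0.S := by
  rw [Coding.Gr_eq_closure hF]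
  exact Subgroup.subset_closure hg

theorem dq_nHH : dq 4527201 = -HH := by ext <;> simp [dq, HH]

theorem half_h (x : ℍ[ℝ]) : (1 / 2 : ℝ) • (x * star icoH) * icoH = x := by
  rw [smul_mul_assoc, mul_assoc, star_mul_icoH, mul_two, smul_add, ← add_smul]
  norm_num

theorem gen0_apply (x : icoLeech) : (gen0.1 x).1 = x.1 ∘ Equiv.swap 0 1 := by
  rw [gen0, refl_apply]
  have : qip x (hf ∘ trip (5059779, 4527201, 4793490)) = (x.1 0 - x.1 1) * star icoH := by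
    simp [qip, Fin.sum_univ_three, trip, dq_HH, dq_nHH, dq_zero, hf_neg, hf_HH, hf_zero, sub_mul,
      sub_eq_add_neg, add_mul]
  funext t
  rw [qrefl, this]
  fin_cases t <;>
    simp [trip, dq_HH, dq_nHH, dq_zero, hf_neg, hf_HH, hf_zero, half_h, Equiv.swap_apply_def,
      -one_div, -smul_mul_assoc, -Algebra.smul_mul_assoc]

theorem gen1_apply (x : icoLeech) : (gen1.1 x).1 = x.1 ∘ Equiv.swap 1 2 := by
  rw [gen1, refl_apply]
  have : qip x (hf ∘ trip (4793490, 5059779, 4527201)) = (x.1 1 - x.1 2) * star icoH := by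
    simp [qip, Fin.sum_univ_three, trip, dq_HH, dq_nHH, dq_zero, hf_neg, hf_HH, hf_zero, sub_mul,
      sub_eq_add_neg, add_mul]
  funext t
  rw [qrefl, this]
  fin_cases t <;>
    simp [trip, dq_HH, dq_nHH, dq_zero, hf_neg, hf_HH, hf_zero, half_h, Equiv.swap_apply_def,
      -one_div, -smul_mul_assoc, -Algebra.smul_mul_assoc]

theorem exists_perm_mem (τ : Equiv.Perm (Fin 3)) :
    ∃ g ∈ K.Gr K0.S, ∀ x : icoLeech, (g.1 x).1 = x.1 ∘ τ := by
  let P : Equiv.Perm (Fin 3) → Prop := fun τ =>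
    ∃ g ∈ K.Gr K0.S, ∀ x : icoLeech, (g.1 x).1 = x.1 ∘ τ
  have hm : ∀ σ τ, P σ → P τ → P (σ * τ) := by
    rintro σ τ ⟨g, hg, eg⟩ ⟨h, hh, eh⟩
    refine ⟨h * g, mul_mem hh hg, fun x => ?_⟩
    rw [Subgroup.coe_mul, Equiv.Perm.mul_apply, eh, eg]
    rfl
  have h0 : P (Equiv.swap 0 1) := ⟨gen0, gen_mem (by simp), gen0_apply⟩
  have h1 : P (Equiv.swap 1 2) := ⟨gen1, gen_mem (by simp), gen1_apply⟩
  have : ∀ τ : Equiv.Perm (Fin 3), τ = Equiv.swap 0 1 * Equiv.swap 0 1 ∨ τ = Equiv.swap 0 1 ∨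
      τ = Equiv.swap 1 2 ∨ τ = Equiv.swap 0 1 * Equiv.swap 1 2 ∨
      τ = Equiv.swap 1 2 * Equiv.swap 0 1 ∨
      τ = Equiv.swap 0 1 * Equiv.swap 1 2 * Equiv.swap 0 1 := by decide
  rcases this τ with rfl | rfl | rfl | rfl | rfl | rfl
  exacts [hm _ _ h0 h0, h0, h1, hm _ _ h0 h1, hm _ _ h1 h0, hm _ _ (hm _ _ h0 h1) h0]

theorem mem_Gr (g : twoJ2) : g ∈ K.Gr K0.S := by
  obtain ⟨g, hg⟩ := g
  induction hg using Subgroup.closure_induction with
  | mem f hf =>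
    have hf' := Subgroup.subset_closure hf
    obtain ⟨r, h, e⟩ := hf
    obtain ⟨p, hp, τ, hτ⟩ := listed r.2 h
    obtain ⟨c, ⟨k, hk, hc⟩, ec⟩ := exists_code hp
    obtain ⟨s, hs, es⟩ := exists_perm_mem τ
    have h1 : Acts (s * ⟨f, hf'⟩ * s⁻¹ : twoJ2) (RM (J2.hf ∘ trip p)) := by
      intro x
      obtain ⟨y, rfl⟩ := s.1.surjective x
      have : ((s * ⟨f, hf'⟩ * s⁻¹ : twoJ2) : Equiv.Perm icoLeech) (s.1 y) = s.1 (f y) := by simp
      rw [this, es, es, e, RM, ← hτ, ← RM, ← qrefl_eq]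
      funext t
      simp only [qrefl, qip_perm, Function.comp_apply]
    have h2 : K.R c (s * ⟨f, hf'⟩ * s⁻¹) := ec.trans (rho_refl h1).symm
    rw [hc.unique h2] at hk
    exact (mul_mem_cancel_left hs).mp ((mul_mem_cancel_right (inv_mem hs)).mp hk)
  | one => exact one_mem _
  | mul f g _ _ hf hg => exact mul_mem hf hg
  | inv f _ hf => exact inv_mem hf

theorem pm_sound {c : ℕ} {g : twoJ2} (h : K.R c g) (hc : pm c = true) :
    g ∈ Subgroup.center twoJ2 := by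
  simp only [pm, bor_eq_true, Nat.beq_eq] at hc
  rcases hc with rfl | rfl
  · rw [h.unique R_one]; exact one_mem _
  · rw [Subgroup.mem_center_iff]
    intro x
    apply rho_inj
    have : rho g = -1 := (show decM 6 19 26 5 mNeg = rho g from h).symm.trans dec_neg
    rw [map_mul, map_mul, this]
    simp

theorem chk_sound {c : ℕ} {g : twoJ2} (h : K.R c g) (hc : chk c = true) :
    ∃ k ∈ [10, 8, 12, 7, 15], g ^ k ∈ Subgroup.center twoJ2 := by
  simp only [chk, force_eq, bor_eq_true] at hc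
  have h2 := h.mul h
  have h4 := h2.mul h2
  have h5 := h4.mul h
  have h10 := h5.mul h5
  have h8 := h4.mul h4
  rcases hc with hc | hc | hc | hc | hc
  · exact ⟨10, by simp, by
      convert pm_sound h10 hc using 1; simp only [pow_succ, pow_zero, one_mul, mul_assoc]⟩
  · exact ⟨8, by simp, by
      convert pm_sound h8 hc using 1; simp only [pow_succ, pow_zero, one_mul, mul_assoc]⟩
  · exact ⟨12, by simp, by
      convert pm_sound (h8.mul h4) hc using 1; simp only [pow_succ, pow_zero, one_mul, mul_assoc]⟩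
  · exact ⟨7, by simp, by
      convert pm_sound (h5.mul h2) hc using 1; simp only [pow_succ, pow_zero, one_mul, mul_assoc]⟩
  · exact ⟨15, by simp, by
      convert pm_sound (h10.mul h5) hc using 1; simp only [pow_succ, pow_zero, one_mul, mul_assoc]⟩

theorem pow_cases (g : J2) : ∃ k ∈ [10, 8, 12, 7, 15], g ^ k = 1 := by
  obtain ⟨g, rfl⟩ := QuotientGroup.mk_surjective g
  obtain ⟨x, -, b, hb, hc⟩ := Coding.forall_of_menum (K := K) R_one ms
    (Coding.In_top_of_forall₂ hF) (R := [0, 1, 6, 10, 48, 55]) (by decide) dbl (chk := chk)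
    (by
      intro r hr
      simp only [List.mem_cons, List.not_mem_nil, or_false] at hr
      rcases hr with rfl | rfl | rfl | rfl | rfl | rfl
      exacts [en0, en1, en6, en10, en48, en55]) (mem_Gr g)
  obtain ⟨k, hk, h⟩ := chk_sound hb hc
  refine ⟨k, hk, ?_⟩
  rw [conj_pow] at h
  rw [← QuotientGroup.mk_pow, QuotientGroup.eq_one_iff]
  simpa [mul_assoc] using Subgroup.Normal.conj_mem inferInstance _ h x⁻¹

theorem mem_spec {k : ℕ} (l : List ℕ) (hk : 0 < k)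
    (h2 : pm (mword mMul (List.replicate k (wd l)) mOne) = true)
    (h3 : ∀ p ∈ k.primeFactors, ∃ i ∈ [0, 1, 2, 3], decM 6 19 26 5
      (mMul (mword mMul (List.replicate (k / p) (wd l)) mOne) (wd [i])) ≠
      decM 6 19 26 5 (mMul (wd [i]) (mword mMul (List.replicate (k / p) (wd l)) mOne))) :
    k ∈ Set.range (orderOf : J2 → ℕ) := by
  obtain ⟨g, -, hg⟩ := wd_In l
  refine ⟨QuotientGroup.mk g, orderOf_eq_of_pow_and_pow_div_prime hk ?_ fun p hp hpk h4 => ?_⟩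
  · rw [← QuotientGroup.mk_pow, QuotientGroup.eq_one_iff]
    exact pm_sound (Coding.R.pow R_one hg k) h2
  · obtain ⟨i, -, hi⟩ := h3 p (Nat.mem_primeFactors.mpr ⟨hp, hpk, hk.ne'⟩)
    obtain ⟨x, -, hx⟩ := wd_In [i]
    rw [← QuotientGroup.mk_pow, QuotientGroup.eq_one_iff, Subgroup.mem_center_iff] at h4
    have e := Coding.R.pow R_one hg (k / p)
    exact hi (((e.mul hx).trans (congrArg _ (h4 x).symm)).trans (hx.mul e).symm)

theorem spec_J2 : Set.range (orderOf : J2 → ℕ) = {1, 2, 3, 4, 5, 6, 7, 8, 10, 12, 15} := by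
  apply Set.Subset.antisymm
  · rintro _ ⟨g, rfl⟩
    obtain ⟨k, hk, h⟩ := pow_cases g
    have key : ∀ k ∈ [10, 8, 12, 7, 15], k ≠ 0 ∧ ∀ d ∈ Nat.divisors k,
      d ∈ [1, 2, 3, 4, 5, 6, 7, 8, 10, 12, 15] := by decide +kernel
    simpa using (key k hk).2 _ (Nat.mem_divisors.mpr ⟨orderOf_dvd_of_pow_eq_one h, (key k hk).1⟩)
  · intro k hk
    simp only [Set.mem_insert_iff, Set.mem_singleton_iff] at hk
    rcases hk with rfl | rfl | rfl | rfl | rfl | rfl | rfl | rfl | rfl | rfl | rfl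
    · exact ⟨1, orderOf_one⟩
    · exact mem_spec [0] (by norm_num) (by decide +kernel) (by decide +kernel)
    · exact mem_spec [0, 1] (by norm_num) (by decide +kernel) (by decide +kernel)
    · exact mem_spec [0, 2] (by norm_num) (by decide +kernel) (by decide +kernel)
    · exact mem_spec [0, 3] (by norm_num) (by decide +kernel) (by decide +kernel)
    · exact mem_spec [0, 2, 3, 0, 2, 3] (by norm_num) (by decide +kernel) (by decide +kernel)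
    · exact mem_spec [0, 1, 0, 2, 3] (by norm_num) (by decide +kernel) (by decide +kernel)
    · exact mem_spec [0, 1, 3, 0, 2] (by norm_num) (by decide +kernel) (by decide +kernel)
    · exact mem_spec [0, 1, 2, 3] (by norm_num) (by decide +kernel) (by decide +kernel)
    · exact mem_spec [0, 2, 3] (by norm_num) (by decide +kernel) (by decide +kernel)
    · exact mem_spec [0, 1, 3] (by norm_num) (by decide +kernel) (by decide +kernel)

end Cfsg.Agent.H4.J2
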