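import Cfsg.Agent.H2.L3m

/-!
# Self-orthogonal even cyclic codes of length 23
-/

set_option autoImplicit false

namespace Cfsg.Agent.H4.LeechId

open Finset Cfsg.Agent.H4.Golay

/-- The indicator function of the squares modulo 23. -/
def sqw (i : ZMod 23) : ZMod 2 := word 340831 (some i)

theorem cyc_aux {K : Type*} [Field K] [Algebra (ZMod 2) K] (ψ : AddChar (ZMod 23) K)
    (hψ : ψ.IsPrimitive) (C : Set (ZMod 23 → ZMod 2))
    (so : ∀ c ∈ C, ∀ d ∈ C, ∀ t, ∑ i, d (i - t) * c i = 0) :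
    (∀ c ∈ C, ∀ t, ∑ i, sqw (i - t) * c i = 0) ∨ ∀ c ∈ C, ∀ t, ∑ i, sqw (i - t) * c (-i) = 0 := by
  have : CharP K 2 := charP_of_injective_algebraMap (algebraMap (ZMod 2) K).injective 2
  obtain ⟨F, hF⟩ : ∃ F : (ZMod 23 → ZMod 2) → ZMod 23 → K,
    ∀ c k, F c k = ∑ i, algebraMap (ZMod 2) K (c i) * ψ (i * k) := ⟨_, fun _ _ => rfl⟩
  have fr : ∀ c k, F c k = 0 → ∀ j : ℕ, F c (2 ^ j * k) = 0 := fun c k h j => by
    induction j with
    | zero => simpa using h
    | succ j ih =>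
      rw [← pow_eq_zero_iff two_ne_zero, hF, sum_pow_char] at ih
      rw [hF, ← ih]
      refine sum_congr rfl fun i _ => ?_
      rw [mul_pow, ← map_pow, (by decide : ∀ a : ZMod 2, a ^ 2 = a), ← AddChar.map_nsmul_eq_pow]
      congr 2
      ring
  have cv : ∀ a c k, F (fun t => ∑ i, a (i - t) * c i) k = F c k * F a (-k) := fun a c k => by
    simp only [hF, map_sum, map_mul, sum_mul]
    rw [sum_comm]
    refine sum_congr rfl fun i _ => ?_
    rw [mul_sum, ← Equiv.sum_comp (Equiv.subLeft i)]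
    refine sum_congr rfl fun r _ => ?_
    rw [Equiv.subLeft_apply, sub_sub_cancel, sub_mul, sub_eq_add_neg, AddChar.map_add_eq_mul, mul_neg]
    ring
  have inv : ∀ d, (∀ k, F d k = 0) → ∀ t, d t = 0 := fun d h t => by
    have h1 : ∑ k, F d k * ψ (k * -t) = algebraMap (ZMod 2) K (d t) := by
      simp only [hF, sum_mul]
      rw [sum_comm]
      have : ∀ i, ∑ k, algebraMap (ZMod 2) K (d i) * ψ (i * k) * ψ (k * -t) =
          if i = t then algebraMap (ZMod 2) K (d i) else 0 := fun i => by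
        have h2 := AddChar.sum_mulShift (i - t) hψ
        have h3 : ((23 : ℕ) : K) = 1 := by
          rw [show 23 = 2 * 11 + 1 from rfl, Nat.cast_succ, Nat.cast_mul, CharP.cast_eq_zero, zero_mul, zero_add]
        simp only [sub_eq_zero, ZMod.card, Nat.cast_ite, h3, Nat.cast_zero] at h2
        rw [← mul_boole, ← h2, mul_sum]
        refine sum_congr rfl fun k _ => ?_
        rw [mul_assoc, ← AddChar.map_add_eq_mul]
        congr 2
        ring
      simp only [this, sum_ite_eq', mem_univ, if_true]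
    simp only [h, zero_mul, sum_const_zero] at h1
    exact (map_eq_zero _).mp h1.symm
  have F0 : ∀ k, F (fun _ => 0) k = 0 := fun k => by simp [hF]
  have q0 : F sqw 0 = 0 := by
    simp only [hF, mul_zero, AddChar.map_zero_eq_one, mul_one, ← map_sum]
    rw [show ∑ i, sqw i = 0 by decide +kernel, map_zero]
  have key : ∀ ε, ε = 1 ∨ ε = -1 → F sqw ε = 0 → ∀ c, F c ε = 0 →
      ∀ t, ∑ i, sqw (i - t) * c i = 0 := fun ε hε h c hc => inv _ fun k => by
    rw [cv]
    obtain rfl | ⟨j, rfl | rfl⟩ : k = 0 ∨ ∃ j : Fin 11, k = 2 ^ j.val * ε ∨ k = -(2 ^ j.val * ε) := by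
      rcases hε with rfl | rfl <;> revert k <;> decide +kernel
    · rw [neg_zero, q0, mul_zero]
    · rw [fr _ _ hc, zero_mul]
    · rw [neg_neg, fr _ _ h, mul_zero]
  obtain ⟨ε, hε, h⟩ : ∃ ε, (ε = 1 ∨ ε = -1) ∧ F sqw ε = 0 := by
    have := cv sqw sqw 1
    rw [show (fun t => ∑ i, sqw (i - t) * sqw i) = fun _ => 0 by decide +kernel, F0, eq_comm,
      mul_eq_zero] at this
    exact this.elim (fun h => ⟨1, .inl rfl, h⟩) fun h => ⟨-1, .inr rfl, h⟩
  by_cases h1 : ∀ c ∈ C, F c ε = 0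
  · exact .inl fun c hc => key ε hε h c (h1 c hc)
  · push Not at h1
    obtain ⟨c, hc, h1⟩ := h1
    refine .inr fun d hd => key ε hε h _ ?_
    have := cv d c ε
    rw [funext (so c hc d hd), F0, eq_comm, mul_eq_zero, or_iff_right h1, hF,
      ← Equiv.sum_comp (Equiv.neg _)] at this
    simpa [hF] using this

theorem mem_of_cyc {c : GolayPt → ZMod 2} (h0 : c none = 0) (h1 : ∑ p, c p = 0)
    (h : ∀ t, ∑ i, sqw (i - t) * c (some i) = 0) : c ∈ golayCode := by
  refine H2.L3.mem_code_of fun r hr => ?_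
  obtain h2 | ⟨t, h2⟩ : (∀ p, word r p = 1) ∨ ∃ t, ∀ i, word r (some i) = sqw (i - t) := by
    revert r; decide +kernel
  · simpa [dotProduct, h2] using h1
  · simpa [dotProduct, Fintype.sum_option, h2, h0] using h t

/-- Reversal of the cyclic coordinates. -/
def rev : Equiv.Perm GolayPt := (Equiv.neg (ZMod 23)).optionCongr

theorem cyc (C : Set (GolayPt → ZMod 2)) (h0 : ∀ c ∈ C, c none = 0) (h1 : ∀ c ∈ C, ∑ p, c p = 0)
    (so : ∀ c ∈ C, ∀ d ∈ C, ∑ p, d p * c p = 0)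
    (sh : ∀ c ∈ C, ∃ d ∈ C, ∀ i, d (some i) = c (some (i - 1))) :
    ∃ π : Equiv.Perm GolayPt, π none = none ∧ (∀ i, ∃ j, π (some i) = some j) ∧
      ∀ c ∈ C, c ∘ π ∈ golayCode := by
  have sh' : ∀ n : ℕ, ∀ c ∈ C, ∃ d ∈ C, ∀ i, d (some i) = c (some (i - n)) := fun n c hc => by
    induction n with
    | zero => exact ⟨c, hc, by simp⟩
    | succ n ih =>
      obtain ⟨d, hd, e⟩ := ih
      obtain ⟨d', hd', e'⟩ := sh d hd
      exact ⟨d', hd', fun i => by rw [e', e, Nat.cast_succ, sub_sub, add_comm]⟩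
  let ψ := AddChar.primitiveZModChar 23 (ZMod 2) (by decide)
  rcases cyc_aux ψ.char ψ.prim ((· ∘ some) '' C) (by
    rintro _ ⟨c, hc, rfl⟩ _ ⟨d, hd, rfl⟩ t
    obtain ⟨d', hd', e⟩ := sh' t.val d hd
    simpa [Fintype.sum_option, h0 c hc, e] using so c hc d' hd') with h | h
  · exact ⟨1, rfl, fun i => ⟨i, rfl⟩, fun c hc => mem_of_cyc (h0 c hc) (h1 c hc) (h _ ⟨c, hc, rfl⟩)⟩
  · exact ⟨rev, rfl, fun i => ⟨-i, rfl⟩, fun c hc => mem_of_cyc (h0 c hc)
      ((Equiv.sum_comp rev c).trans (h1 c hc)) fun t => by simpa [rev] using h _ ⟨c, hc, rfl⟩ t⟩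

end Cfsg.Agent.H4.LeechId
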