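import Cfsg.Agent.H4.LeechIdA
import Cfsg.Agent.H4.LeechIdB
import Cfsg.Agent.L0.Leech

/-!
# Identification of the Leech lattice with an automorphism of order 23
-/

set_option autoImplicit false

namespace Cfsg.Agent.H4.LeechId

open Module Finset Cfsg.Spor Cfsg.Agent.L0.Leech Cfsg.Agent.H4.Golay

/-- Vectors whose product with `y` is divisible by eight. -/
def dv (y : GolayPt → ℤ) : AddSubgroup (GolayPt → ℤ) where
  carrier := {x | (8 : ℤ) ∣ dotInt x y}
  zero_mem' := by simp [dotInt]
  add_mem' {a b} ha hb := by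
    have := dvd_add ha hb
    simpa only [dotInt, Pi.add_apply, add_mul, sum_add_distrib, Set.mem_ofPred_eq] using this
  neg_mem' {a} ha := by
    have := dvd_neg.mpr ha
    simpa only [dotInt, Pi.neg_apply, neg_mul, sum_neg_distrib, Set.mem_ofPred_eq] using this

theorem eight_dvd {x y : GolayPt → ℤ} (hx : x ∈ leechLattice) (hy : y ∈ leechLattice) :
    (8 : ℤ) ∣ dotInt x y := by
  have h : ∀ x, (8 : ℤ) ∣ dotInt vecV x → (∀ r ∈ rows, (8 : ℤ) ∣ dotInt (vRow r) x) →
      (∀ p, (8 : ℤ) ∣ dotInt (vPair p) x) → x ∈ dv y := fun x h1 h2 h3 =>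
    (dotInt_comm y x ▸ leech_le (S := dv x) h1 h2 h3 hy : (8 : ℤ) ∣ dotInt x y)
  refine leech_le (S := dv y) ?_ (fun r hr => ?_) (fun p => ?_) hx <;> apply h
  any_goals revert r
  any_goals revert p
  all_goals decide +kernel

/-- Digits of the vector `(-3, 1²³)`. -/
def uW (k : ℕ) : ℕ := Bool.rec 65 61 (Nat.beq k 23)

/-- A packed matrix. -/
def kN : ℕ :=
  nat_lit 0x3c40404040424042444042404042424242424040404040403e3e4242424042403e3e403e3e40404040403e3e42423e3e40404440403e404240403e40403e3e42424240403c404040404040404042403e40403e3c40423e3e4242404040404044404440404042404240403e4040423e423e3e404040403c40404040403c42403e40403e40403e4242423e404040444040404040404042403e40403e4440423e3e424240404040403c4040404040424042403c4240403e3e3e423e40444040404044404040404240423c4042404042424242424040404040403e423e423e4042403e42403e3e40404040403e423e3e423e4040404440423c4240403e40403e423e3e42404040404040423e3e42424042404242403e42404040404042423e423e3e424242423e404240423e403e4240404040404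23e423e423e4040403c4042444240403e40403e423e3e42404040404040404040403c3e40424040424040423e3e3e42404040444040404040404042403e404042403c3e3e423e42444040404040404040404042403e40404240443e3e423e423c404040404040404040403e403e403c3e40404242423e424044404040403e3e3e423e4042403e3e4042424040404040423e3e3e3e423e423e3e42403e403e3e403e424040404040423e3e42423e404044404042403e404042404042423e3e3e40403c40404040444040403e403e40404240403e423e4242404040403c403e3e423e3e403e403e42403e4240404040404242423e3e3e3e424242424042403e424042424040404040424242424242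

/-- Hints for `kN`. -/
noncomputable def kH : Trie :=
    (.node (.node (.node (.node (.node (.node
    (.leaf (nat_lit 0xfa2003e3e404240403e40423e4040404040404040403e40403e40))
    (.leaf (nat_lit 0x945004240403e4040403e424040404240403e4040403e403e4044)))
    (.leaf (nat_lit 0x823013f3f413f413f3f41433f41414141413f3f3f3f3f3f3f3f3f))) (.node
    (.leaf (nat_lit 0x97b013f3f413f41413f3f433f3f41413f3f4141413f3f3f3f3f3f))
    (.leaf (nat_lit 0x95801433f3f3f3f413f41433f413f3f41414141413f3f3f3f3f43)))) (.node (.node (.node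
    (.leaf (nat_lit 0xce0003e3e404040404042424040424040404040423e3e40404040))
    (.leaf (nat_lit 0xb90040424040404040403c42403e3e404040404042424040423e)))
    (.leaf (nat_lit 0xfe4003e4040404040404042404242423e40404040403e40403e40))) (.node
    (.leaf (nat_lit 0xfa2003e3e403e40404240423e4040404040404040403e40403e40))
    (.leaf (nat_lit 0xdc001433f413f413f414143413f41413f41413f41413f3f413f43))))) (.node (.node (.node (.node
    (.leaf (nat_lit 0xeea003e40404040424040423e40424040424040403e4040403e40))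
    (.leaf (nat_lit 0xdcd00423e3e40423e4040423e404040404040403e404040404044)))
    (.leaf (nat_lit 0xfad013f3f3f4141414141433f414141413f41413f3f3f413f3f3f))) (.node
    (.leaf (nat_lit 0xef5013f3f3f41413f413f433f3f41413f413f3f413f3f413f3f3f))
    (.leaf (nat_lit 0x80601433f3f414141413f413f4143413f414141413f3f3f3f4143)))) (.node (.node
    (.leaf (nat_lit 0xbe4013f3f41413f3f413f433f41414141414141413f3f3f413f3f))
    (.leaf (nat_lit 0xc33003e3e404042404040424040404240404040403e4040423e40))) (.node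
    (.leaf (nat_lit 0xce0003e3e40404040403e4240404240404040403e3e3e40404040))
    (.leaf (nat_lit 0x4300443e40404040423e4240404040403e4040403e4040403e42)))))) (.node (.node (.node (.node (.node
    (.leaf (nat_lit 0xc33003e3e40403e404040424040404240404040403e40403e3e40))
    (.leaf (nat_lit 0xea701433f3f3f41414141413f3f414141413f41413f3f43413f43)))
    (.leaf (nat_lit 0xfe4003e4040404040404042403e42424240404040403e40403e40))) (.node
    (.leaf (nat_lit 0xc6a013f3f3f3f3f413f3f433f414141413f3f3f413f3f41413f3f))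
    (.leaf (nat_lit 0x8470042403e403e40404042403e42404040403e403e4040404044)))) (.node (.node
    (.leaf (nat_lit 0xcb6003e3e404040404040423e4042424040423e40404040404040))
    (.leaf (nat_lit 0xa70003e40424040404040423e40404240404040403e3e42404040))) (.node
    (.leaf (nat_lit 0xd32013f3f3f3f3f3f3f41433f3f41413f4141413f3f3f41413f3f))
    (.leaf (nat_lit 0xdbb01433f41413f413f3f433f3f4141413f41413f413f41414143))))) (.node (.node (.node (.node
    (.leaf (nat_lit 0xa70003e403e4040404040423e40404240404040403e3e3e404040))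
    (.leaf (nat_lit 0xb900443e404040404040443e40424240404040403e3e40403e46)))
    (.leaf (nat_lit 0xeea003e404040403e4040423e404240403e4040403e4040403e40))) (.node
    (.leaf (nat_lit 0xcb6003e3e404040404040423e40424240403e4240404040404040))
    (.leaf (nat_lit 0x80a01433f413f3f3f4141413d414141413f3f3f413f3f3f414143)))) (.node (.node
    (.leaf (nat_lit 0xabc013f3f41413f414141433f3f41413f3f3f3f3f3f3f3f413f3f))
    (.leaf (nat_lit 0xb9003c3e404040404040443e40424240404040403e3e40403e3e))) (.node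
    (.leaf (nat_lit 0xb900403e404040404040403e40424240404040403e3e40403e3e))
    (.leaf (nat_lit 0x491004440404040403e40423e4042403e403e4040404040403e42)))))))

theorem exists_k : ∃ k ∈ Co0, ∀ x : leechLattice, (x : GolayPt → ℤ) = vf uW → k x = leechU := by
  obtain ⟨k, hk, h⟩ := autChk_sound (N := kN) (H := kH) (by decide +kernel)
  exact ⟨k, hk, fun x hx =>
    apply_eq_of_imgChk h (u := uW) (v := uPair 0) (by decide +kernel) hx vf_uU.symm⟩

variable {U : Type*} [AddCommGroup U] [Module ℚ U]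

theorem toStab {B : LinearMap.BilinForm ℚ U} {N : Submodule ℤ U}
    (sp : Submodule.span ℚ (N : Set U) = ⊤) (φ : N ≃+ leechLattice)
    (hφ : ∀ a : N, (sqNorm (φ a : GolayPt → ℤ) : ℚ) = 8 * B a a) (w : N)
    {G : Type*} [Group G] (σ : Representation ℚ G U) (σB : ∀ g a b, B (σ g a) (σ g b) = B a b)
    (σN : ∀ g, ∀ a ∈ N, σ g a ∈ N) (σw : ∀ g, σ g w = w) :
    ∃ f : G →* ↥(Co0 ⊓ MulAction.stabilizer (Equiv.Perm leechLattice) (φ w)),
      ∀ g, f g = 1 → σ g = 1 := by
  let f : G →* Function.End leechLattice :=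
    { toFun := fun g x => φ ⟨σ g (φ.symm x), σN g _ (φ.symm x).2⟩
      map_one' := funext fun x => show _ = x by simp
      map_mul' := fun g h => funext fun x => show _ = φ ⟨σ g (φ.symm (φ _)), _⟩ by simp }
  have hf : ∀ g (a : N), f.toHomPerm g (φ a) = φ ⟨σ g a, σN g _ a.2⟩ := fun g a =>
    show φ ⟨σ g (φ.symm (φ _)), _⟩ = _ by simp
  refine ⟨f.toHomPerm.codRestrict _ fun g => ⟨⟨fun x y => ?_, fun x => ?_⟩, ?_⟩, fun g hg => ?_⟩
  · obtain ⟨a, rfl⟩ := φ.surjective x
    obtain ⟨b, rfl⟩ := φ.surjective y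
    rw [← map_add, hf, hf, hf, ← map_add]
    exact congrArg φ (Subtype.ext (map_add _ _ _))
  · obtain ⟨a, rfl⟩ := φ.surjective x
    rw [hf, ← Int.cast_inj (α := ℚ), hφ, hφ, σB]
  · exact (hf g w).trans (congrArg φ (Subtype.ext (σw g)))
  · refine LinearMap.ext_on sp fun a ha => ?_
    have := hf g ⟨a, ha⟩
    rw [show f.toHomPerm g = 1 from congrArg Subtype.val hg] at this
    exact (congrArg Subtype.val (φ.injective this)).symm

variable [FiniteDimensional ℚ U] (h24 : finrank ℚ U = 24) (B : LinearMap.BilinForm ℚ U)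
  (hs : ∀ x y, B x y = B y x)
  (N : Submodule ℤ U) (fg : N.FG) (sp : Submodule.span ℚ (N : Set U) = ⊤)
  (ev : ∀ x ∈ N, ∃ k : ℤ, B x x = 2 * k) (mn : ∀ x ∈ N, x ≠ 0 → 4 ≤ B x x)
  (sd : ∀ y, (∀ x ∈ N, ∃ k : ℤ, B y x = k) → y ∈ N)
  (X : Module.End ℚ U) (hX : ∀ a b, B (X a) (X b) = B a b) (XN : ∀ a ∈ N, X a ∈ N)
  (h23 : X ^ 23 = 1) {u t : U} (hu : u ∈ N) (ht : t ∈ N) (Xu : X u = u) (Xt : X t = t)
  (uu : B u u = 4) (ut : B u t = 1) (tt : B t t = 6)
  (hf : ∀ y, X y = y → ∃ a b : ℚ, y = a • u + b • t)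

include h24 hs fg sp ev mn sd hX XN h23 hu ht Xu Xt uu ut tt hf

theorem frame' : ∃ w : GolayPt → U, (∀ p q, B (w p) (w q) = if p = q then 8 else 0) ∧
    w none = t - u ∧ (∀ i, B u (w (some i)) = 1) ∧
    ∀ a ∈ N, ∃ x ∈ leechLattice, ∀ p, B a (w p) = x p := by
  obtain ⟨v, h1, vo, h3, h4, h5⟩ :=
    frame h24 B hs N fg sp ev mn sd X hX XN h23 hu ht Xu Xt uu ut tt hf
  have int := int_of_ev B hs N ev
  choose z hz e using h1
  choose y hy using fun (a : N) p => int a a.2 _ (hz p)
  choose m hm using fun (a : N) => int a a.2 _ (sub_mem ht hu)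
  choose n hn using fun (a : N) => int a a.2 _ hu
  have hv : ∀ (a : N) p, B a (v p) = (m a + 2 * y a p : ℤ) := fun a p => by
    rw [e, map_add, map_zsmul, hm, hy]; simp
  have us : B u (v none) = -3 := by rw [h3, map_sub, ut, uu]; norm_num
  have sm : ∀ a, ∑ p, y a p = 4 * n a - 10 * m a := fun a => by
    have h := congrArg (B a) (parseval h24 B vo u)
    have h6 := hv a none
    rw [h3, hm] at h6
    simp only [map_smul, map_sum, Fintype.sum_option, h5, us, smul_eq_mul, hn, hv, one_mul,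
      map_add] at h
    push_cast at h h6
    rw [← Int.cast_inj (α := ℚ), Fintype.sum_option]
    simp only [sum_add_distrib, ← mul_sum, sum_const, card_univ, ZMod.card, nsmul_eq_mul] at h
    push_cast at h ⊢
    linarith
  obtain ⟨π, p0, p1, hπ⟩ := cyc (Set.range fun a p => (y a p : ZMod 2)) (by
    rintro _ ⟨a, rfl⟩
    have h6 := hv a none
    rw [h3, hm, Int.cast_inj] at h6
    simp [show y a none = 0 by omega]) (by
    rintro _ ⟨a, rfl⟩
    rw [← Int.cast_sum, sm, ZMod.intCast_zmod_eq_zero_iff_dvd]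
    omega) (by
    rintro _ ⟨a, rfl⟩ _ ⟨b, rfl⟩
    obtain ⟨k, hk⟩ := int a a.2 b b.2
    have h := congrArg (B a) (parseval h24 B vo b)
    simp only [map_smul, map_sum, smul_eq_mul, hv, hk] at h
    have h6 : 8 * k = ∑ p, (m b + 2 * y b p) * (m a + 2 * y a p) := by exact_mod_cast h
    have h7 : ∀ p, (m b + 2 * y b p) * (m a + 2 * y a p) =
      m a * m b + 2 * m b * y a p + 2 * m a * y b p + 4 * (y b p * y a p) := fun p => by ring
    simp only [h7, sum_add_distrib, ← mul_sum, sm, sum_const, card_univ, Fintype.card_option,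
      ZMod.card, nsmul_eq_mul] at h6
    simp only [← Int.cast_mul, ← Int.cast_sum, ZMod.intCast_zmod_eq_zero_iff_dvd]
    exact ⟨k - m b * n a - m a * n b + 2 * (m a * m b), by push_cast at h6 ⊢; linarith⟩) (by
    rintro _ ⟨a, rfl⟩
    refine ⟨_, ⟨⟨X a, XN a a.2⟩, rfl⟩, fun i => congrArg Int.cast ?_⟩
    have h6 := hv ⟨X a, XN a a.2⟩ (some (i - 1 + 1))
    have h7 := hm ⟨X a, XN a a.2⟩
    rw [← Xt, ← Xu, ← map_sub X, hX, hm, Int.cast_inj] at h7
    rw [← h4, hX, hv, Int.cast_inj, sub_add_cancel] at h6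
    omega)
  refine ⟨v ∘ π, fun p q => by simp [vo], by simp [p0, h3], fun i => ?_, fun a ha =>
    ⟨fun p => m ⟨a, ha⟩ + 2 * y ⟨a, ha⟩ (π p), ?_, fun p => hv ⟨a, ha⟩ _⟩⟩
  · obtain ⟨j, hj⟩ := p1 i
    simp [hj, h5]
  · rw [leech_eq]
    refine ⟨m ⟨a, ha⟩, _, hπ _ ⟨⟨a, ha⟩, rfl⟩, fun p => ?_, ?_⟩
    · simp only [Function.comp, ZMod.val_intCast]
      omega
    · rw [sum_add_distrib, ← mul_sum, Equiv.sum_comp π (y _), sm]
      simp only [sum_const, card_univ, Fintype.card_option, ZMod.card, nsmul_eq_mul]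
      omega

theorem exists_iso : ∃ φ : N ≃+ leechLattice,
    (∀ a : N, (sqNorm (φ a : GolayPt → ℤ) : ℚ) = 8 * B a a) ∧ φ (-⟨t, ht⟩) = leechV ∧
      (φ ⟨u, hu⟩ : GolayPt → ℤ) = vf uW := by
  obtain ⟨w, wo, h1, h2, h3⟩ :=
    frame' h24 B hs N fg sp ev mn sd X hX XN h23 hu ht Xu Xt uu ut tt hf
  choose x hx e using fun a : N => h3 a a.2
  have ext : ∀ (a : N) (y : GolayPt → ℤ), (∀ p, B a (w p) = y p) → x a = y := fun a y h =>
    funext fun p => by rw [← Int.cast_inj (α := ℚ), ← e, h]
  let f : N →+ leechLattice := AddMonoidHom.mk' (fun a => ⟨x a, hx a⟩) fun a b =>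
    Subtype.ext (ext _ _ fun p => by simp [e])
  have pv := parseval h24 B wo
  refine ⟨AddEquiv.ofBijective f ⟨(injective_iff_map_eq_zero f).mpr fun a ha => ?_,
    fun y => ?_⟩, fun a => ?_, Subtype.ext (ext _ _ ?_), ext _ _ ?_⟩
  · have := pv a
    simp only [e, show x a = 0 from congrArg Subtype.val ha] at this
    simpa using this
  · refine ⟨⟨(1 / 8 : ℚ) • ∑ p, (y.1 p : ℚ) • w p, sd _ fun b hb => ?_⟩,
      Subtype.ext (ext _ _ fun p => by simp [wo, -Fintype.sum_option]; ring)⟩
    obtain ⟨k, hk⟩ := eight_dvd y.2 (hx ⟨b, hb⟩)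
    have := congrArg (Int.cast (R := ℚ)) hk
    simp only [dotInt, Int.cast_sum, Int.cast_mul, ← e] at this
    refine ⟨k, ?_⟩
    simp only [map_smul, map_sum, LinearMap.smul_apply, LinearMap.sum_apply, smul_eq_mul, hs (w _),
      this]
    push_cast
    ring
  · have := congrArg (B a) (pv a)
    simp only [map_smul, map_sum, smul_eq_mul, e] at this
    rw [this]
    show ((sqNorm (x a) : ℤ) : ℚ) = _
    simp [sqNorm, pow_two, -Fintype.sum_option]
  · rintro (_ | i)
    · simp [h1, hs t u, ut, tt, vecV, leechV]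
      norm_num
    · have := wo none (some i)
      simp only [h1, map_sub, LinearMap.sub_apply, h2, reduceCtorEq, if_false] at this
      simp [vecV, leechV, sub_eq_zero.mp this]
  · rintro (_ | i)
    · simp [h1, ut, uu, show vf uW none = -3 from rfl]
      norm_num
    · simp [h2, (by decide +kernel : ∀ i, vf uW (some i) = 1)]

theorem toCo3 {G : Type*} [Group G] (σ : Representation ℚ G U)
    (σB : ∀ g a b, B (σ g a) (σ g b) = B a b) (σN : ∀ g, ∀ a ∈ N, σ g a ∈ N)
    (σt : ∀ g, σ g t = t) : ∃ f : G →* Cfsg.Spor.Co3, ∀ g, f g = 1 → σ g = 1 := by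
  obtain ⟨φ, h1, h2, -⟩ :=
    exists_iso h24 B hs N fg sp ev mn sd X hX XN h23 hu ht Xu Xt uu ut tt hf
  have := toStab sp φ h1 (-⟨t, ht⟩) σ σB σN fun g => by simp [σt]
  rwa [h2] at this

theorem toCo2 {G : Type*} [Group G] (σ : Representation ℚ G U)
    (σB : ∀ g a b, B (σ g a) (σ g b) = B a b) (σN : ∀ g, ∀ a ∈ N, σ g a ∈ N)
    (σu : ∀ g, σ g u = u) : ∃ f : G →* Cfsg.Spor.Co2, ∀ g, f g = 1 → σ g = 1 := by
  obtain ⟨φ, h1, -, h2⟩ :=
    exists_iso h24 B hs N fg sp ev mn sd X hX XN h23 hu ht Xu Xt uu ut tt hf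
  obtain ⟨k, hk, h3⟩ := exists_k
  have := toStab sp (φ.trans ⟨k, hk.1⟩) (fun a => (congrArg _ (hk.2 _)).trans (h1 a)) ⟨u, hu⟩
    σ σB σN σu
  rwa [show φ.trans _ _ = leechU from h3 _ h2] at this

end Cfsg.Agent.H4.LeechId
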