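import Cfsg.Agent.H4.Canon
import Cfsg.Agent.H4.Golay

/-! A coding of the Mathieu group `M₁₁` for kernel computations. -/

set_option autoImplicit false

namespace Cfsg.Agent.H4.M11

open Cfsg.Spor Cfsg.Agent.H4.Golay

def mOne : ℕ := nat_lit 205163983024656

def mMul (a b : ℕ) : ℕ :=
    (Nat.add (Nat.shiftLeft (Nat.mod (Nat.mod (Nat.shiftRight a (Nat.mul (nat_lit 4) (Nat.mod (Nat.mod (Nat.shiftRight b (nat_lit 44)) (nat_lit 16)) (nat_lit 12)))) (nat_lit 16)) (nat_lit 12)) (nat_lit 44))
    (Nat.add (Nat.shiftLeft (Nat.mod (Nat.mod (Nat.shiftRight a (Nat.mul (nat_lit 4) (Nat.mod (Nat.mod (Nat.shiftRight b (nat_lit 40)) (nat_lit 16)) (nat_lit 12)))) (nat_lit 16)) (nat_lit 12)) (nat_lit 40))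
    (Nat.add (Nat.shiftLeft (Nat.mod (Nat.mod (Nat.shiftRight a (Nat.mul (nat_lit 4) (Nat.mod (Nat.mod (Nat.shiftRight b (nat_lit 36)) (nat_lit 16)) (nat_lit 12)))) (nat_lit 16)) (nat_lit 12)) (nat_lit 36))
    (Nat.add (Nat.shiftLeft (Nat.mod (Nat.mod (Nat.shiftRight a (Nat.mul (nat_lit 4) (Nat.mod (Nat.mod (Nat.shiftRight b (nat_lit 32)) (nat_lit 16)) (nat_lit 12)))) (nat_lit 16)) (nat_lit 12)) (nat_lit 32))
    (Nat.add (Nat.shiftLeft (Nat.mod (Nat.mod (Nat.shiftRight a (Nat.mul (nat_lit 4) (Nat.mod (Nat.mod (Nat.shiftRight b (nat_lit 28)) (nat_lit 16)) (nat_lit 12)))) (nat_lit 16)) (nat_lit 12)) (nat_lit 28))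
    (Nat.add (Nat.shiftLeft (Nat.mod (Nat.mod (Nat.shiftRight a (Nat.mul (nat_lit 4) (Nat.mod (Nat.mod (Nat.shiftRight b (nat_lit 24)) (nat_lit 16)) (nat_lit 12)))) (nat_lit 16)) (nat_lit 12)) (nat_lit 24))
    (Nat.add (Nat.shiftLeft (Nat.mod (Nat.mod (Nat.shiftRight a (Nat.mul (nat_lit 4) (Nat.mod (Nat.mod (Nat.shiftRight b (nat_lit 20)) (nat_lit 16)) (nat_lit 12)))) (nat_lit 16)) (nat_lit 12)) (nat_lit 20))
    (Nat.add (Nat.shiftLeft (Nat.mod (Nat.mod (Nat.shiftRight a (Nat.mul (nat_lit 4) (Nat.mod (Nat.mod (Nat.shiftRight b (nat_lit 16)) (nat_lit 16)) (nat_lit 12)))) (nat_lit 16)) (nat_lit 12)) (nat_lit 16))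
    (Nat.add (Nat.shiftLeft (Nat.mod (Nat.mod (Nat.shiftRight a (Nat.mul (nat_lit 4) (Nat.mod (Nat.mod (Nat.shiftRight b (nat_lit 12)) (nat_lit 16)) (nat_lit 12)))) (nat_lit 16)) (nat_lit 12)) (nat_lit 12))
    (Nat.add (Nat.shiftLeft (Nat.mod (Nat.mod (Nat.shiftRight a (Nat.mul (nat_lit 4) (Nat.mod (Nat.mod (Nat.shiftRight b (nat_lit 8)) (nat_lit 16)) (nat_lit 12)))) (nat_lit 16)) (nat_lit 12)) (nat_lit 8))
    (Nat.add (Nat.shiftLeft (Nat.mod (Nat.mod (Nat.shiftRight a (Nat.mul (nat_lit 4) (Nat.mod (Nat.mod (Nat.shiftRight b (nat_lit 4)) (nat_lit 16)) (nat_lit 12)))) (nat_lit 16)) (nat_lit 12)) (nat_lit 4))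
    (Nat.add (Nat.shiftLeft (Nat.mod (Nat.mod (Nat.shiftRight a (Nat.mul (nat_lit 4) (Nat.mod (Nat.mod (Nat.shiftRight b (nat_lit 0)) (nat_lit 16)) (nat_lit 12)))) (nat_lit 16)) (nat_lit 12)) (nat_lit 0))
    (nat_lit 0)))))))))))))

theorem mMul_eq (a b : ℕ) : mMul a b = mulP 4 16 12 a b := rfl

attribute [irreducible] mMul

def g0_0 : ℕ := nat_lit 144472426349121

def g0_1 : ℕ := nat_lit 171139535290896

def g1_0 : ℕ := nat_lit 165301675295256

def g1_1 : ℕ := nat_lit 98160004330011

def g2_0 : ℕ := nat_lit 193875737743896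

def g2_1 : ℕ := nat_lit 165177810506256

noncomputable def T0 : Trie :=
    (.node (.node (.node (.node (.leaf (nat_lit 205163983024656)) (.leaf (nat_lit 57520519082601)))
    (.leaf (nat_lit 177587049874071))) (.node (.node (.leaf (nat_lit 88761542709876)) (.leaf
    (nat_lit 169700657664516))) (.leaf (nat_lit 201830017864356)))) (.node (.node (.node (.leaf
    (nat_lit 144472426349121)) (.leaf (nat_lit 167814159864501))) (.leaf (nat_lit 53444262630021)))
    (.node (.leaf (nat_lit 110447931425361)) (.leaf (nat_lit 129212926526001)))))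

noncomputable def C0 : Trie :=
    (.node (.node (.node (.node (.leaf (nat_lit 22969959507559428510449665)) (.leaf (nat_lit
    19343366516719292460564489))) (.leaf (nat_lit 4835979981308472202362888))) (.node (.node (.leaf
    (nat_lit 1407374883553284)) (.leaf (nat_lit 14507165178422598303219712))) (.leaf (nat_lit
    2533352101117959)))) (.node (.node (.node (.leaf (nat_lit 844424930131970)) (.leaf (nat_lit
    15716164783324616621162501))) (.leaf (nat_lit 15716533719332042259103747))) (.node (.leaf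
    (nat_lit 1970324836974598)) (.leaf (nat_lit 281474976710666)))))

noncomputable def P0 : Trie :=
    (.node (.node (.node (.node (.leaf (nat_lit 0)) (.leaf (nat_lit 4))) (.leaf (nat_lit 2)))
    (.node (.node (.leaf (nat_lit 1)) (.leaf (nat_lit 7))) (.leaf (nat_lit 3)))) (.node (.node
    (.node (.leaf (nat_lit 0)) (.leaf (nat_lit 65542))) (.leaf (nat_lit 65538))) (.node (.leaf
    (nat_lit 65537)) (.leaf (nat_lit 65539)))))

noncomputable def L0 : MLevel where
  S := [g0_0, g0_1]
  T := T0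
  m := nat_lit 11
  C := C0
  sh := nat_lit 48
  P := P0
  W :=
    [(g1_0, [], [g0_1, g0_1, g0_0, g0_0, g0_0, g0_1, g0_0, g0_1, g0_0, g0_0, g0_0, g0_0, g0_1,
    g0_1]), (g1_1, [], [g0_0, g0_1, g0_1, g0_0, g0_1, g0_0, g0_0, g0_1, g0_0, g0_1, g0_0])]

noncomputable def T1 : Trie :=
    (.node (.node (.node (.node (.node (.node (.leaf (nat_lit 205163983024656)) (.leaf (nat_lit
    6895478321691))) (.leaf (nat_lit 163310550295056))) (.node (.leaf (nat_lit 58894546854426))
    (.leaf (nat_lit 78767172661776)))) (.node (.node (.leaf (nat_lit 79414039130646)) (.leaf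
    (nat_lit 153130888503831))) (.node (.leaf (nat_lit 162133047640596)) (.leaf (nat_lit
    183642525753876))))) (.node (.node (.node (.node (.leaf (nat_lit 98160004330011)) (.leaf
    (nat_lit 75894882939411))) (.leaf (nat_lit 4997037380121))) (.node (.leaf (nat_lit
    7119768801816)) (.leaf (nat_lit 79831486845456)))) (.node (.node (.leaf (nat_lit
    57211489067541)) (.leaf (nat_lit 151407536271891))) (.node (.leaf (nat_lit 123928205169171))
    (.leaf (nat_lit 133291492205076)))))) (.node (.node (.node (.node (.node (.leaf (nat_lit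
    165301675295256)) (.leaf (nat_lit 167926364897811))) (.leaf (nat_lit 126768650748441))) (.node
    (.leaf (nat_lit 60501230129691)) (.leaf (nat_lit 141238543430166)))) (.node (.node (.leaf
    (nat_lit 181674550247961)) (.leaf (nat_lit 203015974367766))) (.node (.leaf (nat_lit
    3879887004186)) (.leaf (nat_lit 193950666666516))))) (.node (.node (.node (.node (.leaf
    (nat_lit 100760895390231)) (.leaf (nat_lit 205059879555606))) (.leaf (nat_lit
    134932457341461))) (.node (.leaf (nat_lit 116589916008981)) (.leaf (nat_lit 91760108462616))))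
    (.node (.node (.leaf (nat_lit 186242762830356)) (.leaf (nat_lit 88280747704851))) (.node (.leaf
    (nat_lit 111808913818131)) (.leaf (nat_lit 111064825500186)))))))

noncomputable def C1 : Trie :=
    (.node (.node (.node (.node (.node (.node (.leaf (nat_lit 8589934593)) (.leaf (nat_lit
    4503629692993568))) (.leaf (nat_lit 281586645860379))) (.node (.leaf (nat_lit 73014902794))
    (.leaf (nat_lit 562988608782365)))) (.node (.node (.leaf (nat_lit 42949672969)) (.leaf (nat_lit
    133143986206))) (.node (.leaf (nat_lit 103079215127)) (.leaf (nat_lit 1407439308652566)))))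
    (.node (.node (.node (.node (.leaf (nat_lit 25769803781)) (.leaf (nat_lit 2814891501092872)))
    (.leaf (nat_lit 124555165713))) (.node (.leaf (nat_lit 90194313236)) (.leaf (nat_lit
    137439870997)))) (.node (.node (.leaf (nat_lit 60129542157)) (.leaf (nat_lit
    2533287675756558))) (.node (.leaf (nat_lit 1407379178520602)) (.leaf (nat_lit
    5066656954974242)))))) (.node (.node (.node (.node (.node (.leaf (nat_lit 17179869187)) (.leaf
    (nat_lit 3659325021683728))) (.leaf (nat_lit 120259477523))) (.node (.leaf (nat_lit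
    81604378642)) (.leaf (nat_lit 1688965825429535)))) (.node (.node (.leaf (nat_lit 51539607563))
    (.leaf (nat_lit 1407374884798492))) (.node (.leaf (nat_lit 4222171895300121)) (.leaf (nat_lit
    1970423621222433))))) (.node (.node (.node (.node (.leaf (nat_lit 34359738375)) (.leaf (nat_lit
    5348153407242246))) (.leaf (nat_lit 3659252006715396))) (.node (.leaf (nat_lit 94490329100))
    (.leaf (nat_lit 3659260596846616)))) (.node (.node (.leaf (nat_lit 68719476751)) (.leaf
    (nat_lit 3377721196085250))) (.node (.leaf (nat_lit 2251855648260096)) (.leaf (nat_lit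
    3659320726126627)))))))

noncomputable def P1 : Trie :=
    (.node (.node (.node (.node (.node (.node (.leaf (nat_lit 0)) (.leaf (nat_lit 65562))) (.leaf
    (nat_lit 65543))) (.node (.leaf (nat_lit 65539)) (.leaf (nat_lit 65548)))) (.node (.node (.leaf
    (nat_lit 65537)) (.leaf (nat_lit 10))) (.node (.leaf (nat_lit 65541)) (.leaf (nat_lit
    65553))))) (.node (.node (.node (.node (.leaf (nat_lit 65536)) (.leaf (nat_lit 30))) (.leaf
    (nat_lit 9))) (.node (.leaf (nat_lit 65540)) (.leaf (nat_lit 14)))) (.node (.node (.leaf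
    (nat_lit 65538)) (.leaf (nat_lit 65547))) (.node (.leaf (nat_lit 65542)) (.leaf (nat_lit
    20)))))) (.node (.node (.node (.node (.node (.leaf (nat_lit 0)) (.leaf (nat_lit 29))) (.leaf
    (nat_lit 65544))) (.node (.leaf (nat_lit 4)) (.leaf (nat_lit 13)))) (.node (.node (.leaf
    (nat_lit 2)) (.leaf (nat_lit 65546))) (.node (.leaf (nat_lit 6)) (.leaf (nat_lit 65554)))))
    (.node (.node (.node (.node (.leaf (nat_lit 1)) (.leaf (nat_lit 31))) (.leaf (nat_lit 65545)))
    (.node (.leaf (nat_lit 5)) (.leaf (nat_lit 16)))) (.node (.node (.leaf (nat_lit 3)) (.leaf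
    (nat_lit 12))) (.node (.leaf (nat_lit 7)) (.leaf (nat_lit 65556)))))))

noncomputable def L1 : MLevel where
  S := [g1_0, g1_1]
  T := T1
  m := nat_lit 36
  C := C1
  sh := nat_lit 32
  P := P1
  W :=
    [(g2_0, [], [g1_0, g1_0, g1_1, g1_0, g1_0, g1_1, g1_0, g1_1, g1_1, g1_1]), (g2_1, [], [g1_0,
    g1_0, g1_1, g1_0, g1_1, g1_0, g1_1, g1_1, g1_1])]

noncomputable def T2 : Trie :=
    (.node (.node (.node (.node (.node (.leaf (nat_lit 205163983024656)) (.leaf (nat_lit
    92877502820886))) (.leaf (nat_lit 169832474522136))) (.node (.leaf (nat_lit 159121365414426))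
    (.leaf (nat_lit 167472388534806)))) (.node (.node (.node (.leaf (nat_lit 165177810506256))
    (.leaf (nat_lit 132586986058266))) (.leaf (nat_lit 53441077727766))) (.node (.leaf (nat_lit
    57545995235856)) (.leaf (nat_lit 59873332072986))))) (.node (.node (.node (.node (.leaf
    (nat_lit 193875737743896)) (.leaf (nat_lit 64530144457236))) (.leaf (nat_lit 97532167754256)))
    (.node (.leaf (nat_lit 95177460183576)) (.leaf (nat_lit 88195450057236)))) (.node (.node (.node
    (.leaf (nat_lit 202836645270036)) (.leaf (nat_lit 134366715482646))) (.leaf (nat_lit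
    130122757321236))) (.node (.leaf (nat_lit 198119704261146)) (.leaf (nat_lit
    128343027896856))))))

noncomputable def C2 : Trie :=
    (.node (.node (.node (.node (.node (.leaf (nat_lit 131073)) (.leaf (nat_lit 196627))) (.leaf
    (nat_lit 917517))) (.node (.leaf (nat_lit 655369)) (.leaf (nat_lit 1114128)))) (.node (.node
    (.node (.leaf (nat_lit 393221)) (.leaf (nat_lit 1245190))) (.leaf (nat_lit 851980))) (.node
    (.leaf (nat_lit 589832)) (.leaf (nat_lit 1048578))))) (.node (.node (.node (.node (.leaf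
    (nat_lit 262147)) (.leaf (nat_lit 327684))) (.leaf (nat_lit 15))) (.node (.leaf (nat_lit
    458763)) (.leaf (nat_lit 65554)))) (.node (.node (.node (.leaf (nat_lit 524295)) (.leaf
    (nat_lit 720906))) (.leaf (nat_lit 983054))) (.node (.leaf (nat_lit 786432)) (.leaf (nat_lit
    1179665))))))

noncomputable def P2 : Trie :=
    (.node (.node (.node (.node (.node (.leaf (nat_lit 0)) (.leaf (nat_lit 12))) (.leaf (nat_lit
    65539))) (.node (.leaf (nat_lit 65537)) (.leaf (nat_lit 65543)))) (.node (.node (.node (.leaf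
    (nat_lit 65536)) (.leaf (nat_lit 13))) (.leaf (nat_lit 65540))) (.node (.leaf (nat_lit 65538))
    (.leaf (nat_lit 65544))))) (.node (.node (.node (.node (.leaf (nat_lit 0)) (.leaf (nat_lit
    65548))) (.leaf (nat_lit 4))) (.node (.leaf (nat_lit 2)) (.leaf (nat_lit 8)))) (.node (.node
    (.node (.leaf (nat_lit 1)) (.leaf (nat_lit 16))) (.leaf (nat_lit 5))) (.node (.leaf (nat_lit
    3)) (.leaf (nat_lit 9))))))

noncomputable def L2 : MLevel where
  S := [g2_0, g2_1]
  T := T2
  m := nat_lit 20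
  C := C2
  sh := nat_lit 16
  P := P2
  W :=
    []

/-- The coding. -/
noncomputable def K : Coding M11 (Function.End (Fin 12)) where
  ι := MulAction.toEndHom.comp phi11
  inj := fun _ _ h => phi11_inj (Equiv.ext fun i => congrFun h i)
  dec := decP 4 16 12
  mul := mMul
  dec_mul a b := by rw [mMul_eq]; exact decP_mul (by norm_num) (by norm_num) a b

theorem K_canon : K.Canon := by
  intro a b c d h
  change decP 4 16 12 (mMul a b) = decP 4 16 12 (mMul c d) at h
  show mMul a b = mMul c d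
  rw [mMul_eq a b, mMul_eq c d] at h ⊢
  exact decP_mul_inj (by norm_num) (by norm_num) h

/-- The image of a point under the map coded by `c`. -/
def ent (c : ℕ) (i : Fin 12) : Fin 12 := decP 4 16 12 c i

theorem R_iff {c : ℕ} {g : M11} : K.R c g ↔ ∀ i, ent c i = phi11 g i := funext_iff

theorem R_one : K.R mOne 1 := by
  rw [R_iff, map_one]
  decide +kernel

/-- Codes of the seven generators. -/
def S7 : List ℕ := [171139535290896, 92615224025616, 183942805598736, 80841396400656,
  164327252963856, 167926364897811, 148896472117761]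

theorem S7_spec : List.Forall₂ (fun c (σ : Equiv.Perm (Fin 12)) => ∀ i, ent c i = σ i) S7
    [gs, gt, gu, gv, gw, gx1, gx2] := by decide +kernel

theorem S7_In : ∀ c ∈ S7, K.In ⊤ c := by
  intro c hc
  obtain ⟨σ, hσ, e⟩ : ∃ σ ∈ [gs, gt, gu, gv, gw, gx1, gx2], ∀ i, ent c i = σ i := by
    obtain ⟨i, hi, rfl⟩ := List.getElem_of_mem hc
    exact ⟨_, List.getElem_mem _, S7_spec.get hi (S7_spec.length_eq ▸ hi)⟩
  obtain ⟨g, rfl⟩ : σ ∈ phi11.range := by
    rw [range_phi11]
    exact Subgroup.subset_closure (by simpa using hσ)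
  exact ⟨g, Subgroup.mem_top _, R_iff.mpr e⟩

theorem S_In : ∀ c ∈ L0.S, K.In ⊤ c := by
  intro c hc
  have : ∀ c ∈ L0.S, ∃ l ∈ [[0, 2, 5, 6], [0]],
    c = mword mMul (l.map fun i => S7.getD i 0) mOne ∧ ∀ i ∈ l, S7.getD i 0 ∈ S7 := by
    decide +kernel
  obtain ⟨l, -, rfl, h⟩ := this c hc
  refine Coding.mword_In (K := K) (fun c hc => ?_) R_one
  obtain ⟨i, hi, rfl⟩ := List.mem_map.mp hc
  exact S7_In _ (h i hi)

/-- The code of a word in the two generators. -/
noncomputable def wd (l : List ℕ) : ℕ := mword mMul (l.map fun i => L0.S.getD i mOne) mOne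

theorem wd_In (l : List ℕ) : K.In (K.Gr L0.S) (wd l) := by
  refine Coding.mword_In (fun c hc => ?_) R_one
  obtain ⟨i, -, rfl⟩ := List.mem_map.mp hc
  by_cases hi : i < L0.S.length
  · rw [List.getD_eq_getElem _ _ hi]
    exact Coding.In_Gr (List.getElem_mem hi) (S_In _ (List.getElem_mem hi))
  · rw [List.getD_eq_default _ _ (not_lt.mp hi)]
    exact ⟨1, Subgroup.one_mem _, R_one⟩

theorem mem_Gr (g : M11) : g ∈ K.Gr L0.S := by
  have h : MM11 ≤ (K.Gr L0.S).map phi11 := by
    rw [MM11, Subgroup.closure_le]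
    intro σ hσ
    have : allL (fun σ : Equiv.Perm (Fin 12) => anyL (fun l =>
      force (wd l) fun c => decide (∀ i, ent c i = σ i)) [[1],
      [0, 0, 1, 0, 1, 0, 1, 1, 0, 1, 0, 0, 1, 1], [0, 0, 1, 0, 0, 0, 1, 0, 0, 1, 1, 0, 0, 1],
      [0, 0, 0, 0, 0, 1, 1, 0, 0, 0, 0], [0, 0, 0, 1, 0, 0, 0, 0, 0, 0, 1, 0, 0, 0],
      [0, 0, 1, 0, 0, 0, 0, 1, 1, 0, 1, 1, 0, 0, 1, 0], [0, 0, 0, 1, 0, 0, 0, 1, 1, 0]])
      [gs, gt, gu, gv, gw, gx1, gx2] = true := by decide +kernel
    obtain ⟨l, -, e⟩ := anyL_iff.mp (allL_iff.mp this σ (by simpa using hσ))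
    rw [force_eq, decide_eq_true_eq] at e
    obtain ⟨x, hx, hr⟩ := wd_In l
    exact ⟨x, hx, Equiv.ext fun i => (R_iff.mp hr i).symm.trans (e i)⟩
  obtain ⟨x, hx, e⟩ := h (range_phi11 ▸ ⟨g, rfl⟩ : phi11 g ∈ MM11)
  rwa [← phi11_inj e]

theorem ms : MSOK mMul mOne [L0, L1, L2] := MSOK_of_msChk (by decide +kernel)

/-- A check that succeeds on the eleven cosets succeeds on a code of every element. -/
theorem forall_of_chk {chk : ℕ → Bool}
    (h : allB (fun i => force (mMul mOne (L0.T.get i)) (menum mMul chk [L1, L2])) 11 = true)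
    (g : M11) : ∃ c, K.R c g ∧ chk c = true :=
  Coding.forall_of_menum_all R_one ms S_In h (mem_Gr g)

theorem eq_top_of_sq (N : Subgroup M11) (h : ∀ y, y * y ∈ N) : N = ⊤ := by
  rw [eq_top_iff]
  intro g _
  refine Coding.Gr_le (K := K) (S := L0.S) (fun c hc => ?_) (mem_Gr g)
  have : ∀ c ∈ L0.S, ∃ l ∈ [[0, 0, 0, 0, 0, 0], [1, 1]], c = mMul (wd l) (wd l) := by
    decide +kernel
  obtain ⟨l, -, rfl⟩ := this c hc
  obtain ⟨x, -, hx⟩ := wd_In l
  exact ⟨_, h x, hx.mul hx⟩

end Cfsg.Agent.H4.M11
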