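import Cfsg.Agent.H4.Canon
import Cfsg.Agent.H4.Nse

/-!
# Counting the elements of each order along a subgroup chain certificate
-/

set_option autoImplicit false

namespace Cfsg.Agent.H4

open Finset

/-- The sum of `f i` for `i < n`, evaluated eagerly. -/
noncomputable def sumF (f : ℕ → ℕ) (n : ℕ) : ℕ :=
  Nat.rec (motive := fun _ => ℕ → ℕ) (fun s => s) (fun i ih s => force (Nat.add s (f i)) ih) n 0

theorem sumF_eq (f : ℕ → ℕ) (n : ℕ) : sumF f n = ∑ i ∈ range n, f i := by
  have : ∀ s, Nat.rec (motive := fun _ => ℕ → ℕ) (fun s => s)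
      (fun i ih s => force (Nat.add s (f i)) ih) n s = s + ∑ i ∈ range n, f i := by
    induction n with
    | zero => intro s; rfl
    | succ n ih =>
      intro s
      change force (Nat.add s (f n)) _ = _
      rw [force_eq, ih, sum_range_succ, Nat.add_eq]
      omega
  rw [sumF, this, zero_add]

/-- Sum `f` over the products of `a` with the products of transversal elements. -/
noncomputable def msum (mul : ℕ → ℕ → ℕ) (f : ℕ → ℕ) (Ls : List MLevel) : ℕ → ℕ :=
  List.rec (fun a => f a) (fun L _ ih a => sumF (fun i => force (mul a (L.T.get i)) ih) L.m) Ls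

theorem msum_cons (mul : ℕ → ℕ → ℕ) (f : ℕ → ℕ) (L : MLevel) (Ls : List MLevel) (a : ℕ) :
    msum mul f (L :: Ls) a = ∑ i ∈ range L.m, msum mul f Ls (mul a (L.T.get i)) := by
  change sumF (fun i => force (mul a (L.T.get i)) (msum mul f Ls)) L.m = _
  simp only [sumF_eq, force_eq]

/-- The least `k` in `[k₀, k₀ + n)` with `x * c ^ (k + 1 - k₀) = one`, or zero. -/
noncomputable def ordC (mul : ℕ → ℕ → ℕ) (one c n : ℕ) : ℕ → ℕ → ℕ :=
  Nat.rec (fun _ _ => 0)
    (fun _ ih k x => force (mul x c) fun y => Bool.rec (force (Nat.succ k) fun k => ih k y) k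
      (Nat.beq y one)) n

/-- The weight `2 ^ (f * order)`. -/
noncomputable def ordW (mul : ℕ → ℕ → ℕ) (one f n c : ℕ) : ℕ :=
  Nat.shiftLeft 1 (Nat.mul f (ordC mul one c n 1 one))

namespace Coding

variable {G M : Type*} [Group G] [Monoid M] {K : Coding G M}

theorem sum_eq_msum [Fintype G] {Ls : List MLevel} (hm : ∀ L ∈ Ls, ∀ i < L.m, K.In ⊤ (L.T.get i))
    (hf : ∀ g, K.Fc Ls g) (hc : (Ls.map MLevel.m).prod ≤ Nat.card G) {f : ℕ → ℕ} {F : G → ℕ}
    (hF : ∀ c g, K.R c g → f c = F g) {one : ℕ} (h1 : K.R one 1) :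
    msum K.mul f Ls one = ∑ g, F g := by
  classical
  have key : ∀ a g, K.R a g → ∃ s : Multiset G, s.card = (Ls.map MLevel.m).prod ∧
      (∀ k, K.Fc Ls k → g * k ∈ s) ∧ msum K.mul f Ls a = (s.map F).sum := by
    clear hf hc
    induction Ls with
    | nil =>
      intro a g ha
      refine ⟨{g}, rfl, fun k hk => ?_, ?_⟩
      · rw [show k = 1 from hk, mul_one]
        exact Multiset.mem_singleton_self g
      · rw [Multiset.map_singleton, Multiset.sum_singleton, ← hF a g ha]
        rfl
    | cons L Ls ih =>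
      intro a g ha
      have h2 : ∀ i, ∃ s : Multiset G, i < L.m → s.card = (Ls.map MLevel.m).prod ∧
          (∀ t k, K.R (L.T.get i) t → K.Fc Ls k → g * (t * k) ∈ s) ∧
          msum K.mul f Ls (K.mul a (L.T.get i)) = (s.map F).sum := by
        intro i
        by_cases hi : i < L.m
        · obtain ⟨t, -, ht⟩ := hm L (by simp) i hi
          obtain ⟨s, e1, e2, e3⟩ := ih (fun L' hL' => hm L' (by simp [hL'])) _ _ (ha.mul ht)
          exact ⟨s, fun _ => ⟨e1, fun t' k ht' hk => by rw [ht'.unique ht, ← mul_assoc]; exact e2 k hk,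
            e3⟩⟩
        · exact ⟨0, fun h => absurd h hi⟩
      choose s hs using h2
      refine ⟨∑ i ∈ range L.m, s i, ?_, ?_, ?_⟩
      · rw [Multiset.card_sum, sum_congr rfl fun i hi => (hs i (mem_range.mp hi)).1]
        simp
      · rintro k ⟨i, hi, t, k, ht, hk, rfl⟩
        exact Multiset.mem_sum.mpr ⟨i, mem_range.mpr hi, (hs i hi).2.1 t k ht hk⟩
      · rw [msum_cons, ← Multiset.coe_mapAddMonoidHom, map_sum, Multiset.sum_sum]
        exact sum_congr rfl fun i hi => (hs i (mem_range.mp hi)).2.2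
  obtain ⟨s, e1, e2, e3⟩ := key one 1 h1
  have h2 : (univ : Finset G).val ≤ s :=
    (Multiset.le_iff_subset univ.nodup).mpr fun g _ => one_mul g ▸ e2 g (hf g)
  rw [e3, ← Multiset.eq_of_le_of_card_le h2 (by
    rw [e1, card_val, card_univ, ← Nat.card_eq_fintype_card]; exact hc)]
  rfl

theorem ordC_eq (hK : K.Canon) {one : ℕ} (h1 : K.R one 1) (h2 : K.mul one one = one) {c : ℕ} {g : G}
    (hc : K.R c g) (n : ℕ) {k x : ℕ} (hx : K.R x (g ^ k)) (hk : k < orderOf g) :
    ordC K.mul one c n (k + 1) x = if orderOf g ≤ k + n then orderOf g else 0 := by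
  induction n generalizing k x with
  | zero => rw [if_neg (by omega)]; rfl
  | succ n ih =>
    change force (K.mul x c) (fun y => (Bool.rec (force (k + 1 + 1) fun k => ordC K.mul one c n k y)
      (k + 1) (Nat.beq y one) : ℕ)) = _
    rw [force_eq, force_eq]
    have h3 : K.R (K.mul x c) (g ^ (k + 1)) := pow_succ g k ▸ hx.mul hc
    by_cases h4 : orderOf g = k + 1
    · have h5 : K.mul x c = one := by
        rw [← h2]
        exact hK.eq hx hc h1 h1 (by rw [← pow_succ, ← h4, pow_orderOf_eq_one, mul_one])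
      rw [h5, Nat.beq_refl, if_pos (by omega), h4]
    · have h5 : Nat.beq (K.mul x c) one = false := by
        rw [Bool.eq_false_iff, Ne, Nat.beq_eq]
        intro e
        rw [e] at h3
        exact pow_ne_one_of_lt_orderOf (by omega) (show k + 1 < orderOf g by omega) (h3.unique h1)
      rw [h5, add_comm n, ← add_assoc]
      exact ih h3 (by omega)

/-- The numbers of elements of each order, read off a packed sum. -/
theorem mo_eq_of_msum [Finite G] (hK : K.Canon) {one : ℕ} (h1 : K.R one 1) (h2 : K.mul one one = one)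
    {Ls : List MLevel} (hm : ∀ L ∈ Ls, ∀ i < L.m, K.In ⊤ (L.T.get i)) (hf : ∀ g, K.Fc Ls g)
    (hc : (Ls.map MLevel.m).prod ≤ Nat.card G) {f n s : ℕ} (hG : Nat.card G < 2 ^ f)
    (hs : msum K.mul (ordW K.mul one f n) Ls one = s) (h0 : s % 2 ^ f = 0) (k : ℕ) :
    Nse.mo G k = if k ≤ n then (s >>> (f * k)) % 2 ^ f else 0 := by
  classical
  have := Fintype.ofFinite G
  let o : G → ℕ := fun g => if orderOf g ≤ n then orderOf g else 0
  have h3 : s = pk f (n + 1) fun k => #{g | o g = k} := by
    rw [← hs, sum_eq_msum hm hf hc (F := fun g => 2 ^ (f * o g)) (fun c g hcg => ?_) h1, pk,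
      ← sum_fiberwise_of_maps_to (g := o) (t := range (n + 1)) (fun g _ => ?_)]
    · refine sum_congr rfl fun k _ => ?_
      rw [sum_congr rfl fun g hg => by rw [(mem_filter.mp hg).2], sum_const, smul_eq_mul]
    · simp only [o, mem_range]
      split_ifs <;> omega
    · have := ordC_eq hK h1 h2 hcg n (k := 0) (by rwa [pow_zero]) (orderOf_pos g)
      rw [zero_add, zero_add] at this
      rw [ordW, this]
      exact Nat.one_shiftLeft _
  have h4 : ∀ k ≤ n, (s >>> (f * k)) % 2 ^ f = #{g | o g = k} := fun k hk => by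
    rw [h3]
    exact pk_shift_mod (fun i _ => lt_of_le_of_lt (card_filter_le _ _)
      (by rwa [card_univ, ← Nat.card_eq_fintype_card])) (by omega)
  have h5 : ∀ g : G, orderOf g ≤ n := fun g => by
    have h6 := h4 0 (by omega)
    rw [mul_zero, Nat.shiftRight_zero, h0, eq_comm, card_eq_zero, filter_eq_empty_iff] at h6
    by_contra h7
    exact h6 (mem_univ g) (if_neg h7)
  rw [Nse.mo_eq]
  split_ifs with hk
  · rw [h4 k hk]
    simp only [o, if_pos (h5 _)]
  · rw [card_eq_zero, filter_eq_empty_iff]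
    intro g _ e
    exact hk (e ▸ h5 g)

end Coding

end Cfsg.Agent.H4
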