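import Cfsg.Agent.H4.M11Rec2
import Cfsg.Agent.H4.M11Code
import Cfsg.Agent.H4.MSum
import Cfsg.Agent.H4.Nse3

/-!
# The numbers of elements of each order in `M₁₁`
-/

set_option autoImplicit false

namespace Cfsg.Agent.H4.M11R

open Nse Cfsg.Spor

theorem mo_M11 (k : ℕ) : mo M11 k = if k ≤ 11 then
    (137924598677930671011337840484774959597004914659210362880 >>> (16 * k)) % 2 ^ 16 else 0 := by
  have hG := Coding.good M11.R_one M11.ms M11.S_In
  refine Coding.mo_eq_of_msum M11.K_canon M11.R_one (by decide +kernel)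
    (fun L hL i hi => (hG.mem L hL i hi).mono le_top) (fun g => hG.fac g (M11.mem_Gr g))
    (by rw [Golay.card_M11]; decide +kernel) (by rw [Golay.card_M11]; norm_num)
    (by decide +kernel) (by decide +kernel) k

/-- The values of the counting function. -/
def S : List ℕ := [1, 165, 440, 990, 1584, 1320, 1980, 1440]

theorem mo_M11_mem (k : ℕ) : mo M11 k ∈ 0 :: S := by
  rw [mo_M11]
  split_ifs with h
  · revert k
    decide +kernel
  · simp

theorem exists_mo_M11 : ∀ c ∈ S, 0 < c ∧ ∃ n, mo M11 n = c := by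
  have : ∀ c ∈ S, 0 < c ∧ ∃ k ≤ 11,
    (137924598677930671011337840484774959597004914659210362880 >>> (16 * k)) % 2 ^ 16 = c := by
    decide +kernel
  intro c hc
  obtain ⟨h1, k, hk, e⟩ := this c hc
  exact ⟨h1, k, by rw [mo_M11, if_pos hk, e]⟩

theorem hyp_of_nse {G : Type*} [Group G] [Finite G] (hc : Nat.card G = 7920)
    (h1 : ∀ n, mo G n ∈ 0 :: S) (h2 : ∀ c ∈ S, ∃ n, mo G n = c) : Hyp G := by
  have hi : ∀ {n n' : ℕ}, 0 < mo G n → mo G n = mo G n' → n = n' := fun hn h =>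
    eq_of_mo_eq (S := S.toFinset) (fun c hc => h2 c (List.mem_toFinset.mp hc))
      (by rw [hc]; decide +kernel) hn h
  have hf : ∀ d ∈ [2, 3, 4, 5, 8, 9, 11, 16], d ∣ ∑ n ∈ d.divisors, mo G n := fun d hd =>
    frob (hc ▸ (by decide : ∀ d ∈ [2, 3, 4, 5, 8, 9, 11, 16], d ∣ 7920) d hd)
  have hp : ∀ p ∈ [2, 3, 5, 11], 0 < mo G p := fun p hp =>
    mo_pos_prime ((by decide : ∀ p ∈ [2, 3, 5, 11], p.Prime) p hp)
      (hc ▸ (by decide : ∀ d ∈ [2, 3, 5, 11], d ∣ 7920) p hp)
  have m1 : mo G 1 = 1 := mo_one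
  have f2 : 2 ∣ mo G 1 + mo G 2 := hf 2 (by simp)
  have f3 : 3 ∣ mo G 1 + mo G 3 := hf 3 (by simp)
  have f4 : 4 ∣ mo G 1 + (mo G 2 + mo G 4) := hf 4 (by simp)
  have f5 : 5 ∣ mo G 1 + mo G 5 := hf 5 (by simp)
  have f8 : 8 ∣ mo G 1 + (mo G 2 + (mo G 4 + mo G 8)) := hf 8 (by simp)
  have f9 : 9 ∣ mo G 1 + (mo G 3 + mo G 9) := hf 9 (by simp)
  have f11 : 11 ∣ mo G 1 + mo G 11 := hf 11 (by simp)
  have f16 : 16 ∣ mo G 1 + (mo G 2 + (mo G 4 + (mo G 8 + mo G 16))) := hf 16 (by simp)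
  simp only [S, List.mem_cons, List.not_mem_nil, or_false] at h1
  have m2 : mo G 2 = 165 := by
    have := h1 2
    have : mo G 1 ≠ mo G 2 := fun e => absurd (hi (by omega) e) (by norm_num)
    omega
  have m3 : mo G 3 = 440 := by have := h1 3; omega
  have m4 : mo G 4 = 990 := by have := h1 4; omega
  have m5 : mo G 5 = 1584 := by have := h1 5; omega
  have m8 : mo G 8 = 1980 := by have := h1 8; omega
  have m11 : mo G 11 = 1440 := by have := h1 11; omega
  have key : ∀ n, 0 < mo G n → mo G n = 1320 ∨ n ∈ [1, 2, 3, 4, 5, 8, 11] := by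
    intro n hn
    simp only [List.mem_cons, List.not_mem_nil, or_false]
    rcases h1 n with e | e | e | e | e | e | e | e | e
    · omega
    · have := hi hn (e.trans m1.symm); omega
    · have := hi hn (e.trans m2.symm); omega
    · have := hi hn (e.trans m3.symm); omega
    · have := hi hn (e.trans m4.symm); omega
    · have := hi hn (e.trans m5.symm); omega
    · omega
    · have := hi hn (e.trans m8.symm); omega
    · have := hi hn (e.trans m11.symm); omega
  refine ⟨hc, fun g => ?_, m2, m3, m4, m8⟩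
  have h3 := mo_pos g
  generalize orderOf g = n at h3
  have : ∀ n ∈ Nat.divisors 7920, ¬ 5 ∣ n → ¬ 11 ∣ n → n ≠ 9 → n ≠ 16 →
      (∀ d ∈ n.divisors, d = n ∨ d ∈ [1, 2, 3, 4, 5, 8, 11]) → n ∈ [1, 2, 3, 4, 5, 6, 8, 11] := by
    decide +kernel
  rcases key n h3 with h4 | h4
  · refine this n (Nat.mem_divisors.mpr ⟨hc ▸ dvd_of_mo_pos h3, by norm_num⟩) (fun h5 => ?_)
      (fun h5 => ?_) (by rintro rfl; omega) (by rintro rfl; omega) fun d hd => ?_
    · have := mo_prime_dvd (G := G) (by norm_num) (by rw [hc]; norm_num) h5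
      rw [m5, h4] at this
      omega
    · have := mo_prime_dvd (G := G) (by norm_num) (by rw [hc]; norm_num) h5
      rw [m11, h4] at this
      omega
    · have h5 := mo_pos_of_dvd' h3 (Nat.dvd_of_mem_divisors hd)
      exact (key d h5).imp_left fun e => hi h5 (e.trans h4.symm)
  · exact (by decide : ∀ n ∈ [1, 2, 3, 4, 5, 8, 11], n ∈ [1, 2, 3, 4, 5, 6, 8, 11]) n h4

theorem hyp_M11 : Hyp M11 := hyp_of_nse Golay.card_M11 mo_M11_mem fun c hc => (exists_mo_M11 c hc).2

end Cfsg.Agent.H4.M11R
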