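import Cfsg.Agent.H4.TC

/-!
# Coset enumerations for presentations of `M₁₁` and `PSL₃(3)`
-/

set_option autoImplicit false
set_option maxRecDepth 100000
set_option linter.unusedSimpArgs false

namespace Cfsg.Agent.H4.M11P

/-- Certificate data. -/
def pn_par : Trie :=
    (.node (.node (.node (.node (.node (.leaf (nat_lit 0)) (.leaf (nat_lit 2561))) (.leaf (nat_lit
    769))) (.node (.leaf (nat_lit 260)) (.leaf (nat_lit 1281)))) (.node (.node (.leaf (nat_lit 4))
    (.leaf (nat_lit 1025))) (.node (.leaf (nat_lit 513)) (.leaf (nat_lit 1537))))) (.node (.node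
    (.node (.node (.leaf (nat_lit 3)) (.leaf (nat_lit 2565))) (.leaf (nat_lit 770))) (.node (.leaf
    (nat_lit 261)) (.leaf (nat_lit 1282)))) (.node (.node (.leaf (nat_lit 5)) (.leaf (nat_lit
    1026))) (.node (.leaf (nat_lit 514)) (.leaf (nat_lit 1541))))))

/-- Certificate data. -/
def pn_fact : Trie :=
    (.node (.node (.node (.node (.node (.node (.leaf (nat_lit 1)) (.leaf (nat_lit 61185))) (.leaf
    (nat_lit 82945))) (.node (.node (.leaf (nat_lit 41221)) (.leaf (nat_lit 141829))) (.leaf
    (nat_lit 108035)))) (.node (.node (.node (.leaf (nat_lit 24581)) (.leaf (nat_lit 126979)))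
    (.leaf (nat_lit 107778))) (.node (.node (.leaf (nat_lit 57858)) (.leaf (nat_lit 94465))) (.leaf
    (nat_lit 69125))))) (.node (.node (.node (.node (.leaf (nat_lit 8449)) (.leaf (nat_lit
    109573))) (.leaf (nat_lit 84741))) (.node (.node (.leaf (nat_lit 25859)) (.leaf (nat_lit
    119043))) (.leaf (nat_lit 92163)))) (.node (.node (.node (.leaf (nat_lit 33028)) (.leaf
    (nat_lit 134405))) (.leaf (nat_lit 77313))) (.node (.leaf (nat_lit 66305)) (.leaf (nat_lit
    61189)))))) (.node (.node (.node (.node (.node (.leaf (nat_lit 8195)) (.leaf (nat_lit 100099)))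
    (.leaf (nat_lit 91138))) (.node (.node (.leaf (nat_lit 34053)) (.leaf (nat_lit 94469))) (.leaf
    (nat_lit 76291)))) (.node (.node (.node (.leaf (nat_lit 17157)) (.leaf (nat_lit 110593)))
    (.leaf (nat_lit 116225))) (.node (.leaf (nat_lit 50949)) (.leaf (nat_lit 124421))))) (.node
    (.node (.node (.node (.leaf (nat_lit 16388)) (.leaf (nat_lit 133633))) (.leaf (nat_lit 99585)))
    (.node (.node (.leaf (nat_lit 49665)) (.leaf (nat_lit 102658))) (.leaf (nat_lit 116997))))
    (.node (.node (.node (.leaf (nat_lit 17411)) (.leaf (nat_lit 102405))) (.leaf (nat_lit 75781)))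
    (.node (.leaf (nat_lit 74498)) (.leaf (nat_lit 69378)))))))

/-- Certificate data. -/
def pn_just : Trie :=
    (.node (.node (.node (.node (.node (.node (.leaf (nat_lit 1)) (.leaf (nat_lit
    3553587193999276769295))) (.leaf (nat_lit 0))) (.node (.node (.leaf (nat_lit 0)) (.leaf
    (nat_lit 0))) (.leaf (nat_lit 46308217169337712650)))) (.node (.node (.node (.leaf (nat_lit 0))
    (.leaf (nat_lit 72888465593167314955))) (.leaf (nat_lit 0))) (.node (.node (.leaf (nat_lit 0))
    (.leaf (nat_lit 5038641727525467062287))) (.leaf (nat_lit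
    143222034791261299566221390970893))))) (.node (.node (.node (.node (.leaf (nat_lit
    2305843022098923523)) (.leaf (nat_lit 3392281134694417))) (.leaf (nat_lit
    4736246936062071799815))) (.node (.node (.leaf (nat_lit 564672235503622)) (.leaf (nat_lit
    3827747868835846))) (.leaf (nat_lit 2631878649774085)))) (.node (.node (.node (.leaf (nat_lit
    0)) (.leaf (nat_lit 11114307710595000303628))) (.leaf (nat_lit 9303893107754691538815877128)))
    (.node (.leaf (nat_lit 0)) (.leaf (nat_lit 15096810176516)))))) (.node (.node (.node (.node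
    (.node (.leaf (nat_lit 0)) (.leaf (nat_lit 44002243417024561168))) (.leaf (nat_lit 0))) (.node
    (.node (.leaf (nat_lit 6670084341764)) (.leaf (nat_lit 20688857595908))) (.leaf (nat_lit
    51108404522087940107)))) (.node (.node (.node (.leaf (nat_lit 3337189720068)) (.leaf (nat_lit
    55539394214036307986))) (.leaf (nat_lit 0))) (.node (.leaf (nat_lit 3253553567524186357767))
    (.leaf (nat_lit 0))))) (.node (.node (.node (.node (.leaf (nat_lit 0)) (.leaf (nat_lit 0)))
    (.leaf (nat_lit 0))) (.node (.node (.leaf (nat_lit 0)) (.leaf (nat_lit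
    5626302911761195859982))) (.leaf (nat_lit 6675487574348628623372)))) (.node (.node (.node
    (.leaf (nat_lit 423917567279109)) (.leaf (nat_lit 194331081008806942861468614983693))) (.leaf
    (nat_lit 13719309490105492548310597641))) (.node (.leaf (nat_lit 0)) (.leaf (nat_lit
    4141303557226045505550)))))))

/-- Certificate data. -/
def pn_rel : Trie :=
    (.node (.node (.node (.node (.node (.leaf (nat_lit 0)) (.leaf (nat_lit 2207663588098))) (.leaf
    (nat_lit 1103823569411))) (.node (.leaf (nat_lit 67306755)) (.leaf (nat_lit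
    1128120438817025)))) (.node (.node (.leaf (nat_lit 263172)) (.leaf (nat_lit 285877402206724)))
    (.node (.leaf (nat_lit 9481987024435699581442)) (.leaf (nat_lit 2207646941443))))) (.node
    (.node (.node (.leaf (nat_lit 3302846694146)) (.leaf (nat_lit 2211925000451))) (.node (.leaf
    (nat_lit 286981158600964)) (.leaf (nat_lit 1127016615444994)))) (.node (.node (.leaf (nat_lit
    84083715)) (.leaf (nat_lit 621411501634544994336440580))) (.node (.leaf (nat_lit
    9481771136427097129220)) (.leaf (nat_lit 50660100))))))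

/-- Certificate data. -/
def pn_rc : Trie :=
    (.node (.node (.node (.node (.node (.leaf (nat_lit 16)) (.leaf (nat_lit 655364))) (.leaf
    (nat_lit 393221))) (.node (.leaf (nat_lit 262152)) (.leaf (nat_lit 131087)))) (.node (.node
    (.leaf (nat_lit 6)) (.leaf (nat_lit 393230))) (.node (.leaf (nat_lit 1048589)) (.leaf (nat_lit
    4))))) (.node (.node (.node (.leaf (nat_lit 524293)) (.leaf (nat_lit 655365))) (.node (.leaf
    (nat_lit 131086)) (.leaf (nat_lit 524302)))) (.node (.node (.leaf (nat_lit 8)) (.leaf (nat_lit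
    10))) (.node (.leaf (nat_lit 1179660)) (.leaf (nat_lit 131080))))))

/-- Certificate data. -/
def pn_lv : Trie :=
    (.node (.node (.node (.node (.node (.leaf (nat_lit 0)) (.leaf (nat_lit 16))) (.leaf (nat_lit
    8))) (.node (.leaf (nat_lit 4)) (.leaf (nat_lit 12)))) (.node (.node (.leaf (nat_lit 2)) (.leaf
    (nat_lit 10))) (.node (.leaf (nat_lit 6)) (.leaf (nat_lit 14))))) (.node (.node (.node (.node
    (.leaf (nat_lit 1)) (.leaf (nat_lit 17))) (.leaf (nat_lit 9))) (.node (.leaf (nat_lit 5))
    (.leaf (nat_lit 13)))) (.node (.node (.leaf (nat_lit 3)) (.leaf (nat_lit 11))) (.node (.leaf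
    (nat_lit 7)) (.leaf (nat_lit 15))))))

/-- Certificate data. -/
def pn_tb : Trie :=
    (.node (.node (.node (.node (.node (.node (.leaf (nat_lit 0)) (.leaf (nat_lit 2261))) (.node
    (.leaf (nat_lit 1738)) (.leaf (nat_lit 2127)))) (.node (.node (.leaf (nat_lit 1983)) (.leaf
    (nat_lit 659))) (.leaf (nat_lit 1712)))) (.node (.node (.node (.leaf (nat_lit 1312)) (.leaf
    (nat_lit 262))) (.node (.leaf (nat_lit 527)) (.leaf (nat_lit 1741)))) (.node (.node (.leaf
    (nat_lit 2263)) (.leaf (nat_lit 1849))) (.leaf (nat_lit 1202))))) (.node (.node (.node (.node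
    (.leaf (nat_lit 790)) (.leaf (nat_lit 1992))) (.node (.leaf (nat_lit 130)) (.leaf (nat_lit
    1207)))) (.node (.node (.leaf (nat_lit 2118)) (.leaf (nat_lit 923))) (.leaf (nat_lit 1460))))
    (.node (.node (.node (.leaf (nat_lit 1834)) (.leaf (nat_lit 395))) (.leaf (nat_lit 270)))
    (.node (.node (.leaf (nat_lit 1196)) (.leaf (nat_lit 1445))) (.leaf (nat_lit 963)))))) (.node
    (.node (.node (.node (.node (.leaf (nat_lit 132)) (.leaf (nat_lit 2121))) (.node (.leaf
    (nat_lit 1496)) (.leaf (nat_lit 1605)))) (.node (.node (.leaf (nat_lit 415)) (.leaf (nat_lit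
    145))) (.leaf (nat_lit 1602)))) (.node (.node (.node (.leaf (nat_lit 1574)) (.leaf (nat_lit
    524))) (.node (.leaf (nat_lit 661)) (.leaf (nat_lit 1361)))) (.node (.node (.leaf (nat_lit
    681)) (.leaf (nat_lit 1071))) (.leaf (nat_lit 1077))))) (.node (.node (.node (.node (.leaf
    (nat_lit 1052)) (.leaf (nat_lit 1876))) (.node (.leaf (nat_lit 3)) (.leaf (nat_lit 827))))
    (.node (.node (.leaf (nat_lit 547)) (.leaf (nat_lit 1981))) (.leaf (nat_lit 1331)))) (.node
    (.node (.node (.leaf (nat_lit 281)) (.leaf (nat_lit 9))) (.leaf (nat_lit 404))) (.node (.node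
    (.leaf (nat_lit 960)) (.leaf (nat_lit 2259))) (.leaf (nat_lit 817)))))))

/-- Certificate data. -/
def pn_C : TC.Cert := ⟨5, 31, 7, 127, 4419571745280, 6, pn_par, pn_fact, pn_just, pn_rel, 17⟩

/-- Certificate data. -/
def pn_rs : List (List ℕ) := [[1, 1, 1, 1, 1, 1, 1, 1], [3, 3], [3, 1, 3, 2, 2, 2], [4, 4, 4], [3, 4, 3, 5], [4, 1, 1, 4, 2, 2, 5, 1, 1, 5, 2, 2], [1, 1, 1, 1, 4, 2, 2, 2, 2, 4], [1, 4, 1, 4, 2, 2, 5]]

/-- Certificate data. -/
def pn_gl : List ℕ := [1, 4611, 9220]

theorem pn_h1 : allB pn_C.factChk 45 = true := by decide +kernel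

theorem pn_h2 : pn_C.finChk 45 18 pn_lv pn_tb pn_gl = true := by decide +kernel

theorem pn_h3 : TC.relChk pn_C.ivc pn_rs pn_C.rel pn_rc pn_C.nrel = true := by decide +kernel

theorem pn_bound {G : Type*} [Group G] {a r g : G}
    (r0 : a * a * a * a * a * a * a * a = 1)
    (r1 : r * r = 1)
    (r2 : r * a * r * a⁻¹ * a⁻¹ * a⁻¹ = 1)
    (r3 : g * g * g = 1)
    (r4 : r * g * r * g⁻¹ = 1)
    (r5 : g * a * a * g * a⁻¹ * a⁻¹ * g⁻¹ * a * a * g⁻¹ * a⁻¹ * a⁻¹ = 1)
    (r6 : a * a * a * a * g * a⁻¹ * a⁻¹ * a⁻¹ * a⁻¹ * g = 1)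
    (r7 : a * g * a * g * a⁻¹ * a⁻¹ * g⁻¹ = 1)
    (H : Subgroup G) [Finite H] (m1 : a ∈ H) :
    Finite (Subgroup.closure ({a, r, g} : Set G)) ∧
      Nat.card (Subgroup.closure ({a, r, g} : Set G)) ≤ 18 * Nat.card H := by
  have hL : TC.Lett (TC.lett [a, a⁻¹, r, g, g⁻¹]) pn_C.ivc :=
    TC.lett_ok (show Nat.shiftRight pn_C.ivc (8 * 6) = 0 by decide +kernel) (by
      intro a ha
      change a < 6 at ha
      interval_cases a
      · exact inv_one.symm
      · rfl
      · exact (inv_inv _).symm
      · exact (inv_eq_of_mul_eq_one_right r1).symm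
      · rfl
      · exact (inv_inv _).symm)
  have h := TC.card_le pn_h1 pn_h2 pn_h3 (by decide) hL (by
    simp only [pn_rs, List.forall_mem_cons]
    refine ⟨?_, ?_, ?_, ?_, ?_, ?_, ?_, ?_, List.forall_mem_nil _⟩
    · show a * (a * (a * (a * (a * (a * (a * (a * 1))))))) = 1
      simp only [mul_assoc, mul_one] at r0 ⊢
      exact r0
    · show r * (r * 1) = 1
      simp only [mul_one] at r1 ⊢
      exact r1
    · show r * (a * (r * (a⁻¹ * (a⁻¹ * (a⁻¹ * 1))))) = 1
      simp only [mul_assoc, mul_one] at r2 ⊢
      exact r2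
    · show g * (g * (g * 1)) = 1
      simp only [mul_assoc, mul_one] at r3 ⊢
      exact r3
    · show r * (g * (r * (g⁻¹ * 1))) = 1
      simp only [mul_assoc, mul_one] at r4 ⊢
      exact r4
    · show g * (a * (a * (g * (a⁻¹ * (a⁻¹ * (g⁻¹ * (a * (a * (g⁻¹ * (a⁻¹ * (a⁻¹ * 1))))))))))) = 1
      simp only [mul_assoc, mul_one] at r5 ⊢
      exact r5
    · show a * (a * (a * (a * (g * (a⁻¹ * (a⁻¹ * (a⁻¹ * (a⁻¹ * (g * 1))))))))) = 1
      simp only [mul_assoc, mul_one] at r6 ⊢
      exact r6
    · show a * (g * (a * (g * (a⁻¹ * (a⁻¹ * (g⁻¹ * 1)))))) = 1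
      simp only [mul_assoc, mul_one] at r7 ⊢
      exact r7) H
    (TC.forall_subs (K := 6) (by decide +kernel) (by
      intro a ha hb
      interval_cases a
      · exact absurd hb (by decide +kernel)
      · exact m1
      · exact H.inv_mem m1
      · exact absurd hb (by decide +kernel)
      · exact absurd hb (by decide +kernel)
      · exact absurd hb (by decide +kernel)))
  have e : {g₀ | ∃ ak ∈ pn_gl, TC.lett [a, a⁻¹, r, g, g⁻¹] (ak % 256) = g₀} =
      {a, r, g} := by
    ext g₀
    simp only [pn_gl, List.mem_cons, List.not_mem_nil, or_false, exists_eq_or_imp,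
      exists_eq_left, Set.mem_ofPred_eq, Set.mem_insert_iff, Set.mem_singleton_iff]
    exact or_congr eq_comm (or_congr eq_comm (eq_comm))
  rw [e] at h
  exact h

theorem pn_card {G : Type*} [Group G] {a r g : G}
    (e0 : a ^ 8 = 1)
    (e1 : r * r = 1)
    (e2 : r * a * r = a ^ 3)
    (e3 : g ^ 3 = 1)
    (e4 : r * g = g * r)
    (e5 : g * (a ^ 2 * g * (a ^ 2)⁻¹) = a ^ 2 * g * (a ^ 2)⁻¹ * g)
    (e6 : a ^ 4 * g * (a ^ 4)⁻¹ = g⁻¹)
    (e7 : a * g * a⁻¹ = g * (a ^ 2 * g * (a ^ 2)⁻¹)⁻¹)
    (H : Subgroup G) [Finite H] (ma : a ∈ H) :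
    Finite (Subgroup.closure ({a, r, g} : Set G)) ∧
      Nat.card (Subgroup.closure ({a, r, g} : Set G)) ≤ 18 * Nat.card H := by
  have ir : r⁻¹ = r := inv_eq_of_mul_eq_one_right e1
  refine pn_bound ?_ ?_ ?_ ?_ ?_ ?_ ?_ ?_ H ma
  · have h := mul_inv_eq_one.mpr e0
    simp only [pow_succ, pow_zero, mul_inv_rev, inv_inv, inv_one, one_mul, mul_one, mul_assoc,
      mul_inv_cancel_left, inv_mul_cancel_left, mul_inv_cancel, inv_mul_cancel, ir] at h ⊢
    exact h
  · have h := mul_inv_eq_one.mpr e1
    simp only [pow_succ, pow_zero, mul_inv_rev, inv_inv, inv_one, one_mul, mul_one, mul_assoc,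
      mul_inv_cancel_left, inv_mul_cancel_left, mul_inv_cancel, inv_mul_cancel, ir] at h ⊢
    exact h
  · have h := mul_inv_eq_one.mpr e2
    simp only [pow_succ, pow_zero, mul_inv_rev, inv_inv, inv_one, one_mul, mul_one, mul_assoc,
      mul_inv_cancel_left, inv_mul_cancel_left, mul_inv_cancel, inv_mul_cancel, ir] at h ⊢
    exact h
  · have h := mul_inv_eq_one.mpr e3
    simp only [pow_succ, pow_zero, mul_inv_rev, inv_inv, inv_one, one_mul, mul_one, mul_assoc,
      mul_inv_cancel_left, inv_mul_cancel_left, mul_inv_cancel, inv_mul_cancel, ir] at h ⊢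
    exact h
  · have h := mul_inv_eq_one.mpr e4
    simp only [pow_succ, pow_zero, mul_inv_rev, inv_inv, inv_one, one_mul, mul_one, mul_assoc,
      mul_inv_cancel_left, inv_mul_cancel_left, mul_inv_cancel, inv_mul_cancel, ir] at h ⊢
    exact h
  · have h := mul_inv_eq_one.mpr e5
    simp only [pow_succ, pow_zero, mul_inv_rev, inv_inv, inv_one, one_mul, mul_one, mul_assoc,
      mul_inv_cancel_left, inv_mul_cancel_left, mul_inv_cancel, inv_mul_cancel, ir] at h ⊢
    exact h
  · have h := mul_inv_eq_one.mpr e6
    simp only [pow_succ, pow_zero, mul_inv_rev, inv_inv, inv_one, one_mul, mul_one, mul_assoc,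
      mul_inv_cancel_left, inv_mul_cancel_left, mul_inv_cancel, inv_mul_cancel, ir] at h ⊢
    exact h
  · have h := mul_inv_eq_one.mpr e7
    simp only [pow_succ, pow_zero, mul_inv_rev, inv_inv, inv_one, one_mul, mul_one, mul_assoc,
      mul_inv_cancel_left, inv_mul_cancel_left, mul_inv_cancel, inv_mul_cancel, ir] at h ⊢
    exact h

/-- Certificate data. -/
def p1_par : Trie :=
    (.node (.node (.node (.node (.node (.node (.node (.node (.leaf (nat_lit 0)) (.leaf (nat_lit
    11010))) (.node (.leaf (nat_lit 5381)) (.leaf (nat_lit 25861)))) (.node (.node (.leaf (nat_lit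
    2561)) (.leaf (nat_lit 16390))) (.node (.leaf (nat_lit 8198)) (.leaf (nat_lit 34817))))) (.node
    (.node (.node (.leaf (nat_lit 1281)) (.leaf (nat_lit 13057))) (.node (.leaf (nat_lit 6663))
    (.leaf (nat_lit 30466)))) (.node (.node (.leaf (nat_lit 4103)) (.leaf (nat_lit 20485))) (.leaf
    (nat_lit 9479))))) (.node (.node (.node (.node (.leaf (nat_lit 517)) (.leaf (nat_lit 12036)))
    (.node (.leaf (nat_lit 5891)) (.leaf (nat_lit 28934)))) (.node (.node (.leaf (nat_lit 3585))
    (.leaf (nat_lit 19457))) (.leaf (nat_lit 8961)))) (.node (.node (.node (.leaf (nat_lit 1793))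
    (.leaf (nat_lit 15366))) (.node (.leaf (nat_lit 7682)) (.leaf (nat_lit 33286)))) (.node (.node
    (.leaf (nat_lit 4613)) (.leaf (nat_lit 24321))) (.leaf (nat_lit 9989)))))) (.node (.node (.node
    (.node (.node (.leaf (nat_lit 258)) (.leaf (nat_lit 11782))) (.node (.leaf (nat_lit 5634))
    (.leaf (nat_lit 26369)))) (.node (.node (.leaf (nat_lit 3076)) (.leaf (nat_lit 18695))) (.node
    (.leaf (nat_lit 8705)) (.leaf (nat_lit 35335))))) (.node (.node (.node (.leaf (nat_lit 1537))
    (.leaf (nat_lit 13314))) (.node (.leaf (nat_lit 7175)) (.leaf (nat_lit 32005)))) (.node (.node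
    (.leaf (nat_lit 4359)) (.leaf (nat_lit 22786))) (.leaf (nat_lit 9985))))) (.node (.node (.node
    (.node (.leaf (nat_lit 775)) (.leaf (nat_lit 12292))) (.node (.leaf (nat_lit 6151)) (.leaf
    (nat_lit 29442)))) (.node (.node (.leaf (nat_lit 3845)) (.leaf (nat_lit 19970))) (.leaf
    (nat_lit 8965)))) (.node (.node (.node (.leaf (nat_lit 2305)) (.leaf (nat_lit 15873))) (.node
    (.leaf (nat_lit 7938)) (.leaf (nat_lit 34308)))) (.node (.node (.leaf (nat_lit 4869)) (.leaf
    (nat_lit 25089))) (.leaf (nat_lit 10503))))))) (.node (.node (.node (.node (.node (.node (.leaf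
    (nat_lit 7)) (.leaf (nat_lit 11012))) (.node (.leaf (nat_lit 5383)) (.leaf (nat_lit 26113))))
    (.node (.node (.leaf (nat_lit 2566)) (.leaf (nat_lit 16900))) (.node (.leaf (nat_lit 8454))
    (.leaf (nat_lit 35332))))) (.node (.node (.node (.leaf (nat_lit 1286)) (.leaf (nat_lit 13061)))
    (.node (.leaf (nat_lit 6919)) (.leaf (nat_lit 30721)))) (.node (.node (.leaf (nat_lit 4356))
    (.leaf (nat_lit 21764))) (.leaf (nat_lit 9730))))) (.node (.node (.node (.node (.leaf (nat_lit
    773)) (.leaf (nat_lit 12289))) (.node (.leaf (nat_lit 5893)) (.leaf (nat_lit 29189)))) (.node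
    (.node (.leaf (nat_lit 3590)) (.leaf (nat_lit 19713))) (.leaf (nat_lit 8963)))) (.node (.node
    (.node (.leaf (nat_lit 2049)) (.leaf (nat_lit 15622))) (.node (.leaf (nat_lit 7685)) (.leaf
    (nat_lit 33543)))) (.node (.node (.leaf (nat_lit 4866)) (.leaf (nat_lit 24327))) (.leaf
    (nat_lit 10247)))))) (.node (.node (.node (.node (.node (.leaf (nat_lit 261)) (.leaf (nat_lit
    12033))) (.node (.leaf (nat_lit 5637)) (.leaf (nat_lit 27654)))) (.node (.node (.leaf (nat_lit
    3334)) (.leaf (nat_lit 19201))) (.leaf (nat_lit 8708)))) (.node (.node (.node (.leaf (nat_lit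
    1542)) (.leaf (nat_lit 13317))) (.node (.leaf (nat_lit 7431)) (.leaf (nat_lit 33281)))) (.node
    (.node (.leaf (nat_lit 4610)) (.leaf (nat_lit 23041))) (.leaf (nat_lit 9987))))) (.node (.node
    (.node (.node (.leaf (nat_lit 1029)) (.leaf (nat_lit 12806))) (.node (.leaf (nat_lit 6407))
    (.leaf (nat_lit 29701)))) (.node (.node (.leaf (nat_lit 4101)) (.leaf (nat_lit 20225))) (.leaf
    (nat_lit 9223)))) (.node (.node (.node (.leaf (nat_lit 2310)) (.leaf (nat_lit 16129))) (.node
    (.leaf (nat_lit 7940)) (.leaf (nat_lit 34565)))) (.node (.node (.leaf (nat_lit 5126)) (.leaf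
    (nat_lit 25606))) (.leaf (nat_lit 10754)))))))) (.node (.node (.node (.node (.node (.node
    (.node (.leaf (nat_lit 6)) (.leaf (nat_lit 11011))) (.node (.leaf (nat_lit 5382)) (.leaf
    (nat_lit 25863)))) (.node (.node (.leaf (nat_lit 2562)) (.leaf (nat_lit 16391))) (.node (.leaf
    (nat_lit 8199)) (.leaf (nat_lit 34818))))) (.node (.node (.node (.leaf (nat_lit 1282)) (.leaf
    (nat_lit 13060))) (.node (.leaf (nat_lit 6918)) (.leaf (nat_lit 30470)))) (.node (.node (.leaf
    (nat_lit 4354)) (.leaf (nat_lit 21505))) (.leaf (nat_lit 9729))))) (.node (.node (.node (.node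
    (.leaf (nat_lit 772)) (.leaf (nat_lit 12037))) (.node (.leaf (nat_lit 5892)) (.leaf (nat_lit
    29188)))) (.node (.node (.leaf (nat_lit 3586)) (.leaf (nat_lit 19460))) (.leaf (nat_lit
    8962)))) (.node (.node (.node (.leaf (nat_lit 1794)) (.leaf (nat_lit 15367))) (.node (.leaf
    (nat_lit 7684)) (.leaf (nat_lit 33542)))) (.node (.node (.leaf (nat_lit 4865)) (.leaf (nat_lit
    24326))) (.leaf (nat_lit 10246)))))) (.node (.node (.node (.node (.node (.leaf (nat_lit 260))
    (.leaf (nat_lit 11783))) (.node (.leaf (nat_lit 5636)) (.leaf (nat_lit 26370)))) (.node (.node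
    (.leaf (nat_lit 3330)) (.leaf (nat_lit 18951))) (.node (.leaf (nat_lit 8706)) (.leaf (nat_lit
    35842))))) (.node (.node (.node (.leaf (nat_lit 1538)) (.leaf (nat_lit 13316))) (.node (.leaf
    (nat_lit 7430)) (.leaf (nat_lit 32007)))) (.node (.node (.leaf (nat_lit 4609)) (.leaf (nat_lit
    22791))) (.leaf (nat_lit 9986))))) (.node (.node (.node (.node (.leaf (nat_lit 1028)) (.leaf
    (nat_lit 12293))) (.node (.leaf (nat_lit 6406)) (.leaf (nat_lit 29700)))) (.node (.node (.leaf
    (nat_lit 4097)) (.leaf (nat_lit 19972))) (.leaf (nat_lit 9222)))) (.node (.node (.node (.leaf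
    (nat_lit 2306)) (.leaf (nat_lit 15876))) (.node (.leaf (nat_lit 7939)) (.leaf (nat_lit
    34564)))) (.node (.node (.leaf (nat_lit 5124)) (.leaf (nat_lit 25092))) (.leaf (nat_lit
    10753))))))) (.node (.node (.node (.node (.node (.node (.leaf (nat_lit 257)) (.leaf (nat_lit
    11013))) (.node (.leaf (nat_lit 5633)) (.leaf (nat_lit 26114)))) (.node (.node (.leaf (nat_lit
    2567)) (.leaf (nat_lit 18694))) (.node (.leaf (nat_lit 8455)) (.leaf (nat_lit 35333))))) (.node
    (.node (.node (.leaf (nat_lit 1287)) (.leaf (nat_lit 13313))) (.node (.leaf (nat_lit 7174))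
    (.leaf (nat_lit 30722)))) (.node (.node (.leaf (nat_lit 4358)) (.leaf (nat_lit 22277))) (.leaf
    (nat_lit 9732))))) (.node (.node (.node (.node (.leaf (nat_lit 774)) (.leaf (nat_lit 12291)))
    (.node (.leaf (nat_lit 6150)) (.leaf (nat_lit 29191)))) (.node (.node (.leaf (nat_lit 3591))
    (.leaf (nat_lit 19969))) (.leaf (nat_lit 8964)))) (.node (.node (.node (.leaf (nat_lit 2050))
    (.leaf (nat_lit 15623))) (.node (.leaf (nat_lit 7937)) (.leaf (nat_lit 33797)))) (.node (.node
    (.leaf (nat_lit 4868)) (.leaf (nat_lit 24834))) (.leaf (nat_lit 10502)))))) (.node (.node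
    (.node (.node (.node (.leaf (nat_lit 516)) (.leaf (nat_lit 12034))) (.node (.leaf (nat_lit
    5889)) (.leaf (nat_lit 27906)))) (.node (.node (.leaf (nat_lit 3335)) (.leaf (nat_lit 19202)))
    (.leaf (nat_lit 8709)))) (.node (.node (.node (.leaf (nat_lit 1543)) (.leaf (nat_lit 15111)))
    (.node (.leaf (nat_lit 7681)) (.leaf (nat_lit 33282)))) (.node (.node (.leaf (nat_lit 4612))
    (.leaf (nat_lit 23300))) (.leaf (nat_lit 9988))))) (.node (.node (.node (.node (.leaf (nat_lit
    1031)) (.leaf (nat_lit 12807))) (.node (.leaf (nat_lit 6662)) (.leaf (nat_lit 30465)))) (.node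
    (.node (.leaf (nat_lit 4102)) (.leaf (nat_lit 20481))) (.leaf (nat_lit 9478)))) (.node (.node
    (.node (.leaf (nat_lit 2311)) (.leaf (nat_lit 16132))) (.node (.leaf (nat_lit 7941)) (.leaf
    (nat_lit 34567)))) (.node (.node (.leaf (nat_lit 5127)) (.leaf (nat_lit 25860))) (.leaf
    (nat_lit 11009)))))))))

/-- Certificate data. -/
def p1_fact : Trie :=
    (.node (.node (.node (.node (.node (.node (.node (.node (.node (.node (.leaf (nat_lit 1))
    (.leaf (nat_lit 13267461))) (.leaf (nat_lit 7677698))) (.node (.node (.leaf (nat_lit 3478017))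
    (.leaf (nat_lit 1075968))) (.leaf (nat_lit 9403397)))) (.node (.node (.node (.leaf (nat_lit
    1382917)) (.leaf (nat_lit 11188736))) (.leaf (nat_lit 9911047))) (.node (.node (.leaf (nat_lit
    4855557)) (.leaf (nat_lit 1136896))) (.leaf (nat_lit 10988547))))) (.node (.node (.node (.node
    (.leaf (nat_lit 918533)) (.leaf (nat_lit 13491201))) (.leaf (nat_lit 4359938))) (.node (.node
    (.leaf (nat_lit 4593157)) (.leaf (nat_lit 1923840))) (.leaf (nat_lit 10590979)))) (.node (.node
    (.node (.leaf (nat_lit 2953217)) (.leaf (nat_lit 1762304))) (.leaf (nat_lit 3364357))) (.node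
    (.node (.leaf (nat_lit 6299654)) (.leaf (nat_lit 1707526))) (.leaf (nat_lit 12148486))))))
    (.node (.node (.node (.node (.node (.leaf (nat_lit 329221)) (.leaf (nat_lit 13925637))) (.leaf
    (nat_lit 8092679))) (.node (.node (.leaf (nat_lit 3096067)) (.leaf (nat_lit 1943040))) (.leaf
    (nat_lit 10305028)))) (.node (.node (.node (.leaf (nat_lit 861186)) (.leaf (nat_lit 9885440)))
    (.leaf (nat_lit 8151299))) (.node (.node (.leaf (nat_lit 5446662)) (.leaf (nat_lit 1908742)))
    (.leaf (nat_lit 10834946))))) (.node (.node (.node (.node (.leaf (nat_lit 1120260)) (.leaf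
    (nat_lit 9294336))) (.leaf (nat_lit 9057026))) (.node (.node (.leaf (nat_lit 1452293)) (.leaf
    (nat_lit 1035776))) (.leaf (nat_lit 5416706)))) (.node (.node (.node (.leaf (nat_lit 1845507))
    (.leaf (nat_lit 2833664))) (.leaf (nat_lit 2841856))) (.node (.leaf (nat_lit 6824705)) (.leaf
    (nat_lit 7127298))))))) (.node (.node (.node (.node (.node (.node (.leaf (nat_lit 131841))
    (.leaf (nat_lit 13530117))) (.leaf (nat_lit 7940102))) (.node (.node (.leaf (nat_lit 3937029))
    (.leaf (nat_lit 1780484))) (.leaf (nat_lit 10132231)))) (.node (.node (.node (.leaf (nat_lit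
    2099713)) (.leaf (nat_lit 11396103))) (.leaf (nat_lit 8680449))) (.node (.node (.leaf (nat_lit
    5184006)) (.leaf (nat_lit 2039042))) (.leaf (nat_lit 11489281))))) (.node (.node (.node (.node
    (.leaf (nat_lit 1246471)) (.leaf (nat_lit 11132679))) (.leaf (nat_lit 9318918))) (.node (.node
    (.leaf (nat_lit 1065984)) (.leaf (nat_lit 7829760))) (.leaf (nat_lit 10766599)))) (.node (.node
    (.node (.leaf (nat_lit 1910787)) (.leaf (nat_lit 5342976))) (.leaf (nat_lit 6843904))) (.node
    (.node (.leaf (nat_lit 6120194)) (.leaf (nat_lit 1513221))) (.leaf (nat_lit 12411396))))))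
    (.node (.node (.node (.node (.node (.leaf (nat_lit 590596)) (.leaf (nat_lit 14201601))) (.leaf
    (nat_lit 8553221))) (.node (.node (.leaf (nat_lit 4265222)) (.leaf (nat_lit 2734336))) (.leaf
    (nat_lit 8298247)))) (.node (.node (.node (.leaf (nat_lit 2625025)) (.leaf (nat_lit 5746436)))
    (.leaf (nat_lit 7959815))) (.node (.node (.leaf (nat_lit 5840388)) (.leaf (nat_lit 2303234)))
    (.leaf (nat_lit 11383554))))) (.node (.node (.node (.node (.leaf (nat_lit 527104)) (.leaf
    (nat_lit 13558274))) (.leaf (nat_lit 9712642))) (.node (.node (.leaf (nat_lit 1184769)) (.leaf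
    (nat_lit 2828546))) (.leaf (nat_lit 8890631)))) (.node (.node (.node (.leaf (nat_lit 3281156))
    (.leaf (nat_lit 12635136))) (.leaf (nat_lit 8748546))) (.node (.leaf (nat_lit 6057475)) (.leaf
    (nat_lit 8177410)))))))) (.node (.node (.node (.node (.node (.node (.node (.leaf (nat_lit
    65795)) (.leaf (nat_lit 13398786))) (.leaf (nat_lit 7754497))) (.node (.node (.leaf (nat_lit
    3740417)) (.leaf (nat_lit 2113024))) (.leaf (nat_lit 9336066)))) (.node (.node (.node (.leaf
    (nat_lit 1902850)) (.leaf (nat_lit 7443975))) (.leaf (nat_lit 10108166))) (.node (.node (.leaf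
    (nat_lit 4934663)) (.leaf (nat_lit 1076480))) (.leaf (nat_lit 9088263))))) (.node (.node (.node
    (.node (.leaf (nat_lit 462599)) (.leaf (nat_lit 12049922))) (.leaf (nat_lit 9121795))) (.node
    (.node (.leaf (nat_lit 4724483)) (.leaf (nat_lit 1218816))) (.leaf (nat_lit 10461699)))) (.node
    (.node (.node (.leaf (nat_lit 2959621)) (.leaf (nat_lit 5857792))) (.leaf (nat_lit 5533699)))
    (.node (.node (.leaf (nat_lit 6430982)) (.leaf (nat_lit 1713925))) (.leaf (nat_lit
    7977730)))))) (.node (.node (.node (.node (.node (.leaf (nat_lit 263943)) (.leaf (nat_lit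
    14057985))) (.leaf (nat_lit 8399618))) (.node (.node (.leaf (nat_lit 1720325)) (.leaf (nat_lit
    2206208))) (.leaf (nat_lit 4300289)))) (.node (.node (.node (.leaf (nat_lit 1844485)) (.leaf
    (nat_lit 10930688))) (.leaf (nat_lit 8672770))) (.node (.node (.leaf (nat_lit 5643527)) (.leaf
    (nat_lit 1905671))) (.leaf (nat_lit 10068995))))) (.node (.node (.node (.node (.leaf (nat_lit
    792834)) (.leaf (nat_lit 14780418))) (.leaf (nat_lit 9647105))) (.node (.node (.leaf (nat_lit
    1263616)) (.leaf (nat_lit 1714688))) (.leaf (nat_lit 11048199)))) (.node (.node (.node (.leaf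
    (nat_lit 3215618)) (.leaf (nat_lit 4105984))) (.leaf (nat_lit 2825987))) (.node (.leaf (nat_lit
    7086853)) (.leaf (nat_lit 12871425))))))) (.node (.node (.node (.node (.node (.node (.leaf
    (nat_lit 262915)) (.leaf (nat_lit 13727494))) (.leaf (nat_lit 8071430))) (.node (.node (.leaf
    (nat_lit 3292419)) (.leaf (nat_lit 2792192))) (.leaf (nat_lit 10177797)))) (.node (.node (.node
    (.leaf (nat_lit 2296327)) (.leaf (nat_lit 8574210))) (.leaf (nat_lit 8156166))) (.node (.node
    (.leaf (nat_lit 5315334)) (.leaf (nat_lit 2626823))) (.leaf (nat_lit 11554821))))) (.node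
    (.node (.node (.node (.leaf (nat_lit 1443334)) (.leaf (nat_lit 13357824))) (.leaf (nat_lit
    9450241))) (.node (.node (.leaf (nat_lit 1192192)) (.leaf (nat_lit 434944))) (.leaf (nat_lit
    10832391)))) (.node (.node (.node (.leaf (nat_lit 2633218)) (.leaf (nat_lit 4955136))) (.leaf
    (nat_lit 7170055))) (.node (.leaf (nat_lit 5858819)) (.leaf (nat_lit 11124481)))))) (.node
    (.node (.node (.node (.node (.leaf (nat_lit 787207)) (.leaf (nat_lit 14386181))) (.leaf
    (nat_lit 5735682))) (.node (.node (.leaf (nat_lit 4396545)) (.leaf (nat_lit 2305536))) (.leaf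
    (nat_lit 10514178)))) (.node (.node (.node (.leaf (nat_lit 2763527)) (.leaf (nat_lit 5946624)))
    (.leaf (nat_lit 4088580))) (.node (.node (.leaf (nat_lit 6037250)) (.leaf (nat_lit 1124615)))
    (.leaf (nat_lit 11950593))))) (.node (.node (.node (.node (.leaf (nat_lit 1771522)) (.leaf
    (nat_lit 14527495))) (.leaf (nat_lit 9213187))) (.node (.node (.leaf (nat_lit 1512194)) (.leaf
    (nat_lit 1743616))) (.leaf (nat_lit 11184899)))) (.node (.node (.node (.leaf (nat_lit 2235907))
    (.leaf (nat_lit 4370176))) (.leaf (nat_lit 7493379))) (.node (.leaf (nat_lit 7415297)) (.leaf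
    (nat_lit 13136134))))))))) (.node (.node (.node (.node (.node (.node (.node (.node (.leaf
    (nat_lit 4)) (.leaf (nat_lit 11782659))) (.leaf (nat_lit 7743235))) (.node (.node (.leaf
    (nat_lit 3609092)) (.leaf (nat_lit 4171264))) (.leaf (nat_lit 6651139)))) (.node (.node (.node
    (.leaf (nat_lit 1315075)) (.leaf (nat_lit 9289216))) (.leaf (nat_lit 10042375))) (.node (.node
    (.leaf (nat_lit 4921350)) (.leaf (nat_lit 937984))) (.leaf (nat_lit 11357700))))) (.node (.node
    (.node (.node (.leaf (nat_lit 658947)) (.leaf (nat_lit 14583557))) (.leaf (nat_lit 8990469)))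
    (.node (.node (.leaf (nat_lit 4658945)) (.leaf (nat_lit 1878016))) (.leaf (nat_lit 5349636))))
    (.node (.node (.node (.leaf (nat_lit 1185283)) (.leaf (nat_lit 5411584))) (.leaf (nat_lit
    7225604))) (.node (.node (.leaf (nat_lit 6365191)) (.leaf (nat_lit 2363399))) (.leaf (nat_lit
    12171783)))))) (.node (.node (.node (.node (.node (.leaf (nat_lit 459268)) (.leaf (nat_lit
    12440578))) (.leaf (nat_lit 8268290))) (.node (.node (.leaf (nat_lit 4079367)) (.leaf (nat_lit
    2659584))) (.leaf (nat_lit 8953091)))) (.node (.node (.node (.leaf (nat_lit 1903621)) (.leaf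
    (nat_lit 15043586))) (.leaf (nat_lit 2053633))) (.node (.node (.leaf (nat_lit 5460999)) (.leaf
    (nat_lit 2695431))) (.leaf (nat_lit 5609730))))) (.node (.node (.node (.node (.leaf (nat_lit
    1640194)) (.leaf (nat_lit 14714881))) (.leaf (nat_lit 9581317))) (.node (.node (.leaf (nat_lit
    1127680)) (.leaf (nat_lit 1335552))) (.leaf (nat_lit 5089281)))) (.node (.node (.node (.leaf
    (nat_lit 3149831)) (.leaf (nat_lit 1021440))) (.leaf (nat_lit 6499073))) (.node (.leaf (nat_lit
    6955779)) (.leaf (nat_lit 11059716))))))) (.node (.node (.node (.node (.node (.node (.leaf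
    (nat_lit 132098)) (.leaf (nat_lit 13596417))) (.leaf (nat_lit 8005639))) (.node (.node (.leaf
    (nat_lit 4002820)) (.leaf (nat_lit 2712320))) (.leaf (nat_lit 6593282)))) (.node (.node (.node
    (.leaf (nat_lit 991493)) (.leaf (nat_lit 14982914))) (.leaf (nat_lit 2716679))) (.node (.node
    (.leaf (nat_lit 5249543)) (.leaf (nat_lit 1260544))) (.leaf (nat_lit 5353217))))) (.node (.node
    (.node (.node (.leaf (nat_lit 1312257)) (.leaf (nat_lit 14668546))) (.leaf (nat_lit 9342727)))
    (.node (.node (.leaf (nat_lit 2115072)) (.leaf (nat_lit 1778176))) (.leaf (nat_lit 7382018))))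
    (.node (.node (.node (.leaf (nat_lit 3018757)) (.leaf (nat_lit 1826560))) (.leaf (nat_lit
    2303747))) (.node (.leaf (nat_lit 6627842)) (.leaf (nat_lit 12477446)))))) (.node (.node (.node
    (.node (.node (.leaf (nat_lit 592389)) (.leaf (nat_lit 14320391))) (.leaf (nat_lit 8728071)))
    (.node (.node (.leaf (nat_lit 4330759)) (.leaf (nat_lit 2050816))) (.leaf (nat_lit 9347075))))
    (.node (.node (.node (.leaf (nat_lit 2756102)) (.leaf (nat_lit 5363712))) (.leaf (nat_lit
    6395650))) (.node (.node (.leaf (nat_lit 5855749)) (.leaf (nat_lit 2428934))) (.leaf (nat_lit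
    11318277))))) (.node (.node (.node (.node (.leaf (nat_lit 788486)) (.leaf (nat_lit 13624066)))
    (.leaf (nat_lit 4297730))) (.node (.node (.leaf (nat_lit 1263360)) (.leaf (nat_lit 7172096)))
    (.leaf (nat_lit 5417473)))) (.node (.node (.node (.leaf (nat_lit 1913345)) (.leaf (nat_lit
    4302848))) (.leaf (nat_lit 8736516))) (.node (.leaf (nat_lit 7349511)) (.leaf (nat_lit
    12887300)))))))) (.node (.node (.node (.node (.node (.node (.node (.leaf (nat_lit 66055))
    (.leaf (nat_lit 13415939))) (.leaf (nat_lit 7874309))) (.node (.node (.leaf (nat_lit 1260035))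
    (.leaf (nat_lit 1916672))) (.leaf (nat_lit 7826179)))) (.node (.node (.node (.leaf (nat_lit
    2033927)) (.leaf (nat_lit 9233159))) (.leaf (nat_lit 6063105))) (.node (.node (.leaf (nat_lit
    5118215)) (.leaf (nat_lit 1647365))) (.leaf (nat_lit 11054595))))) (.node (.node (.node (.node
    (.leaf (nat_lit 1115394)) (.leaf (nat_lit 13688065))) (.leaf (nat_lit 9252869))) (.node (.node
    (.leaf (nat_lit 1393408)) (.leaf (nat_lit 2638336))) (.leaf (nat_lit 5808647)))) (.node (.node
    (.node (.leaf (nat_lit 993284)) (.leaf (nat_lit 11981824))) (.leaf (nat_lit 2323968))) (.node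
    (.node (.leaf (nat_lit 6496519)) (.leaf (nat_lit 2172673))) (.leaf (nat_lit 12345857))))))
    (.node (.node (.node (.node (.node (.leaf (nat_lit 460805)) (.leaf (nat_lit 14189062))) (.leaf
    (nat_lit 8530692))) (.node (.node (.leaf (nat_lit 1851394)) (.leaf (nat_lit 676352))) (.leaf
    (nat_lit 10436356)))) (.node (.node (.node (.leaf (nat_lit 2559239)) (.leaf (nat_lit
    11514624))) (.leaf (nat_lit 7698944))) (.node (.node (.leaf (nat_lit 5709313)) (.leaf (nat_lit
    2037766))) (.leaf (nat_lit 11687172))))) (.node (.node (.node (.node (.leaf (nat_lit 793089))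
    (.leaf (nat_lit 10739970))) (.leaf (nat_lit 9649666))) (.node (.node (.leaf (nat_lit 1186821))
    (.leaf (nat_lit 1580544))) (.leaf (nat_lit 5394435)))) (.node (.node (.node (.leaf (nat_lit
    2961667)) (.leaf (nat_lit 2209024))) (.leaf (nat_lit 6259459))) (.node (.leaf (nat_lit
    7218183)) (.leaf (nat_lit 13003782))))))) (.node (.node (.node (.node (.node (.node (.leaf
    (nat_lit 328963)) (.leaf (nat_lit 13793281))) (.leaf (nat_lit 6123265))) (.node (.node (.leaf
    (nat_lit 2374914)) (.leaf (nat_lit 1138432))) (.leaf (nat_lit 9083907)))) (.node (.node (.node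
    (.leaf (nat_lit 2362372)) (.leaf (nat_lit 14996737))) (.leaf (nat_lit 5462787))) (.node (.node
    (.leaf (nat_lit 5380871)) (.leaf (nat_lit 2300678))) (.leaf (nat_lit 5615873))))) (.node (.node
    (.node (.node (.leaf (nat_lit 1447687)) (.leaf (nat_lit 14666498))) (.leaf (nat_lit 3443456)))
    (.node (.node (.leaf (nat_lit 1449988)) (.leaf (nat_lit 1407232))) (.leaf (nat_lit 5023233))))
    (.node (.node (.node (.leaf (nat_lit 2106627)) (.leaf (nat_lit 6415104))) (.leaf (nat_lit
    4286469))) (.node (.leaf (nat_lit 6711045)) (.leaf (nat_lit 12566533)))))) (.node (.node (.node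
    (.node (.node (.leaf (nat_lit 852996)) (.leaf (nat_lit 14405890))) (.leaf (nat_lit 3180033)))
    (.node (.node (.leaf (nat_lit 4527620)) (.leaf (nat_lit 2468864))) (.leaf (nat_lit 5808385))))
    (.node (.node (.node (.leaf (nat_lit 2173957)) (.leaf (nat_lit 5417216))) (.leaf (nat_lit
    3110148))) (.node (.node (.leaf (nat_lit 6168324)) (.leaf (nat_lit 858375))) (.leaf (nat_lit
    12016388))))) (.node (.node (.node (.node (.leaf (nat_lit 989954)) (.leaf (nat_lit 8627718)))
    (.leaf (nat_lit 9803269))) (.node (.node (.leaf (nat_lit 1251074)) (.leaf (nat_lit 2035972)))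
    (.leaf (nat_lit 7056134)))) (.node (.node (.node (.leaf (nat_lit 3412231)) (.leaf (nat_lit
    9814016))) (.leaf (nat_lit 8752899))) (.node (.leaf (nat_lit 7546372)) (.leaf (nat_lit
    13201924)))))))))) (.node (.node (.node (.node (.node (.node (.node (.node (.node (.leaf
    (nat_lit 3)) (.leaf (nat_lit 13224453))) (.leaf (nat_lit 6518019))) (.node (.node (.leaf
    (nat_lit 3543554)) (.leaf (nat_lit 9221632))) (.leaf (nat_lit 9397506)))) (.node (.node (.node
    (.leaf (nat_lit 1053955)) (.leaf (nat_lit 12167687))) (.leaf (nat_lit 9976838))) (.node (.node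
    (.leaf (nat_lit 3951107)) (.leaf (nat_lit 1648128))) (.leaf (nat_lit 5352450))))) (.node (.node
    (.node (.node (.leaf (nat_lit 855557)) (.leaf (nat_lit 14518020))) (.leaf (nat_lit 8924932)))
    (.node (.node (.leaf (nat_lit 3687939)) (.leaf (nat_lit 1851648))) (.leaf (nat_lit 7381253))))
    (.node (.node (.node (.leaf (nat_lit 1387777)) (.leaf (nat_lit 1802752))) (.leaf (nat_lit
    9590276))) (.node (.node (.leaf (nat_lit 5464067)) (.leaf (nat_lit 1714951))) (.leaf (nat_lit
    12214023)))))) (.node (.node (.node (.node (.node (.leaf (nat_lit 394755)) (.leaf (nat_lit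
    12637187))) (.leaf (nat_lit 8202753))) (.node (.node (.leaf (nat_lit 4133895)) (.leaf (nat_lit
    2176000))) (.leaf (nat_lit 6528260)))) (.node (.node (.node (.leaf (nat_lit 2366725)) (.leaf
    (nat_lit 8558081))) (.leaf (nat_lit 5659648))) (.node (.node (.leaf (nat_lit 5512199)) (.leaf
    (nat_lit 2039809))) (.leaf (nat_lit 9938179))))) (.node (.node (.node (.node (.leaf (nat_lit
    989185)) (.leaf (nat_lit 7900418))) (.leaf (nat_lit 9515780))) (.node (.node (.leaf (nat_lit
    1849088)) (.leaf (nat_lit 2192384))) (.leaf (nat_lit 11029505)))) (.node (.node (.node (.leaf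
    (nat_lit 3084294)) (.leaf (nat_lit 1344256))) (.leaf (nat_lit 2064640))) (.node (.leaf (nat_lit
    6890242)) (.leaf (nat_lit 12740097))))))) (.node (.node (.node (.node (.node (.node (.leaf
    (nat_lit 262402)) (.leaf (nat_lit 13487621))) (.leaf (nat_lit 7174403))) (.node (.node (.leaf
    (nat_lit 3881989)) (.leaf (nat_lit 2044416))) (.leaf (nat_lit 7510785)))) (.node (.node (.node
    (.leaf (nat_lit 2165250)) (.leaf (nat_lit 14083074))) (.leaf (nat_lit 7633664))) (.node (.node
    (.leaf (nat_lit 4935427)) (.leaf (nat_lit 2304001))) (.leaf (nat_lit 10923779))))) (.node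
    (.node (.node (.node (.leaf (nat_lit 1184519)) (.leaf (nat_lit 10673922))) (.leaf (nat_lit
    9384455))) (.node (.node (.leaf (nat_lit 1381889)) (.leaf (nat_lit 1005312))) (.leaf (nat_lit
    10724359)))) (.node (.node (.node (.leaf (nat_lit 2695173)) (.leaf (nat_lit 11190016))) (.leaf
    (nat_lit 5448450))) (.node (.leaf (nat_lit 6562305)) (.leaf (nat_lit 11713795)))))) (.node
    (.node (.node (.node (.node (.leaf (nat_lit 656133)) (.leaf (nat_lit 14254854))) (.leaf
    (nat_lit 8662534))) (.node (.node (.leaf (nat_lit 3358979)) (.leaf (nat_lit 2139904))) (.leaf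
    (nat_lit 10502150)))) (.node (.node (.node (.leaf (nat_lit 2690562)) (.leaf (nat_lit 5287168)))
    (.leaf (nat_lit 5202180))) (.node (.node (.leaf (nat_lit 5905925)) (.leaf (nat_lit 2368774)))
    (.leaf (nat_lit 11819266))))) (.node (.node (.node (.node (.leaf (nat_lit 198663)) (.leaf
    (nat_lit 14912005))) (.leaf (nat_lit 8885251))) (.node (.node (.leaf (nat_lit 1522176)) (.leaf
    (nat_lit 2451456))) (.leaf (nat_lit 11160833)))) (.node (.node (.node (.leaf (nat_lit 1585668))
    (.leaf (nat_lit 3456768))) (.leaf (nat_lit 6391044))) (.node (.leaf (nat_lit 7283974)) (.leaf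
    (nat_lit 13091589)))))))) (.node (.node (.node (.node (.node (.node (.node (.leaf (nat_lit
    131079)) (.leaf (nat_lit 11193349))) (.leaf (nat_lit 7808772))) (.node (.node (.leaf (nat_lit
    3805954)) (.leaf (nat_lit 5999616))) (.leaf (nat_lit 7891971)))) (.node (.node (.node (.leaf
    (nat_lit 1968390)) (.leaf (nat_lit 11572230))) (.leaf (nat_lit 8690179))) (.node (.node (.leaf
    (nat_lit 5052678)) (.leaf (nat_lit 1057540))) (.leaf (nat_lit 11423489))))) (.node (.node
    (.node (.node (.leaf (nat_lit 1049857)) (.leaf (nat_lit 14530561))) (.leaf (nat_lit 9187332)))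
    (.node (.node (.leaf (nat_lit 3229703)) (.leaf (nat_lit 2314496))) (.leaf (nat_lit 6201858))))
    (.node (.node (.node (.leaf (nat_lit 2632704)) (.leaf (nat_lit 10076672))) (.leaf (nat_lit
    5466368))) (.node (.node (.leaf (nat_lit 5595651)) (.leaf (nat_lit 1844994))) (.leaf (nat_lit
    10337030)))))) (.node (.node (.node (.node (.node (.leaf (nat_lit 524805)) (.leaf (nat_lit
    14123522))) (.leaf (nat_lit 8465155))) (.node (.node (.leaf (nat_lit 3031043)) (.leaf (nat_lit
    4214016))) (.leaf (nat_lit 6200838)))) (.node (.node (.node (.leaf (nat_lit 2493702)) (.leaf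
    (nat_lit 12962048))) (.leaf (nat_lit 8145669))) (.node (.node (.leaf (nat_lit 5592583)) (.leaf
    (nat_lit 595975))) (.leaf (nat_lit 10058754))))) (.node (.node (.node (.node (.leaf (nat_lit
    1705985)) (.leaf (nat_lit 14672133))) (.leaf (nat_lit 9474819))) (.node (.node (.leaf (nat_lit
    1189124)) (.leaf (nat_lit 1580804))) (.leaf (nat_lit 9217798)))) (.node (.node (.node (.leaf
    (nat_lit 1323266)) (.leaf (nat_lit 1666048))) (.leaf (nat_lit 2846465))) (.node (.leaf (nat_lit
    7152646)) (.leaf (nat_lit 12936962))))))) (.node (.node (.node (.node (.node (.node (.leaf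
    (nat_lit 327940)) (.leaf (nat_lit 11522310))) (.leaf (nat_lit 7305987))) (.node (.node (.leaf
    (nat_lit 2702593)) (.leaf (nat_lit 2823172))) (.leaf (nat_lit 10239489)))) (.node (.node (.node
    (.leaf (nat_lit 2237191)) (.leaf (nat_lit 13358339))) (.leaf (nat_lit 5988352))) (.node (.node
    (.leaf (nat_lit 5067011)) (.leaf (nat_lit 662279))) (.leaf (nat_lit 11621377))))) (.node (.node
    (.node (.node (.leaf (nat_lit 1508871)) (.leaf (nat_lit 7916289))) (.leaf (nat_lit 4362241)))
    (.node (.node (.leaf (nat_lit 1445889)) (.leaf (nat_lit 1406720))) (.leaf (nat_lit 10898177))))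
    (.node (.node (.node (.leaf (nat_lit 2436609)) (.leaf (nat_lit 8774144))) (.leaf (nat_lit
    5662723))) (.node (.leaf (nat_lit 6758917)) (.leaf (nat_lit 12608773)))))) (.node (.node (.node
    (.node (.node (.leaf (nat_lit 723975)) (.leaf (nat_lit 9231106))) (.leaf (nat_lit 8793857)))
    (.node (.node (.leaf (nat_lit 4462082)) (.leaf (nat_lit 5841158))) (.leaf (nat_lit 10567687))))
    (.node (.node (.node (.leaf (nat_lit 2887429)) (.leaf (nat_lit 5156864))) (.leaf (nat_lit
    7702784))) (.node (.node (.leaf (nat_lit 6102787)) (.leaf (nat_lit 2167047))) (.leaf (nat_lit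
    11253253))))) (.node (.node (.node (.node (.leaf (nat_lit 1579779)) (.leaf (nat_lit 10934784)))
    (.leaf (nat_lit 9843717))) (.node (.node (.leaf (nat_lit 1521920)) (.leaf (nat_lit 1397760)))
    (.leaf (nat_lit 5221121)))) (.node (.node (.node (.leaf (nat_lit 3346694)) (.leaf (nat_lit
    1008896))) (.leaf (nat_lit 8557318))) (.node (.leaf (nat_lit 7480834)) (.leaf (nat_lit
    12503043))))))))) (.node (.node (.node (.node (.node (.node (.node (.node (.leaf (nat_lit
    65542)) (.leaf (nat_lit 13332999))) (.leaf (nat_lit 7239169))) (.node (.node (.leaf (nat_lit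
    3674629)) (.leaf (nat_lit 5754368))) (.leaf (nat_lit 9329409)))) (.node (.node (.node (.leaf
    (nat_lit 1837313)) (.leaf (nat_lit 9881600))) (.leaf (nat_lit 10000647))) (.node (.node (.leaf
    (nat_lit 4986887)) (.leaf (nat_lit 2838272))) (.leaf (nat_lit 11119875))))) (.node (.node
    (.node (.node (.leaf (nat_lit 984071)) (.leaf (nat_lit 14540293))) (.leaf (nat_lit 9056257)))
    (.node (.node (.leaf (nat_lit 1525505)) (.leaf (nat_lit 2642688))) (.leaf (nat_lit 10633732))))
    (.node (.node (.node (.leaf (nat_lit 2108677)) (.leaf (nat_lit 5096960))) (.leaf (nat_lit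
    6527490))) (.node (.node (.leaf (nat_lit 6316295)) (.leaf (nat_lit 1386244))) (.leaf (nat_lit
    12280066)))))) (.node (.node (.node (.node (.node (.leaf (nat_lit 460547)) (.leaf (nat_lit
    13991175))) (.leaf (nat_lit 8334081))) (.node (.node (.leaf (nat_lit 4199685)) (.leaf (nat_lit
    487680))) (.leaf (nat_lit 10370817)))) (.node (.node (.node (.leaf (nat_lit 2428162)) (.leaf
    (nat_lit 14279938))) (.leaf (nat_lit 7230979))) (.node (.node (.leaf (nat_lit 5577990)) (.leaf
    (nat_lit 2102278))) (.leaf (nat_lit 7185666))))) (.node (.node (.node (.node (.leaf (nat_lit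
    1054981)) (.leaf (nat_lit 10018817))) (.leaf (nat_lit 9540101))) (.node (.node (.leaf (nat_lit
    1324544)) (.leaf (nat_lit 1332480))) (.leaf (nat_lit 5131267)))) (.node (.node (.node (.leaf
    (nat_lit 3092487)) (.leaf (nat_lit 3451392))) (.leaf (nat_lit 7307264))) (.node (.leaf (nat_lit
    7021316)) (.leaf (nat_lit 12805634))))))) (.node (.node (.node (.node (.node (.node (.leaf
    (nat_lit 131587)) (.leaf (nat_lit 13661954))) (.leaf (nat_lit 7961095))) (.node (.node (.leaf
    (nat_lit 1785092)) (.leaf (nat_lit 2387712))) (.leaf (nat_lit 10179588)))) (.node (.node (.node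
    (.leaf (nat_lit 2230790)) (.leaf (nat_lit 14013952))) (.leaf (nat_lit 7304195))) (.node (.node
    (.leaf (nat_lit 5197831)) (.leaf (nat_lit 1077248))) (.leaf (nat_lit 7843590))))) (.node (.node
    (.node (.node (.leaf (nat_lit 1377794)) (.leaf (nat_lit 13882883))) (.leaf (nat_lit 7442178)))
    (.node (.node (.leaf (nat_lit 2704640)) (.leaf (nat_lit 1609472))) (.leaf (nat_lit 10778882))))
    (.node (.node (.node (.leaf (nat_lit 1650181)) (.leaf (nat_lit 3189504))) (.leaf (nat_lit
    2385926))) (.node (.leaf (nat_lit 6693380)) (.leaf (nat_lit 12543236)))))) (.node (.node (.node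
    (.node (.node (.leaf (nat_lit 721670)) (.leaf (nat_lit 14277127))) (.leaf (nat_lit 8684807)))
    (.node (.node (.leaf (nat_lit 4276743)) (.leaf (nat_lit 2436864))) (.leaf (nat_lit 10512385))))
    (.node (.node (.node (.leaf (nat_lit 2821639)) (.leaf (nat_lit 5596672))) (.leaf (nat_lit
    6461185))) (.node (.node (.leaf (nat_lit 5971713)) (.leaf (nat_lit 1840390))) (.leaf (nat_lit
    11884807))))) (.node (.node (.node (.node (.leaf (nat_lit 986115)) (.leaf (nat_lit 14919431)))
    (.leaf (nat_lit 9778180))) (.node (.node (.leaf (nat_lit 1251075)) (.leaf (nat_lit 2827265)))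
    (.leaf (nat_lit 11226625)))) (.node (.node (.node (.leaf (nat_lit 3284993)) (.leaf (nat_lit
    3124224))) (.leaf (nat_lit 8283139))) (.node (.leaf (nat_lit 7303175)) (.leaf (nat_lit
    10929412)))))))) (.node (.node (.node (.node (.node (.node (.node (.leaf (nat_lit 196865))
    (.leaf (nat_lit 13464580))) (.leaf (nat_lit 7829509))) (.node (.node (.leaf (nat_lit 3871492))
    (.leaf (nat_lit 556544))) (.leaf (nat_lit 10173703)))) (.node (.node (.node (.leaf (nat_lit
    1974023)) (.leaf (nat_lit 14977543))) (.leaf (nat_lit 10113794))) (.node (.node (.leaf (nat_lit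
    5066247)) (.leaf (nat_lit 2572288))) (.leaf (nat_lit 5287425))))) (.node (.node (.node (.node
    (.leaf (nat_lit 1180934)) (.leaf (nat_lit 14649095))) (.leaf (nat_lit 9211141))) (.node (.node
    (.leaf (nat_lit 1453312)) (.leaf (nat_lit 2666240))) (.leaf (nat_lit 10701062)))) (.node (.node
    (.node (.leaf (nat_lit 2172933)) (.leaf (nat_lit 5084160))) (.leaf (nat_lit 2583040))) (.node
    (.node (.leaf (nat_lit 6447879)) (.leaf (nat_lit 1250052))) (.leaf (nat_lit 7388161))))))
    (.node (.node (.node (.node (.node (.leaf (nat_lit 526339)) (.leaf (nat_lit 9689094))) (.leaf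
    (nat_lit 8596229))) (.node (.node (.leaf (nat_lit 2179073)) (.leaf (nat_lit 2673664))) (.leaf
    (nat_lit 7118593)))) (.node (.node (.node (.leaf (nat_lit 2500359)) (.leaf (nat_lit 6795776)))
    (.leaf (nat_lit 2651398))) (.node (.node (.leaf (nat_lit 5774850)) (.leaf (nat_lit 2628614)))
    (.leaf (nat_lit 11753221))))) (.node (.node (.node (.node (.leaf (nat_lit 1645059)) (.leaf
    (nat_lit 14846468))) (.leaf (nat_lit 4145667))) (.node (.node (.leaf (nat_lit 1184002)) (.leaf
    (nat_lit 1864960))) (.leaf (nat_lit 11095044)))) (.node (.node (.node (.leaf (nat_lit 2437381))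
    (.leaf (nat_lit 11049220))) (.leaf (nat_lit 6193667))) (.node (.leaf (nat_lit 7171591)) (.leaf
    (nat_lit 13069570))))))) (.node (.node (.node (.node (.node (.node (.leaf (nat_lit 393477))
    (.leaf (nat_lit 13858818))) (.leaf (nat_lit 8136967))) (.node (.node (.leaf (nat_lit 4068358))
    (.leaf (nat_lit 2152704))) (.leaf (nat_lit 4168705)))) (.node (.node (.node (.leaf (nat_lit
    2171907)) (.leaf (nat_lit 13031427))) (.leaf (nat_lit 6380294))) (.node (.node (.leaf (nat_lit
    5329415)) (.leaf (nat_lit 1526016))) (.leaf (nat_lit 11637255))))) (.node (.node (.node (.node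
    (.leaf (nat_lit 1574657)) (.leaf (nat_lit 14076675))) (.leaf (nat_lit 3159043))) (.node (.node
    (.leaf (nat_lit 2439168)) (.leaf (nat_lit 2119168))) (.leaf (nat_lit 10963714)))) (.node (.node
    (.node (.leaf (nat_lit 2762243)) (.leaf (nat_lit 827136))) (.leaf (nat_lit 6520576))) (.node
    (.leaf (nat_lit 5924611)) (.leaf (nat_lit 12674311)))))) (.node (.node (.node (.node (.node
    (.leaf (nat_lit 593155)) (.leaf (nat_lit 14452228))) (.leaf (nat_lit 8859394))) (.node (.node
    (.leaf (nat_lit 3622147)) (.leaf (nat_lit 6010368))) (.leaf (nat_lit 8233218)))) (.node (.node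
    (.node (.leaf (nat_lit 1911811)) (.leaf (nat_lit 5212672))) (.leaf (nat_lit 5673216))) (.node
    (.node (.leaf (nat_lit 6233861)) (.leaf (nat_lit 2562310))) (.leaf (nat_lit 12082945)))))
    (.node (.node (.node (.node (.leaf (nat_lit 1774597)) (.leaf (nat_lit 14263815))) (.leaf
    (nat_lit 9278979))) (.node (.node (.leaf (nat_lit 4790020)) (.leaf (nat_lit 2700032))) (.leaf
    (nat_lit 11292162)))) (.node (.node (.node (.leaf (nat_lit 3355655)) (.leaf (nat_lit 1368320)))
    (.leaf (nat_lit 9390852))) (.node (.leaf (nat_lit 7612161)) (.leaf (nat_lit 11716865)))))))))))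

/-- Certificate data. -/
def p1_just : Trie :=
    (.node (.node (.node (.node (.node (.node (.node (.node (.node (.node (.leaf (nat_lit 1))
    (.leaf (nat_lit 0))) (.leaf (nat_lit 0))) (.node (.node (.leaf (nat_lit 0)) (.leaf (nat_lit
    4136190657238859778))) (.leaf (nat_lit 13787658800498671673)))) (.node (.node (.node (.leaf
    (nat_lit 479697582671030811252569312523024784494886932)) (.leaf (nat_lit
    280601457987329319343911608975410))) (.leaf (nat_lit 0))) (.node (.node (.leaf (nat_lit 0))
    (.leaf (nat_lit 4569215436184551426))) (.leaf (nat_lit 65145725754585265119494152))))) (.node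
    (.node (.node (.node (.leaf (nat_lit 0)) (.leaf (nat_lit 160661273546770847191997480991)))
    (.leaf (nat_lit 47670598051553273309011771398))) (.node (.node (.leaf (nat_lit 0)) (.leaf
    (nat_lit 7697741745607258931202))) (.leaf (nat_lit 62808738497338898242666512)))) (.node (.node
    (.node (.leaf (nat_lit 0)) (.leaf (nat_lit 7306409316674895874))) (.leaf (nat_lit
    5377432198709250))) (.node (.node (.leaf (nat_lit 0)) (.leaf (nat_lit 3568486462914562)))
    (.leaf (nat_lit 0)))))) (.node (.node (.node (.node (.node (.leaf (nat_lit 228831562694666))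
    (.leaf (nat_lit 0))) (.leaf (nat_lit 4717038027276292))) (.node (.node (.leaf (nat_lit
    34986395973291270149423628291)) (.leaf (nat_lit 11370066922831874))) (.leaf (nat_lit 0))))
    (.node (.node (.node (.leaf (nat_lit 9286138598127086690520924182)) (.leaf (nat_lit
    1726732701351474973757583627979105122254922))) (.leaf (nat_lit
    102798688876532448502720364547))) (.node (.node (.leaf (nat_lit 0)) (.leaf (nat_lit
    3744245114601474))) (.leaf (nat_lit 1138068424144486051155004575360588775489))))) (.node (.node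
    (.node (.node (.leaf (nat_lit 11762395579022889417076768781)) (.leaf (nat_lit
    1601448942543148798259497076126925445529673))) (.leaf (nat_lit 90077369852666129593544343595)))
    (.node (.node (.leaf (nat_lit 2789834661953538)) (.leaf (nat_lit 11985802024321026))) (.leaf
    (nat_lit 63763220081289170732479545350)))) (.node (.node (.node (.leaf (nat_lit
    3028363792389177355)) (.leaf (nat_lit 10044743601176641538))) (.leaf (nat_lit
    9932400704255885314))) (.node (.leaf (nat_lit 0)) (.leaf (nat_lit
    258096944727527281485907415728169))))))) (.node (.node (.node (.node (.node (.node (.leaf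
    (nat_lit 3169590803680188915425416249349)) (.leaf (nat_lit 0))) (.leaf (nat_lit 0))) (.node
    (.node (.leaf (nat_lit 0)) (.leaf (nat_lit 2450678274457602))) (.leaf (nat_lit
    5703231237914628)))) (.node (.node (.node (.leaf (nat_lit 0)) (.leaf (nat_lit
    7965476412063748))) (.leaf (nat_lit 49357593519142579707641888))) (.node (.node (.leaf (nat_lit
    0)) (.leaf (nat_lit 3867261567893506))) (.leaf (nat_lit 0))))) (.node (.node (.node (.node
    (.leaf (nat_lit 0)) (.leaf (nat_lit 7754095301623812))) (.leaf (nat_lit 0))) (.node (.node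
    (.leaf (nat_lit 3479726956407357442)) (.leaf (nat_lit 16549173994159538178))) (.leaf (nat_lit
    0)))) (.node (.node (.node (.leaf (nat_lit 1672129552711682)) (.leaf (nat_lit
    7468625631534841858))) (.leaf (nat_lit 8653211516243476482))) (.node (.node (.leaf (nat_lit
    587609654552592562534117807074744795173)) (.leaf (nat_lit 3375084085575682))) (.leaf (nat_lit
    0)))))) (.node (.node (.node (.node (.node (.leaf (nat_lit 0)) (.leaf (nat_lit
    339509279404306465057581727940613))) (.leaf (nat_lit 4893028607197194))) (.node (.node (.leaf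
    (nat_lit 0)) (.leaf (nat_lit 47969832830762672717826))) (.leaf (nat_lit
    1001404733459303202319695251606201761804)))) (.node (.node (.node (.leaf (nat_lit 0)) (.leaf
    (nat_lit 8299856795926530))) (.leaf (nat_lit 4700055726587906))) (.node (.node (.leaf (nat_lit
    0)) (.leaf (nat_lit 4236912223191042))) (.leaf (nat_lit 139335307130470014980207280194)))))
    (.node (.node (.node (.node (.leaf (nat_lit 30538670568613415747659186624266257)) (.leaf
    (nat_lit 161478679654220759563952848918))) (.leaf (nat_lit 0))) (.node (.node (.leaf (nat_lit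
    2279729986142210)) (.leaf (nat_lit 6523492682039298))) (.leaf (nat_lit
    767368995610106910326579931902995136524)))) (.node (.node (.node (.leaf (nat_lit 0)) (.leaf
    (nat_lit 19070048475237515266))) (.leaf (nat_lit 88080829312145036840846884919))) (.node (.leaf
    (nat_lit 584951198561023033241936752731195244582)) (.leaf (nat_lit
    70983381732510911495995421)))))))) (.node (.node (.node (.node (.node (.node (.node (.leaf
    (nat_lit 928530624239272492584534019)) (.leaf (nat_lit 0))) (.leaf (nat_lit
    164553810711118213460170822320168))) (.node (.node (.leaf (nat_lit 0)) (.leaf (nat_lit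
    16735170093063654866946))) (.leaf (nat_lit 92284355622940868157012049926)))) (.node (.node
    (.node (.leaf (nat_lit 0)) (.leaf (nat_lit 8950604470812674))) (.leaf (nat_lit 0))) (.node
    (.node (.leaf (nat_lit 3414563424960516)) (.leaf (nat_lit 8398875444316968583170))) (.leaf
    (nat_lit 774004089910727721199782825103538585612))))) (.node (.node (.node (.node (.leaf
    (nat_lit 360944756719620)) (.leaf (nat_lit 147992420680970484651353571394))) (.leaf (nat_lit
    0))) (.node (.node (.leaf (nat_lit 0)) (.leaf (nat_lit 6569103611094302722))) (.leaf (nat_lit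
    14633166363036942345)))) (.node (.node (.node (.leaf (nat_lit 30181287541009063341579436053))
    (.leaf (nat_lit 8513414947848519682))) (.leaf (nat_lit 65196111207785131016603435015))) (.node
    (.node (.leaf (nat_lit 0)) (.leaf (nat_lit 2609755273166850))) (.leaf (nat_lit
    64636559587471807861817373)))))) (.node (.node (.node (.node (.node (.leaf (nat_lit
    27928718934697823425323280213182316556)) (.leaf (nat_lit 0))) (.leaf (nat_lit 0))) (.node
    (.node (.leaf (nat_lit 1135963015348234)) (.leaf (nat_lit 11563452120301570))) (.leaf (nat_lit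
    23218746644630233434882071)))) (.node (.node (.node (.leaf (nat_lit
    20739123063039087247333130254)) (.leaf (nat_lit 3134902587348131423737997385787996029714507)))
    (.leaf (nat_lit 5746747846557698))) (.node (.node (.leaf (nat_lit 0)) (.leaf (nat_lit
    3726687288295426))) (.leaf (nat_lit 70529593054868182288105488))))) (.node (.node (.node (.node
    (.leaf (nat_lit 8667471842794706569601089542)) (.leaf (nat_lit 0))) (.leaf (nat_lit 0))) (.node
    (.node (.leaf (nat_lit 1498222349626048514)) (.leaf (nat_lit 1920910740018102274))) (.leaf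
    (nat_lit 1151676881183575350163915006740483604492)))) (.node (.node (.node (.leaf (nat_lit 0))
    (.leaf (nat_lit 11197685214820368386))) (.leaf (nat_lit 4885005608288258))) (.node (.leaf
    (nat_lit 0)) (.leaf (nat_lit 0))))))) (.node (.node (.node (.node (.node (.node (.leaf (nat_lit
    1360337037429995527798792)) (.leaf (nat_lit 0))) (.leaf (nat_lit 0))) (.node (.node (.leaf
    (nat_lit 4324626712353767433)) (.leaf (nat_lit 3325630212795990018))) (.leaf (nat_lit
    1043868675793802164328011758993918197809)))) (.node (.node (.node (.leaf (nat_lit 0)) (.leaf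
    (nat_lit 9372885655355394))) (.leaf (nat_lit 4796701080682498))) (.node (.node (.leaf (nat_lit
    0)) (.leaf (nat_lit 4659030198976514))) (.leaf (nat_lit 0))))) (.node (.node (.node (.node
    (.leaf (nat_lit 0)) (.leaf (nat_lit 668749162100994843771629144705073200))) (.leaf (nat_lit
    0))) (.node (.node (.leaf (nat_lit 3533761016540364802)) (.leaf (nat_lit 1542470146386493442)))
    (.leaf (nat_lit 0)))) (.node (.node (.node (.leaf (nat_lit 27239517232126660599584522266))
    (.leaf (nat_lit 7252470076534882306))) (.leaf (nat_lit 4348366624522242))) (.node (.leaf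
    (nat_lit 7784412406188539913)) (.leaf (nat_lit 135928930742811422844262940703)))))) (.node
    (.node (.node (.node (.node (.leaf (nat_lit 0)) (.leaf (nat_lit 0))) (.leaf (nat_lit
    135677156447251648046830933442601))) (.node (.node (.leaf (nat_lit 0)) (.leaf (nat_lit
    8820116071374848002))) (.leaf (nat_lit 62061644749705602016804882)))) (.node (.node (.node
    (.leaf (nat_lit 1584082723143684)) (.leaf (nat_lit 8621424407451205634))) (.leaf (nat_lit
    380213737017241701136444336108932235316))) (.node (.node (.leaf (nat_lit 0)) (.leaf (nat_lit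
    2213862367690754))) (.leaf (nat_lit 0))))) (.node (.node (.node (.node (.leaf (nat_lit 0))
    (.leaf (nat_lit 170450570006349344055583178794))) (.leaf (nat_lit 10561770669052461065)))
    (.node (.node (.leaf (nat_lit 2860332255150082)) (.leaf (nat_lit 12179393380220930))) (.leaf
    (nat_lit 66674074962102708907343888)))) (.node (.node (.node (.leaf (nat_lit
    23222340743947434644247805955)) (.leaf (nat_lit 10387143058348244994))) (.leaf (nat_lit
    38240516189700205698154504))) (.node (.leaf (nat_lit 0)) (.leaf (nat_lit 0))))))))) (.node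
    (.node (.node (.node (.node (.node (.node (.node (.leaf (nat_lit 1)) (.leaf (nat_lit
    16976261625063604235))) (.leaf (nat_lit 0))) (.node (.node (.leaf (nat_lit 0)) (.leaf (nat_lit
    14386409651384287234))) (.leaf (nat_lit 58283350002763006424186908)))) (.node (.node (.node
    (.leaf (nat_lit 2288910946757967881)) (.leaf (nat_lit
    1610017335812905386560707823126362580451377))) (.leaf (nat_lit 0))) (.node (.node (.leaf
    (nat_lit 0)) (.leaf (nat_lit 1254643286707208194))) (.leaf (nat_lit 0))))) (.node (.node (.node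
    (.node (.leaf (nat_lit 900940106972725259)) (.leaf (nat_lit 0))) (.leaf (nat_lit 0))) (.node
    (.node (.leaf (nat_lit 0)) (.leaf (nat_lit 11844987226554370))) (.leaf (nat_lit
    7410896666871660595)))) (.node (.node (.node (.leaf (nat_lit 12075589346768678262011199491))
    (.leaf (nat_lit 7486570477343932418))) (.leaf (nat_lit 12219964749269631027))) (.node (.node
    (.leaf (nat_lit 0)) (.leaf (nat_lit 4324967642693634))) (.leaf (nat_lit 8448385354956804))))))
    (.node (.node (.node (.node (.node (.leaf (nat_lit 0)) (.leaf (nat_lit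
    151102238580403974357995880514))) (.leaf (nat_lit 0))) (.node (.node (.leaf (nat_lit
    2516932439965700)) (.leaf (nat_lit 3703967138801975298))) (.leaf (nat_lit
    10414859053539983369)))) (.node (.node (.node (.leaf (nat_lit 1434433177649162)) (.leaf
    (nat_lit 0))) (.leaf (nat_lit 3881976125849602))) (.node (.node (.leaf (nat_lit
    3660974288666628)) (.leaf (nat_lit 5811344154689538))) (.leaf (nat_lit
    143051773177290935691758665787))))) (.node (.node (.node (.node (.leaf (nat_lit 0)) (.leaf
    (nat_lit 0))) (.leaf (nat_lit 0))) (.node (.node (.leaf (nat_lit 4200390608608755714)) (.leaf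
    (nat_lit 5181472481747337218))) (.leaf (nat_lit 1054590038689038729368240058330530775103))))
    (.node (.node (.node (.leaf (nat_lit 0)) (.leaf (nat_lit 2244504150308225026))) (.leaf (nat_lit
    4093348646354946))) (.node (.leaf (nat_lit 0)) (.leaf (nat_lit
    134531183270670087671786110989))))))) (.node (.node (.node (.node (.node (.node (.leaf (nat_lit
    1547652128814626311263092742)) (.leaf (nat_lit 0))) (.leaf (nat_lit 0))) (.node (.node (.leaf
    (nat_lit 0)) (.leaf (nat_lit 5091049882429620226))) (.leaf (nat_lit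
    72145472382043235474324455483)))) (.node (.node (.node (.leaf (nat_lit
    19197139102385685779605487637)) (.leaf (nat_lit 88519525435695681828618269))) (.leaf (nat_lit
    4726332336504834))) (.node (.node (.leaf (nat_lit 0)) (.leaf (nat_lit 1507090160012165122)))
    (.leaf (nat_lit 31086321904153755365212183))))) (.node (.node (.node (.node (.leaf (nat_lit 0))
    (.leaf (nat_lit 83673597256710608373743645))) (.leaf (nat_lit 5209842574819332))) (.node (.node
    (.leaf (nat_lit 3569798974724571138)) (.leaf (nat_lit 2263008046240432130))) (.leaf (nat_lit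
    948010974190696327976451024609134313509)))) (.node (.node (.node (.leaf (nat_lit 0)) (.leaf
    (nat_lit 7450612190803066882))) (.leaf (nat_lit 4269193197387778))) (.node (.leaf (nat_lit 0))
    (.leaf (nat_lit 0)))))) (.node (.node (.node (.node (.node (.leaf (nat_lit 422431508529162))
    (.leaf (nat_lit 0))) (.leaf (nat_lit 0))) (.node (.node (.leaf (nat_lit 0)) (.leaf (nat_lit
    47892190859889310171138))) (.leaf (nat_lit 91626079603679963545036259331)))) (.node (.node
    (.node (.leaf (nat_lit 0)) (.leaf (nat_lit 16511713770440163330))) (.leaf (nat_lit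
    894922331159203363643072354090125688869))) (.node (.node (.leaf (nat_lit 3801780496498698))
    (.leaf (nat_lit 4412988702457858))) (.leaf (nat_lit 139176708881221151111294353422))))) (.node
    (.node (.node (.node (.leaf (nat_lit 519454819745794)) (.leaf (nat_lit
    161590959968153257550463500314))) (.leaf (nat_lit 23218448288551652687151122))) (.node (.node
    (.leaf (nat_lit 4813109148407496706)) (.leaf (nat_lit 8838509938834866178))) (.leaf (nat_lit
    63763220081415368364968509498)))) (.node (.node (.node (.leaf (nat_lit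
    25235199282001484500055752735)) (.leaf (nat_lit 11323873982496833538))) (.leaf (nat_lit
    6644018054299678))) (.node (.leaf (nat_lit 0)) (.leaf (nat_lit
    154778582886485864540512059460)))))))) (.node (.node (.node (.node (.node (.node (.node (.leaf
    (nat_lit 52823802904580)) (.leaf (nat_lit 18652717485316571145))) (.leaf (nat_lit 0))) (.node
    (.node (.leaf (nat_lit 106355116529214226685957309051219542049)) (.leaf (nat_lit
    2965324774974357506))) (.leaf (nat_lit 9409895281039966217)))) (.node (.node (.node (.leaf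
    (nat_lit 0)) (.leaf (nat_lit 7692694449160196))) (.leaf (nat_lit
    139463234666288359230360284233768))) (.node (.node (.leaf (nat_lit 0)) (.leaf (nat_lit
    1888106278158338))) (.leaf (nat_lit 65464853846342430575886352))))) (.node (.node (.node (.node
    (.leaf (nat_lit 0)) (.leaf (nat_lit 1390711443657524304100089643653495586888))) (.leaf (nat_lit
    0))) (.node (.node (.leaf (nat_lit 27267658710545211792291992633380)) (.leaf (nat_lit
    102029777527985043749011458))) (.leaf (nat_lit 1101141027251621257937878584441677873164))))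
    (.node (.node (.node (.leaf (nat_lit 1645741273645058)) (.leaf (nat_lit 17160337614063206402)))
    (.leaf (nat_lit 8707245924268834818))) (.node (.node (.leaf (nat_lit 0)) (.leaf (nat_lit
    2662531831300098))) (.leaf (nat_lit 0)))))) (.node (.node (.node (.node (.node (.leaf (nat_lit
    316844032524298)) (.leaf (nat_lit 0))) (.leaf (nat_lit 0))) (.node (.node (.leaf (nat_lit
    20739430020068215935180603418)) (.leaf (nat_lit 2659731224729419778))) (.leaf (nat_lit 0))))
    (.node (.node (.node (.leaf (nat_lit 0)) (.leaf (nat_lit 16493663998580031490))) (.leaf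
    (nat_lit 162338399915834396859437255426098))) (.node (.node (.leaf (nat_lit 0)) (.leaf (nat_lit
    1263807011880962))) (.leaf (nat_lit 0))))) (.node (.node (.node (.node (.leaf (nat_lit
    138304626683695276771435058155150180367)) (.leaf (nat_lit 131601950782763771688487616518)))
    (.leaf (nat_lit 46792574801037595722973228))) (.node (.node (.leaf (nat_lit 2297304992317442))
    (.leaf (nat_lit 50407216788828143747074))) (.leaf (nat_lit
    1149021081573671480095467122000036167718)))) (.node (.node (.node (.leaf (nat_lit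
    14738617807244394561339400)) (.leaf (nat_lit 8243359417299566594))) (.leaf (nat_lit
    8040977225417424907))) (.node (.leaf (nat_lit 0)) (.leaf (nat_lit 0))))))) (.node (.node (.node
    (.node (.node (.node (.leaf (nat_lit 468453642048045065)) (.leaf (nat_lit 0))) (.leaf (nat_lit
    147118663127358842068349521166376))) (.node (.node (.leaf (nat_lit
    24147995776157272253955178518)) (.leaf (nat_lit 2406913334969565186))) (.leaf (nat_lit
    43995790034446299651440656)))) (.node (.node (.node (.leaf (nat_lit 0)) (.leaf (nat_lit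
    10305271515709442))) (.leaf (nat_lit 3961106603311106))) (.node (.node (.leaf (nat_lit 0))
    (.leaf (nat_lit 1369257048932354))) (.leaf (nat_lit 135117813167422352374075291533317)))))
    (.node (.node (.node (.node (.leaf (nat_lit 774447028109316)) (.leaf (nat_lit
    9750851367337986))) (.leaf (nat_lit 80905771592653756728175445344298))) (.node (.node (.leaf
    (nat_lit 2825010444107778)) (.leaf (nat_lit 12056488596078594))) (.leaf (nat_lit
    123614821178749946358930596102149)))) (.node (.node (.node (.leaf (nat_lit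
    10882844324175119940648988)) (.leaf (nat_lit 12458632718948958210))) (.leaf (nat_lit
    6239526624296962))) (.node (.leaf (nat_lit 4136203830034442)) (.leaf (nat_lit
    8642002480660490)))))) (.node (.node (.node (.node (.node (.leaf (nat_lit 0)) (.leaf (nat_lit
    343314263268876949382675604897833))) (.leaf (nat_lit 72276207239764862912837162827781))) (.node
    (.node (.leaf (nat_lit 0)) (.leaf (nat_lit 11739442700222466))) (.leaf (nat_lit
    66571712400791620301632176178)))) (.node (.node (.node (.leaf (nat_lit 1311421019324426))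
    (.leaf (nat_lit 15791189876474576898))) (.leaf (nat_lit 5113532228173826))) (.node (.node
    (.leaf (nat_lit 0)) (.leaf (nat_lit 1510192105783298))) (.leaf (nat_lit 0))))) (.node (.node
    (.node (.node (.leaf (nat_lit 8919666824941963344936978)) (.leaf (nat_lit 9478318512537602)))
    (.leaf (nat_lit 5544265908355082))) (.node (.node (.leaf (nat_lit 2332592443621378)) (.leaf
    (nat_lit 3937475693248514))) (.leaf (nat_lit 646105555454487464905800967099299463224)))) (.node
    (.node (.node (.leaf (nat_lit 0)) (.leaf (nat_lit 11360211158167650306))) (.leaf (nat_lit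
    43020509524255677127917596))) (.node (.leaf (nat_lit 0)) (.leaf (nat_lit 0)))))))))) (.node
    (.node (.node (.node (.node (.node (.node (.node (.node (.leaf (nat_lit 1)) (.leaf (nat_lit
    8976417224261642))) (.leaf (nat_lit 611541607739382987644186534376196603937))) (.node (.node
    (.leaf (nat_lit 0)) (.leaf (nat_lit 10567331187116933122))) (.leaf (nat_lit
    57829523312426380456951826)))) (.node (.node (.node (.leaf (nat_lit 1838436772250583051))
    (.leaf (nat_lit 8484385770831874))) (.leaf (nat_lit 0))) (.node (.node (.leaf (nat_lit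
    4903207786932011019)) (.leaf (nat_lit 1813035266215182338))) (.leaf (nat_lit
    31086874945968016827154450))))) (.node (.node (.node (.node (.leaf (nat_lit 528044754337802))
    (.leaf (nat_lit 0))) (.leaf (nat_lit 0))) (.node (.node (.leaf (nat_lit 4721497822401331211))
    (.leaf (nat_lit 11091869119514323189762))) (.leaf (nat_lit 12851227424549175353)))) (.node
    (.node (.node (.leaf (nat_lit 9900810789295778062204951)) (.leaf (nat_lit
    7378484073402138626))) (.leaf (nat_lit 5412616570798082))) (.node (.node (.leaf (nat_lit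
    64395560583315836804081778691)) (.leaf (nat_lit 3533310680760322))) (.leaf (nat_lit 0))))))
    (.node (.node (.node (.node (.node (.leaf (nat_lit 540511253265842187)) (.leaf (nat_lit
    17768992053943009291))) (.leaf (nat_lit 0))) (.node (.node (.leaf (nat_lit 0)) (.leaf (nat_lit
    2695160809386082306))) (.leaf (nat_lit 6134317105414174)))) (.node (.node (.node (.leaf
    (nat_lit 24918077426795267119905112078)) (.leaf (nat_lit 9390520791072770))) (.leaf (nat_lit
    275257684774504386884136006259834928))) (.node (.node (.leaf (nat_lit 0)) (.leaf (nat_lit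
    5952064463175682))) (.leaf (nat_lit 52529666053988330697457672))))) (.node (.node (.node (.node
    (.leaf (nat_lit 22187600609334144689904913154053)) (.leaf (nat_lit 9267100610854914))) (.leaf
    (nat_lit 0))) (.node (.node (.leaf (nat_lit 4038234900032323586)) (.leaf (nat_lit
    2696253268677558274))) (.leaf (nat_lit 0)))) (.node (.node (.node (.leaf (nat_lit 0)) (.leaf
    (nat_lit 2298544657187143682))) (.leaf (nat_lit 7986863643964932098))) (.node (.leaf (nat_lit
    0)) (.leaf (nat_lit 0))))))) (.node (.node (.node (.node (.node (.node (.leaf (nat_lit 0))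
    (.leaf (nat_lit 9134815618138122))) (.leaf (nat_lit 75845296283592969340219424771))) (.node
    (.node (.leaf (nat_lit 2376117642199050)) (.leaf (nat_lit 13431705620541800450))) (.leaf
    (nat_lit 78337886278990820260958306354)))) (.node (.node (.node (.leaf (nat_lit 0)) (.leaf
    (nat_lit 337311332513517087814359907237929))) (.leaf (nat_lit 101715181252444792734314004526)))
    (.node (.node (.leaf (nat_lit 60047576710805009855968313347)) (.leaf (nat_lit
    6365377756004354))) (.leaf (nat_lit 64860501747269721674547216))))) (.node (.node (.node (.node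
    (.leaf (nat_lit 686443148214276)) (.leaf (nat_lit 267273478474612163130682706952233))) (.leaf
    (nat_lit 0))) (.node (.node (.leaf (nat_lit 1707880860483586)) (.leaf (nat_lit
    3686887548514402306))) (.leaf (nat_lit 7445141124153348)))) (.node (.node (.node (.leaf
    (nat_lit 1768869396086794)) (.leaf (nat_lit 15953407771882487810))) (.leaf (nat_lit
    4585843956252674))) (.node (.leaf (nat_lit 0)) (.leaf (nat_lit 16937567405700481033))))))
    (.node (.node (.node (.node (.node (.leaf (nat_lit 0)) (.leaf (nat_lit 0))) (.leaf (nat_lit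
    0))) (.node (.node (.leaf (nat_lit 38691371395801409596045000707)) (.leaf (nat_lit
    11334762291658754))) (.leaf (nat_lit 0)))) (.node (.node (.node (.leaf (nat_lit 0)) (.leaf
    (nat_lit 16457670025155903490))) (.leaf (nat_lit 7265813217073627187))) (.node (.node (.leaf
    (nat_lit 0)) (.leaf (nat_lit 6391955013632002))) (.leaf (nat_lit 0))))) (.node (.node (.node
    (.node (.leaf (nat_lit 484270447656962)) (.leaf (nat_lit 0))) (.leaf (nat_lit
    43380850295623830389194760))) (.node (.node (.leaf (nat_lit 5929913650252021762)) (.leaf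
    (nat_lit 9000649283585900546))) (.leaf (nat_lit 0)))) (.node (.node (.node (.leaf (nat_lit
    854256110403614)) (.leaf (nat_lit 11035600639623170))) (.leaf (nat_lit
    890867271556990913828335429942369648692))) (.node (.leaf (nat_lit 0)) (.leaf (nat_lit
    156193319868494574551994597390)))))))) (.node (.node (.node (.node (.node (.node (.node (.leaf
    (nat_lit 0)) (.leaf (nat_lit 136542835761442764678781861902))) (.leaf (nat_lit 0))) (.node
    (.node (.leaf (nat_lit 0)) (.leaf (nat_lit 12098608743219134466))) (.leaf (nat_lit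
    9445924086648864779)))) (.node (.node (.node (.leaf (nat_lit 0)) (.leaf (nat_lit
    1223154042073609183835884211270415089731))) (.leaf (nat_lit 86981841059157776659432996867)))
    (.node (.node (.leaf (nat_lit 0)) (.leaf (nat_lit 1879310185136130))) (.leaf (nat_lit 0)))))
    (.node (.node (.node (.node (.leaf (nat_lit 0)) (.leaf (nat_lit
    169371222626851992057516785735))) (.leaf (nat_lit 0))) (.node (.node (.leaf (nat_lit
    74487473781709387204495487205411)) (.leaf (nat_lit 49293657108851324092418))) (.leaf (nat_lit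
    68756775316958428421769527318)))) (.node (.node (.node (.leaf (nat_lit
    2010563257110927052664308659484140830586017939481)) (.leaf (nat_lit 16818046171024130050)))
    (.leaf (nat_lit 425325702409416467145771014865551414))) (.node (.node (.leaf (nat_lit
    65311617927798420482323513347)) (.leaf (nat_lit 2644939645255682))) (.leaf (nat_lit
    1067670730403150209278330954307422715971)))))) (.node (.node (.node (.node (.node (.leaf
    (nat_lit 0)) (.leaf (nat_lit 0))) (.leaf (nat_lit 0))) (.node (.node (.leaf (nat_lit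
    3820197243118616587)) (.leaf (nat_lit 5469977379323707394))) (.leaf (nat_lit
    116114476663454677245484204092)))) (.node (.node (.node (.leaf (nat_lit 0)) (.leaf (nat_lit
    18295103840938295298))) (.leaf (nat_lit 883034022146916568979720864905873129521))) (.node
    (.node (.leaf (nat_lit 3713776616603652)) (.leaf (nat_lit 1228622639792130))) (.leaf (nat_lit
    144444606571068282549330903099))))) (.node (.node (.node (.node (.leaf (nat_lit 0)) (.leaf
    (nat_lit 171363291686911347186915999758))) (.leaf (nat_lit 45357196859543387170471952))) (.node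
    (.node (.leaf (nat_lit 2314879998492674)) (.leaf (nat_lit 2134233674022914))) (.leaf (nat_lit
    97863257083838434058843848768)))) (.node (.node (.node (.leaf (nat_lit
    6348153357447921148428317)) (.leaf (nat_lit 7126440549065883650))) (.leaf (nat_lit
    4867430602113026))) (.node (.leaf (nat_lit 0)) (.leaf (nat_lit 0))))))) (.node (.node (.node
    (.node (.node (.node (.leaf (nat_lit 0)) (.leaf (nat_lit 8088114908233798))) (.leaf (nat_lit
    77074315958970108254630576131))) (.node (.node (.leaf (nat_lit 31117753327575887475867254815))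
    (.leaf (nat_lit 4922389003632642))) (.leaf (nat_lit 0)))) (.node (.node (.node (.leaf (nat_lit
    1320071083458564)) (.leaf (nat_lit 9847874678554626))) (.leaf (nat_lit
    67810562235047083993345687599))) (.node (.node (.leaf (nat_lit 60976106227843461900554076163))
    (.leaf (nat_lit 1334072676843522))) (.leaf (nat_lit 0))))) (.node (.node (.node (.node (.leaf
    (nat_lit 0)) (.leaf (nat_lit 9284658437160962))) (.leaf (nat_lit
    97629393716808064486020148035589))) (.node (.node (.leaf (nat_lit 2772216706105346)) (.leaf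
    (nat_lit 2371148558180220930))) (.leaf (nat_lit 0)))) (.node (.node (.node (.leaf (nat_lit
    25692249241734513302616539163)) (.leaf (nat_lit 13629568604885417986))) (.leaf (nat_lit
    5975643833630722))) (.node (.leaf (nat_lit 0)) (.leaf (nat_lit 0)))))) (.node (.node (.node
    (.node (.node (.leaf (nat_lit 475233836466180)) (.leaf (nat_lit
    90723180556135238150612451394))) (.leaf (nat_lit 0))) (.node (.node (.leaf (nat_lit 0)) (.leaf
    (nat_lit 8370500418011138))) (.leaf (nat_lit 0)))) (.node (.node (.node (.leaf (nat_lit 0))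
    (.leaf (nat_lit 16241558712614060034))) (.leaf (nat_lit 19012704976248206786571))) (.node
    (.node (.leaf (nat_lit 0)) (.leaf (nat_lit 11784020165787650))) (.leaf (nat_lit
    137169518630962782697479864339))))) (.node (.node (.node (.node (.leaf (nat_lit
    7484583886954858048454664)) (.leaf (nat_lit 557147472430698183896395075562242089))) (.leaf
    (nat_lit 0))) (.node (.node (.leaf (nat_lit 5875975994954940418)) (.leaf (nat_lit
    2318160932469145602))) (.leaf (nat_lit 128802310413775459347024268689413)))) (.node (.node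
    (.node (.leaf (nat_lit 0)) (.leaf (nat_lit 46202079429295153086466))) (.leaf (nat_lit
    739171011622875453206339800313176326200))) (.node (.leaf (nat_lit 0)) (.leaf (nat_lit
    151707223453370008221587472387))))))))) (.node (.node (.node (.node (.node (.node (.node (.node
    (.leaf (nat_lit 0)) (.leaf (nat_lit 0))) (.leaf (nat_lit
    654081460495520735636883750262026076199))) (.node (.node (.leaf (nat_lit 0)) (.leaf (nat_lit
    10243107984297361410))) (.leaf (nat_lit 92284355623374682350946746426)))) (.node (.node (.node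
    (.leaf (nat_lit 0)) (.leaf (nat_lit 11521373303369564162))) (.leaf (nat_lit 5649861974294532)))
    (.node (.node (.leaf (nat_lit 0)) (.leaf (nat_lit 13414430613537226754))) (.leaf (nat_lit
    15824307158113255433))))) (.node (.node (.node (.node (.leaf (nat_lit 0)) (.leaf (nat_lit
    9592435793592330))) (.leaf (nat_lit 0))) (.node (.node (.leaf (nat_lit
    119649992635338061439698570000548298786)) (.leaf (nat_lit 48567568839622806208514))) (.leaf
    (nat_lit 0)))) (.node (.node (.node (.leaf (nat_lit
    803227197346091466006475173208944781527023640)) (.leaf (nat_lit 7396498965832859650))) (.leaf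
    (nat_lit 35150721468519664731881501))) (.node (.node (.leaf (nat_lit 3942595294265348)) (.leaf
    (nat_lit 2600959180144642))) (.leaf (nat_lit 0)))))) (.node (.node (.node (.node (.node (.leaf
    (nat_lit 648720815394848777)) (.leaf (nat_lit 0))) (.leaf (nat_lit 0))) (.node (.node (.leaf
    (nat_lit 0)) (.leaf (nat_lit 1308054387603734530))) (.leaf (nat_lit 0)))) (.node (.node (.node
    (.leaf (nat_lit 0)) (.leaf (nat_lit 178022979292436608656660103174))) (.leaf (nat_lit
    4374557335093250))) (.node (.node (.leaf (nat_lit 0)) (.leaf (nat_lit 3990561489027074)))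
    (.leaf (nat_lit 112707792143526105544749613062))))) (.node (.node (.node (.node (.leaf (nat_lit
    11452910421555534190407450638)) (.leaf (nat_lit 204870475483601455358054085623813))) (.leaf
    (nat_lit 5368249558630410))) (.node (.node (.leaf (nat_lit 4218405015708172290)) (.leaf
    (nat_lit 5253565131308335106))) (.leaf (nat_lit 61807875650333101957860163591)))) (.node (.node
    (.node (.leaf (nat_lit 1988900570660868)) (.leaf (nat_lit 11125627706681786370))) (.leaf
    (nat_lit 9752274689304231938))) (.node (.leaf (nat_lit 0)) (.leaf (nat_lit 0))))))) (.node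
    (.node (.node (.node (.node (.node (.leaf (nat_lit 2013088938301139987651231751)) (.leaf
    (nat_lit 0))) (.leaf (nat_lit 4646626333425668))) (.node (.node (.leaf (nat_lit
    1109497426870302)) (.leaf (nat_lit 5127078700923420674))) (.leaf (nat_lit
    1043905605073887130734569591230264049716)))) (.node (.node (.node (.leaf (nat_lit 0)) (.leaf
    (nat_lit 336680925231383716121151747326016))) (.leaf (nat_lit 4735128429527042))) (.node (.node
    (.leaf (nat_lit 3520176670769156)) (.leaf (nat_lit 12461263493922818))) (.leaf (nat_lit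
    120766584333213108339724386364))))) (.node (.node (.node (.node (.leaf (nat_lit 0)) (.leaf
    (nat_lit 83834527156157765019566096))) (.leaf (nat_lit 159758496814376472141350971047977)))
    (.node (.node (.leaf (nat_lit 3623842153073147906)) (.leaf (nat_lit 1794634986368991234)))
    (.leaf (nat_lit 270436853738709905494153303097385)))) (.node (.node (.node (.leaf (nat_lit
    906912409452554)) (.leaf (nat_lit 10513085406571069442))) (.leaf (nat_lit 4339570531500034)))
    (.node (.leaf (nat_lit 0)) (.leaf (nat_lit 0)))))) (.node (.node (.node (.node (.node (.leaf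
    (nat_lit 0)) (.leaf (nat_lit 9451629585760260))) (.leaf (nat_lit 4945830935134212))) (.node
    (.node (.leaf (nat_lit 2675339423776772)) (.leaf (nat_lit 8177427917355484446722))) (.leaf
    (nat_lit 62061569575057603275587646)))) (.node (.node (.node (.leaf (nat_lit 0)) (.leaf
    (nat_lit 16962097561655771138))) (.leaf (nat_lit 146493220678375367155951675572229))) (.node
    (.node (.leaf (nat_lit 0)) (.leaf (nat_lit 3691588815552514))) (.leaf (nat_lit 0))))) (.node
    (.node (.node (.node (.leaf (nat_lit 11303838078478155761521655815)) (.leaf (nat_lit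
    361758943858287845176914274091043))) (.leaf (nat_lit 0))) (.node (.node (.leaf (nat_lit
    2358946362949634)) (.leaf (nat_lit 6567481737084930))) (.leaf (nat_lit 0)))) (.node (.node
    (.node (.leaf (nat_lit 18519353629525363269107744)) (.leaf (nat_lit 10369128582529351682)))
    (.leaf (nat_lit 56916071492724161975222288))) (.node (.leaf (nat_lit 4382606103805956)) (.leaf
    (nat_lit 4802596927037223699105432222167994398390550597)))))))) (.node (.node (.node (.node
    (.node (.node (.node (.leaf (nat_lit 0)) (.leaf (nat_lit 0))) (.leaf (nat_lit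
    4593815415554058))) (.node (.node (.leaf (nat_lit 0)) (.leaf (nat_lit 2118648066503540738)))
    (.leaf (nat_lit 0)))) (.node (.node (.node (.leaf (nat_lit 1214466427584516)) (.leaf (nat_lit
    0))) (.leaf (nat_lit 49212269673030759492157458))) (.node (.node (.leaf (nat_lit
    3467365752897540)) (.leaf (nat_lit 13072191779552559106))) (.leaf (nat_lit
    66296876335776270964293655))))) (.node (.node (.node (.node (.leaf (nat_lit 0)) (.leaf (nat_lit
    0))) (.leaf (nat_lit 5157040246882314))) (.node (.node (.leaf (nat_lit 5641436665668108290))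
    (.leaf (nat_lit 11932965336645634))) (.leaf (nat_lit 0)))) (.node (.node (.node (.leaf (nat_lit
    1654537366667266)) (.leaf (nat_lit 7180378870082895874))) (.leaf (nat_lit
    9319752911158444034))) (.node (.node (.leaf (nat_lit 4012998398181380)) (.leaf (nat_lit
    2407470903459842))) (.leaf (nat_lit 53907047664588340926414871)))))) (.node (.node (.node
    (.node (.node (.leaf (nat_lit 756807232221544459)) (.leaf (nat_lit 6716010296115270))) (.leaf
    (nat_lit 0))) (.node (.node (.leaf (nat_lit 22596184127212532677850038299)) (.leaf (nat_lit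
    23718177682013487106))) (.leaf (nat_lit 75550712786349900755059998781)))) (.node (.node (.node
    (.leaf (nat_lit 1496078843248644)) (.leaf (nat_lit 18078948633830686722))) (.leaf (nat_lit
    4691259633565698))) (.node (.node (.leaf (nat_lit 0)) (.leaf (nat_lit 6040094112874498)))
    (.leaf (nat_lit 0))))) (.node (.node (.node (.node (.leaf (nat_lit 7937562097872247068098576))
    (.leaf (nat_lit 0))) (.leaf (nat_lit 92951548128309900158466550857773))) (.node (.node (.leaf
    (nat_lit 2262129210163202)) (.leaf (nat_lit 4046662394666221570))) (.leaf (nat_lit 0)))) (.node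
    (.node (.node (.leaf (nat_lit 33750114702288720892598288398)) (.leaf (nat_lit
    8766178575122434))) (.leaf (nat_lit 8004948419808526345))) (.node (.leaf (nat_lit
    4312202999889924)) (.leaf (nat_lit 0))))))) (.node (.node (.node (.node (.node (.node (.leaf
    (nat_lit 0)) (.leaf (nat_lit 0))) (.leaf (nat_lit 0))) (.node (.node (.leaf (nat_lit 0)) (.leaf
    (nat_lit 47523975851582884675586))) (.leaf (nat_lit 47019212255738726499811351)))) (.node
    (.node (.node (.leaf (nat_lit 2685183991199498249)) (.leaf (nat_lit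
    155423022328717063515707670535))) (.leaf (nat_lit 4005087068422146))) (.node (.node (.leaf
    (nat_lit 3590579774685188)) (.leaf (nat_lit 1633332554650288130))) (.leaf (nat_lit
    1226010485016610239149085956109708623884))))) (.node (.node (.node (.node (.leaf (nat_lit 0))
    (.leaf (nat_lit 9777239646404610))) (.leaf (nat_lit 5148312873336834))) (.node (.node (.leaf
    (nat_lit 3984174129497702402)) (.leaf (nat_lit 48351197582500429037570))) (.leaf (nat_lit 0))))
    (.node (.node (.node (.leaf (nat_lit 27867032598740597022459822083)) (.leaf (nat_lit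
    1956256121840926722))) (.leaf (nat_lit 225109237697108945502837229944868))) (.node (.leaf
    (nat_lit 7820441220387373067)) (.leaf (nat_lit 0)))))) (.node (.node (.node (.node (.node
    (.leaf (nat_lit 864911292773892105)) (.leaf (nat_lit 0))) (.leaf (nat_lit 0))) (.node (.node
    (.leaf (nat_lit 4685469008202498057)) (.leaf (nat_lit 11352466146852866))) (.leaf (nat_lit
    84530916739372051279013871675)))) (.node (.node (.node (.leaf (nat_lit 2955408893783769099))
    (.leaf (nat_lit 7324422585607979010))) (.leaf (nat_lit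
    1854730639722117092496254543678027961335861))) (.node (.node (.leaf (nat_lit 0)) (.leaf
    (nat_lit 1545376477872130))) (.leaf (nat_lit 0))))) (.node (.node (.node (.node (.leaf (nat_lit
    19350221364516932825416859667)) (.leaf (nat_lit 9487114605559810))) (.leaf (nat_lit
    10597799483251294219))) (.node (.node (.leaf (nat_lit 0)) (.leaf (nat_lit
    49011857597505474920450))) (.leaf (nat_lit 0)))) (.node (.node (.node (.leaf (nat_lit
    2200109882408964)) (.leaf (nat_lit 2298705434992902146))) (.leaf (nat_lit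
    13787666436950523955))) (.node (.leaf (nat_lit 0)) (.leaf (nat_lit
    145527804112167315187270287391)))))))))))

/-- Certificate data. -/
def p1_rel : Trie :=
    (.node (.node (.node (.node (.node (.node (.node (.leaf (nat_lit 0)) (.leaf (nat_lit
    1127020926993409))) (.leaf (nat_lit 9555703634185467266818))) (.node (.leaf (nat_lit
    1103857058561)) (.leaf (nat_lit 1692178493604354)))) (.node (.node (.node (.leaf (nat_lit
    263172)) (.leaf (nat_lit 4740885571518551163397))) (.leaf (nat_lit 852130135147014))) (.node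
    (.leaf (nat_lit 1128120438817025)) (.leaf (nat_lit 565157667473154))))) (.node (.node (.node
    (.node (.leaf (nat_lit 282578884167425)) (.leaf (nat_lit 460551))) (.leaf (nat_lit
    28426937303345010246147))) (.node (.leaf (nat_lit 1409582563918849)) (.leaf (nat_lit
    73749746745213697)))) (.node (.node (.leaf (nat_lit 286981158600964)) (.leaf (nat_lit
    3302880313858))) (.node (.leaf (nat_lit 328965)) (.leaf (nat_lit 3302846694146)))))) (.node
    (.node (.node (.node (.node (.leaf (nat_lit 394758)) (.leaf (nat_lit 565166173585669))) (.leaf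
    (nat_lit 569560025661954))) (.node (.leaf (nat_lit 310717584512385860377903620)) (.leaf
    (nat_lit 33093604676701033399813)))) (.node (.node (.leaf (nat_lit 23741104307616589480198))
    (.leaf (nat_lit 3307158504193))) (.node (.leaf (nat_lit 2207646941443)) (.leaf (nat_lit
    565157600559879))))) (.node (.node (.node (.node (.leaf (nat_lit 1103823569411)) (.leaf
    (nat_lit 9481914966841661587970))) (.leaf (nat_lit 218145314614739458))) (.node (.leaf (nat_lit
    621411501634544994336440580)) (.leaf (nat_lit 9500506958600423736327)))) (.node (.node (.leaf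
    (nat_lit 2211925000451)) (.leaf (nat_lit 144681466662617863))) (.node (.leaf (nat_lit
    2211925131778)) (.leaf (nat_lit 282578800476935))))))) (.node (.node (.node (.node (.node
    (.node (.leaf (nat_lit 1972532483851779)) (.leaf (nat_lit 4741246706112711230727))) (.leaf
    (nat_lit 216455382422323462))) (.node (.leaf (nat_lit 568456185446660)) (.leaf (nat_lit
    50594565)))) (.node (.node (.node (.leaf (nat_lit 67306755)) (.leaf (nat_lit
    19018809600870300385798))) (.leaf (nat_lit 282600308932865))) (.node (.leaf (nat_lit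
    1127016615444994)) (.leaf (nat_lit 1692178476761345))))) (.node (.node (.node (.node (.leaf
    (nat_lit 1971428660413955)) (.leaf (nat_lit 567352362075394))) (.leaf (nat_lit
    14278142172450127087362))) (.node (.leaf (nat_lit 2207663588098)) (.leaf (nat_lit
    288085048885505)))) (.node (.node (.leaf (nat_lit 9518592282207017107970)) (.leaf (nat_lit
    3307175215361))) (.node (.leaf (nat_lit 1409595398489090)) (.leaf (nat_lit
    9481771696078515667970)))))) (.node (.node (.node (.node (.node (.leaf (nat_lit
    144967318211069698)) (.leaf (nat_lit 310717584512104385401192965))) (.leaf (nat_lit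
    28426937585919498584833))) (.node (.leaf (nat_lit 285877402206724)) (.leaf (nat_lit
    23648870582854189383937)))) (.node (.node (.leaf (nat_lit 568451823567365)) (.leaf (nat_lit
    72345678986151427))) (.node (.leaf (nat_lit 1112430280961)) (.leaf (nat_lit
    1408478757389570))))) (.node (.node (.node (.node (.leaf (nat_lit 84083715)) (.leaf (nat_lit
    9481771137526608756997))) (.leaf (nat_lit 433191093065154817))) (.node (.leaf (nat_lit
    1240367427963640216283250945)) (.leaf (nat_lit 50660100)))) (.node (.node (.leaf (nat_lit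
    504968320244646403)) (.leaf (nat_lit 33111979364280199939588))) (.node (.leaf (nat_lit
    4833409207814643255043)) (.leaf (nat_lit 4833337150224900359937))))))))

/-- Certificate data. -/
def p1_rc : Trie :=
    (.node (.node (.node (.node (.node (.node (.node (.leaf (nat_lit 24)) (.leaf (nat_lit 262158)))
    (.leaf (nat_lit 786455))) (.node (.leaf (nat_lit 262149)) (.leaf (nat_lit 262163)))) (.node
    (.node (.node (.leaf (nat_lit 6)) (.leaf (nat_lit 655373))) (.leaf (nat_lit 131091))) (.node
    (.leaf (nat_lit 131087)) (.leaf (nat_lit 655379))))) (.node (.node (.node (.node (.leaf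
    (nat_lit 524306)) (.leaf (nat_lit 17))) (.leaf (nat_lit 1048598))) (.node (.leaf (nat_lit 14))
    (.leaf (nat_lit 131092)))) (.node (.node (.leaf (nat_lit 131086)) (.leaf (nat_lit 393220)))
    (.node (.leaf (nat_lit 7)) (.leaf (nat_lit 524293)))))) (.node (.node (.node (.node (.node
    (.leaf (nat_lit 16)) (.leaf (nat_lit 786446))) (.leaf (nat_lit 393235))) (.node (.leaf (nat_lit
    262155)) (.leaf (nat_lit 1048599)))) (.node (.node (.leaf (nat_lit 1179671)) (.leaf (nat_lit
    131076))) (.node (.leaf (nat_lit 4)) (.leaf (nat_lit 786451))))) (.node (.node (.node (.node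
    (.leaf (nat_lit 393221)) (.leaf (nat_lit 917516))) (.leaf (nat_lit 262165))) (.node (.leaf
    (nat_lit 10)) (.leaf (nat_lit 22)))) (.node (.node (.leaf (nat_lit 655365)) (.leaf (nat_lit
    21))) (.node (.leaf (nat_lit 524292)) (.leaf (nat_lit 655378))))))) (.node (.node (.node (.node
    (.node (.node (.leaf (nat_lit 19)) (.leaf (nat_lit 655382))) (.leaf (nat_lit 393236))) (.node
    (.leaf (nat_lit 15)) (.leaf (nat_lit 393224)))) (.node (.node (.node (.leaf (nat_lit 262152))
    (.leaf (nat_lit 524311))) (.leaf (nat_lit 393234))) (.node (.leaf (nat_lit 524302)) (.leaf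
    (nat_lit 131090))))) (.node (.node (.node (.node (.leaf (nat_lit 786450)) (.leaf (nat_lit
    655374))) (.leaf (nat_lit 1179670))) (.node (.leaf (nat_lit 655364)) (.leaf (nat_lit 262162))))
    (.node (.node (.leaf (nat_lit 786444)) (.leaf (nat_lit 5))) (.node (.leaf (nat_lit 786447))
    (.leaf (nat_lit 1048588)))))) (.node (.node (.node (.node (.node (.leaf (nat_lit 393237))
    (.leaf (nat_lit 1179658))) (.leaf (nat_lit 23))) (.node (.leaf (nat_lit 393230)) (.leaf
    (nat_lit 131085)))) (.node (.node (.leaf (nat_lit 655375)) (.leaf (nat_lit 262164))) (.node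
    (.leaf (nat_lit 131077)) (.leaf (nat_lit 524303))))) (.node (.node (.node (.node (.leaf
    (nat_lit 8)) (.leaf (nat_lit 13))) (.leaf (nat_lit 20))) (.node (.leaf (nat_lit 131082)) (.leaf
    (nat_lit 131080)))) (.node (.node (.leaf (nat_lit 131093)) (.leaf (nat_lit 393239))) (.node
    (.leaf (nat_lit 131095)) (.leaf (nat_lit 524310))))))))

/-- Certificate data. -/
def p1_lv : Trie :=
    (.node (.node (.node (.node (.node (.node (.leaf (nat_lit 0)) (.leaf (nat_lit 35))) (.leaf
    (nat_lit 17))) (.node (.leaf (nat_lit 8)) (.leaf (nat_lit 25)))) (.node (.node (.node (.leaf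
    (nat_lit 4)) (.leaf (nat_lit 40))) (.leaf (nat_lit 21))) (.node (.leaf (nat_lit 13)) (.leaf
    (nat_lit 29))))) (.node (.node (.node (.node (.leaf (nat_lit 2)) (.leaf (nat_lit 37))) (.leaf
    (nat_lit 19))) (.node (.leaf (nat_lit 10)) (.leaf (nat_lit 27)))) (.node (.node (.node (.leaf
    (nat_lit 6)) (.leaf (nat_lit 43))) (.leaf (nat_lit 23))) (.node (.leaf (nat_lit 15)) (.leaf
    (nat_lit 32)))))) (.node (.node (.node (.node (.node (.leaf (nat_lit 1)) (.leaf (nat_lit 36)))
    (.leaf (nat_lit 18))) (.node (.leaf (nat_lit 9)) (.leaf (nat_lit 26)))) (.node (.node (.node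
    (.leaf (nat_lit 5)) (.leaf (nat_lit 41))) (.leaf (nat_lit 22))) (.node (.leaf (nat_lit 14))
    (.leaf (nat_lit 31))))) (.node (.node (.node (.node (.leaf (nat_lit 3)) (.leaf (nat_lit 39)))
    (.leaf (nat_lit 20))) (.node (.leaf (nat_lit 12)) (.leaf (nat_lit 28)))) (.node (.node (.leaf
    (nat_lit 7)) (.leaf (nat_lit 24))) (.node (.leaf (nat_lit 16)) (.leaf (nat_lit 33)))))))

/-- Certificate data. -/
def p1_tb : Trie :=
    (.node (.node (.node (.node (.node (.node (.node (.node (.leaf (nat_lit 0)) (.leaf (nat_lit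
    6201))) (.leaf (nat_lit 49262))) (.node (.leaf (nat_lit 71089)) (.leaf (nat_lit 38350))))
    (.node (.node (.node (.leaf (nat_lit 10317)) (.leaf (nat_lit 75182))) (.leaf (nat_lit 14372)))
    (.node (.leaf (nat_lit 24639)) (.leaf (nat_lit 35178))))) (.node (.node (.node (.node (.leaf
    (nat_lit 51306)) (.leaf (nat_lit 62886))) (.leaf (nat_lit 63646))) (.node (.leaf (nat_lit
    2057)) (.leaf (nat_lit 39039)))) (.node (.node (.node (.leaf (nat_lit 14437)) (.leaf (nat_lit
    24749))) (.leaf (nat_lit 6195))) (.node (.leaf (nat_lit 43205)) (.leaf (nat_lit 16499))))))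
    (.node (.node (.node (.node (.node (.leaf (nat_lit 2067)) (.leaf (nat_lit 71092))) (.leaf
    (nat_lit 78568))) (.node (.leaf (nat_lit 66962)) (.leaf (nat_lit 46545)))) (.node (.node (.node
    (.leaf (nat_lit 12375)) (.leaf (nat_lit 34235))) (.leaf (nat_lit 2079))) (.node (.leaf (nat_lit
    20548)) (.leaf (nat_lit 54544))))) (.node (.node (.node (.node (.leaf (nat_lit 67745)) (.leaf
    (nat_lit 60844))) (.leaf (nat_lit 55520))) (.node (.leaf (nat_lit 10269)) (.leaf (nat_lit
    43356)))) (.node (.node (.leaf (nat_lit 18569)) (.leaf (nat_lit 63637))) (.node (.leaf (nat_lit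
    35012)) (.leaf (nat_lit 28745))))))) (.node (.node (.node (.node (.node (.node (.leaf (nat_lit
    8213)) (.leaf (nat_lit 52672))) (.leaf (nat_lit 76001))) (.node (.leaf (nat_lit 24743)) (.leaf
    (nat_lit 51329)))) (.node (.node (.node (.leaf (nat_lit 45437)) (.leaf (nat_lit 18573))) (.leaf
    (nat_lit 24636))) (.node (.leaf (nat_lit 28790)) (.leaf (nat_lit 28876))))) (.node (.node
    (.node (.node (.leaf (nat_lit 61584)) (.leaf (nat_lit 45149))) (.leaf (nat_lit 66260))) (.node
    (.leaf (nat_lit 8216)) (.leaf (nat_lit 22693)))) (.node (.node (.node (.leaf (nat_lit 16505))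
    (.leaf (nat_lit 64933))) (.leaf (nat_lit 26691))) (.node (.leaf (nat_lit 32901)) (.leaf
    (nat_lit 34894)))))) (.node (.node (.node (.node (.node (.leaf (nat_lit 38996)) (.leaf (nat_lit
    36947))) (.leaf (nat_lit 67743))) (.node (.leaf (nat_lit 77169)) (.leaf (nat_lit 66957))))
    (.node (.node (.node (.leaf (nat_lit 37241)) (.leaf (nat_lit 32197))) (.leaf (nat_lit 4139)))
    (.node (.leaf (nat_lit 41091)) (.leaf (nat_lit 4109))))) (.node (.node (.node (.node (.leaf
    (nat_lit 53373)) (.leaf (nat_lit 79299))) (.leaf (nat_lit 4))) (.node (.leaf (nat_lit 14375))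
    (.leaf (nat_lit 32138)))) (.node (.node (.leaf (nat_lit 60834)) (.leaf (nat_lit 60796))) (.node
    (.leaf (nat_lit 53371)) (.leaf (nat_lit 48555)))))))) (.node (.node (.node (.node (.node (.node
    (.node (.leaf (nat_lit 6158)) (.leaf (nat_lit 50621))) (.leaf (nat_lit 47226))) (.node (.leaf
    (nat_lit 79222)) (.leaf (nat_lit 79130)))) (.node (.node (.node (.leaf (nat_lit 33135)) (.leaf
    (nat_lit 40361))) (.leaf (nat_lit 18480))) (.node (.leaf (nat_lit 26693)) (.leaf (nat_lit
    42438))))) (.node (.node (.node (.node (.leaf (nat_lit 55430)) (.leaf (nat_lit 56758))) (.leaf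
    (nat_lit 61660))) (.node (.leaf (nat_lit 4119)) (.leaf (nat_lit 69801)))) (.node (.node (.node
    (.leaf (nat_lit 22636)) (.leaf (nat_lit 42393))) (.leaf (nat_lit 67740))) (.node (.leaf
    (nat_lit 45431)) (.leaf (nat_lit 14377)))))) (.node (.node (.node (.node (.node (.leaf (nat_lit
    30794)) (.leaf (nat_lit 77241))) (.leaf (nat_lit 69853))) (.node (.leaf (nat_lit 26803)) (.leaf
    (nat_lit 32864)))) (.node (.node (.node (.leaf (nat_lit 41298)) (.leaf (nat_lit 20633))) (.leaf
    (nat_lit 16429))) (.node (.leaf (nat_lit 22647)) (.leaf (nat_lit 2054))))) (.node (.node (.node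
    (.node (.leaf (nat_lit 73904)) (.leaf (nat_lit 73150))) (.leaf (nat_lit 60137))) (.node (.leaf
    (nat_lit 12323)) (.leaf (nat_lit 73935)))) (.node (.node (.leaf (nat_lit 58769)) (.leaf
    (nat_lit 49255))) (.node (.leaf (nat_lit 37238)) (.leaf (nat_lit 22644))))))) (.node (.node
    (.node (.node (.node (.node (.leaf (nat_lit 4112)) (.leaf (nat_lit 8263))) (.leaf (nat_lit
    73937))) (.node (.leaf (nat_lit 64972)) (.leaf (nat_lit 76129)))) (.node (.node (.node (.leaf
    (nat_lit 35184)) (.leaf (nat_lit 58784))) (.leaf (nat_lit 12321))) (.node (.leaf (nat_lit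
    18494)) (.leaf (nat_lit 61651))))) (.node (.node (.node (.node (.leaf (nat_lit 49257)) (.leaf
    (nat_lit 12379))) (.leaf (nat_lit 57552))) (.node (.leaf (nat_lit 6169)) (.leaf (nat_lit
    48490)))) (.node (.node (.node (.leaf (nat_lit 73163)) (.leaf (nat_lit 26807))) (.leaf (nat_lit
    8257))) (.node (.leaf (nat_lit 30850)) (.leaf (nat_lit 43096)))))) (.node (.node (.node (.node
    (.node (.leaf (nat_lit 47198)) (.leaf (nat_lit 10321))) (.leaf (nat_lit 72405))) (.node (.leaf
    (nat_lit 3)) (.leaf (nat_lit 73161)))) (.node (.node (.node (.leaf (nat_lit 28770)) (.leaf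
    (nat_lit 69042))) (.leaf (nat_lit 20533))) (.node (.leaf (nat_lit 39044)) (.leaf (nat_lit
    11))))) (.node (.node (.node (.node (.leaf (nat_lit 43354)) (.leaf (nat_lit 66972))) (.leaf
    (nat_lit 10266))) (.node (.leaf (nat_lit 16431)) (.leaf (nat_lit 57507)))) (.node (.node (.leaf
    (nat_lit 20627)) (.leaf (nat_lit 55661))) (.node (.leaf (nat_lit 51311)) (.leaf (nat_lit
    54683)))))))))

/-- Certificate data. -/
def p1_C : TC.Cert := ⟨8, 255, 11, 2047, 434320308636287488, 62, p1_par, p1_fact, p1_just, p1_rel, 74⟩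

/-- Certificate data. -/
def p1_rs : List (List ℕ) := [[1, 1, 1, 1, 1, 1, 1, 1], [3, 3], [3, 1, 3, 2, 2, 2], [4, 4, 4], [3, 4, 3, 5], [4, 1, 1, 4, 2, 2, 5, 1, 1, 5, 2, 2], [1, 1, 1, 1, 4, 2, 2, 2, 2, 4], [1, 4, 1, 4, 2, 2, 5], [6, 6, 6], [6, 1, 1, 1, 1, 7, 3], [1, 1, 3, 6, 1, 1, 3, 6], [7, 4, 6, 1, 1, 7, 5, 6, 3, 2]]

/-- Certificate data. -/
def p1_gl : List ℕ := [1, 9987, 19972, 29958]

theorem p1_h1_0 : allR p1_C.factChk 0 668 = true := by decide +kernel

theorem p1_h1_1 : allR p1_C.factChk 668 77 = true := by decide +kernel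

theorem p1_h1 : allB p1_C.factChk 745 = true :=
  allB_of_allR (a := 745)
    (allR_append (p1_h1_0) p1_h1_1)

theorem p1_h2 : p1_C.finChk 745 39 p1_lv p1_tb p1_gl = true := by decide +kernel

theorem p1_h3 : TC.relChk p1_C.ivc p1_rs p1_C.rel p1_rc p1_C.nrel = true := by decide +kernel

theorem p1_bound {G : Type*} [Group G] {a r g w : G}
    (r0 : a * a * a * a * a * a * a * a = 1)
    (r1 : r * r = 1)
    (r2 : r * a * r * a⁻¹ * a⁻¹ * a⁻¹ = 1)
    (r3 : g * g * g = 1)
    (r4 : r * g * r * g⁻¹ = 1)
    (r5 : g * a * a * g * a⁻¹ * a⁻¹ * g⁻¹ * a * a * g⁻¹ * a⁻¹ * a⁻¹ = 1)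
    (r6 : a * a * a * a * g * a⁻¹ * a⁻¹ * a⁻¹ * a⁻¹ * g = 1)
    (r7 : a * g * a * g * a⁻¹ * a⁻¹ * g⁻¹ = 1)
    (r8 : w * w * w = 1)
    (r9 : w * a * a * a * a * w⁻¹ * r = 1)
    (r10 : a * a * r * w * a * a * r * w = 1)
    (r11 : w⁻¹ * g * w * a * a * w⁻¹ * g⁻¹ * w * r * a⁻¹ = 1)
    (H : Subgroup G) [Finite H] (m1 : a ∈ H) (m3 : r ∈ H) (m4 : g ∈ H) :
    Finite (Subgroup.closure ({a, r, g, w} : Set G)) ∧
      Nat.card (Subgroup.closure ({a, r, g, w} : Set G)) ≤ 39 * Nat.card H := by
  have hL : TC.Lett (TC.lett [a, a⁻¹, r, g, g⁻¹, w, w⁻¹]) p1_C.ivc :=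
    TC.lett_ok (show Nat.shiftRight p1_C.ivc (8 * 8) = 0 by decide +kernel) (by
      intro a ha
      change a < 8 at ha
      interval_cases a
      · exact inv_one.symm
      · rfl
      · exact (inv_inv _).symm
      · exact (inv_eq_of_mul_eq_one_right r1).symm
      · rfl
      · exact (inv_inv _).symm
      · rfl
      · exact (inv_inv _).symm)
  have h := TC.card_le p1_h1 p1_h2 p1_h3 (by decide) hL (by
    simp only [p1_rs, List.forall_mem_cons]
    refine ⟨?_, ?_, ?_, ?_, ?_, ?_, ?_, ?_, ?_, ?_, ?_, ?_, List.forall_mem_nil _⟩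
    · show a * (a * (a * (a * (a * (a * (a * (a * 1))))))) = 1
      simp only [mul_assoc, mul_one] at r0 ⊢
      exact r0
    · show r * (r * 1) = 1
      simp only [mul_one] at r1 ⊢
      exact r1
    · show r * (a * (r * (a⁻¹ * (a⁻¹ * (a⁻¹ * 1))))) = 1
      simp only [mul_assoc, mul_one] at r2 ⊢
      exact r2
    · show g * (g * (g * 1)) = 1
      simp only [mul_assoc, mul_one] at r3 ⊢
      exact r3
    · show r * (g * (r * (g⁻¹ * 1))) = 1
      simp only [mul_assoc, mul_one] at r4 ⊢
      exact r4
    · show g * (a * (a * (g * (a⁻¹ * (a⁻¹ * (g⁻¹ * (a * (a * (g⁻¹ * (a⁻¹ * (a⁻¹ * 1))))))))))) = 1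
      simp only [mul_assoc, mul_one] at r5 ⊢
      exact r5
    · show a * (a * (a * (a * (g * (a⁻¹ * (a⁻¹ * (a⁻¹ * (a⁻¹ * (g * 1))))))))) = 1
      simp only [mul_assoc, mul_one] at r6 ⊢
      exact r6
    · show a * (g * (a * (g * (a⁻¹ * (a⁻¹ * (g⁻¹ * 1)))))) = 1
      simp only [mul_assoc, mul_one] at r7 ⊢
      exact r7
    · show w * (w * (w * 1)) = 1
      simp only [mul_assoc, mul_one] at r8 ⊢
      exact r8
    · show w * (a * (a * (a * (a * (w⁻¹ * (r * 1)))))) = 1
      simp only [mul_assoc, mul_one] at r9 ⊢
      exact r9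
    · show a * (a * (r * (w * (a * (a * (r * (w * 1))))))) = 1
      simp only [mul_assoc, mul_one] at r10 ⊢
      exact r10
    · show w⁻¹ * (g * (w * (a * (a * (w⁻¹ * (g⁻¹ * (w * (r * (a⁻¹ * 1))))))))) = 1
      simp only [mul_assoc, mul_one] at r11 ⊢
      exact r11) H
    (TC.forall_subs (K := 8) (by decide +kernel) (by
      intro a ha hb
      interval_cases a
      · exact absurd hb (by decide +kernel)
      · exact m1
      · exact H.inv_mem m1
      · exact m3
      · exact m4
      · exact H.inv_mem m4
      · exact absurd hb (by decide +kernel)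
      · exact absurd hb (by decide +kernel)))
  have e : {g₀ | ∃ ak ∈ p1_gl, TC.lett [a, a⁻¹, r, g, g⁻¹, w, w⁻¹] (ak % 256) = g₀} =
      {a, r, g, w} := by
    ext g₀
    simp only [p1_gl, List.mem_cons, List.not_mem_nil, or_false, exists_eq_or_imp,
      exists_eq_left, Set.mem_ofPred_eq, Set.mem_insert_iff, Set.mem_singleton_iff]
    exact or_congr eq_comm (or_congr eq_comm (or_congr eq_comm (eq_comm)))
  rw [e] at h
  exact h

theorem p1_card {G : Type*} [Group G] {a r g w : G}
    (e0 : a ^ 8 = 1)
    (e1 : r * r = 1)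
    (e2 : r * a * r = a ^ 3)
    (e3 : g ^ 3 = 1)
    (e4 : r * g = g * r)
    (e5 : g * (a ^ 2 * g * (a ^ 2)⁻¹) = a ^ 2 * g * (a ^ 2)⁻¹ * g)
    (e6 : a ^ 4 * g * (a ^ 4)⁻¹ = g⁻¹)
    (e7 : a * g * a⁻¹ = g * (a ^ 2 * g * (a ^ 2)⁻¹)⁻¹)
    (e8 : w ^ 3 = 1)
    (e9 : w * a ^ 4 * w⁻¹ = r)
    (e10 : a ^ 2 * r * w * (a ^ 2 * r) = w⁻¹)
    (e11 : w⁻¹ * g * w * a ^ 2 * (w⁻¹ * g * w)⁻¹ = a ^ 1 * r)
    (H : Subgroup G) [Finite H] (ma : a ∈ H) (mr : r ∈ H) (mg : g ∈ H) :
    Finite (Subgroup.closure ({a, r, g, w} : Set G)) ∧
      Nat.card (Subgroup.closure ({a, r, g, w} : Set G)) ≤ 39 * Nat.card H := by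
  have ir : r⁻¹ = r := inv_eq_of_mul_eq_one_right e1
  refine p1_bound ?_ ?_ ?_ ?_ ?_ ?_ ?_ ?_ ?_ ?_ ?_ ?_ H ma mr mg
  · have h := mul_inv_eq_one.mpr e0
    simp only [pow_succ, pow_zero, mul_inv_rev, inv_inv, inv_one, one_mul, mul_one, mul_assoc,
      mul_inv_cancel_left, inv_mul_cancel_left, mul_inv_cancel, inv_mul_cancel, ir] at h ⊢
    exact h
  · have h := mul_inv_eq_one.mpr e1
    simp only [pow_succ, pow_zero, mul_inv_rev, inv_inv, inv_one, one_mul, mul_one, mul_assoc,
      mul_inv_cancel_left, inv_mul_cancel_left, mul_inv_cancel, inv_mul_cancel, ir] at h ⊢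
    exact h
  · have h := mul_inv_eq_one.mpr e2
    simp only [pow_succ, pow_zero, mul_inv_rev, inv_inv, inv_one, one_mul, mul_one, mul_assoc,
      mul_inv_cancel_left, inv_mul_cancel_left, mul_inv_cancel, inv_mul_cancel, ir] at h ⊢
    exact h
  · have h := mul_inv_eq_one.mpr e3
    simp only [pow_succ, pow_zero, mul_inv_rev, inv_inv, inv_one, one_mul, mul_one, mul_assoc,
      mul_inv_cancel_left, inv_mul_cancel_left, mul_inv_cancel, inv_mul_cancel, ir] at h ⊢
    exact h
  · have h := mul_inv_eq_one.mpr e4
    simp only [pow_succ, pow_zero, mul_inv_rev, inv_inv, inv_one, one_mul, mul_one, mul_assoc,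
      mul_inv_cancel_left, inv_mul_cancel_left, mul_inv_cancel, inv_mul_cancel, ir] at h ⊢
    exact h
  · have h := mul_inv_eq_one.mpr e5
    simp only [pow_succ, pow_zero, mul_inv_rev, inv_inv, inv_one, one_mul, mul_one, mul_assoc,
      mul_inv_cancel_left, inv_mul_cancel_left, mul_inv_cancel, inv_mul_cancel, ir] at h ⊢
    exact h
  · have h := mul_inv_eq_one.mpr e6
    simp only [pow_succ, pow_zero, mul_inv_rev, inv_inv, inv_one, one_mul, mul_one, mul_assoc,
      mul_inv_cancel_left, inv_mul_cancel_left, mul_inv_cancel, inv_mul_cancel, ir] at h ⊢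
    exact h
  · have h := mul_inv_eq_one.mpr e7
    simp only [pow_succ, pow_zero, mul_inv_rev, inv_inv, inv_one, one_mul, mul_one, mul_assoc,
      mul_inv_cancel_left, inv_mul_cancel_left, mul_inv_cancel, inv_mul_cancel, ir] at h ⊢
    exact h
  · have h := mul_inv_eq_one.mpr e8
    simp only [pow_succ, pow_zero, mul_inv_rev, inv_inv, inv_one, one_mul, mul_one, mul_assoc,
      mul_inv_cancel_left, inv_mul_cancel_left, mul_inv_cancel, inv_mul_cancel, ir] at h ⊢
    exact h
  · have h := mul_inv_eq_one.mpr e9
    simp only [pow_succ, pow_zero, mul_inv_rev, inv_inv, inv_one, one_mul, mul_one, mul_assoc,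
      mul_inv_cancel_left, inv_mul_cancel_left, mul_inv_cancel, inv_mul_cancel, ir] at h ⊢
    exact h
  · have h := mul_inv_eq_one.mpr e10
    simp only [pow_succ, pow_zero, mul_inv_rev, inv_inv, inv_one, one_mul, mul_one, mul_assoc,
      mul_inv_cancel_left, inv_mul_cancel_left, mul_inv_cancel, inv_mul_cancel, ir] at h ⊢
    exact h
  · have h := mul_inv_eq_one.mpr e11
    simp only [pow_succ, pow_zero, mul_inv_rev, inv_inv, inv_one, one_mul, mul_one, mul_assoc,
      mul_inv_cancel_left, inv_mul_cancel_left, mul_inv_cancel, inv_mul_cancel, ir] at h ⊢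
    exact h

/-- Certificate data. -/
def p3_par : Trie :=
    (.node (.node (.node (.node (.node (.node (.node (.node (.node (.leaf (nat_lit 0)) (.leaf
    (nat_lit 36098))) (.leaf (nat_lit 11010))) (.node (.leaf (nat_lit 5127)) (.leaf (nat_lit
    20737)))) (.node (.node (.leaf (nat_lit 2561)) (.leaf (nat_lit 15622))) (.node (.leaf (nat_lit
    7941)) (.leaf (nat_lit 27905))))) (.node (.node (.node (.leaf (nat_lit 1281)) (.leaf (nat_lit
    12292))) (.node (.leaf (nat_lit 6662)) (.leaf (nat_lit 24321)))) (.node (.node (.leaf (nat_lit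
    4103)) (.leaf (nat_lit 18950))) (.node (.leaf (nat_lit 9478)) (.leaf (nat_lit 32772))))))
    (.node (.node (.node (.node (.node (.leaf (nat_lit 517)) (.leaf (nat_lit 37893))) (.leaf
    (nat_lit 11782))) (.node (.leaf (nat_lit 5889)) (.leaf (nat_lit 22533)))) (.node (.node (.leaf
    (nat_lit 3079)) (.leaf (nat_lit 16388))) (.node (.leaf (nat_lit 8709)) (.leaf (nat_lit
    29958))))) (.node (.node (.node (.leaf (nat_lit 1793)) (.leaf (nat_lit 13316))) (.node (.leaf
    (nat_lit 7681)) (.leaf (nat_lit 25863)))) (.node (.node (.leaf (nat_lit 4613)) (.leaf (nat_lit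
    19716))) (.node (.leaf (nat_lit 10241)) (.leaf (nat_lit 34306))))))) (.node (.node (.node
    (.node (.node (.node (.leaf (nat_lit 258)) (.leaf (nat_lit 37121))) (.leaf (nat_lit 11266)))
    (.node (.leaf (nat_lit 5633)) (.leaf (nat_lit 21762)))) (.node (.node (.leaf (nat_lit 2821))
    (.leaf (nat_lit 16129))) (.node (.leaf (nat_lit 8455)) (.leaf (nat_lit 28162))))) (.node (.node
    (.node (.leaf (nat_lit 1537)) (.leaf (nat_lit 13057))) (.node (.leaf (nat_lit 7174)) (.leaf
    (nat_lit 24583)))) (.node (.node (.leaf (nat_lit 4359)) (.leaf (nat_lit 19207))) (.node (.leaf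
    (nat_lit 9985)) (.leaf (nat_lit 33026)))))) (.node (.node (.node (.node (.leaf (nat_lit 1028))
    (.leaf (nat_lit 12036))) (.node (.leaf (nat_lit 6150)) (.leaf (nat_lit 23046)))) (.node (.node
    (.leaf (nat_lit 3335)) (.leaf (nat_lit 16901))) (.node (.leaf (nat_lit 8964)) (.leaf (nat_lit
    31490))))) (.node (.node (.node (.leaf (nat_lit 2305)) (.leaf (nat_lit 15366))) (.node (.leaf
    (nat_lit 7937)) (.leaf (nat_lit 26369)))) (.node (.node (.leaf (nat_lit 4868)) (.leaf (nat_lit
    20226))) (.node (.leaf (nat_lit 10245)) (.leaf (nat_lit 34567)))))))) (.node (.node (.node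
    (.node (.node (.node (.node (.leaf (nat_lit 7)) (.leaf (nat_lit 36356))) (.leaf (nat_lit
    11013))) (.node (.leaf (nat_lit 5382)) (.leaf (nat_lit 21253)))) (.node (.node (.leaf (nat_lit
    2566)) (.leaf (nat_lit 15878))) (.node (.leaf (nat_lit 8199)) (.leaf (nat_lit 27910))))) (.node
    (.node (.node (.leaf (nat_lit 1286)) (.leaf (nat_lit 12806))) (.node (.leaf (nat_lit 6918))
    (.leaf (nat_lit 24577)))) (.node (.node (.leaf (nat_lit 4356)) (.leaf (nat_lit 19201))) (.node
    (.leaf (nat_lit 9734)) (.leaf (nat_lit 32775)))))) (.node (.node (.node (.node (.leaf (nat_lit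
    773)) (.leaf (nat_lit 12033))) (.node (.leaf (nat_lit 5892)) (.leaf (nat_lit 23041)))) (.node
    (.node (.leaf (nat_lit 3330)) (.leaf (nat_lit 16646))) (.node (.leaf (nat_lit 8962)) (.leaf
    (nat_lit 30465))))) (.node (.node (.node (.leaf (nat_lit 2049)) (.leaf (nat_lit 15361))) (.node
    (.leaf (nat_lit 7684)) (.leaf (nat_lit 26117)))) (.node (.node (.leaf (nat_lit 4866)) (.leaf
    (nat_lit 19969))) (.node (.leaf (nat_lit 10243)) (.leaf (nat_lit 34562))))))) (.node (.node
    (.node (.node (.node (.node (.leaf (nat_lit 261)) (.leaf (nat_lit 37127))) (.leaf (nat_lit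
    11268))) (.node (.leaf (nat_lit 5636)) (.leaf (nat_lit 22020)))) (.node (.node (.leaf (nat_lit
    3074)) (.leaf (nat_lit 16133))) (.node (.leaf (nat_lit 8706)) (.leaf (nat_lit 28165))))) (.node
    (.node (.node (.leaf (nat_lit 1542)) (.leaf (nat_lit 13313))) (.node (.leaf (nat_lit 7430))
    (.leaf (nat_lit 25348)))) (.node (.node (.leaf (nat_lit 4610)) (.leaf (nat_lit 19458))) (.node
    (.leaf (nat_lit 9988)) (.leaf (nat_lit 33282)))))) (.node (.node (.node (.node (.leaf (nat_lit
    1030)) (.leaf (nat_lit 12289))) (.node (.leaf (nat_lit 6406)) (.leaf (nat_lit 23298)))) (.node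
    (.node (.leaf (nat_lit 4101)) (.leaf (nat_lit 18945))) (.node (.leaf (nat_lit 9222)) (.leaf
    (nat_lit 32516))))) (.node (.node (.node (.leaf (nat_lit 2310)) (.leaf (nat_lit 15617))) (.node
    (.leaf (nat_lit 7939)) (.leaf (nat_lit 27650)))) (.node (.node (.leaf (nat_lit 5124)) (.leaf
    (nat_lit 20229))) (.node (.leaf (nat_lit 10759)) (.leaf (nat_lit 35591))))))))) (.node (.node
    (.node (.node (.node (.node (.node (.node (.leaf (nat_lit 6)) (.leaf (nat_lit 36102))) (.leaf
    (nat_lit 11012))) (.node (.leaf (nat_lit 5381)) (.leaf (nat_lit 21252)))) (.node (.node (.leaf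
    (nat_lit 2562)) (.leaf (nat_lit 15623))) (.node (.leaf (nat_lit 8198)) (.leaf (nat_lit
    27906))))) (.node (.node (.node (.leaf (nat_lit 1282)) (.leaf (nat_lit 12293))) (.node (.leaf
    (nat_lit 6663)) (.leaf (nat_lit 24322)))) (.node (.node (.leaf (nat_lit 4354)) (.leaf (nat_lit
    18951))) (.node (.leaf (nat_lit 9479)) (.leaf (nat_lit 32773)))))) (.node (.node (.node (.node
    (.node (.leaf (nat_lit 772)) (.leaf (nat_lit 37895))) (.leaf (nat_lit 11783))) (.node (.leaf
    (nat_lit 5891)) (.leaf (nat_lit 22788)))) (.node (.node (.leaf (nat_lit 3329)) (.leaf (nat_lit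
    16389))) (.node (.leaf (nat_lit 8961)) (.leaf (nat_lit 30210))))) (.node (.node (.node (.leaf
    (nat_lit 1794)) (.leaf (nat_lit 13317))) (.node (.leaf (nat_lit 7682)) (.leaf (nat_lit
    26116)))) (.node (.node (.leaf (nat_lit 4865)) (.leaf (nat_lit 19717))) (.node (.leaf (nat_lit
    10242)) (.leaf (nat_lit 34310))))))) (.node (.node (.node (.node (.node (.node (.leaf (nat_lit
    260)) (.leaf (nat_lit 37122))) (.leaf (nat_lit 11267))) (.node (.leaf (nat_lit 5634)) (.leaf
    (nat_lit 22017)))) (.node (.node (.leaf (nat_lit 3073)) (.leaf (nat_lit 16132))) (.node (.leaf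
    (nat_lit 8705)) (.leaf (nat_lit 28164))))) (.node (.node (.node (.leaf (nat_lit 1538)) (.leaf
    (nat_lit 13061))) (.node (.leaf (nat_lit 7175)) (.leaf (nat_lit 25089)))) (.node (.node (.leaf
    (nat_lit 4609)) (.leaf (nat_lit 19457))) (.node (.leaf (nat_lit 9986)) (.leaf (nat_lit
    33281)))))) (.node (.node (.node (.node (.leaf (nat_lit 1029)) (.leaf (nat_lit 12037))) (.node
    (.leaf (nat_lit 6151)) (.leaf (nat_lit 23297)))) (.node (.node (.leaf (nat_lit 4097)) (.leaf
    (nat_lit 17157))) (.node (.leaf (nat_lit 8965)) (.leaf (nat_lit 31751))))) (.node (.node (.node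
    (.leaf (nat_lit 2306)) (.leaf (nat_lit 15367))) (.node (.leaf (nat_lit 7938)) (.leaf (nat_lit
    26370)))) (.node (.node (.leaf (nat_lit 4869)) (.leaf (nat_lit 20228))) (.node (.leaf (nat_lit
    10758)) (.leaf (nat_lit 35335)))))))) (.node (.node (.node (.node (.node (.node (.node (.leaf
    (nat_lit 257)) (.leaf (nat_lit 36865))) (.leaf (nat_lit 11265))) (.node (.leaf (nat_lit 5383))
    (.leaf (nat_lit 21761)))) (.node (.node (.leaf (nat_lit 2567)) (.leaf (nat_lit 15879))) (.node
    (.leaf (nat_lit 8454)) (.leaf (nat_lit 27911))))) (.node (.node (.node (.leaf (nat_lit 1287))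
    (.leaf (nat_lit 12807))) (.node (.leaf (nat_lit 6919)) (.leaf (nat_lit 24582)))) (.node (.node
    (.leaf (nat_lit 4358)) (.leaf (nat_lit 19202))) (.node (.leaf (nat_lit 9735)) (.leaf (nat_lit
    33025)))))) (.node (.node (.node (.node (.leaf (nat_lit 775)) (.leaf (nat_lit 12034))) (.node
    (.leaf (nat_lit 5893)) (.leaf (nat_lit 23042)))) (.node (.node (.leaf (nat_lit 3334)) (.leaf
    (nat_lit 16647))) (.node (.leaf (nat_lit 8963)) (.leaf (nat_lit 31489))))) (.node (.node (.node
    (.leaf (nat_lit 2050)) (.leaf (nat_lit 15362))) (.node (.leaf (nat_lit 7685)) (.leaf (nat_lit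
    26118)))) (.node (.node (.leaf (nat_lit 4867)) (.leaf (nat_lit 20225))) (.node (.leaf (nat_lit
    10244)) (.leaf (nat_lit 34566))))))) (.node (.node (.node (.node (.node (.node (.leaf (nat_lit
    516)) (.leaf (nat_lit 37380))) (.leaf (nat_lit 11269))) (.node (.leaf (nat_lit 5637)) (.leaf
    (nat_lit 22532)))) (.node (.node (.leaf (nat_lit 3078)) (.leaf (nat_lit 16385))) (.node (.leaf
    (nat_lit 8708)) (.leaf (nat_lit 29956))))) (.node (.node (.node (.leaf (nat_lit 1543)) (.leaf
    (nat_lit 13314))) (.node (.leaf (nat_lit 7431)) (.leaf (nat_lit 25860)))) (.node (.node (.leaf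
    (nat_lit 4612)) (.leaf (nat_lit 19713))) (.node (.leaf (nat_lit 9989)) (.leaf (nat_lit
    34305)))))) (.node (.node (.node (.node (.leaf (nat_lit 1031)) (.leaf (nat_lit 12291))) (.node
    (.leaf (nat_lit 6407)) (.leaf (nat_lit 23303)))) (.node (.node (.leaf (nat_lit 4102)) (.leaf
    (nat_lit 18946))) (.node (.leaf (nat_lit 9223)) (.leaf (nat_lit 32517))))) (.node (.node (.node
    (.leaf (nat_lit 2311)) (.leaf (nat_lit 15618))) (.node (.leaf (nat_lit 7940)) (.leaf (nat_lit
    27654)))) (.node (.node (.leaf (nat_lit 5126)) (.leaf (nat_lit 20481))) (.node (.leaf (nat_lit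
    11009)) (.leaf (nat_lit 36097))))))))))

/-- Certificate data. -/
def p3_fact : Trie :=
    (.node (.node (.node (.node (.node (.node (.node (.node (.node (.node (.leaf (nat_lit 1))
    (.leaf (nat_lit 26499585))) (.node (.leaf (nat_lit 15214337)) (.leaf (nat_lit 9971457))))
    (.node (.node (.leaf (nat_lit 7213572)) (.leaf (nat_lit 29289219))) (.leaf (nat_lit
    19299845)))) (.node (.node (.node (.leaf (nat_lit 2759173)) (.leaf (nat_lit 28241923))) (.node
    (.leaf (nat_lit 19044611)) (.leaf (nat_lit 9850624)))) (.node (.node (.leaf (nat_lit 9705220))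
    (.leaf (nat_lit 1508352))) (.leaf (nat_lit 10926593))))) (.node (.node (.node (.node (.leaf
    (nat_lit 1576197)) (.leaf (nat_lit 29256710))) (.node (.leaf (nat_lit 18231042)) (.leaf
    (nat_lit 27055360)))) (.node (.node (.leaf (nat_lit 9443073)) (.leaf (nat_lit 34800131)))
    (.leaf (nat_lit 22307842)))) (.node (.node (.node (.leaf (nat_lit 5902337)) (.leaf (nat_lit
    23133953))) (.node (.leaf (nat_lit 14707207)) (.leaf (nat_lit 4496896)))) (.node (.node (.leaf
    (nat_lit 12328707)) (.leaf (nat_lit 2633472))) (.leaf (nat_lit 16565505)))))) (.node (.node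
    (.node (.node (.node (.leaf (nat_lit 656901)) (.leaf (nat_lit 25744643))) (.node (.leaf
    (nat_lit 16788226)) (.leaf (nat_lit 5174784)))) (.node (.node (.leaf (nat_lit 8273927)) (.leaf
    (nat_lit 24040198))) (.leaf (nat_lit 8430593)))) (.node (.node (.node (.leaf (nat_lit 4852737))
    (.leaf (nat_lit 32540162))) (.node (.leaf (nat_lit 12346369)) (.leaf (nat_lit 7914496))))
    (.node (.node (.leaf (nat_lit 10244611)) (.leaf (nat_lit 12479744))) (.leaf (nat_lit
    24296963))))) (.node (.node (.node (.node (.leaf (nat_lit 2234372)) (.leaf (nat_lit 26011393)))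
    (.node (.leaf (nat_lit 6852352)) (.leaf (nat_lit 3678979)))) (.node (.node (.leaf (nat_lit
    2241792)) (.leaf (nat_lit 11595520))) (.leaf (nat_lit 23113991)))) (.node (.node (.node (.leaf
    (nat_lit 6295559)) (.leaf (nat_lit 18672896))) (.node (.leaf (nat_lit 12880132)) (.leaf
    (nat_lit 8004098)))) (.node (.node (.leaf (nat_lit 11954179)) (.leaf (nat_lit 3952898))) (.leaf
    (nat_lit 21152512))))))) (.node (.node (.node (.node (.node (.node (.leaf (nat_lit 262913))
    (.leaf (nat_lit 27287297))) (.node (.leaf (nat_lit 16132100)) (.leaf (nat_lit 10516224))))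
    (.node (.node (.leaf (nat_lit 8131588)) (.leaf (nat_lit 22211584))) (.leaf (nat_lit
    21380615)))) (.node (.node (.node (.leaf (nat_lit 4196865)) (.leaf (nat_lit 32014594))) (.node
    (.leaf (nat_lit 20987142)) (.leaf (nat_lit 4735238)))) (.node (.node (.leaf (nat_lit 10230022))
    (.leaf (nat_lit 10780672))) (.leaf (nat_lit 23903235))))) (.node (.node (.node (.node (.leaf
    (nat_lit 2491655)) (.leaf (nat_lit 15131650))) (.node (.leaf (nat_lit 19017733)) (.leaf
    (nat_lit 1713670)))) (.node (.node (.leaf (nat_lit 4212480)) (.leaf (nat_lit 24833536))) (.leaf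
    (nat_lit 22561285)))) (.node (.node (.node (.leaf (nat_lit 6033413)) (.leaf (nat_lit
    23527681))) (.node (.leaf (nat_lit 13140992)) (.leaf (nat_lit 9977095)))) (.node (.node (.leaf
    (nat_lit 12984582)) (.leaf (nat_lit 2397696))) (.leaf (nat_lit 6187525)))))) (.node (.node
    (.node (.node (.node (.leaf (nat_lit 1180420)) (.leaf (nat_lit 28599813))) (.node (.leaf
    (nat_lit 17705989)) (.leaf (nat_lit 11333632)))) (.node (.node (.leaf (nat_lit 8787207)) (.leaf
    (nat_lit 31782917))) (.leaf (nat_lit 18130691)))) (.node (.node (.node (.leaf (nat_lit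
    5114886)) (.leaf (nat_lit 33196551))) (.node (.leaf (nat_lit 16149507)) (.leaf (nat_lit
    10771201)))) (.node (.node (.leaf (nat_lit 11294471)) (.leaf (nat_lit 12904960))) (.leaf
    (nat_lit 25318148))))) (.node (.node (.node (.node (.leaf (nat_lit 1052160)) (.leaf (nat_lit
    30964482))) (.node (.leaf (nat_lit 19805186)) (.leaf (nat_lit 10669568)))) (.node (.node (.leaf
    (nat_lit 2496259)) (.leaf (nat_lit 9991168))) (.leaf (nat_lit 24005889)))) (.node (.node (.node
    (.leaf (nat_lit 3813889)) (.leaf (nat_lit 29293315))) (.leaf (nat_lit 11426816))) (.node (.node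
    (.leaf (nat_lit 14446343)) (.leaf (nat_lit 4992000))) (.leaf (nat_lit 12621825)))))))) (.node
    (.node (.node (.node (.node (.node (.node (.leaf (nat_lit 131331)) (.leaf (nat_lit 26893057)))
    (.node (.leaf (nat_lit 15496965)) (.leaf (nat_lit 14721792)))) (.node (.node (.leaf (nat_lit
    7738115)) (.leaf (nat_lit 34246914))) (.leaf (nat_lit 10258693)))) (.node (.node (.node (.leaf
    (nat_lit 3803394)) (.leaf (nat_lit 31518981))) (.node (.leaf (nat_lit 20593671)) (.leaf
    (nat_lit 4991750)))) (.node (.node (.leaf (nat_lit 8014595)) (.leaf (nat_lit 10151680))) (.leaf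
    (nat_lit 24530689))))) (.node (.node (.node (.node (.leaf (nat_lit 1838855)) (.leaf (nat_lit
    29650182))) (.node (.leaf (nat_lit 18386181)) (.leaf (nat_lit 14731776)))) (.node (.node (.leaf
    (nat_lit 2769920)) (.leaf (nat_lit 24172800))) (.leaf (nat_lit 16689922)))) (.node (.node
    (.node (.leaf (nat_lit 5908997)) (.leaf (nat_lit 29405189))) (.node (.leaf (nat_lit 5267713))
    (.leaf (nat_lit 5151232)))) (.node (.node (.leaf (nat_lit 12722182)) (.leaf (nat_lit
    14450944))) (.leaf (nat_lit 14593024)))))) (.node (.node (.node (.node (.node (.leaf (nat_lit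
    395015)) (.leaf (nat_lit 28337415))) (.node (.leaf (nat_lit 17181697)) (.leaf (nat_lit
    2102279)))) (.node (.node (.leaf (nat_lit 3686658)) (.leaf (nat_lit 13436416))) (.leaf (nat_lit
    21774085)))) (.node (.node (.node (.leaf (nat_lit 3810307)) (.leaf (nat_lit 32802562))) (.node
    (.leaf (nat_lit 4618752)) (.leaf (nat_lit 14719744)))) (.node (.node (.leaf (nat_lit 11148295))
    (.leaf (nat_lit 4071424))) (.leaf (nat_lit 14204678))))) (.node (.node (.node (.node (.leaf
    (nat_lit 1972482)) (.leaf (nat_lit 25094405))) (.node (.leaf (nat_lit 19674113)) (.leaf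
    (nat_lit 4130816)))) (.node (.node (.leaf (nat_lit 2366469)) (.leaf (nat_lit 3981056))) (.leaf
    (nat_lit 23743489)))) (.node (.node (.node (.leaf (nat_lit 5910787)) (.leaf (nat_lit
    18276870))) (.leaf (nat_lit 5271298))) (.node (.node (.leaf (nat_lit 14164740)) (.leaf (nat_lit
    15518208))) (.leaf (nat_lit 23621634))))))) (.node (.node (.node (.node (.node (.node (.leaf
    (nat_lit 525059)) (.leaf (nat_lit 27680774))) (.node (.leaf (nat_lit 14974211)) (.leaf (nat_lit
    5665536)))) (.node (.node (.leaf (nat_lit 4865538)) (.leaf (nat_lit 24040448))) (.leaf (nat_lit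
    21386500)))) (.node (.node (.node (.leaf (nat_lit 4590087)) (.leaf (nat_lit 32169219))) (.node
    (.leaf (nat_lit 17867267)) (.leaf (nat_lit 14438402)))) (.node (.node (.leaf (nat_lit 9981955))
    (.leaf (nat_lit 4090880))) (.leaf (nat_lit 24165635))))) (.node (.node (.node (.node (.leaf
    (nat_lit 2885126)) (.leaf (nat_lit 30074373))) (.node (.leaf (nat_lit 19174151)) (.leaf
    (nat_lit 10929152)))) (.node (.node (.leaf (nat_lit 2891780)) (.leaf (nat_lit 3182848))) (.leaf
    (nat_lit 22825473)))) (.node (.node (.node (.leaf (nat_lit 4204035)) (.leaf (nat_lit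
    29426178))) (.node (.leaf (nat_lit 5788674)) (.leaf (nat_lit 7892993)))) (.node (.node (.leaf
    (nat_lit 13378050)) (.leaf (nat_lit 17977858))) (.leaf (nat_lit 21780228)))))) (.node (.node
    (.node (.node (.node (.leaf (nat_lit 920327)) (.leaf (nat_lit 24566788))) (.node (.leaf
    (nat_lit 17860871)) (.leaf (nat_lit 14451205)))) (.node (.node (.leaf (nat_lit 9180676)) (.leaf
    (nat_lit 34640901))) (.leaf (nat_lit 22063365)))) (.node (.node (.node (.leaf (nat_lit
    5508354)) (.leaf (nat_lit 32694787))) (.node (.leaf (nat_lit 19160065)) (.leaf (nat_lit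
    14700033)))) (.node (.node (.leaf (nat_lit 11935237)) (.leaf (nat_lit 15129600))) (.leaf
    (nat_lit 11322113))))) (.node (.node (.node (.node (.leaf (nat_lit 3540994)) (.leaf (nat_lit
    31358725))) (.node (.leaf (nat_lit 19936260)) (.leaf (nat_lit 10813696)))) (.node (.node (.leaf
    (nat_lit 3029248)) (.leaf (nat_lit 19202816))) (.leaf (nat_lit 18135047)))) (.node (.node
    (.node (.leaf (nat_lit 6820103)) (.leaf (nat_lit 34004738))) (.leaf (nat_lit 13791744))) (.node
    (.node (.leaf (nat_lit 14708999)) (.leaf (nat_lit 4598272))) (.leaf (nat_lit 26236933)))))))))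
    (.node (.node (.node (.node (.node (.node (.node (.node (.leaf (nat_lit 4)) (.leaf (nat_lit
    23776005))) (.node (.leaf (nat_lit 15476484)) (.leaf (nat_lit 15659776)))) (.node (.node (.leaf
    (nat_lit 7475969)) (.leaf (nat_lit 34115841))) (.leaf (nat_lit 16540163)))) (.node (.node
    (.node (.leaf (nat_lit 2625795)) (.leaf (nat_lit 31244801))) (.node (.leaf (nat_lit 20331522))
    (.leaf (nat_lit 7885568)))) (.node (.node (.leaf (nat_lit 9836293)) (.leaf (nat_lit 18011904)))
    (.leaf (nat_lit 18920710))))) (.node (.node (.node (.node (.leaf (nat_lit 1836038)) (.leaf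
    (nat_lit 29388033))) (.node (.leaf (nat_lit 18362116)) (.leaf (nat_lit 2625799)))) (.node
    (.node (.leaf (nat_lit 9574147)) (.leaf (nat_lit 29677826))) (.leaf (nat_lit 22326023))))
    (.node (.node (.node (.leaf (nat_lit 2364931)) (.leaf (nat_lit 21037058))) (.node (.leaf
    (nat_lit 11034113)) (.leaf (nat_lit 10242823)))) (.node (.node (.leaf (nat_lit 12590853))
    (.leaf (nat_lit 1113856))) (.leaf (nat_lit 12890369)))))) (.node (.node (.node (.node (.node
    (.leaf (nat_lit 918020)) (.leaf (nat_lit 28074756))) (.node (.leaf (nat_lit 17050373)) (.leaf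
    (nat_lit 2769408)))) (.node (.node (.leaf (nat_lit 3424517)) (.leaf (nat_lit 15374599))) (.leaf
    (nat_lit 21643012)))) (.node (.node (.node (.leaf (nat_lit 3810564)) (.leaf (nat_lit
    21559558))) (.node (.leaf (nat_lit 12085763)) (.leaf (nat_lit 14437381)))) (.node (.node (.leaf
    (nat_lit 10769159)) (.leaf (nat_lit 13932544))) (.leaf (nat_lit 24035075))))) (.node (.node
    (.node (.node (.leaf (nat_lit 3278594)) (.leaf (nat_lit 28764163))) (.node (.leaf (nat_lit
    18625282)) (.leaf (nat_lit 3813894)))) (.node (.node (.leaf (nat_lit 2509056)) (.leaf (nat_lit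
    10101250))) (.leaf (nat_lit 23481090)))) (.node (.node (.node (.leaf (nat_lit 6426882)) (.leaf
    (nat_lit 18277120))) (.node (.leaf (nat_lit 16672259)) (.leaf (nat_lit 9858562)))) (.node
    (.node (.leaf (nat_lit 13902594)) (.leaf (nat_lit 3680256))) (.leaf (nat_lit 11313409)))))))
    (.node (.node (.node (.node (.node (.node (.leaf (nat_lit 263170)) (.leaf (nat_lit 27549697)))
    (.node (.leaf (nat_lit 16153605)) (.leaf (nat_lit 14710272)))) (.node (.node (.leaf (nat_lit
    6569475)) (.leaf (nat_lit 23919616))) (.leaf (nat_lit 15377153)))) (.node (.node (.node (.leaf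
    (nat_lit 1450245)) (.leaf (nat_lit 32145921))) (.node (.leaf (nat_lit 21012743)) (.leaf
    (nat_lit 9720064)))) (.node (.node (.leaf (nat_lit 10243847)) (.leaf (nat_lit 10508544)))
    (.leaf (nat_lit 24673031))))) (.node (.node (.node (.node (.leaf (nat_lit 2622977)) (.leaf
    (nat_lit 26404098))) (.node (.leaf (nat_lit 19149318)) (.leaf (nat_lit 3673095)))) (.node
    (.node (.leaf (nat_lit 2371840)) (.leaf (nat_lit 19313920))) (.leaf (nat_lit 22692613))))
    (.node (.node (.node (.leaf (nat_lit 4730370)) (.leaf (nat_lit 20775173))) (.node (.leaf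
    (nat_lit 5775107)) (.leaf (nat_lit 10504711)))) (.node (.node (.leaf (nat_lit 13115655)) (.leaf
    (nat_lit 2244352))) (.leaf (nat_lit 11445504)))))) (.node (.node (.node (.node (.node (.leaf
    (nat_lit 1182213)) (.leaf (nat_lit 28730886))) (.node (.leaf (nat_lit 17837574)) (.leaf
    (nat_lit 5664261)))) (.node (.node (.leaf (nat_lit 8918529)) (.leaf (nat_lit 29546501))) (.leaf
    (nat_lit 22036484)))) (.node (.node (.node (.leaf (nat_lit 5122055)) (.leaf (nat_lit
    32439554))) (.node (.leaf (nat_lit 17994499)) (.leaf (nat_lit 3952133)))) (.node (.node (.leaf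
    (nat_lit 11673090)) (.leaf (nat_lit 10365697))) (.leaf (nat_lit 25346565))))) (.node (.node
    (.node (.node (.leaf (nat_lit 1968134)) (.leaf (nat_lit 31227652))) (.node (.leaf (nat_lit
    8689410)) (.leaf (nat_lit 8155142)))) (.node (.node (.leaf (nat_lit 7485952)) (.leaf (nat_lit
    18006016))) (.leaf (nat_lit 10374403)))) (.node (.node (.node (.leaf (nat_lit 4464131)) (.leaf
    (nat_lit 29293056))) (.leaf (nat_lit 13915907))) (.node (.node (.leaf (nat_lit 14446595))
    (.leaf (nat_lit 5133568))) (.leaf (nat_lit 25974276)))))))) (.node (.node (.node (.node (.node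
    (.node (.node (.leaf (nat_lit 131591)) (.leaf (nat_lit 27024130))) (.node (.leaf (nat_lit
    15869954)) (.leaf (nat_lit 11309824)))) (.node (.node (.leaf (nat_lit 8000261)) (.leaf (nat_lit
    34509316))) (.leaf (nat_lit 11161604)))) (.node (.node (.node (.leaf (nat_lit 4065543)) (.leaf
    (nat_lit 31883521))) (.node (.leaf (nat_lit 20724993)) (.leaf (nat_lit 2757895)))) (.node
    (.node (.leaf (nat_lit 10098695)) (.leaf (nat_lit 18126336))) (.leaf (nat_lit 10533633)))))
    (.node (.node (.node (.node (.leaf (nat_lit 2229506)) (.leaf (nat_lit 29680391))) (.node (.leaf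
    (nat_lit 18755587)) (.leaf (nat_lit 11334912)))) (.node (.node (.leaf (nat_lit 2114816)) (.leaf
    (nat_lit 24823808))) (.leaf (nat_lit 15117061)))) (.node (.node (.node (.leaf (nat_lit
    1713154)) (.leaf (nat_lit 25755910))) (.node (.leaf (nat_lit 5791232)) (.leaf (nat_lit
    14463488)))) (.node (.node (.leaf (nat_lit 12853255)) (.leaf (nat_lit 4507136))) (.leaf
    (nat_lit 6710276)))))) (.node (.node (.node (.node (.node (.leaf (nat_lit 919557)) (.leaf
    (nat_lit 24828161))) (.node (.leaf (nat_lit 17443843)) (.leaf (nat_lit 14461696)))) (.node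
    (.node (.leaf (nat_lit 8656134)) (.leaf (nat_lit 25466374))) (.leaf (nat_lit 18523651))))
    (.node (.node (.node (.leaf (nat_lit 4983810)) (.leaf (nat_lit 33064711))) (.node (.leaf
    (nat_lit 4597763)) (.leaf (nat_lit 2891524)))) (.node (.node (.leaf (nat_lit 11279622)) (.leaf
    (nat_lit 8153600))) (.leaf (nat_lit 23773187))))) (.node (.node (.node (.node (.leaf (nat_lit
    1972737)) (.leaf (nat_lit 25225733))) (.node (.leaf (nat_lit 19676930)) (.leaf (nat_lit
    11962624)))) (.node (.node (.leaf (nat_lit 2364417)) (.leaf (nat_lit 4612096))) (.leaf (nat_lit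
    23874562)))) (.node (.node (.node (.leaf (nat_lit 6557956)) (.leaf (nat_lit 33984513))) (.leaf
    (nat_lit 13135619))) (.node (.node (.leaf (nat_lit 14427142)) (.leaf (nat_lit 4611844))) (.leaf
    (nat_lit 20607746))))))) (.node (.node (.node (.node (.node (.node (.leaf (nat_lit 656643))
    (.leaf (nat_lit 27710471))) (.node (.leaf (nat_lit 16416263)) (.leaf (nat_lit 5692416))))
    (.node (.node (.leaf (nat_lit 6176515)) (.leaf (nat_lit 27713024))) (.leaf (nat_lit
    21511937)))) (.node (.node (.node (.leaf (nat_lit 4721413)) (.leaf (nat_lit 24442372))) (.node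
    (.leaf (nat_lit 17856513)) (.leaf (nat_lit 11949571)))) (.node (.node (.leaf (nat_lit
    10506503)) (.leaf (nat_lit 11856128))) (.leaf (nat_lit 24923909))))) (.node (.node (.node
    (.node (.leaf (nat_lit 2889479)) (.leaf (nat_lit 30307588))) (.node (.leaf (nat_lit 19411713))
    (.leaf (nat_lit 4360192)))) (.node (.node (.leaf (nat_lit 2894341)) (.leaf (nat_lit 10405632)))
    (.leaf (nat_lit 23087622)))) (.node (.node (.node (.leaf (nat_lit 3680771)) (.leaf (nat_lit
    29413635))) (.node (.leaf (nat_lit 12486147)) (.leaf (nat_lit 9841409)))) (.node (.node (.leaf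
    (nat_lit 11822851)) (.leaf (nat_lit 11204096))) (.leaf (nat_lit 18531334)))))) (.node (.node
    (.node (.node (.node (.leaf (nat_lit 1182723)) (.leaf (nat_lit 23649541))) (.node (.leaf
    (nat_lit 18099969)) (.leaf (nat_lit 4378368)))) (.node (.node (.leaf (nat_lit 9311749)) (.leaf
    (nat_lit 24840455))) (.leaf (nat_lit 19180035)))) (.node (.node (.node (.leaf (nat_lit
    5770503)) (.leaf (nat_lit 33327879))) (.node (.leaf (nat_lit 13922560)) (.leaf (nat_lit
    5681920)))) (.node (.node (.leaf (nat_lit 12066561)) (.leaf (nat_lit 6173696))) (.leaf (nat_lit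
    14730242))))) (.node (.node (.node (.node (.leaf (nat_lit 1448706)) (.leaf (nat_lit 28110594)))
    (.node (.leaf (nat_lit 20067333)) (.leaf (nat_lit 10769925)))) (.node (.node (.leaf (nat_lit
    3019522)) (.leaf (nat_lit 22461184))) (.leaf (nat_lit 24164613)))) (.node (.node (.node (.leaf
    (nat_lit 6951425)) (.leaf (nat_lit 17754887))) (.leaf (nat_lit 12221696))) (.node (.node (.leaf
    (nat_lit 15083015)) (.leaf (nat_lit 2907904))) (.leaf (nat_lit 24168450)))))))))) (.node (.node
    (.node (.node (.node (.node (.node (.node (.node (.leaf (nat_lit 3)) (.leaf (nat_lit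
    26630658))) (.node (.leaf (nat_lit 15345410)) (.leaf (nat_lit 10888962)))) (.node (.node (.leaf
    (nat_lit 7344645)) (.leaf (nat_lit 24043014))) (.leaf (nat_lit 10780164)))) (.node (.node
    (.node (.leaf (nat_lit 2102531)) (.leaf (nat_lit 25358337))) (.node (.leaf (nat_lit 20200449))
    (.leaf (nat_lit 5140485)))) (.node (.node (.leaf (nat_lit 7883267)) (.leaf (nat_lit 984320)))
    (.leaf (nat_lit 19970566))))) (.node (.node (.node (.node (.leaf (nat_lit 1314051)) (.leaf
    (nat_lit 25091846))) (.node (.leaf (nat_lit 8817410)) (.leaf (nat_lit 34608645)))) (.node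
    (.node (.leaf (nat_lit 3033089)) (.leaf (nat_lit 21563653))) (.leaf (nat_lit 22429959))))
    (.node (.node (.node (.leaf (nat_lit 2764033)) (.leaf (nat_lit 33590530))) (.node (.leaf
    (nat_lit 21255169)) (.leaf (nat_lit 3296006)))) (.node (.node (.leaf (nat_lit 12459780)) (.leaf
    (nat_lit 4762112))) (.leaf (nat_lit 25604355)))))) (.node (.node (.node (.node (.node (.leaf
    (nat_lit 787971)) (.leaf (nat_lit 13030657))) (.node (.leaf (nat_lit 16919300)) (.leaf (nat_lit
    2232327)))) (.node (.node (.leaf (nat_lit 8525061)) (.leaf (nat_lit 20113408))) (.leaf (nat_lit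
    17605638)))) (.node (.node (.node (.leaf (nat_lit 1975557)) (.leaf (nat_lit 32671238))) (.node
    (.leaf (nat_lit 21260802)) (.leaf (nat_lit 5655556)))) (.node (.node (.leaf (nat_lit 10885895))
    (.leaf (nat_lit 5277440))) (.leaf (nat_lit 25055233))))) (.node (.node (.node (.node (.leaf
    (nat_lit 1447937)) (.leaf (nat_lit 30438662))) (.node (.leaf (nat_lit 6304771)) (.leaf (nat_lit
    8135426)))) (.node (.node (.leaf (nat_lit 2635264)) (.leaf (nat_lit 24166912))) (.leaf (nat_lit
    23350017)))) (.node (.node (.node (.leaf (nat_lit 6172679)) (.leaf (nat_lit 16289286))) (.node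
    (.leaf (nat_lit 16803075)) (.leaf (nat_lit 7874306)))) (.node (.node (.leaf (nat_lit 13771521))
    (.leaf (nat_lit 4595461))) (.leaf (nat_lit 11182338))))))) (.node (.node (.node (.node (.node
    (.node (.leaf (nat_lit 524546)) (.leaf (nat_lit 27418370))) (.node (.leaf (nat_lit 16263173))
    (.leaf (nat_lit 9882624)))) (.node (.node (.leaf (nat_lit 3554820)) (.leaf (nat_lit 16165121)))
    (.leaf (nat_lit 21275399)))) (.node (.node (.node (.leaf (nat_lit 4327938)) (.leaf (nat_lit
    27980805))) (.node (.leaf (nat_lit 21118215)) (.leaf (nat_lit 8547846)))) (.node (.node (.leaf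
    (nat_lit 10361095)) (.leaf (nat_lit 21412352))) (.leaf (nat_lit 10796034))))) (.node (.node
    (.node (.node (.leaf (nat_lit 2364167)) (.leaf (nat_lit 30043652))) (.node (.leaf (nat_lit
    18911493)) (.leaf (nat_lit 4072963)))) (.node (.node (.leaf (nat_lit 5522944)) (.leaf (nat_lit
    4503296))) (.leaf (nat_lit 19573763)))) (.node (.node (.node (.leaf (nat_lit 3288581)) (.leaf
    (nat_lit 33726213))) (.node (.leaf (nat_lit 11043584)) (.leaf (nat_lit 3426822)))) (.node
    (.node (.leaf (nat_lit 11297539)) (.leaf (nat_lit 2921472))) (.leaf (nat_lit 18508292))))))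
    (.node (.node (.node (.node (.node (.leaf (nat_lit 1311493)) (.leaf (nat_lit 28498437))) (.node
    (.leaf (nat_lit 17598213)) (.leaf (nat_lit 4488704)))) (.node (.node (.leaf (nat_lit 8667911))
    (.leaf (nat_lit 28378370))) (.leaf (nat_lit 8693505)))) (.node (.node (.node (.leaf (nat_lit
    5245959)) (.leaf (nat_lit 24182023))) (.node (.leaf (nat_lit 19293698)) (.leaf (nat_lit
    9752064)))) (.node (.node (.leaf (nat_lit 11542017)) (.leaf (nat_lit 11842560))) (.leaf
    (nat_lit 25449221))))) (.node (.node (.node (.node (.leaf (nat_lit 526343)) (.leaf (nat_lit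
    31095815))) (.node (.leaf (nat_lit 18257667)) (.leaf (nat_lit 8135943)))) (.node (.node (.leaf
    (nat_lit 9451779)) (.leaf (nat_lit 6590464))) (.leaf (nat_lit 10270465)))) (.node (.node (.node
    (.leaf (nat_lit 6561793)) (.leaf (nat_lit 23790342))) (.leaf (nat_lit 4085506))) (.node (.node
    (.leaf (nat_lit 14689542)) (.leaf (nat_lit 1594368))) (.leaf (nat_lit 14192642)))))))) (.node
    (.node (.node (.node (.node (.node (.node (.leaf (nat_lit 262151)) (.leaf (nat_lit 24038661)))
    (.node (.leaf (nat_lit 15738881)) (.leaf (nat_lit 3575040)))) (.node (.node (.leaf (nat_lit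
    7869188)) (.leaf (nat_lit 34377991))) (.leaf (nat_lit 9990917)))) (.node (.node (.node (.leaf
    (nat_lit 3934470)) (.leaf (nat_lit 31752199))) (.node (.leaf (nat_lit 20487431)) (.leaf
    (nat_lit 9888768)))) (.node (.node (.leaf (nat_lit 9967622)) (.leaf (nat_lit 3986944))) (.leaf
    (nat_lit 24427267))))) (.node (.node (.node (.node (.leaf (nat_lit 2098433)) (.leaf (nat_lit
    29781255))) (.node (.leaf (nat_lit 18624513)) (.leaf (nat_lit 11825154)))) (.node (.node (.leaf
    (nat_lit 2895104)) (.leaf (nat_lit 10118656))) (.leaf (nat_lit 22455043)))) (.node (.node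
    (.node (.leaf (nat_lit 4729088)) (.leaf (nat_lit 33721606))) (.node (.leaf (nat_lit 19161346))
    (.leaf (nat_lit 7871239)))) (.node (.node (.leaf (nat_lit 11034883)) (.leaf (nat_lit
    17097984))) (.leaf (nat_lit 13145344)))))) (.node (.node (.node (.node (.node (.leaf (nat_lit
    1049093)) (.leaf (nat_lit 28468740))) (.node (.leaf (nat_lit 17312770)) (.leaf (nat_lit
    8548096)))) (.node (.node (.leaf (nat_lit 4342017)) (.leaf (nat_lit 19031558))) (.leaf (nat_lit
    21669381)))) (.node (.node (.node (.leaf (nat_lit 4334851)) (.leaf (nat_lit 32933638))) (.node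
    (.leaf (nat_lit 5270272)) (.leaf (nat_lit 6037767)))) (.node (.node (.leaf (nat_lit 11031815))
    (.leaf (nat_lit 5158400))) (.leaf (nat_lit 25186561))))) (.node (.node (.node (.node (.leaf
    (nat_lit 3409921)) (.leaf (nat_lit 30701313))) (.node (.leaf (nat_lit 19437059)) (.leaf
    (nat_lit 4593156)))) (.node (.node (.leaf (nat_lit 2363650)) (.leaf (nat_lit 13552896))) (.leaf
    (nat_lit 10138881)))) (.node (.node (.node (.leaf (nat_lit 4993285)) (.leaf (nat_lit
    22723334))) (.leaf (nat_lit 17854209))) (.node (.node (.leaf (nat_lit 14295813)) (.leaf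
    (nat_lit 13694208))) (.leaf (nat_lit 20624387))))))) (.node (.node (.node (.node (.node (.node
    (.leaf (nat_lit 655620)) (.leaf (nat_lit 27811847))) (.node (.leaf (nat_lit 16525831)) (.leaf
    (nat_lit 10547968)))) (.node (.node (.leaf (nat_lit 8262662)) (.leaf (nat_lit 12629766)))
    (.leaf (nat_lit 21385221)))) (.node (.node (.node (.leaf (nat_lit 4465415)) (.leaf (nat_lit
    32276994))) (.node (.leaf (nat_lit 12224513)) (.leaf (nat_lit 4478468)))) (.node (.node (.leaf
    (nat_lit 10623495)) (.leaf (nat_lit 1236736))) (.leaf (nat_lit 19447047))))) (.node (.node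
    (.node (.node (.leaf (nat_lit 3016199)) (.leaf (nat_lit 30197506))) (.node (.leaf (nat_lit
    15241986)) (.leaf (nat_lit 4065793)))) (.node (.node (.leaf (nat_lit 4995072)) (.leaf (nat_lit
    11582976))) (.leaf (nat_lit 22956546)))) (.node (.node (.node (.leaf (nat_lit 5646083)) (.leaf
    (nat_lit 32571905))) (.node (.leaf (nat_lit 12617475)) (.leaf (nat_lit 9722626)))) (.node
    (.node (.leaf (nat_lit 13509124)) (.leaf (nat_lit 16576768))) (.leaf (nat_lit 25863687))))))
    (.node (.node (.node (.node (.node (.leaf (nat_lit 1573892)) (.leaf (nat_lit 28993282))) (.node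
    (.leaf (nat_lit 11569410)) (.leaf (nat_lit 11298816)))) (.node (.node (.leaf (nat_lit 7226883))
    (.leaf (nat_lit 34771975))) (.leaf (nat_lit 22298886)))) (.node (.node (.node (.leaf (nat_lit
    5639430)) (.leaf (nat_lit 18283780))) (.node (.leaf (nat_lit 19167490)) (.leaf (nat_lit
    11972096)))) (.node (.node (.leaf (nat_lit 11819781)) (.leaf (nat_lit 2110208))) (.leaf
    (nat_lit 25711874))))) (.node (.node (.node (.node (.leaf (nat_lit 3152643)) (.leaf (nat_lit
    28634883))) (.node (.leaf (nat_lit 18913283)) (.leaf (nat_lit 6575622)))) (.node (.node (.leaf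
    (nat_lit 2508800)) (.leaf (nat_lit 5684224))) (.leaf (nat_lit 24268037)))) (.node (.node (.node
    (.leaf (nat_lit 6697991)) (.leaf (nat_lit 30866176))) (.leaf (nat_lit 15100166))) (.node (.node
    (.leaf (nat_lit 14951942)) (.leaf (nat_lit 6575872))) (.leaf (nat_lit 26134533))))))))) (.node
    (.node (.node (.node (.node (.node (.node (.node (.leaf (nat_lit 131078)) (.leaf (nat_lit
    26761734))) (.node (.leaf (nat_lit 15607557)) (.leaf (nat_lit 4891136)))) (.node (.node (.leaf
    (nat_lit 7607042)) (.leaf (nat_lit 22348805))) (.leaf (nat_lit 19288580)))) (.node (.node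
    (.node (.leaf (nat_lit 3672321)) (.leaf (nat_lit 31621125))) (.node (.leaf (nat_lit 20462598))
    (.leaf (nat_lit 3578880)))) (.node (.node (.leaf (nat_lit 9718533)) (.leaf (nat_lit 5694976)))
    (.leaf (nat_lit 10899715))))) (.node (.node (.node (.node (.leaf (nat_lit 1967111)) (.leaf
    (nat_lit 29519106))) (.node (.leaf (nat_lit 18493189)) (.leaf (nat_lit 9994752)))) (.node
    (.node (.leaf (nat_lit 6441223)) (.leaf (nat_lit 32694786))) (.leaf (nat_lit 11709185))))
    (.node (.node (.node (.leaf (nat_lit 4205829)) (.leaf (nat_lit 21034757))) (.node (.leaf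
    (nat_lit 12744960)) (.leaf (nat_lit 10763271)))) (.node (.node (.leaf (nat_lit 12476421))
    (.leaf (nat_lit 19329024))) (.leaf (nat_lit 23227905)))))) (.node (.node (.node (.node (.node
    (.leaf (nat_lit 919299)) (.leaf (nat_lit 28206340))) (.node (.leaf (nat_lit 16941573)) (.leaf
    (nat_lit 2537472)))) (.node (.node (.leaf (nat_lit 6045955)) (.leaf (nat_lit 19061504))) (.leaf
    (nat_lit 18392323)))) (.node (.node (.node (.leaf (nat_lit 1973508)) (.leaf (nat_lit
    32688129))) (.node (.leaf (nat_lit 12216579)) (.leaf (nat_lit 11291649)))) (.node (.node (.leaf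
    (nat_lit 11017222)) (.leaf (nat_lit 13816320))) (.leaf (nat_lit 10665729))))) (.node (.node
    (.node (.node (.leaf (nat_lit 2103557)) (.leaf (nat_lit 30569986))) (.node (.leaf (nat_lit
    19542789)) (.leaf (nat_lit 4076034)))) (.node (.node (.leaf (nat_lit 2369028)) (.leaf (nat_lit
    10249472))) (.leaf (nat_lit 23612167)))) (.node (.node (.node (.leaf (nat_lit 2633986)) (.leaf
    (nat_lit 29687296))) (.node (.leaf (nat_lit 14579712)) (.leaf (nat_lit 9707009)))) (.node
    (.node (.leaf (nat_lit 14033667)) (.leaf (nat_lit 1633024))) (.leaf (nat_lit 23240963)))))))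
    (.node (.node (.node (.node (.node (.node (.leaf (nat_lit 262659)) (.leaf (nat_lit 24695302)))
    (.node (.leaf (nat_lit 16394758)) (.leaf (nat_lit 13540608)))) (.node (.node (.leaf (nat_lit
    5520897)) (.leaf (nat_lit 17741318))) (.leaf (nat_lit 13280002)))) (.node (.node (.node (.leaf
    (nat_lit 4459014)) (.leaf (nat_lit 20641029))) (.node (.leaf (nat_lit 21249542)) (.leaf
    (nat_lit 10756612)))) (.node (.node (.leaf (nat_lit 10492422)) (.leaf (nat_lit 10639360)))
    (.leaf (nat_lit 24792836))))) (.node (.node (.node (.node (.leaf (nat_lit 2754050)) (.leaf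
    (nat_lit 30174725))) (.node (.leaf (nat_lit 19280391)) (.leaf (nat_lit 3680006)))) (.node
    (.node (.leaf (nat_lit 2887681)) (.leaf (nat_lit 10387200))) (.leaf (nat_lit 22195459))))
    (.node (.node (.node (.leaf (nat_lit 4992513)) (.leaf (nat_lit 33852932))) (.node (.leaf
    (nat_lit 5792769)) (.leaf (nat_lit 3976960)))) (.node (.node (.leaf (nat_lit 13246977)) (.leaf
    (nat_lit 5657089))) (.leaf (nat_lit 8279813)))))) (.node (.node (.node (.node (.node (.leaf
    (nat_lit 1442567)) (.leaf (nat_lit 28862209))) (.node (.leaf (nat_lit 17968647)) (.leaf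
    (nat_lit 10531072)))) (.node (.node (.leaf (nat_lit 9049602)) (.leaf (nat_lit 34275077)))
    (.leaf (nat_lit 22167557)))) (.node (.node (.node (.leaf (nat_lit 5377281)) (.leaf (nat_lit
    33218818))) (.node (.leaf (nat_lit 15357955)) (.leaf (nat_lit 11947524)))) (.node (.node (.leaf
    (nat_lit 11804164)) (.leaf (nat_lit 1730816))) (.leaf (nat_lit 25580801))))) (.node (.node
    (.node (.node (.leaf (nat_lit 1445635)) (.leaf (nat_lit 28503555))) (.node (.leaf (nat_lit
    19816199)) (.leaf (nat_lit 10514436)))) (.node (.node (.leaf (nat_lit 2504961)) (.leaf (nat_lit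
    16567040))) (.leaf (nat_lit 24136964)))) (.node (.node (.node (.leaf (nat_lit 6689030)) (.leaf
    (nat_lit 17751809))) (.leaf (nat_lit 19158785))) (.node (.node (.leaf (nat_lit 14820615))
    (.leaf (nat_lit 1334528))) (.leaf (nat_lit 26105860)))))))) (.node (.node (.node (.node (.node
    (.node (.node (.leaf (nat_lit 393473)) (.leaf (nat_lit 27155207))) (.node (.leaf (nat_lit
    16001027)) (.leaf (nat_lit 3992064)))) (.node (.node (.leaf (nat_lit 7879941)) (.leaf (nat_lit
    22087425))) (.leaf (nat_lit 15095043)))) (.node (.node (.node (.leaf (nat_lit 3940103)) (.leaf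
    (nat_lit 23917316))) (.node (.leaf (nat_lit 20856066)) (.leaf (nat_lit 8015104)))) (.node
    (.node (.leaf (nat_lit 9981191)) (.leaf (nat_lit 4476418))) (.leaf (nat_lit 24661762)))))
    (.node (.node (.node (.node (.leaf (nat_lit 2360582)) (.leaf (nat_lit 29912578))) (.node (.leaf
    (nat_lit 18886660)) (.leaf (nat_lit 10002688)))) (.node (.node (.leaf (nat_lit 2758145)) (.leaf
    (nat_lit 24304128))) (.leaf (nat_lit 10005252)))) (.node (.node (.node (.leaf (nat_lit
    5513221)) (.leaf (nat_lit 33730049))) (.node (.leaf (nat_lit 4097280)) (.leaf (nat_lit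
    3161350)))) (.node (.node (.leaf (nat_lit 12739079)) (.leaf (nat_lit 11952896))) (.leaf
    (nat_lit 13929472)))))) (.node (.node (.node (.node (.node (.leaf (nat_lit 1050627)) (.leaf
    (nat_lit 28229121))) (.node (.leaf (nat_lit 17574916)) (.leaf (nat_lit 3452928)))) (.node
    (.node (.leaf (nat_lit 6701571)) (.leaf (nat_lit 34140674))) (.leaf (nat_lit 21905409))))
    (.node (.node (.node (.leaf (nat_lit 3679749)) (.leaf (nat_lit 32963591))) (.node (.leaf
    (nat_lit 16280835)) (.leaf (nat_lit 6052614)))) (.node (.node (.leaf (nat_lit 11410695)) (.leaf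
    (nat_lit 3838464))) (.leaf (nat_lit 10797057))))) (.node (.node (.node (.node (.leaf (nat_lit
    3283459)) (.leaf (nat_lit 30833409))) (.node (.leaf (nat_lit 8405763)) (.leaf (nat_lit
    10246656)))) (.node (.node (.leaf (nat_lit 3029760)) (.leaf (nat_lit 1364736))) (.leaf (nat_lit
    10925570)))) (.node (.node (.node (.leaf (nat_lit 3158532)) (.leaf (nat_lit 32834305))) (.leaf
    (nat_lit 12865029))) (.node (.node (.leaf (nat_lit 14558215)) (.leaf (nat_lit 3704576))) (.leaf
    (nat_lit 13016322))))))) (.node (.node (.node (.node (.node (.node (.leaf (nat_lit 786693))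
    (.leaf (nat_lit 27943425))) (.node (.leaf (nat_lit 16657153)) (.leaf (nat_lit 10774272))))
    (.node (.node (.leaf (nat_lit 8393735)) (.leaf (nat_lit 14209793))) (.leaf (nat_lit
    18654211)))) (.node (.node (.node (.leaf (nat_lit 4334597)) (.leaf (nat_lit 32409089))) (.node
    (.leaf (nat_lit 15754243)) (.leaf (nat_lit 11936006)))) (.node (.node (.leaf (nat_lit
    10754822)) (.leaf (nat_lit 11984128))) (.leaf (nat_lit 24821253))))) (.node (.node (.node
    (.node (.leaf (nat_lit 3147521)) (.leaf (nat_lit 26142467))) (.node (.leaf (nat_lit 8819713))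
    (.leaf (nat_lit 1712897)))) (.node (.node (.leaf (nat_lit 3684096)) (.leaf (nat_lit 24165634)))
    (.leaf (nat_lit 23218695)))) (.node (.node (.node (.leaf (nat_lit 6164486)) (.leaf (nat_lit
    33859335))) (.node (.leaf (nat_lit 17989634)) (.leaf (nat_lit 8017409)))) (.node (.node (.leaf
    (nat_lit 13640197)) (.leaf (nat_lit 3952641))) (.leaf (nat_lit 23625217)))))) (.node (.node
    (.node (.node (.node (.leaf (nat_lit 1704965)) (.leaf (nat_lit 29125634))) (.node (.leaf
    (nat_lit 6326785)) (.leaf (nat_lit 10788096)))) (.node (.node (.leaf (nat_lit 7358211)) (.leaf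
    (nat_lit 27330818))) (.leaf (nat_lit 22309121)))) (.node (.node (.node (.leaf (nat_lit
    5647367)) (.leaf (nat_lit 33459457))) (.node (.leaf (nat_lit 4876806)) (.leaf (nat_lit
    11312896)))) (.node (.node (.leaf (nat_lit 12197634)) (.leaf (nat_lit 2394624))) (.leaf
    (nat_lit 25843201))))) (.node (.node (.node (.node (.leaf (nat_lit 3544069)) (.leaf (nat_lit
    31490052))) (.node (.leaf (nat_lit 19962117)) (.leaf (nat_lit 5132292)))) (.node (.node (.leaf
    (nat_lit 3019521)) (.leaf (nat_lit 2240512))) (.leaf (nat_lit 24399361)))) (.node (.node (.node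
    (.leaf (nat_lit 7082498)) (.leaf (nat_lit 33090310))) (.leaf (nat_lit 16538886))) (.node (.node
    (.leaf (nat_lit 14971655)) (.leaf (nat_lit 3957248))) (.leaf (nat_lit 26368260)))))))))))

/-- Certificate data. -/
def p3_just : Trie :=
    (.node (.node (.node (.node (.node (.node (.node (.node (.node (.node (.leaf (nat_lit 1))
    (.leaf (nat_lit 0))) (.node (.leaf (nat_lit 0)) (.leaf (nat_lit 7720405578153986)))) (.node
    (.node (.leaf (nat_lit 0)) (.leaf (nat_lit 11123737663504386))) (.leaf (nat_lit
    3352751442010253213679142359279947022617739319)))) (.node (.node (.node (.leaf (nat_lit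
    479697582671030811252569312523024784494886932)) (.leaf (nat_lit 19137796473320833033))) (.node
    (.leaf (nat_lit 10669892270251245579)) (.leaf (nat_lit 57351049900454427492354)))) (.node
    (.node (.leaf (nat_lit 0)) (.leaf (nat_lit 1777449628216786946))) (.leaf (nat_lit
    64691675332492657231632138289))))) (.node (.node (.node (.node (.leaf (nat_lit
    510443978358794)) (.leaf (nat_lit 0))) (.node (.leaf (nat_lit 0)) (.leaf (nat_lit
    18675992394129932290)))) (.node (.node (.leaf (nat_lit 0)) (.leaf (nat_lit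
    101512599011550359181393936))) (.leaf (nat_lit 62663819254344617166176274)))) (.node (.node
    (.node (.leaf (nat_lit 0)) (.leaf (nat_lit 273967038035787161135909289000965))) (.node (.leaf
    (nat_lit 4436241655398402)) (.leaf (nat_lit 30404861928415625218)))) (.node (.node (.leaf
    (nat_lit 0)) (.leaf (nat_lit 4895274051689704062978))) (.leaf (nat_lit
    83268181626697792983602167857)))))) (.node (.node (.node (.node (.node (.leaf (nat_lit
    228831562694666)) (.leaf (nat_lit 72345823808385213425582096))) (.node (.leaf (nat_lit 0))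
    (.leaf (nat_lit 13411688216920066)))) (.node (.node (.leaf (nat_lit 2481730888007684)) (.leaf
    (nat_lit 11282213366792194))) (.leaf (nat_lit 47019359829691324766158871)))) (.node (.node
    (.node (.leaf (nat_lit 0)) (.leaf (nat_lit 0))) (.node (.leaf (nat_lit
    33866426341879588313169966)) (.leaf (nat_lit 14678858188062722)))) (.node (.node (.leaf
    (nat_lit 61904561257307497132498223107)) (.leaf (nat_lit 8190756805341806594))) (.leaf (nat_lit
    16040603188608565259))))) (.node (.node (.node (.node (.leaf (nat_lit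
    11762395579022889417076768781)) (.leaf (nat_lit 156674707325184685055764987934))) (.node (.leaf
    (nat_lit 79638740264750447890398150328359)) (.leaf (nat_lit 1941707470012418)))) (.node (.node
    (.leaf (nat_lit 4128297813018869762)) (.leaf (nat_lit 50560826088195837132802))) (.leaf
    (nat_lit 7568346556006404)))) (.node (.node (.node (.leaf (nat_lit 0)) (.leaf (nat_lit
    380517779112959342380538761375645734))) (.node (.leaf (nat_lit
    2583258597299794729361700531536152062738497588)) (.leaf (nat_lit 5751274742087682)))) (.node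
    (.node (.leaf (nat_lit 7928492444252045323)) (.leaf (nat_lit 3832446562992130))) (.leaf
    (nat_lit 7514526230540712143016897063547634355872792838210))))))) (.node (.node (.node (.node
    (.node (.node (.leaf (nat_lit 3169590803680188915425416249349)) (.leaf (nat_lit 0))) (.node
    (.leaf (nat_lit 0)) (.leaf (nat_lit 27089279757249085442)))) (.node (.node (.leaf (nat_lit 0))
    (.leaf (nat_lit 261653270745541457660876914360334))) (.leaf (nat_lit 0)))) (.node (.node (.node
    (.leaf (nat_lit 0)) (.leaf (nat_lit 0))) (.node (.leaf (nat_lit 0)) (.leaf (nat_lit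
    4360847799484418)))) (.node (.node (.leaf (nat_lit 0)) (.leaf (nat_lit 7524163552991707138)))
    (.leaf (nat_lit 66203757532094521726533640))))) (.node (.node (.node (.node (.leaf (nat_lit 0))
    (.leaf (nat_lit 75972638338477698413035549))) (.node (.leaf (nat_lit 0)) (.leaf (nat_lit
    1668994226585602)))) (.node (.node (.leaf (nat_lit 3569763773172613122)) (.leaf (nat_lit
    16603158249851781122))) (.leaf (nat_lit 0)))) (.node (.node (.node (.leaf (nat_lit 0)) (.leaf
    (nat_lit 1154021847858564010154667706325733539914))) (.node (.leaf (nat_lit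
    12129999379285344258)) (.leaf (nat_lit 3508056273059842)))) (.node (.node (.leaf (nat_lit 0))
    (.leaf (nat_lit 12936355596337154))) (.leaf (nat_lit 5114717639147522)))))) (.node (.node
    (.node (.node (.node (.leaf (nat_lit 0)) (.leaf (nat_lit 0))) (.node (.leaf (nat_lit 0)) (.leaf
    (nat_lit 13622699960172546)))) (.node (.node (.leaf (nat_lit 0)) (.leaf (nat_lit
    205440342165016865985236697107))) (.leaf (nat_lit 43240396029704257159888912)))) (.node (.node
    (.node (.leaf (nat_lit 0)) (.leaf (nat_lit 0))) (.node (.leaf (nat_lit 9517629836965904393))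
    (.leaf (nat_lit 13174816475578370)))) (.node (.node (.leaf (nat_lit 3766578944540676)) (.leaf
    (nat_lit 13270881510740918274))) (.leaf (nat_lit 0))))) (.node (.node (.node (.node (.leaf
    (nat_lit 30538670569671188928363481818202129)) (.leaf (nat_lit 0))) (.node (.leaf (nat_lit 0))
    (.leaf (nat_lit 55552343035933677060098)))) (.node (.node (.leaf (nat_lit 2332540904013826))
    (.leaf (nat_lit 15738579155618562050))) (.leaf (nat_lit 0)))) (.node (.node (.node (.leaf
    (nat_lit 25389866450337267209019457566)) (.leaf (nat_lit 168436205330626120141267927043)))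
    (.leaf (nat_lit 136298473694000679188020360314931))) (.node (.node (.leaf (nat_lit
    4329803775868932)) (.leaf (nat_lit 3165874613548941314))) (.leaf (nat_lit
    70000619126364536431041708099)))))))) (.node (.node (.node (.node (.node (.node (.node (.leaf
    (nat_lit 928530624239272492584534019)) (.leaf (nat_lit 0))) (.node (.leaf (nat_lit
    4541013087617034)) (.leaf (nat_lit 12694920645386108930)))) (.node (.node (.leaf (nat_lit 0))
    (.leaf (nat_lit 0))) (.leaf (nat_lit 7500809728449249337)))) (.node (.node (.node (.leaf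
    (nat_lit 0)) (.leaf (nat_lit 10120484842766346))) (.node (.leaf (nat_lit 0)) (.leaf (nat_lit
    4483915792384002)))) (.node (.node (.leaf (nat_lit 4831097433515819019)) (.leaf (nat_lit
    15954815722291658754))) (.leaf (nat_lit 0))))) (.node (.node (.node (.node (.leaf (nat_lit
    598439268319236)) (.leaf (nat_lit 0))) (.node (.leaf (nat_lit 5104237918945290)) (.leaf
    (nat_lit 13693214733238274)))) (.node (.node (.leaf (nat_lit 27267658408166110878433804746787))
    (.leaf (nat_lit 13731168784623147884175667210851939956435400261708))) (.leaf (nat_lit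
    83911643824227664477733388347)))) (.node (.node (.node (.leaf (nat_lit
    30181287541009045775163195413)) (.leaf (nat_lit 1452228049729765877327539289981465460809)))
    (.node (.leaf (nat_lit 4621002558537730)) (.leaf (nat_lit 27738842747011006466)))) (.node
    (.node (.leaf (nat_lit 0)) (.leaf (nat_lit 20026445565008216066))) (.leaf (nat_lit
    5680130658942182718642035879547483670580634058816)))))) (.node (.node (.node (.node (.node
    (.leaf (nat_lit 78104359043348098339644872217879107221520396)) (.leaf (nat_lit 0))) (.node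
    (.leaf (nat_lit 0)) (.leaf (nat_lit 1967855230910466)))) (.node (.node (.leaf (nat_lit
    20739430020068215918000734234)) (.leaf (nat_lit 19413114786211364866))) (.leaf (nat_lit 0))))
    (.node (.node (.node (.leaf (nat_lit 3009451960463196171)) (.leaf (nat_lit 0))) (.node (.leaf
    (nat_lit 74791958244426048132098687022)) (.leaf (nat_lit 17236694715177566210)))) (.node (.node
    (.leaf (nat_lit 0)) (.leaf (nat_lit 52855086125139741638658))) (.leaf (nat_lit
    106686906033875284059899691068))))) (.node (.node (.node (.node (.leaf (nat_lit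
    10833790763384585777645486086)) (.leaf (nat_lit 143970627186813660412208611342))) (.node (.leaf
    (nat_lit 0)) (.leaf (nat_lit 8137985023212191746)))) (.node (.node (.leaf (nat_lit
    2262103440359426)) (.leaf (nat_lit 4425511916429049858))) (.leaf (nat_lit 0)))) (.node (.node
    (.node (.leaf (nat_lit 14738617807244377381470216)) (.leaf (nat_lit 10675051020025858))) (.leaf
    (nat_lit 4603547811446786))) (.node (.node (.leaf (nat_lit 0)) (.leaf (nat_lit
    20314871508200783874))) (.leaf (nat_lit 153267651802376400762883670064))))))) (.node (.node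
    (.node (.node (.node (.node (.leaf (nat_lit 1360337037429995527798792)) (.leaf (nat_lit 0)))
    (.node (.leaf (nat_lit 78312709382259239375889367043)) (.leaf (nat_lit 3363541287822360578))))
    (.node (.node (.leaf (nat_lit 25231193310531979977312043040)) (.leaf (nat_lit
    279972432350096416232949517058106))) (.leaf (nat_lit
    4389594502097916557771571785342375716681613364)))) (.node (.node (.node (.leaf (nat_lit 0))
    (.leaf (nat_lit 21175736589594329097))) (.node (.leaf (nat_lit 87291024058903126229645656067))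
    (.leaf (nat_lit 8512655245574146)))) (.node (.node (.leaf (nat_lit
    60976031740269045087912460291)) (.leaf (nat_lit 2588236803983212546))) (.leaf (nat_lit
    15968545568800833545))))) (.node (.node (.node (.node (.leaf (nat_lit 0)) (.leaf (nat_lit
    9733250591358986))) (.node (.leaf (nat_lit 5245044126777348)) (.leaf (nat_lit
    27719554255043100674)))) (.node (.node (.leaf (nat_lit 2789808892149762)) (.leaf (nat_lit
    7163631800458346498))) (.leaf (nat_lit 0)))) (.node (.node (.node (.leaf (nat_lit
    10882771023552383306498076)) (.leaf (nat_lit 1452228049730645422537497045146702250059))) (.node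
    (.leaf (nat_lit 4867344702767106)) (.leaf (nat_lit 5680802918694914)))) (.node (.node (.leaf
    (nat_lit 0)) (.leaf (nat_lit 6462452606828546))) (.leaf (nat_lit 7137844804059138)))))) (.node
    (.node (.node (.node (.node (.leaf (nat_lit 360876037242884)) (.leaf (nat_lit
    140721034656683510308954046477))) (.node (.leaf (nat_lit 4963431711113220)) (.leaf (nat_lit
    9743644412215298)))) (.node (.node (.leaf (nat_lit 0)) (.leaf (nat_lit 0))) (.leaf (nat_lit
    7216331036426250)))) (.node (.node (.node (.leaf (nat_lit 0)) (.leaf (nat_lit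
    183614040218340104130781380611))) (.node (.leaf (nat_lit 92897885550379863899606745137)) (.leaf
    (nat_lit 14177579670044674)))) (.node (.node (.leaf (nat_lit 0)) (.leaf (nat_lit
    15216506695170850818))) (.leaf (nat_lit 137023441488705504456584230010885))))) (.node (.node
    (.node (.node (.leaf (nat_lit 0)) (.leaf (nat_lit 0))) (.node (.leaf (nat_lit 0)) (.leaf
    (nat_lit 7471565012662943746)))) (.node (.node (.leaf (nat_lit
    4213681274558672518231905999302022235688941649957)) (.leaf (nat_lit 10820642414000275458)))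
    (.leaf (nat_lit 3190578076823036495213550358278209204130611212)))) (.node (.node (.node (.leaf
    (nat_lit 0)) (.leaf (nat_lit 11114915800678402))) (.leaf (nat_lit
    440837655618413728525981414630883345))) (.node (.node (.leaf (nat_lit 4382614693740548)) (.leaf
    (nat_lit 27142421787034451970))) (.leaf (nat_lit 0))))))))) (.node (.node (.node (.node (.node
    (.node (.node (.node (.leaf (nat_lit 1)) (.leaf (nat_lit 134999417196313272812147441678)))
    (.node (.leaf (nat_lit 0)) (.leaf (nat_lit 9344217770725933058)))) (.node (.node (.leaf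
    (nat_lit 0)) (.leaf (nat_lit 0))) (.leaf (nat_lit 118566485400166193127229882371)))) (.node
    (.node (.node (.leaf (nat_lit 2288910946757967881)) (.leaf (nat_lit
    176447428088001911323313438750))) (.node (.leaf (nat_lit 0)) (.leaf (nat_lit
    11705411389282779138)))) (.node (.node (.leaf (nat_lit 0)) (.leaf (nat_lit
    10298276796264808450))) (.leaf (nat_lit 98174632073667105441888731187))))) (.node (.node (.node
    (.node (.leaf (nat_lit 0)) (.leaf (nat_lit 0))) (.node (.leaf (nat_lit 0)) (.leaf (nat_lit
    2495706711588866)))) (.node (.node (.leaf (nat_lit 0)) (.leaf (nat_lit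
    383331008111720862881843138461743))) (.leaf (nat_lit 7269159134167044)))) (.node (.node (.node
    (.leaf (nat_lit 12075589346768678262011199491)) (.leaf (nat_lit
    102205567481689500885822341126))) (.node (.leaf (nat_lit
    3943492450915836206350634923823609247991267378)) (.leaf (nat_lit 3560772701650946)))) (.node
    (.node (.leaf (nat_lit 0)) (.leaf (nat_lit 823056153574572034))) (.leaf (nat_lit
    58441663674925078741844014)))))) (.node (.node (.node (.node (.node (.leaf (nat_lit 0)) (.leaf
    (nat_lit 0))) (.node (.leaf (nat_lit 0)) (.leaf (nat_lit 2372782574193016834)))) (.node (.node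
    (.leaf (nat_lit 1135945835479050)) (.leaf (nat_lit 9883660346064898))) (.leaf (nat_lit 0))))
    (.node (.node (.node (.leaf (nat_lit 21048607962161935857335271437)) (.leaf (nat_lit
    7068360823144517))) (.node (.leaf (nat_lit 33564194886940763827273744)) (.leaf (nat_lit
    14010282103930882)))) (.node (.node (.leaf (nat_lit 3643382102622212)) (.leaf (nat_lit
    8731182185031335938))) (.leaf (nat_lit 66523180699593753741295632))))) (.node (.node (.node
    (.node (.leaf (nat_lit 0)) (.leaf (nat_lit 166538615986633515732117618691))) (.node (.leaf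
    (nat_lit 90696037640781893681214259240)) (.leaf (nat_lit 3797691687632898)))) (.node (.node
    (.leaf (nat_lit 1498187148074090498)) (.leaf (nat_lit 7755211993120770))) (.leaf (nat_lit 0))))
    (.node (.node (.node (.leaf (nat_lit 0)) (.leaf (nat_lit 182630397355629511172361235660858)))
    (.node (.leaf (nat_lit 40972482337158671072821264)) (.leaf (nat_lit 7633690188447746)))) (.node
    (.node (.leaf (nat_lit 0)) (.leaf (nat_lit 4969571245248626294786))) (.leaf (nat_lit
    8378145459798018))))))) (.node (.node (.node (.node (.node (.node (.leaf (nat_lit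
    1547652128814626311263092742)) (.leaf (nat_lit 0))) (.node (.leaf (nat_lit 4646617743491082))
    (.leaf (nat_lit 36956673665485490094082)))) (.node (.node (.leaf (nat_lit 4252569101135970313))
    (.leaf (nat_lit 592210372521648133773945578652696593))) (.leaf (nat_lit
    79576430928831982858376970298)))) (.node (.node (.node (.leaf (nat_lit
    19197139102385685779605487637)) (.leaf (nat_lit 0))) (.node (.leaf (nat_lit 5773067406147588))
    (.leaf (nat_lit 15524323097149898754)))) (.node (.node (.leaf (nat_lit 3520168080834564))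
    (.leaf (nat_lit 16783589478064390146))) (.leaf (nat_lit
    5092530951376069992224703021695901537065959467))))) (.node (.node (.node (.node (.leaf (nat_lit
    0)) (.leaf (nat_lit 158210188703404724894038360096))) (.node (.leaf (nat_lit 0)) (.leaf
    (nat_lit 3727288583716866)))) (.node (.node (.leaf (nat_lit 3533725814988406786)) (.leaf
    (nat_lit 12441857431389274114))) (.leaf (nat_lit 0)))) (.node (.node (.node (.leaf (nat_lit
    31726898758808712250267140122)) (.leaf (nat_lit
    3636806189360269977560872104260046104273027096))) (.node (.leaf (nat_lit 4902511894986754))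
    (.leaf (nat_lit 3631227345174530)))) (.node (.node (.leaf (nat_lit 0)) (.leaf (nat_lit
    6552317908238925826))) (.leaf (nat_lit 13645470528025329666)))))) (.node (.node (.node (.node
    (.node (.leaf (nat_lit 422431508529162)) (.leaf (nat_lit 0))) (.node (.leaf (nat_lit 0)) (.leaf
    (nat_lit 4817823729844226)))) (.node (.node (.leaf (nat_lit 0)) (.leaf (nat_lit
    1454885218111126755518285670525778329677))) (.leaf (nat_lit 0)))) (.node (.node (.node (.leaf
    (nat_lit 1548881171185668)) (.leaf (nat_lit 374704226323774069176175134441510))) (.node (.leaf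
    (nat_lit 180426705342225662319407810412586)) (.leaf (nat_lit 3868558648016898)))) (.node (.node
    (.leaf (nat_lit 0)) (.leaf (nat_lit 8019266582478850))) (.leaf (nat_lit 8307579147124746)))))
    (.node (.node (.node (.node (.leaf (nat_lit 642600122056706)) (.leaf (nat_lit 0))) (.node
    (.leaf (nat_lit 22916364407600585069887506)) (.leaf (nat_lit 6911568747036674)))) (.node (.node
    (.leaf (nat_lit 57433886360474573502908071972)) (.leaf (nat_lit 12477965676713279490))) (.leaf
    (nat_lit 62737389006650458778634682375)))) (.node (.node (.node (.leaf (nat_lit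
    23222340596301424460533465091)) (.leaf (nat_lit 708395300290479655203371585511096373))) (.leaf
    (nat_lit 5958189086539778))) (.node (.node (.leaf (nat_lit 76149338618360627295764742147))
    (.leaf (nat_lit 53519043938106216808450))) (.leaf (nat_lit 0)))))))) (.node (.node (.node
    (.node (.node (.node (.node (.leaf (nat_lit 52823802904580)) (.leaf (nat_lit 0))) (.node (.leaf
    (nat_lit 0)) (.leaf (nat_lit 7722954658293153794)))) (.node (.node (.leaf (nat_lit 0)) (.leaf
    (nat_lit 0))) (.leaf (nat_lit 2381852292758223763079882710540099721687138360)))) (.node (.node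
    (.node (.leaf (nat_lit 0)) (.leaf (nat_lit 0))) (.node (.leaf (nat_lit 0)) (.leaf (nat_lit
    2654379983372290)))) (.node (.node (.leaf (nat_lit 0)) (.leaf (nat_lit 16008912579141500930)))
    (.leaf (nat_lit 130707810677572190141640809578501))))) (.node (.node (.node (.node (.leaf
    (nat_lit 0)) (.leaf (nat_lit 9645238121529348))) (.node (.leaf (nat_lit 0)) (.leaf (nat_lit
    14027474858016770)))) (.node (.node (.leaf (nat_lit 3479691754855399426)) (.leaf (nat_lit
    19251283102852644866))) (.leaf (nat_lit 14094238556839149625)))) (.node (.node (.node (.leaf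
    (nat_lit 1610556901556226)) (.leaf (nat_lit 8704605923967045))) (.node (.leaf (nat_lit
    59589957536814454678613490335795)) (.leaf (nat_lit 19884618735507668994)))) (.node (.node
    (.leaf (nat_lit 0)) (.leaf (nat_lit 24890344423972601858))) (.leaf (nat_lit
    5413767622033410)))))) (.node (.node (.node (.node (.node (.leaf (nat_lit 316844032524298))
    (.leaf (nat_lit 142122486493360582113553154078))) (.node (.leaf (nat_lit 0)) (.leaf (nat_lit
    8876053098372726786)))) (.node (.node (.leaf (nat_lit 0)) (.leaf (nat_lit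
    5275272865333528953686138032925577233304322114))) (.leaf (nat_lit 10486881497565560843))))
    (.node (.node (.node (.leaf (nat_lit 0)) (.leaf (nat_lit 0))) (.node (.leaf (nat_lit
    4286630764609538)) (.leaf (nat_lit 14107185156063234)))) (.node (.node (.leaf (nat_lit 0))
    (.leaf (nat_lit 10244613871286513565698))) (.leaf (nat_lit 65918828600696975290335248)))))
    (.node (.node (.node (.node (.leaf (nat_lit 138304626683695276771435058155150180367)) (.leaf
    (nat_lit 145219082287074263046400901139))) (.node (.leaf (nat_lit 46792722411036557424525353))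
    (.leaf (nat_lit 7939831711964266498)))) (.node (.node (.leaf (nat_lit 2244528434184194)) (.leaf
    (nat_lit 2804217661188407298))) (.leaf (nat_lit 0)))) (.node (.node (.node (.leaf (nat_lit 0))
    (.leaf (nat_lit 0))) (.leaf (nat_lit 5905369578733570))) (.node (.node (.leaf (nat_lit 0))
    (.leaf (nat_lit 4325070721908738))) (.leaf (nat_lit 75745890171673381936889897))))))) (.node
    (.node (.node (.node (.node (.node (.leaf (nat_lit 468453642048045065)) (.leaf (nat_lit
    9222819498033156))) (.node (.leaf (nat_lit 4699428661362692)) (.leaf (nat_lit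
    13728192946896898)))) (.node (.node (.leaf (nat_lit 34367425953648579994794196995)) (.leaf
    (nat_lit 18962631639517298690))) (.leaf (nat_lit 0)))) (.node (.node (.node (.leaf (nat_lit 0))
    (.leaf (nat_lit 5003333804751437841556919655808377967327510598))) (.node (.leaf (nat_lit
    103246954748811119504122052643)) (.leaf (nat_lit 4228975123628034)))) (.node (.node (.leaf
    (nat_lit 3572978998706180)) (.leaf (nat_lit 7902485184619151362))) (.leaf (nat_lit 0)))))
    (.node (.node (.node (.node (.leaf (nat_lit 774447028109316)) (.leaf (nat_lit 0))) (.node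
    (.leaf (nat_lit 0)) (.leaf (nat_lit 2643527880784674818)))) (.node (.node (.leaf (nat_lit
    2754633109995522)) (.leaf (nat_lit 16567164108923928578))) (.leaf (nat_lit 0)))) (.node (.node
    (.node (.leaf (nat_lit 3136414981894111243)) (.leaf (nat_lit 93737630961400854048210980)))
    (.node (.leaf (nat_lit 8112858897594908681)) (.leaf (nat_lit 7651213655015426)))) (.node (.node
    (.leaf (nat_lit 7892463630053212169)) (.leaf (nat_lit 14297966314730487810))) (.leaf (nat_lit
    125725524960083288338068799539)))))) (.node (.node (.node (.node (.node (.leaf (nat_lit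
    864911284183957513)) (.leaf (nat_lit 153253209323784837744768188430))) (.node (.leaf (nat_lit
    0)) (.leaf (nat_lit 8389779559704363010)))) (.node (.node (.leaf (nat_lit 0)) (.leaf (nat_lit
    8124544820838404))) (.leaf (nat_lit 92244747391867714875179794435)))) (.node (.node (.node
    (.leaf (nat_lit 0)) (.leaf (nat_lit 0))) (.node (.leaf (nat_lit
    7733861309379690580202796291567697563533620019245)) (.leaf (nat_lit 26928082998905733122))))
    (.node (.node (.leaf (nat_lit 0)) (.leaf (nat_lit 4083631235472228354))) (.leaf (nat_lit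
    108995861194128691023191605254))))) (.node (.node (.node (.node (.leaf (nat_lit
    8919666824941963344936978)) (.leaf (nat_lit 164103103472494811016245674052))) (.node (.leaf
    (nat_lit 0)) (.leaf (nat_lit 6823624996683778)))) (.node (.node (.leaf (nat_lit
    2825173652865026)) (.leaf (nat_lit 15162137292581306370))) (.leaf (nat_lit 7797165233668106))))
    (.node (.node (.node (.leaf (nat_lit 0)) (.leaf (nat_lit 10516807244972034))) (.leaf (nat_lit
    12220449522228330498))) (.node (.node (.leaf (nat_lit 0)) (.leaf (nat_lit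
    6209700563081428994))) (.leaf (nat_lit 137168458419732630315534254148)))))))))) (.node (.node
    (.node (.node (.node (.node (.node (.node (.node (.leaf (nat_lit 1)) (.leaf (nat_lit 0)))
    (.node (.leaf (nat_lit 0)) (.leaf (nat_lit 7729201671176194)))) (.node (.node (.leaf (nat_lit
    0)) (.leaf (nat_lit 144302419636325499943415840819))) (.leaf (nat_lit
    2308462097571059930246394489059370695943454776)))) (.node (.node (.node (.leaf (nat_lit
    1838436772250583051)) (.leaf (nat_lit 146144657478337329983702564894))) (.node (.leaf (nat_lit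
    0)) (.leaf (nat_lit 4554267356692482)))) (.node (.node (.leaf (nat_lit 4795068619316985865))
    (.leaf (nat_lit 1723406449868210178))) (.leaf (nat_lit
    3524201843557783866086214887652354908637298751))))) (.node (.node (.node (.node (.leaf (nat_lit
    900940098382790667)) (.leaf (nat_lit 8246616381325381))) (.node (.leaf (nat_lit
    47051627884372676979680739334)) (.leaf (nat_lit 11757984074039298)))) (.node (.node (.leaf
    (nat_lit 501848442710368020625507040868057071785541665)) (.leaf (nat_lit
    14404408545061830713))) (.leaf (nat_lit 0)))) (.node (.node (.node (.leaf (nat_lit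
    9900810789295778062204951)) (.leaf (nat_lit 0))) (.node (.leaf (nat_lit
    213707923045192619454293520875564)) (.leaf (nat_lit 3551976608628738)))) (.node (.node (.leaf
    (nat_lit 0)) (.leaf (nat_lit 2822636594077564930))) (.leaf (nat_lit
    5315764467606334932541993110408323722675683373)))))) (.node (.node (.node (.node (.node (.leaf
    (nat_lit 540511253265842187)) (.leaf (nat_lit 35322286279073690393313303))) (.node (.leaf
    (nat_lit 0)) (.leaf (nat_lit 2178935693639682)))) (.node (.node (.leaf (nat_lit 0)) (.leaf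
    (nat_lit 7301099165444110114670317510766542543148926369846))) (.leaf (nat_lit
    113473956144190964496343629884)))) (.node (.node (.node (.leaf (nat_lit
    16720201213794890452191019027)) (.leaf (nat_lit 0))) (.node (.leaf (nat_lit
    210834203162102104310764527878191)) (.leaf (nat_lit 4835957081767938)))) (.node (.node (.leaf
    (nat_lit 0)) (.leaf (nat_lit 12352075091436306434))) (.leaf (nat_lit 0))))) (.node (.node
    (.node (.node (.leaf (nat_lit 17117153026299534041629690626053)) (.leaf (nat_lit 0))) (.node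
    (.leaf (nat_lit 5183514425294850)) (.leaf (nat_lit 2460676958322690)))) (.node (.node (.leaf
    (nat_lit 4146312220118286338)) (.leaf (nat_lit 24763751203520839682))) (.leaf (nat_lit 0))))
    (.node (.node (.node (.leaf (nat_lit 1953699018702852)) (.leaf (nat_lit 10024114366578690)))
    (.node (.leaf (nat_lit 55556103840685222856556560)) (.leaf (nat_lit 5663348171603970)))) (.node
    (.node (.leaf (nat_lit 0)) (.leaf (nat_lit 4307444176125954))) (.leaf (nat_lit
    8369349366775810))))))) (.node (.node (.node (.node (.node (.node (.leaf (nat_lit 0)) (.leaf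
    (nat_lit 0))) (.node (.leaf (nat_lit 0)) (.leaf (nat_lit 15703379029589688322)))) (.node (.node
    (.leaf (nat_lit 1109480247001110)) (.leaf (nat_lit 10006728338964482))) (.leaf (nat_lit
    5826385130160132)))) (.node (.node (.node (.leaf (nat_lit 0)) (.leaf (nat_lit
    163154237853176073638476382222))) (.node (.leaf (nat_lit 0)) (.leaf (nat_lit
    7351528016969730)))) (.node (.node (.leaf (nat_lit 0)) (.leaf (nat_lit 14261558061645889538)))
    (.leaf (nat_lit 31540665174598843361460242))))) (.node (.node (.node (.node (.leaf (nat_lit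
    686443148214276)) (.leaf (nat_lit 0))) (.node (.leaf (nat_lit 5192241798840330)) (.leaf
    (nat_lit 6383700086489090)))) (.node (.node (.leaf (nat_lit 3623806951521189890)) (.leaf
    (nat_lit 8532732984896454658))) (.leaf (nat_lit 11063500751342075915)))) (.node (.node (.node
    (.leaf (nat_lit 906895229583370)) (.leaf (nat_lit 190863107102130598893016449045))) (.node
    (.leaf (nat_lit 12760503318527279106)) (.leaf (nat_lit 3622431252152322)))) (.node (.node
    (.leaf (nat_lit 66240072957190362944447578115)) (.leaf (nat_lit 3561927751369949186))) (.leaf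
    (nat_lit 5149902011236354)))))) (.node (.node (.node (.node (.node (.leaf (nat_lit 0)) (.leaf
    (nat_lit 9381243661713418))) (.node (.leaf (nat_lit 4910629383176202)) (.leaf (nat_lit
    112165234524279189167996930)))) (.node (.node (.leaf (nat_lit 2640137871818756)) (.leaf
    (nat_lit 164701905417292149236743667718))) (.leaf (nat_lit 22916662799725589382365207))))
    (.node (.node (.node (.leaf (nat_lit 0)) (.leaf (nat_lit 7824884952596484))) (.node (.leaf
    (nat_lit 93348422740532301294484193328)) (.leaf (nat_lit 14819698755633154)))) (.node (.node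
    (.leaf (nat_lit 0)) (.leaf (nat_lit 18513097259688853506))) (.leaf (nat_lit 0))))) (.node
    (.node (.node (.node (.leaf (nat_lit 607415749967874)) (.leaf (nat_lit 0))) (.node (.leaf
    (nat_lit 43531818449123069359620104)) (.leaf (nat_lit 5838436808392706)))) (.node (.node (.leaf
    (nat_lit 24190401863330454791585808)) (.leaf (nat_lit 10802626447827730434))) (.leaf (nat_lit
    1031851662525148588858515650192752574526)))) (.node (.node (.node (.leaf (nat_lit
    18215646957495773800235039)) (.leaf (nat_lit 298043882329458956976000921436213))) (.leaf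
    (nat_lit 3917495505387522))) (.node (.node (.leaf (nat_lit 0)) (.leaf (nat_lit
    55732184852581526536194))) (.leaf (nat_lit 75551024015580495881915727904)))))))) (.node (.node
    (.node (.node (.node (.node (.node (.leaf (nat_lit 0)) (.leaf (nat_lit
    136239479839280760084956053523))) (.node (.leaf (nat_lit 0)) (.leaf (nat_lit
    4948721323439489026)))) (.node (.node (.leaf (nat_lit 0)) (.leaf (nat_lit 0))) (.leaf (nat_lit
    2196893070783735339931734059953975199089229878)))) (.node (.node (.node (.leaf (nat_lit 0))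
    (.leaf (nat_lit 0))) (.node (.leaf (nat_lit 5685063526252548)) (.leaf (nat_lit
    61417079025775990276098)))) (.node (.node (.leaf (nat_lit 0)) (.leaf (nat_lit
    7848371710540840962))) (.leaf (nat_lit 67581286087972546400288784))))) (.node (.node (.node
    (.node (.leaf (nat_lit 0)) (.leaf (nat_lit 0))) (.node (.leaf (nat_lit 0)) (.leaf (nat_lit
    9022905950273538)))) (.node (.node (.leaf (nat_lit 5569343887258091522)) (.leaf (nat_lit
    15990668374111879170))) (.leaf (nat_lit 63564169488411944492007440)))) (.node (.node (.node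
    (.leaf (nat_lit 1781751744694607050673067647296311493578009083929)) (.leaf (nat_lit 0))) (.node
    (.leaf (nat_lit 6142726651379714)) (.leaf (nat_lit 5698249075851266)))) (.node (.node (.leaf
    (nat_lit 65323713233751015797645770755)) (.leaf (nat_lit 9884332839028326402))) (.leaf (nat_lit
    13483288358155386882)))))) (.node (.node (.node (.node (.node (.leaf (nat_lit 0)) (.leaf
    (nat_lit 0))) (.node (.leaf (nat_lit 0)) (.leaf (nat_lit 14910883930558365698)))) (.node (.node
    (.leaf (nat_lit 22596184127212532660670169115)) (.leaf (nat_lit 11361429743599618))) (.leaf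
    (nat_lit 7075533418528778)))) (.node (.node (.node (.leaf (nat_lit 2847762208593739787)) (.leaf
    (nat_lit 0))) (.node (.leaf (nat_lit 9499580245494398978)) (.leaf (nat_lit 4976789059403778))))
    (.node (.node (.leaf (nat_lit 3713776616603652)) (.leaf (nat_lit 9253643159630708738))) (.leaf
    (nat_lit 0))))) (.node (.node (.node (.node (.leaf (nat_lit 0)) (.leaf (nat_lit 0))) (.node
    (.leaf (nat_lit 45659575960492412550578192)) (.leaf (nat_lit 13341461206663170)))) (.node
    (.node (.leaf (nat_lit 2226927658205186)) (.leaf (nat_lit 8550809613187088386))) (.leaf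
    (nat_lit 125516297079092398600403395477509)))) (.node (.node (.node (.leaf (nat_lit
    33130842451191127080675180558)) (.leaf (nat_lit
    4750895548617250965284326424412274188282953804))) (.leaf (nat_lit 5878981299666946))) (.node
    (.node (.leaf (nat_lit 0)) (.leaf (nat_lit 8677579520003473410))) (.leaf (nat_lit
    3613444953599667886589033574728363527268663333))))))) (.node (.node (.node (.node (.node (.node
    (.leaf (nat_lit 0)) (.leaf (nat_lit 0))) (.node (.leaf (nat_lit 0)) (.leaf (nat_lit
    13658150620233730)))) (.node (.node (.leaf (nat_lit 0)) (.leaf (nat_lit 9250298698792962)))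
    (.leaf (nat_lit 4389507063778357257654340059819490953994633270)))) (.node (.node (.node (.leaf
    (nat_lit 1320071083458564)) (.leaf (nat_lit 0))) (.node (.leaf (nat_lit
    141364710415551797434535505231916)) (.leaf (nat_lit 4220179030605826)))) (.node (.node (.leaf
    (nat_lit 0)) (.leaf (nat_lit 2516179867075280898))) (.leaf (nat_lit
    3369082049029101151243223589171109057641775116))))) (.node (.node (.node (.node (.leaf (nat_lit
    0)) (.leaf (nat_lit 172312239349453564802326986784))) (.node (.leaf (nat_lit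
    162293179498381759445816152883238)) (.leaf (nat_lit 3938411996119042)))) (.node (.node (.leaf
    (nat_lit 3912081333907816450)) (.leaf (nat_lit 18332583559514226690))) (.leaf (nat_lit 0))))
    (.node (.node (.node (.leaf (nat_lit 28797527542879274533980078083)) (.leaf (nat_lit
    1574574139657563843668988011892582187073))) (.node (.leaf (nat_lit 8148887703203807243)) (.leaf
    (nat_lit 7545651948814338)))) (.node (.node (.leaf (nat_lit 0)) (.leaf (nat_lit
    13901631865141526530))) (.leaf (nat_lit 5343621328829507179173031639532563821941686284))))))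
    (.node (.node (.node (.node (.node (.leaf (nat_lit 0)) (.leaf (nat_lit 0))) (.node (.leaf
    (nat_lit 137578013377574277366168718606374)) (.leaf (nat_lit 18261649945532760066)))) (.node
    (.node (.leaf (nat_lit 4613411396984700937)) (.leaf (nat_lit 0))) (.leaf (nat_lit 0)))) (.node
    (.node (.node (.leaf (nat_lit 0)) (.leaf (nat_lit 89205445168846842097280876616))) (.node
    (.leaf (nat_lit 92897885550398547144783298566)) (.leaf (nat_lit 18696020234653073410)))) (.node
    (.node (.leaf (nat_lit 3854582824435722)) (.leaf (nat_lit 4065616828372811778))) (.leaf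
    (nat_lit 0))))) (.node (.node (.node (.node (.leaf (nat_lit 7484583886954858048454664)) (.leaf
    (nat_lit 19317958024831893515))) (.node (.leaf (nat_lit 10633863456052412425)) (.leaf (nat_lit
    5275512624775170)))) (.node (.node (.leaf (nat_lit 4705075521023836162)) (.leaf (nat_lit
    9793846562525478914))) (.leaf (nat_lit 0)))) (.node (.node (.node (.leaf (nat_lit
    2164908330450948)) (.leaf (nat_lit 175530021664096462494377574441))) (.leaf (nat_lit
    4498072004591618))) (.node (.node (.leaf (nat_lit 0)) (.leaf (nat_lit 4372233216489357314)))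
    (.leaf (nat_lit 8923606306390026))))))))) (.node (.node (.node (.node (.node (.node (.node
    (.node (.leaf (nat_lit 0)) (.leaf (nat_lit 0))) (.node (.leaf (nat_lit 0)) (.leaf (nat_lit
    5056806408826322946)))) (.node (.node (.leaf (nat_lit 0)) (.leaf (nat_lit
    128472716025289571205479006227))) (.leaf (nat_lit 6758710860972054)))) (.node (.node (.node
    (.leaf (nat_lit 0)) (.leaf (nat_lit 0))) (.node (.leaf (nat_lit 0)) (.leaf (nat_lit
    7490034334108418050)))) (.node (.node (.leaf (nat_lit 3379370462937098)) (.leaf (nat_lit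
    51741075558353726603266))) (.leaf (nat_lit 4897399430905863483876784029518388752288514093)))))
    (.node (.node (.node (.node (.leaf (nat_lit 0)) (.leaf (nat_lit 0))) (.node (.leaf (nat_lit 0))
    (.leaf (nat_lit 27683913443894820866)))) (.node (.node (.leaf (nat_lit
    73219823181481085710203194114082)) (.leaf (nat_lit
    6738248538584995121074025061519192424721350734))) (.leaf (nat_lit
    67500620851260980935591854138)))) (.node (.node (.node (.leaf (nat_lit
    803227197346091466006475173208944781527023640)) (.leaf (nat_lit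
    188877906951453713753922994197))) (.node (.leaf (nat_lit 71080321257821871868519776284)) (.leaf
    (nat_lit 3701527369875458)))) (.node (.node (.leaf (nat_lit 3960187480309770)) (.leaf (nat_lit
    12496403198220894210))) (.leaf (nat_lit 305891905184166401945298515984428)))))) (.node (.node
    (.node (.node (.node (.leaf (nat_lit 648720815394848777)) (.leaf (nat_lit 0))) (.node (.leaf
    (nat_lit 4805024727302154)) (.leaf (nat_lit 1508129146960805890)))) (.node (.node (.leaf
    (nat_lit 3748139631900819467)) (.leaf (nat_lit 11540777944138055682))) (.leaf (nat_lit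
    10450852683366727689)))) (.node (.node (.node (.leaf (nat_lit 1425675739332630)) (.leaf
    (nat_lit 376932826443014594919613350739973))) (.node (.leaf (nat_lit
    50346046663552804564828188)) (.leaf (nat_lit 8767845022433282)))) (.node (.node (.leaf (nat_lit
    0)) (.leaf (nat_lit 8695153546926161922))) (.leaf (nat_lit 68261823838925418326720535)))))
    (.node (.node (.node (.node (.leaf (nat_lit 11452910421555534190407450638)) (.leaf (nat_lit
    0))) (.node (.leaf (nat_lit 0)) (.leaf (nat_lit 6638829733806082)))) (.node (.node (.leaf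
    (nat_lit 2279678446534658)) (.leaf (nat_lit 15900690583082172418))) (.leaf (nat_lit 0))))
    (.node (.node (.node (.leaf (nat_lit 6348153357447903968559133)) (.leaf (nat_lit
    19826865074782535682))) (.node (.leaf (nat_lit 320677910307581842410789227203133493)) (.leaf
    (nat_lit 7563364393943042)))) (.node (.node (.leaf (nat_lit 0)) (.leaf (nat_lit
    1111497404030582786))) (.leaf (nat_lit 8474902483042306))))))) (.node (.node (.node (.node
    (.node (.node (.leaf (nat_lit 2013088938301139987651231751)) (.leaf (nat_lit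
    289476869931662605584154029916213))) (.node (.leaf (nat_lit 0)) (.leaf (nat_lit
    8605697100501680130)))) (.node (.node (.leaf (nat_lit 31117753327575887458687385630)) (.leaf
    (nat_lit 10534511100166146))) (.leaf (nat_lit 72764741681733799893795209275)))) (.node (.node
    (.node (.leaf (nat_lit 0)) (.leaf (nat_lit 155905685851296052285689692179))) (.node (.leaf
    (nat_lit 0)) (.leaf (nat_lit 6779807740329986)))) (.node (.node (.leaf (nat_lit 0)) (.leaf
    (nat_lit 16837632665002901506))) (.leaf (nat_lit 0))))) (.node (.node (.node (.node (.leaf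
    (nat_lit 0)) (.leaf (nat_lit 0))) (.node (.leaf (nat_lit 0)) (.leaf (nat_lit
    3744889359695874)))) (.node (.node (.leaf (nat_lit 2737015154147330)) (.leaf (nat_lit
    15936641374905106434))) (.leaf (nat_lit 14813310408261304331)))) (.node (.node (.node (.leaf
    (nat_lit 26620553376832025547478794267)) (.leaf (nat_lit 0))) (.node (.leaf (nat_lit
    4884928298876930)) (.leaf (nat_lit 27108480464380428290)))) (.node (.node (.leaf (nat_lit 0))
    (.leaf (nat_lit 4799991025631234))) (.leaf (nat_lit 7085068245925890)))))) (.node (.node (.node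
    (.node (.node (.leaf (nat_lit 0)) (.leaf (nat_lit 0))) (.node (.leaf (nat_lit 0)) (.leaf
    (nat_lit 57648610277300675805186)))) (.node (.node (.leaf (nat_lit 0)) (.leaf (nat_lit
    206063033049628329517362053134))) (.leaf (nat_lit 0)))) (.node (.node (.node (.leaf (nat_lit
    0)) (.leaf (nat_lit 1602487073731636867328762527526760808519))) (.node (.leaf (nat_lit
    38855679165305635836592164)) (.leaf (nat_lit 3903743020105730)))) (.node (.node (.leaf (nat_lit
    0)) (.leaf (nat_lit 6924347677205785214978))) (.leaf (nat_lit 0))))) (.node (.node (.node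
    (.node (.leaf (nat_lit 8827957999907395211723407367)) (.leaf (nat_lit 19209871616595132425)))
    (.node (.leaf (nat_lit 3497210593037355804157007669021620248441978923)) (.leaf (nat_lit
    6999529677258754)))) (.node (.node (.leaf (nat_lit 2314974487773186)) (.leaf (nat_lit
    13865074739900514306))) (.leaf (nat_lit 0)))) (.node (.node (.node (.leaf (nat_lit 0)) (.leaf
    (nat_lit 10499189289123842))) (.leaf (nat_lit 6125314853961730))) (.node (.node (.leaf (nat_lit
    0)) (.leaf (nat_lit 2624835242514644994))) (.leaf (nat_lit 0)))))))) (.node (.node (.node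
    (.node (.node (.node (.node (.leaf (nat_lit 0)) (.leaf (nat_lit 0))) (.node (.leaf (nat_lit 0))
    (.leaf (nat_lit 13499460168581122)))) (.node (.node (.leaf (nat_lit 2340916090241034)) (.leaf
    (nat_lit 126949329702645596105809985566))) (.leaf (nat_lit 14036808599209181193)))) (.node
    (.node (.node (.leaf (nat_lit 1214466427584516)) (.leaf (nat_lit
    135618387291653416057192185869))) (.node (.leaf (nat_lit 0)) (.leaf (nat_lit
    4841707656299347970)))) (.node (.node (.leaf (nat_lit 3467365752897540)) (.leaf (nat_lit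
    4148899753361410))) (.leaf (nat_lit 0))))) (.node (.node (.node (.node (.leaf (nat_lit 0))
    (.leaf (nat_lit 0))) (.node (.leaf (nat_lit 0)) (.leaf (nat_lit 59272087046582534668290))))
    (.node (.node (.leaf (nat_lit 1707863680614402)) (.leaf (nat_lit 16098754799528509442))) (.leaf
    (nat_lit 7356871106478932029)))) (.node (.node (.node (.leaf (nat_lit 1768869396086794)) (.leaf
    (nat_lit 389649135058213365354927701295109))) (.node (.leaf (nat_lit 8094774121751314434))
    (.leaf (nat_lit 3499260180037634)))) (.node (.node (.leaf (nat_lit 4012998398181380)) (.leaf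
    (nat_lit 7938812756743094274))) (.leaf (nat_lit
    1318215881453495960845369125616949870067777)))))) (.node (.node (.node (.node (.node (.leaf
    (nat_lit 756807232221544459)) (.leaf (nat_lit 164372069880936075164299690014))) (.node (.leaf
    (nat_lit 0)) (.leaf (nat_lit 1922514502281265154)))) (.node (.node (.leaf (nat_lit
    38072401376158719441415569411)) (.leaf (nat_lit 407014977415197319886292646297638))) (.leaf
    (nat_lit 0)))) (.node (.node (.node (.leaf (nat_lit 20739123063039069680916889614)) (.leaf
    (nat_lit 10507676144500740))) (.node (.leaf (nat_lit 9553658642574802955)) (.leaf (nat_lit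
    4994449964924930)))) (.node (.node (.leaf (nat_lit 0)) (.leaf (nat_lit
    8879560324793353109506))) (.leaf (nat_lit 31540186027900087302422551))))) (.node (.node (.node
    (.node (.leaf (nat_lit 7937562097872247068098576)) (.leaf (nat_lit 0))) (.node (.leaf (nat_lit
    91683897528229172669566262116394)) (.leaf (nat_lit 13542317168900898818)))) (.node (.node
    (.leaf (nat_lit 5857820858957103106)) (.leaf (nat_lit 2732160088625315842))) (.leaf (nat_lit
    64691675332366459607733108742)))) (.node (.node (.node (.leaf (nat_lit 854238930534422)) (.leaf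
    (nat_lit 90091960865230269461102623))) (.leaf (nat_lit
    2583253216617139303821656426168148430485651510))) (.node (.node (.leaf (nat_lit 0)) (.leaf
    (nat_lit 13270701620461570))) (.leaf (nat_lit 148064455511566964412166084952111))))))) (.node
    (.node (.node (.node (.node (.node (.leaf (nat_lit 0)) (.leaf (nat_lit 0))) (.node (.leaf
    (nat_lit 0)) (.leaf (nat_lit 26945287491137241090)))) (.node (.node (.leaf (nat_lit 0)) (.leaf
    (nat_lit 9566975227461634))) (.leaf (nat_lit 44298095312319873020133392)))) (.node (.node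
    (.node (.leaf (nat_lit 1311292170305546)) (.leaf (nat_lit 0))) (.node (.leaf (nat_lit
    3731615974090703383485176895085869911945969709)) (.leaf (nat_lit 9145999712976898)))) (.node
    (.node (.leaf (nat_lit 0)) (.leaf (nat_lit 18621078492766470146))) (.leaf (nat_lit
    8078786239266826))))) (.node (.node (.node (.node (.leaf (nat_lit 0)) (.leaf (nat_lit
    18272718170743832585))) (.node (.leaf (nat_lit 96361742814200734135515244593157)) (.leaf
    (nat_lit 1633844214235138)))) (.node (.node (.leaf (nat_lit 3966142104442437634)) (.leaf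
    (nat_lit 8977843153403906))) (.leaf (nat_lit 0)))) (.node (.node (.node (.leaf (nat_lit 0))
    (.leaf (nat_lit 192434437781313815789915471911))) (.node (.leaf (nat_lit
    88390767668788502184700805168)) (.leaf (nat_lit 5768858338197506)))) (.node (.node (.leaf
    (nat_lit 0)) (.leaf (nat_lit 3850030159101954))) (.leaf (nat_lit
    4851468440987530888435485851936961585207771169)))))) (.node (.node (.node (.node (.node (.leaf
    (nat_lit 0)) (.leaf (nat_lit 0))) (.node (.leaf (nat_lit 71008556639536561418570639540229))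
    (.leaf (nat_lit 13781373231955970)))) (.node (.node (.leaf (nat_lit 4649440211183534091))
    (.leaf (nat_lit 329702488199719373824936022310950))) (.leaf (nat_lit
    62665447897604358022692910)))) (.node (.node (.node (.leaf (nat_lit 1636885051080708)) (.leaf
    (nat_lit 0))) (.node (.leaf (nat_lit 4427445562376194)) (.leaf (nat_lit
    29936487554284191746)))) (.node (.node (.leaf (nat_lit 0)) (.leaf (nat_lit
    6533582032533127170))) (.leaf (nat_lit 0))))) (.node (.node (.node (.node (.leaf (nat_lit
    19350221364516932825416859667)) (.leaf (nat_lit 0))) (.node (.leaf (nat_lit 5561866684334090))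
    (.leaf (nat_lit 4571842362867714)))) (.node (.node (.leaf (nat_lit 2833969745887234)) (.leaf
    (nat_lit 1741417854785486850))) (.leaf (nat_lit 0)))) (.node (.node (.node (.leaf (nat_lit 0))
    (.leaf (nat_lit 10551991617060866))) (.leaf (nat_lit 4761971975127042))) (.node (.node (.leaf
    (nat_lit 4453009207721988)) (.leaf (nat_lit 2570783311022718978))) (.leaf (nat_lit 0)))))))))))

/-- Certificate data. -/
def p3_rel : Trie :=
    (.node (.node (.node (.node (.node (.node (.node (.leaf (nat_lit 0)) (.leaf (nat_lit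
    310722344131801526491809031))) (.leaf (nat_lit 216455382422323462))) (.node (.leaf (nat_lit
    1103857058561)) (.leaf (nat_lit 935732325413691528797356546)))) (.node (.node (.node (.leaf
    (nat_lit 263172)) (.leaf (nat_lit 9481987024435699581442))) (.leaf (nat_lit
    72345678986151427))) (.node (.leaf (nat_lit 1128120438817025)) (.leaf (nat_lit
    1692178493604354))))) (.node (.node (.node (.node (.leaf (nat_lit 282578884167425)) (.leaf
    (nat_lit 310717584512104385401192965))) (.leaf (nat_lit 433191093065154817))) (.node (.leaf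
    (nat_lit 328965)) (.leaf (nat_lit 2170026587095238283507140100)))) (.node (.node (.node (.leaf
    (nat_lit 286981158600964)) (.leaf (nat_lit 310722362578545617398072065))) (.leaf (nat_lit
    3302846694146))) (.node (.leaf (nat_lit 1409595398489090)) (.leaf (nat_lit
    9481771977553492378882)))))) (.node (.node (.node (.node (.node (.leaf (nat_lit 394758)) (.leaf
    (nat_lit 1127020926993409))) (.leaf (nat_lit 1112430215683))) (.node (.leaf (nat_lit
    310717584512385860377903620)) (.leaf (nat_lit 2168822476092278924805998085)))) (.node (.node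
    (.node (.leaf (nat_lit 1555897011903960808173928710)) (.leaf (nat_lit
    621416279773041595527857415))) (.leaf (nat_lit 218145314614739458))) (.node (.leaf (nat_lit
    2207646941443)) (.leaf (nat_lit 565157600559879))))) (.node (.node (.node (.node (.leaf
    (nat_lit 1103823569411)) (.leaf (nat_lit 282591702090245))) (.leaf (nat_lit 282600308932865)))
    (.node (.leaf (nat_lit 621411501634544994336440580)) (.leaf (nat_lit
    2167608827906180330786326021)))) (.node (.node (.leaf (nat_lit 2211925000451)) (.leaf (nat_lit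
    288085048885505))) (.node (.leaf (nat_lit 1409582563918849)) (.leaf (nat_lit
    1246416705641221049444073990))))))) (.node (.node (.node (.node (.node (.node (.leaf (nat_lit
    1972532483851779)) (.leaf (nat_lit 1408478757389570))) (.leaf (nat_lit 569560025661954)))
    (.node (.leaf (nat_lit 568456185446660)) (.leaf (nat_lit 282578800476935)))) (.node (.node
    (.node (.leaf (nat_lit 67306755)) (.leaf (nat_lit 23648870582854189383937))) (.leaf (nat_lit
    1555892271090733860541039366))) (.node (.leaf (nat_lit 1127016615444994)) (.leaf (nat_lit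
    1692178476761345))))) (.node (.node (.node (.node (.leaf (nat_lit 1971428660413955)) (.leaf
    (nat_lit 4796298139510193062145))) (.leaf (nat_lit 852130135147014))) (.node (.leaf (nat_lit
    2207663588098)) (.leaf (nat_lit 2168822402232965785746212356)))) (.node (.node (.leaf (nat_lit
    9518592282207017107970)) (.leaf (nat_lit 73749746745213697))) (.node (.leaf (nat_lit
    2211925131778)) (.leaf (nat_lit 621397371788877996222710791)))))) (.node (.node (.node (.node
    (.node (.leaf (nat_lit 144967318211069698)) (.leaf (nat_lit 460551))) (.leaf (nat_lit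
    310698769050167512542742275))) (.node (.leaf (nat_lit 285877402206724)) (.leaf (nat_lit
    144681466662617863)))) (.node (.node (.node (.leaf (nat_lit 568451823567365)) (.leaf (nat_lit
    4740885570419039535620))) (.leaf (nat_lit 1862987763112018591491424771))) (.node (.leaf
    (nat_lit 1112430280961)) (.leaf (nat_lit 50594565))))) (.node (.node (.node (.node (.leaf
    (nat_lit 84083715)) (.leaf (nat_lit 9481771136427097129220))) (.leaf (nat_lit 3307158504193)))
    (.node (.leaf (nat_lit 621411501634263519359729925)) (.leaf (nat_lit 50660100)))) (.node (.node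
    (.leaf (nat_lit 504968320244646403)) (.leaf (nat_lit 565157667473154))) (.node (.leaf (nat_lit
    626242593369973268043597570)) (.leaf (nat_lit 23630351498611970408962))))))))

/-- Certificate data. -/
def p3_rc : Trie :=
    (.node (.node (.node (.node (.node (.node (.node (.leaf (nat_lit 24)) (.leaf (nat_lit 655382)))
    (.leaf (nat_lit 393236))) (.node (.leaf (nat_lit 262149)) (.leaf (nat_lit 1179670)))) (.node
    (.node (.node (.leaf (nat_lit 6)) (.leaf (nat_lit 1048589))) (.leaf (nat_lit 262164))) (.node
    (.leaf (nat_lit 131087)) (.leaf (nat_lit 262163))))) (.node (.node (.node (.node (.leaf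
    (nat_lit 524306)) (.leaf (nat_lit 1179658))) (.leaf (nat_lit 20))) (.node (.leaf (nat_lit 7))
    (.leaf (nat_lit 655383)))) (.node (.node (.node (.leaf (nat_lit 131086)) (.leaf (nat_lit
    262167))) (.leaf (nat_lit 524293))) (.node (.leaf (nat_lit 786447)) (.leaf (nat_lit
    1179661)))))) (.node (.node (.node (.node (.node (.leaf (nat_lit 16)) (.leaf (nat_lit 262158)))
    (.leaf (nat_lit 262148))) (.node (.leaf (nat_lit 262155)) (.leaf (nat_lit 1310743)))) (.node
    (.node (.node (.leaf (nat_lit 1441815)) (.leaf (nat_lit 1179671))) (.leaf (nat_lit 262165)))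
    (.node (.leaf (nat_lit 4)) (.leaf (nat_lit 786451))))) (.node (.node (.node (.node (.leaf
    (nat_lit 393221)) (.leaf (nat_lit 393231))) (.leaf (nat_lit 393234))) (.node (.leaf (nat_lit
    10)) (.leaf (nat_lit 786454)))) (.node (.node (.leaf (nat_lit 655365)) (.leaf (nat_lit
    262162))) (.node (.leaf (nat_lit 14)) (.leaf (nat_lit 786455))))))) (.node (.node (.node (.node
    (.node (.node (.leaf (nat_lit 19)) (.leaf (nat_lit 524303))) (.leaf (nat_lit 393235))) (.node
    (.leaf (nat_lit 15)) (.leaf (nat_lit 655378)))) (.node (.node (.node (.leaf (nat_lit 262152))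
    (.leaf (nat_lit 131085))) (.leaf (nat_lit 917526))) (.node (.leaf (nat_lit 524302)) (.leaf
    (nat_lit 131090))))) (.node (.node (.node (.node (.leaf (nat_lit 786450)) (.leaf (nat_lit
    131084))) (.leaf (nat_lit 131091))) (.node (.leaf (nat_lit 655364)) (.leaf (nat_lit 131094))))
    (.node (.node (.leaf (nat_lit 786444)) (.leaf (nat_lit 131092))) (.node (.leaf (nat_lit
    524292)) (.leaf (nat_lit 22)))))) (.node (.node (.node (.node (.node (.leaf (nat_lit 393237))
    (.leaf (nat_lit 17))) (.leaf (nat_lit 393239))) (.node (.leaf (nat_lit 393230)) (.leaf (nat_lit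
    21)))) (.node (.node (.node (.leaf (nat_lit 655375)) (.leaf (nat_lit 524300))) (.leaf (nat_lit
    1048598))) (.node (.leaf (nat_lit 131077)) (.leaf (nat_lit 393224))))) (.node (.node (.node
    (.node (.leaf (nat_lit 8)) (.leaf (nat_lit 1179660))) (.leaf (nat_lit 131076))) (.node (.leaf
    (nat_lit 1441803)) (.leaf (nat_lit 131080)))) (.node (.node (.leaf (nat_lit 131093)) (.leaf
    (nat_lit 655379))) (.node (.leaf (nat_lit 1048599)) (.leaf (nat_lit 786445))))))))

/-- Certificate data. -/
def p3_lv : Trie :=
    (.node (.node (.node (.node (.node (.node (.leaf (nat_lit 0)) (.leaf (nat_lit 34))) (.node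
    (.leaf (nat_lit 17)) (.leaf (nat_lit 78)))) (.node (.node (.leaf (nat_lit 8)) (.leaf (nat_lit
    50))) (.leaf (nat_lit 25)))) (.node (.node (.node (.leaf (nat_lit 4)) (.leaf (nat_lit 38)))
    (.node (.leaf (nat_lit 21)) (.leaf (nat_lit 91)))) (.node (.node (.leaf (nat_lit 12)) (.leaf
    (nat_lit 65))) (.leaf (nat_lit 29))))) (.node (.node (.node (.node (.leaf (nat_lit 2)) (.leaf
    (nat_lit 36))) (.node (.leaf (nat_lit 19)) (.leaf (nat_lit 82)))) (.node (.node (.leaf (nat_lit
    10)) (.leaf (nat_lit 61))) (.leaf (nat_lit 27)))) (.node (.node (.node (.leaf (nat_lit 6))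
    (.leaf (nat_lit 43))) (.node (.leaf (nat_lit 23)) (.leaf (nat_lit 112)))) (.node (.node (.leaf
    (nat_lit 15)) (.leaf (nat_lit 75))) (.leaf (nat_lit 31)))))) (.node (.node (.node (.node (.node
    (.leaf (nat_lit 1)) (.leaf (nat_lit 35))) (.node (.leaf (nat_lit 18)) (.leaf (nat_lit 80))))
    (.node (.node (.leaf (nat_lit 9)) (.leaf (nat_lit 60))) (.leaf (nat_lit 26)))) (.node (.node
    (.node (.leaf (nat_lit 5)) (.leaf (nat_lit 39))) (.node (.leaf (nat_lit 22)) (.leaf (nat_lit
    110)))) (.node (.node (.leaf (nat_lit 13)) (.leaf (nat_lit 74))) (.leaf (nat_lit 30))))) (.node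
    (.node (.node (.node (.leaf (nat_lit 3)) (.leaf (nat_lit 37))) (.node (.leaf (nat_lit 20))
    (.leaf (nat_lit 86)))) (.node (.node (.leaf (nat_lit 11)) (.leaf (nat_lit 62))) (.leaf (nat_lit
    28)))) (.node (.node (.node (.leaf (nat_lit 7)) (.leaf (nat_lit 46))) (.leaf (nat_lit 24)))
    (.node (.node (.leaf (nat_lit 16)) (.leaf (nat_lit 76))) (.leaf (nat_lit 33)))))))

/-- Certificate data. -/
def p3_tb : Trie :=
    (.node (.node (.node (.node (.node (.node (.node (.node (.leaf (nat_lit 0)) (.leaf (nat_lit
    84234))) (.node (.leaf (nat_lit 24637)) (.leaf (nat_lit 26197)))) (.node (.node (.leaf (nat_lit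
    99727)) (.leaf (nat_lit 106109))) (.leaf (nat_lit 92547)))) (.node (.node (.node (.leaf
    (nat_lit 10317)) (.leaf (nat_lit 22685))) (.node (.leaf (nat_lit 49262)) (.leaf (nat_lit
    73331)))) (.node (.node (.leaf (nat_lit 112312)) (.leaf (nat_lit 6199))) (.leaf (nat_lit
    14372))))) (.node (.node (.node (.node (.leaf (nat_lit 51306)) (.leaf (nat_lit 39039))) (.node
    (.leaf (nat_lit 43205)) (.leaf (nat_lit 111090)))) (.node (.node (.leaf (nat_lit 57584)) (.leaf
    (nat_lit 14377))) (.leaf (nat_lit 96664)))) (.node (.node (.node (.leaf (nat_lit 14437)) (.leaf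
    (nat_lit 37133))) (.node (.leaf (nat_lit 56928)) (.leaf (nat_lit 83578)))) (.node (.node (.leaf
    (nat_lit 2057)) (.leaf (nat_lit 34373))) (.leaf (nat_lit 6195)))))) (.node (.node (.node (.node
    (.node (.leaf (nat_lit 2067)) (.leaf (nat_lit 92544))) (.node (.leaf (nat_lit 20546)) (.leaf
    (nat_lit 108190)))) (.node (.node (.leaf (nat_lit 24749)) (.leaf (nat_lit 102006))) (.leaf
    (nat_lit 84354)))) (.node (.node (.node (.leaf (nat_lit 12375)) (.leaf (nat_lit 110133)))
    (.node (.leaf (nat_lit 65780)) (.leaf (nat_lit 87761)))) (.node (.node (.leaf (nat_lit 104112))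
    (.leaf (nat_lit 40489))) (.leaf (nat_lit 2079))))) (.node (.node (.node (.node (.leaf (nat_lit
    71840)) (.leaf (nat_lit 44716))) (.node (.leaf (nat_lit 35012)) (.leaf (nat_lit 65195))))
    (.node (.node (.leaf (nat_lit 63786)) (.leaf (nat_lit 22585))) (.leaf (nat_lit 111093))))
    (.node (.node (.node (.leaf (nat_lit 18569)) (.leaf (nat_lit 45445))) (.leaf (nat_lit 78042)))
    (.node (.node (.leaf (nat_lit 10269)) (.leaf (nat_lit 96650))) (.leaf (nat_lit 71843)))))))
    (.node (.node (.node (.node (.node (.node (.leaf (nat_lit 8213)) (.leaf (nat_lit 51329)))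
    (.node (.leaf (nat_lit 28791)) (.leaf (nat_lit 61583)))) (.node (.node (.leaf (nat_lit 80085))
    (.leaf (nat_lit 59833))) (.leaf (nat_lit 82196)))) (.node (.node (.node (.leaf (nat_lit 45438))
    (.leaf (nat_lit 35174))) (.node (.leaf (nat_lit 69217)) (.leaf (nat_lit 52946)))) (.node (.node
    (.leaf (nat_lit 79318)) (.leaf (nat_lit 78010))) (.leaf (nat_lit 24634))))) (.node (.node
    (.node (.node (.leaf (nat_lit 63066)) (.leaf (nat_lit 28838))) (.node (.leaf (nat_lit 32901))
    (.leaf (nat_lit 56918)))) (.node (.node (.leaf (nat_lit 67297)) (.leaf (nat_lit 34894))) (.leaf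
    (nat_lit 108188)))) (.node (.node (.node (.leaf (nat_lit 16505)) (.leaf (nat_lit 41251)))
    (.node (.leaf (nat_lit 63658)) (.leaf (nat_lit 91794)))) (.node (.node (.leaf (nat_lit 8216))
    (.leaf (nat_lit 45149))) (.leaf (nat_lit 26689)))))) (.node (.node (.node (.node (.node (.leaf
    (nat_lit 38996)) (.leaf (nat_lit 80083))) (.node (.leaf (nat_lit 41091)) (.leaf (nat_lit
    20633)))) (.node (.node (.leaf (nat_lit 95964)) (.leaf (nat_lit 4109))) (.leaf (nat_lit
    100761)))) (.node (.node (.node (.leaf (nat_lit 37245)) (.leaf (nat_lit 47342))) (.node (.leaf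
    (nat_lit 71851)) (.leaf (nat_lit 93909)))) (.node (.node (.leaf (nat_lit 85720)) (.leaf
    (nat_lit 36947))) (.leaf (nat_lit 4139))))) (.node (.node (.node (.node (.leaf (nat_lit 49257))
    (.leaf (nat_lit 104086))) (.node (.leaf (nat_lit 53371)) (.leaf (nat_lit 54987)))) (.node
    (.node (.leaf (nat_lit 110309)) (.leaf (nat_lit 59530))) (.leaf (nat_lit 4)))) (.node (.node
    (.node (.leaf (nat_lit 83559)) (.leaf (nat_lit 108214))) (.leaf (nat_lit 90407))) (.node (.node
    (.leaf (nat_lit 14375)) (.leaf (nat_lit 100758))) (.leaf (nat_lit 82156)))))))) (.node (.node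
    (.node (.node (.node (.node (.node (.leaf (nat_lit 6158)) (.leaf (nat_lit 88336))) (.node
    (.leaf (nat_lit 26691)) (.leaf (nat_lit 104876)))) (.node (.node (.leaf (nat_lit 28254)) (.leaf
    (nat_lit 67226))) (.leaf (nat_lit 94601)))) (.node (.node (.node (.leaf (nat_lit 33131)) (.leaf
    (nat_lit 57508))) (.node (.leaf (nat_lit 47226)) (.leaf (nat_lit 71312)))) (.node (.node (.leaf
    (nat_lit 60894)) (.leaf (nat_lit 75952))) (.leaf (nat_lit 18480))))) (.node (.node (.node
    (.node (.leaf (nat_lit 55430)) (.leaf (nat_lit 73903))) (.node (.leaf (nat_lit 45425)) (.leaf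
    (nat_lit 28240)))) (.node (.node (.leaf (nat_lit 77539)) (.leaf (nat_lit 16499))) (.leaf
    (nat_lit 98720)))) (.node (.node (.node (.leaf (nat_lit 28780)) (.leaf (nat_lit 53522))) (.node
    (.leaf (nat_lit 57512)) (.leaf (nat_lit 81582)))) (.node (.node (.leaf (nat_lit 4119)) (.leaf
    (nat_lit 42637))) (.leaf (nat_lit 63637)))))) (.node (.node (.node (.node (.node (.leaf
    (nat_lit 30794)) (.leaf (nat_lit 32864))) (.node (.leaf (nat_lit 22646)) (.leaf (nat_lit
    67739)))) (.node (.node (.leaf (nat_lit 97792)) (.leaf (nat_lit 2054))) (.leaf (nat_lit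
    86408)))) (.node (.node (.node (.leaf (nat_lit 41294)) (.leaf (nat_lit 30929))) (.node (.leaf
    (nat_lit 75347)) (.leaf (nat_lit 95941)))) (.node (.node (.leaf (nat_lit 102041)) (.leaf
    (nat_lit 32291))) (.leaf (nat_lit 16429))))) (.node (.node (.node (.node (.leaf (nat_lit
    69837)) (.leaf (nat_lit 69791))) (.node (.leaf (nat_lit 37232)) (.leaf (nat_lit 58980))))
    (.node (.node (.leaf (nat_lit 108251)) (.leaf (nat_lit 28788))) (.leaf (nat_lit 109044))))
    (.node (.node (.node (.leaf (nat_lit 93926)) (.leaf (nat_lit 79522))) (.leaf (nat_lit 75995)))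
    (.node (.node (.leaf (nat_lit 12323)) (.leaf (nat_lit 98704))) (.leaf (nat_lit 49255)))))))
    (.node (.node (.node (.node (.node (.node (.leaf (nat_lit 4112)) (.leaf (nat_lit 69226)))
    (.node (.leaf (nat_lit 18492)) (.leaf (nat_lit 18573)))) (.node (.node (.leaf (nat_lit 88345))
    (.leaf (nat_lit 97957))) (.leaf (nat_lit 80166)))) (.node (.node (.node (.leaf (nat_lit 35180))
    (.leaf (nat_lit 112259))) (.node (.leaf (nat_lit 69801)) (.leaf (nat_lit 50882)))) (.node
    (.node (.leaf (nat_lit 87774)) (.leaf (nat_lit 8263))) (.leaf (nat_lit 12321))))) (.node (.node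
    (.node (.node (.leaf (nat_lit 53373)) (.leaf (nat_lit 100021))) (.node (.leaf (nat_lit 30850))
    (.leaf (nat_lit 75400)))) (.node (.node (.leaf (nat_lit 69219)) (.leaf (nat_lit 43096))) (.leaf
    (nat_lit 106141)))) (.node (.node (.node (.leaf (nat_lit 90409)) (.leaf (nat_lit 94599)))
    (.node (.leaf (nat_lit 63058)) (.leaf (nat_lit 89716)))) (.node (.node (.leaf (nat_lit 6169))
    (.leaf (nat_lit 12379))) (.leaf (nat_lit 8255)))))) (.node (.node (.node (.node (.node (.leaf
    (nat_lit 47198)) (.leaf (nat_lit 90405))) (.node (.leaf (nat_lit 39044)) (.leaf (nat_lit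
    109036)))) (.node (.node (.leaf (nat_lit 73942)) (.leaf (nat_lit 11))) (.leaf (nat_lit
    102817)))) (.node (.node (.node (.leaf (nat_lit 22626)) (.leaf (nat_lit 86287))) (.node (.leaf
    (nat_lit 59637)) (.leaf (nat_lit 85703)))) (.node (.node (.leaf (nat_lit 3)) (.leaf (nat_lit
    10321))) (.leaf (nat_lit 20533))))) (.node (.node (.node (.node (.leaf (nat_lit 43350)) (.leaf
    (nat_lit 62947))) (.node (.leaf (nat_lit 51311)) (.leaf (nat_lit 48846)))) (.node (.node (.leaf
    (nat_lit 106150)) (.leaf (nat_lit 65686))) (.leaf (nat_lit 10266)))) (.node (.node (.node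
    (.leaf (nat_lit 20627)) (.leaf (nat_lit 77438))) (.leaf (nat_lit 88341))) (.node (.node (.leaf
    (nat_lit 16431)) (.leaf (nat_lit 102814))) (.leaf (nat_lit 55657)))))))))

/-- Certificate data. -/
def p3_C : TC.Cert := ⟨9, 511, 11, 2047, 434320308636287488, 62, p3_par, p3_fact, p3_just, p3_rel, 77⟩

/-- Certificate data. -/
def p3_rs : List (List ℕ) := [[1, 1, 1, 1, 1, 1, 1, 1], [3, 3], [3, 1, 3, 2, 2, 2], [4, 4, 4], [3, 4, 3, 5], [4, 1, 1, 4, 2, 2, 5, 1, 1, 5, 2, 2], [1, 1, 1, 1, 4, 2, 2, 2, 2, 4], [1, 4, 1, 4, 2, 2, 5], [6, 6, 6], [6, 1, 1, 1, 1, 7, 3], [1, 1, 3, 6, 1, 1, 3, 6], [7, 4, 6, 1, 1, 7, 5, 6, 3, 2, 2, 2]]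

/-- Certificate data. -/
def p3_gl : List ℕ := [1, 14083, 28164, 42246]

theorem p3_h1_0 : allR p3_C.factChk 0 668 = true := by decide +kernel

theorem p3_h1_1 : allR p3_C.factChk 668 216 = true := by decide +kernel

theorem p3_h1 : allB p3_C.factChk 884 = true :=
  allB_of_allR (a := 884)
    (allR_append (p3_h1_0) p3_h1_1)

theorem p3_h2 : p3_C.finChk 884 55 p3_lv p3_tb p3_gl = true := by decide +kernel

theorem p3_h3 : TC.relChk p3_C.ivc p3_rs p3_C.rel p3_rc p3_C.nrel = true := by decide +kernel

theorem p3_bound {G : Type*} [Group G] {a r g w : G}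
    (r0 : a * a * a * a * a * a * a * a = 1)
    (r1 : r * r = 1)
    (r2 : r * a * r * a⁻¹ * a⁻¹ * a⁻¹ = 1)
    (r3 : g * g * g = 1)
    (r4 : r * g * r * g⁻¹ = 1)
    (r5 : g * a * a * g * a⁻¹ * a⁻¹ * g⁻¹ * a * a * g⁻¹ * a⁻¹ * a⁻¹ = 1)
    (r6 : a * a * a * a * g * a⁻¹ * a⁻¹ * a⁻¹ * a⁻¹ * g = 1)
    (r7 : a * g * a * g * a⁻¹ * a⁻¹ * g⁻¹ = 1)
    (r8 : w * w * w = 1)
    (r9 : w * a * a * a * a * w⁻¹ * r = 1)
    (r10 : a * a * r * w * a * a * r * w = 1)
    (r11 : w⁻¹ * g * w * a * a * w⁻¹ * g⁻¹ * w * r * a⁻¹ * a⁻¹ * a⁻¹ = 1)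
    (H : Subgroup G) [Finite H] (m1 : a ∈ H) (m3 : r ∈ H) (m4 : g ∈ H) :
    Finite (Subgroup.closure ({a, r, g, w} : Set G)) ∧
      Nat.card (Subgroup.closure ({a, r, g, w} : Set G)) ≤ 55 * Nat.card H := by
  have hL : TC.Lett (TC.lett [a, a⁻¹, r, g, g⁻¹, w, w⁻¹]) p3_C.ivc :=
    TC.lett_ok (show Nat.shiftRight p3_C.ivc (8 * 8) = 0 by decide +kernel) (by
      intro a ha
      change a < 8 at ha
      interval_cases a
      · exact inv_one.symm
      · rfl
      · exact (inv_inv _).symm
      · exact (inv_eq_of_mul_eq_one_right r1).symm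
      · rfl
      · exact (inv_inv _).symm
      · rfl
      · exact (inv_inv _).symm)
  have h := TC.card_le p3_h1 p3_h2 p3_h3 (by decide) hL (by
    simp only [p3_rs, List.forall_mem_cons]
    refine ⟨?_, ?_, ?_, ?_, ?_, ?_, ?_, ?_, ?_, ?_, ?_, ?_, List.forall_mem_nil _⟩
    · show a * (a * (a * (a * (a * (a * (a * (a * 1))))))) = 1
      simp only [mul_assoc, mul_one] at r0 ⊢
      exact r0
    · show r * (r * 1) = 1
      simp only [mul_one] at r1 ⊢
      exact r1
    · show r * (a * (r * (a⁻¹ * (a⁻¹ * (a⁻¹ * 1))))) = 1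
      simp only [mul_assoc, mul_one] at r2 ⊢
      exact r2
    · show g * (g * (g * 1)) = 1
      simp only [mul_assoc, mul_one] at r3 ⊢
      exact r3
    · show r * (g * (r * (g⁻¹ * 1))) = 1
      simp only [mul_assoc, mul_one] at r4 ⊢
      exact r4
    · show g * (a * (a * (g * (a⁻¹ * (a⁻¹ * (g⁻¹ * (a * (a * (g⁻¹ * (a⁻¹ * (a⁻¹ * 1))))))))))) = 1
      simp only [mul_assoc, mul_one] at r5 ⊢
      exact r5
    · show a * (a * (a * (a * (g * (a⁻¹ * (a⁻¹ * (a⁻¹ * (a⁻¹ * (g * 1))))))))) = 1
      simp only [mul_assoc, mul_one] at r6 ⊢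
      exact r6
    · show a * (g * (a * (g * (a⁻¹ * (a⁻¹ * (g⁻¹ * 1)))))) = 1
      simp only [mul_assoc, mul_one] at r7 ⊢
      exact r7
    · show w * (w * (w * 1)) = 1
      simp only [mul_assoc, mul_one] at r8 ⊢
      exact r8
    · show w * (a * (a * (a * (a * (w⁻¹ * (r * 1)))))) = 1
      simp only [mul_assoc, mul_one] at r9 ⊢
      exact r9
    · show a * (a * (r * (w * (a * (a * (r * (w * 1))))))) = 1
      simp only [mul_assoc, mul_one] at r10 ⊢
      exact r10
    · show w⁻¹ * (g * (w * (a * (a * (w⁻¹ * (g⁻¹ * (w * (r * (a⁻¹ * (a⁻¹ * (a⁻¹ * 1))))))))))) = 1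
      simp only [mul_assoc, mul_one] at r11 ⊢
      exact r11) H
    (TC.forall_subs (K := 8) (by decide +kernel) (by
      intro a ha hb
      interval_cases a
      · exact absurd hb (by decide +kernel)
      · exact m1
      · exact H.inv_mem m1
      · exact m3
      · exact m4
      · exact H.inv_mem m4
      · exact absurd hb (by decide +kernel)
      · exact absurd hb (by decide +kernel)))
  have e : {g₀ | ∃ ak ∈ p3_gl, TC.lett [a, a⁻¹, r, g, g⁻¹, w, w⁻¹] (ak % 256) = g₀} =
      {a, r, g, w} := by
    ext g₀
    simp only [p3_gl, List.mem_cons, List.not_mem_nil, or_false, exists_eq_or_imp,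
      exists_eq_left, Set.mem_ofPred_eq, Set.mem_insert_iff, Set.mem_singleton_iff]
    exact or_congr eq_comm (or_congr eq_comm (or_congr eq_comm (eq_comm)))
  rw [e] at h
  exact h

theorem p3_card {G : Type*} [Group G] {a r g w : G}
    (e0 : a ^ 8 = 1)
    (e1 : r * r = 1)
    (e2 : r * a * r = a ^ 3)
    (e3 : g ^ 3 = 1)
    (e4 : r * g = g * r)
    (e5 : g * (a ^ 2 * g * (a ^ 2)⁻¹) = a ^ 2 * g * (a ^ 2)⁻¹ * g)
    (e6 : a ^ 4 * g * (a ^ 4)⁻¹ = g⁻¹)
    (e7 : a * g * a⁻¹ = g * (a ^ 2 * g * (a ^ 2)⁻¹)⁻¹)
    (e8 : w ^ 3 = 1)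
    (e9 : w * a ^ 4 * w⁻¹ = r)
    (e10 : a ^ 2 * r * w * (a ^ 2 * r) = w⁻¹)
    (e11 : w⁻¹ * g * w * a ^ 2 * (w⁻¹ * g * w)⁻¹ = a ^ 3 * r)
    (H : Subgroup G) [Finite H] (ma : a ∈ H) (mr : r ∈ H) (mg : g ∈ H) :
    Finite (Subgroup.closure ({a, r, g, w} : Set G)) ∧
      Nat.card (Subgroup.closure ({a, r, g, w} : Set G)) ≤ 55 * Nat.card H := by
  have ir : r⁻¹ = r := inv_eq_of_mul_eq_one_right e1
  refine p3_bound ?_ ?_ ?_ ?_ ?_ ?_ ?_ ?_ ?_ ?_ ?_ ?_ H ma mr mg
  · have h := mul_inv_eq_one.mpr e0
    simp only [pow_succ, pow_zero, mul_inv_rev, inv_inv, inv_one, one_mul, mul_one, mul_assoc,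
      mul_inv_cancel_left, inv_mul_cancel_left, mul_inv_cancel, inv_mul_cancel, ir] at h ⊢
    exact h
  · have h := mul_inv_eq_one.mpr e1
    simp only [pow_succ, pow_zero, mul_inv_rev, inv_inv, inv_one, one_mul, mul_one, mul_assoc,
      mul_inv_cancel_left, inv_mul_cancel_left, mul_inv_cancel, inv_mul_cancel, ir] at h ⊢
    exact h
  · have h := mul_inv_eq_one.mpr e2
    simp only [pow_succ, pow_zero, mul_inv_rev, inv_inv, inv_one, one_mul, mul_one, mul_assoc,
      mul_inv_cancel_left, inv_mul_cancel_left, mul_inv_cancel, inv_mul_cancel, ir] at h ⊢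
    exact h
  · have h := mul_inv_eq_one.mpr e3
    simp only [pow_succ, pow_zero, mul_inv_rev, inv_inv, inv_one, one_mul, mul_one, mul_assoc,
      mul_inv_cancel_left, inv_mul_cancel_left, mul_inv_cancel, inv_mul_cancel, ir] at h ⊢
    exact h
  · have h := mul_inv_eq_one.mpr e4
    simp only [pow_succ, pow_zero, mul_inv_rev, inv_inv, inv_one, one_mul, mul_one, mul_assoc,
      mul_inv_cancel_left, inv_mul_cancel_left, mul_inv_cancel, inv_mul_cancel, ir] at h ⊢
    exact h
  · have h := mul_inv_eq_one.mpr e5
    simp only [pow_succ, pow_zero, mul_inv_rev, inv_inv, inv_one, one_mul, mul_one, mul_assoc,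
      mul_inv_cancel_left, inv_mul_cancel_left, mul_inv_cancel, inv_mul_cancel, ir] at h ⊢
    exact h
  · have h := mul_inv_eq_one.mpr e6
    simp only [pow_succ, pow_zero, mul_inv_rev, inv_inv, inv_one, one_mul, mul_one, mul_assoc,
      mul_inv_cancel_left, inv_mul_cancel_left, mul_inv_cancel, inv_mul_cancel, ir] at h ⊢
    exact h
  · have h := mul_inv_eq_one.mpr e7
    simp only [pow_succ, pow_zero, mul_inv_rev, inv_inv, inv_one, one_mul, mul_one, mul_assoc,
      mul_inv_cancel_left, inv_mul_cancel_left, mul_inv_cancel, inv_mul_cancel, ir] at h ⊢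
    exact h
  · have h := mul_inv_eq_one.mpr e8
    simp only [pow_succ, pow_zero, mul_inv_rev, inv_inv, inv_one, one_mul, mul_one, mul_assoc,
      mul_inv_cancel_left, inv_mul_cancel_left, mul_inv_cancel, inv_mul_cancel, ir] at h ⊢
    exact h
  · have h := mul_inv_eq_one.mpr e9
    simp only [pow_succ, pow_zero, mul_inv_rev, inv_inv, inv_one, one_mul, mul_one, mul_assoc,
      mul_inv_cancel_left, inv_mul_cancel_left, mul_inv_cancel, inv_mul_cancel, ir] at h ⊢
    exact h
  · have h := mul_inv_eq_one.mpr e10
    simp only [pow_succ, pow_zero, mul_inv_rev, inv_inv, inv_one, one_mul, mul_one, mul_assoc,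
      mul_inv_cancel_left, inv_mul_cancel_left, mul_inv_cancel, inv_mul_cancel, ir] at h ⊢
    exact h
  · have h := mul_inv_eq_one.mpr e11
    simp only [pow_succ, pow_zero, mul_inv_rev, inv_inv, inv_one, one_mul, mul_one, mul_assoc,
      mul_inv_cancel_left, inv_mul_cancel_left, mul_inv_cancel, inv_mul_cancel, ir] at h ⊢
    exact h

/-- The relations. -/
structure Rel {G : Type*} [Group G] (a r g w : G) : Prop where
  e0 : a ^ 8 = 1
  e1 : r * r = 1
  e2 : r * a * r = a ^ 3
  e3 : g ^ 3 = 1
  e4 : r * g = g * r
  e5 : g * (a ^ 2 * g * (a ^ 2)⁻¹) = a ^ 2 * g * (a ^ 2)⁻¹ * g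
  e6 : a ^ 4 * g * (a ^ 4)⁻¹ = g⁻¹
  e7 : a * g * a⁻¹ = g * (a ^ 2 * g * (a ^ 2)⁻¹)⁻¹
  e8 : w ^ 3 = 1
  e9 : w * a ^ 4 * w⁻¹ = r
  e10 : a ^ 2 * r * w * (a ^ 2 * r) = w⁻¹

variable {G : Type*} [Group G] {a r g w : G}

theorem Rel.card_N (h : Rel a r g w) : Finite (Subgroup.closure ({a, r, g} : Set G)) ∧
    Nat.card (Subgroup.closure ({a, r, g} : Set G)) ≤ 144 := by
  obtain ⟨hf, hc⟩ := TC.finite_zpowers_of_pow (by norm_num) h.e0
  have h1 := pn_card h.e0 h.e1 h.e2 h.e3 h.e4 h.e5 h.e6 h.e7 _ (Subgroup.mem_zpowers a)
  exact ⟨h1.1, h1.2.trans (by omega)⟩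

theorem Rel.card_one (h : Rel a r g w)
    (hk : w⁻¹ * g * w * a ^ 2 * (w⁻¹ * g * w)⁻¹ = a ^ 1 * r) :
    Nat.card (Subgroup.closure ({a, r, g, w} : Set G)) ≤ 5616 := by
  obtain ⟨hf, hc⟩ := h.card_N
  have h1 := p1_card h.e0 h.e1 h.e2 h.e3 h.e4 h.e5 h.e6 h.e7 h.e8 h.e9 h.e10 hk
    (Subgroup.closure {a, r, g}) (Subgroup.subset_closure (by simp))
    (Subgroup.subset_closure (by simp)) (Subgroup.subset_closure (by simp))
  exact h1.2.trans (by omega)

theorem Rel.card_three (h : Rel a r g w)
    (hk : w⁻¹ * g * w * a ^ 2 * (w⁻¹ * g * w)⁻¹ = a ^ 3 * r) :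
    Finite (Subgroup.closure ({a, r, g, w} : Set G)) ∧
      Nat.card (Subgroup.closure ({a, r, g, w} : Set G)) ≤ 7920 := by
  obtain ⟨hf, hc⟩ := h.card_N
  have h1 := p3_card h.e0 h.e1 h.e2 h.e3 h.e4 h.e5 h.e6 h.e7 h.e8 h.e9 h.e10 hk
    (Subgroup.closure {a, r, g}) (Subgroup.subset_closure (by simp))
    (Subgroup.subset_closure (by simp)) (Subgroup.subset_closure (by simp))
  exact ⟨h1.1, h1.2.trans (by omega)⟩

theorem Rel.inv (h : Rel a r g w) : Rel a r g⁻¹ w := by
  have hc : Commute g (a ^ 2 * g * (a ^ 2)⁻¹) := h.e5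
  have e : a ^ 2 * g⁻¹ * (a ^ 2)⁻¹ = (a ^ 2 * g * (a ^ 2)⁻¹)⁻¹ := by group
  refine ⟨h.e0, h.e1, h.e2, by rw [inv_pow, h.e3, inv_one], (Commute.inv_right h.e4 :), ?_, ?_, ?_,
    h.e8, h.e9, h.e10⟩
  · rw [e]
    exact hc.inv_inv
  · calc _ = (a ^ 4 * g * (a ^ 4)⁻¹)⁻¹ := by group
      _ = _ := by rw [h.e6]
  · rw [e, hc.inv_inv.inv_right.eq, ← mul_inv_rev, ← h.e7]
    group

theorem Rel.exists_hom {M : Type*} [Group M] [Finite M] {a' r' g' w' : M} (h : Rel a r g w)
    (hk : w⁻¹ * g * w * a ^ 2 * (w⁻¹ * g * w)⁻¹ = a ^ 3 * r) (h' : Rel a' r' g' w')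
    (hk' : w'⁻¹ * g' * w' * a' ^ 2 * (w'⁻¹ * g' * w')⁻¹ = a' ^ 3 * r') (hM : Nat.card M = 7920)
    (ht : Subgroup.closure {a', r', g', w'} = ⊤) :
    ∃ φ : M →* G, φ a' = a ∧ φ r' = r ∧ φ g' = g ∧ φ w' = w := by
  have hp : Rel (a, a') (r, r') (g, g') (w, w') :=
    ⟨Prod.ext h.e0 h'.e0, Prod.ext h.e1 h'.e1, Prod.ext h.e2 h'.e2, Prod.ext h.e3 h'.e3,
      Prod.ext h.e4 h'.e4, Prod.ext h.e5 h'.e5, Prod.ext h.e6 h'.e6, Prod.ext h.e7 h'.e7,
      Prod.ext h.e8 h'.e8, Prod.ext h.e9 h'.e9, Prod.ext h.e10 h'.e10⟩
  obtain ⟨h1, h2⟩ := hp.card_three (Prod.ext hk hk')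
  obtain ⟨φ, hφ⟩ := TC.exists_hom_of_card_le (hM ▸ h2) (by
    rw [MonoidHom.map_closure, ← ht]
    simp only [Set.image_insert_eq, Set.image_singleton, MonoidHom.coe_snd])
  exact ⟨φ, hφ _ _ (Subgroup.subset_closure (by simp)), hφ _ _ (Subgroup.subset_closure (by simp)),
    hφ _ _ (Subgroup.subset_closure (by simp)), hφ _ _ (Subgroup.subset_closure (by simp))⟩

end Cfsg.Agent.H4.M11P
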