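import Cfsg.Agent.H4.Nse2
import Cfsg.Agent.H4.M11Pres

/-!
# Groups of order `7920` with the element order statistics of `M₁₁`
-/

set_option autoImplicit false
set_option linter.unusedSectionVars false

namespace Cfsg.Agent.H4.M11R

open Subgroup Nse

/-- The hypothesis. -/
structure Hyp (G : Type*) [Group G] : Prop where
  card : Nat.card G = 7920
  ord : ∀ g : G, orderOf g ∈ [1, 2, 3, 4, 5, 6, 8, 11]
  m2 : mo G 2 = 165
  m3 : mo G 3 = 440
  m4 : mo G 4 = 990
  m8 : mo G 8 = 1980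

variable {G : Type*} [Group G] [Finite G]

/-- The Sylow subgroup containing `a`. -/
def T (a : G) : Subgroup G := normalizer (zpowers (a ^ 2) : Set G)

theorem ord_pow {a : G} {n : ℕ} (ha : orderOf a = n) (k : ℕ) : orderOf (a ^ k) = n / Nat.gcd n k := by
  rw [orderOf_pow, ha]

theorem ord_eq_of_sq {y : G} {n : ℕ} (h : orderOf (y ^ 2) = 2 * n) : orderOf y = 4 * n := by
  rw [orderOf_pow] at h
  rcases Nat.even_or_odd' (orderOf y) with ⟨k, hk | hk⟩
  · rw [hk, Nat.gcd_mul_right_left, Nat.mul_div_cancel_left _ two_pos] at h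
    omega
  · rw [(Nat.coprime_two_right.mpr ⟨k, hk⟩).gcd_eq_one] at h
    omega

theorem le_T {a : G} : normalizer (zpowers a : Set G) ≤ T a := by
  intro u hu
  rw [mem_normalizer_zpowers] at hu
  obtain ⟨i, -, hi⟩ := exists_pow rfl hu
  rw [T, mem_normalizer_zpowers, ← conj_pow, hi, ← pow_mul, mul_comm, pow_mul]
  exact npow_mem_zpowers _ _

namespace Hyp

variable (h : Hyp G)
include h

theorem comm {x y : G} (hc : Commute x y) (hco : (orderOf x).Coprime (orderOf y)) :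
    orderOf x * orderOf y ∈ [1, 2, 3, 4, 5, 6, 8, 11] := by
  rw [← hc.orderOf_mul_eq_mul_orderOf_of_coprime hco]
  exact h.ord _

theorem not_dvd_cent {y : G} {n p : ℕ} (hy : orderOf y = n) (hp : p.Prime) (hco : n.Coprime p)
    (hn : n * p ∉ [1, 2, 3, 4, 5, 6, 8, 11]) : ¬ p ∣ Nat.card (centralizer ({y} : Set G)) := by
  intro hd
  obtain ⟨x, hx, hxp⟩ := exists_mem_orderOf hp hd
  have := h.comm (x := y) (y := x) (mem_centralizer_singleton_iff.mp hx).symm (by rwa [hy, hxp])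
  rw [hy, hxp] at this
  exact hn this

theorem card_dvd (H : Subgroup G) : Nat.card H ∈ Nat.divisors 7920 :=
  Nat.mem_divisors.mpr ⟨h.card ▸ H.card_subgroup_dvd_card, by norm_num⟩

variable {a : G} (ha : orderOf a = 8)
include ha

theorem T_dvd : Nat.card (T a) ∣ 16 := by
  have key : ∀ p, p.Prime → Odd p → 4 * p ∉ [1, 2, 3, 4, 5, 6, 8, 11] → ¬ p ∣ Nat.card (T a) := by
    intro p hp ho hn hd
    obtain ⟨u, hu, hup⟩ := exists_mem_orderOf hp hd
    have h4 : orderOf (a ^ 2) = 4 := ord_pow ha 2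
    have h1 := commute_of_conj_mem (hup ▸ ho) (by rw [h4]; norm_num) (mem_normalizer_zpowers.mp hu)
    have h2 := h.comm h1.symm (by
      rw [h4, hup]
      exact Nat.Coprime.pow_left 2 (Nat.coprime_two_left.mpr ho))
    rw [h4, hup] at h2
    exact hn h2
  have : ∀ n ∈ Nat.divisors 7920, ¬ 3 ∣ n → ¬ 5 ∣ n → ¬ 11 ∣ n → n ∣ 16 := by decide +kernel
  exact this _ (h.card_dvd _) (key 3 (by norm_num) (by decide) (by decide))
    (key 5 (by norm_num) (by decide) (by decide)) (key 11 (by norm_num) (by decide) (by decide))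

theorem eq_T {S : Subgroup G} (hS : Nat.card S = 16) (haS : a ∈ S) :
    S = T a ∧ S = normalizer (zpowers a : Set G) := by
  have h1 : S ≤ normalizer (zpowers a : Set G) := fun s hs => mem_normalizer_zpowers.mpr
    (conj_mem_of_index_two (zpowers_le_of_mem haS) (by rw [Nat.card_zpowers, ha, hS]) hs
      (mem_zpowers a))
  have h2 : S = T a := eq_of_le_of_card_ge (h1.trans le_T)
    (hS ▸ Nat.le_of_dvd (by norm_num) (h.T_dvd ha))
  exact ⟨h2, le_antisymm h1 (h2 ▸ le_T)⟩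

theorem T_spec : Nat.card (T a) = 16 ∧ a ∈ T a ∧ T a = normalizer (zpowers a : Set G) := by
  obtain ⟨S, h1, -, h2⟩ := exists_between (K := ⊤) (n := 3) (m := 4) Nat.prime_two
    (le_top (a := zpowers a)) (by rw [Nat.card_zpowers, ha]; rfl) (by norm_num)
    (by rw [card_top, h.card]; norm_num)
  obtain ⟨h3, h4⟩ := h.eq_T ha h2 (h1 (mem_zpowers a))
  exact ⟨h3 ▸ h2, h3 ▸ h1 (mem_zpowers a), h3 ▸ h4⟩

theorem card_T : Nat.card (T a) = 2 * Nat.card (zpowers a) := by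
  rw [(h.T_spec ha).1, Nat.card_zpowers, ha]

theorem zp_le : zpowers a ≤ T a := zpowers_le_of_mem (h.T_spec ha).2.1

theorem conj8 {y : G} (hy : orderOf y = 8) : ∃ g : G, g * y * g⁻¹ ∈ zpowers a := by
  refine conj_mem_zpowers ?_ (hy.trans ha.symm)
  rw [← (h.T_spec ha).2.2, (h.T_spec ha).1, ha, h.m8, h.card]
  decide

theorem mem_of_sq {y : G} (hy : y ^ 2 = a ^ 2 ∨ y ^ 2 = a ^ 6) : y ∈ zpowers a := by
  have h4 : orderOf (a ^ 2) = 4 := ord_pow ha 2
  have h1 : orderOf (y ^ 2) = 4 := by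
    rcases hy with hy | hy <;> rw [hy]
    · exact h4
    · exact ord_pow ha 6
  have h2 : zpowers (y ^ 2) = zpowers (a ^ 2) := by
    refine zpowers_eq_of_mem ?_ (h1.trans h4.symm)
    rcases hy with hy | hy <;> rw [hy]
    · exact mem_zpowers _
    · exact ⟨3, by rw [← zpow_natCast, ← zpow_natCast]; group⟩
  obtain ⟨g, hg⟩ := h.conj8 ha (ord_eq_of_sq (n := 2) h1)
  obtain ⟨k, -, hk⟩ := exists_pow ha hg
  have h3 : g ∈ T a := by
    rw [T, ← h2, mem_normalizer_zpowers, h2, ← conj_pow, hk, ← pow_mul, mul_comm, pow_mul]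
    exact npow_mem_zpowers _ _
  have h5 := conj_mem_of_index_two (h.zp_le ha) (h.card_T ha) (inv_mem h3) hg
  rwa [show g⁻¹ * (g * y * g⁻¹) * g⁻¹⁻¹ = y by group] at h5

theorem inverts {b : G} (hb : b ∈ T a) (hb' : b ∉ zpowers a) :
    b * a * b⁻¹ = a ^ 3 ∨ b * a * b⁻¹ = a ^ 7 := by
  obtain ⟨e, he, he'⟩ := exists_pow ha
    (conj_mem_of_index_two (h.zp_le ha) (h.card_T ha) hb (mem_zpowers a))
  obtain ⟨f, hf, hf'⟩ := exists_pow ha (mul_mem_of_index_two (h.zp_le ha) (h.card_T ha) hb hb hb' hb')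
  have h1 : 8 / Nat.gcd 8 e = 8 := by rw [← ord_pow ha e, ← he', orderOf_conj', ha]
  have h2 : f % 2 = 0 := by
    have h3 := ord_pow ha f
    by_contra h4
    have h5 : 8 / Nat.gcd 8 f = 2 * 4 := by interval_cases f <;> simp_all
    rw [h5, ← hf', ← pow_two] at h3
    have h6 := h.ord b
    rw [ord_eq_of_sq h3] at h6
    exact absurd h6 (by decide)
  have h3 : (b * a) ^ 2 = a ^ (e + f + 1) := by
    rw [pow_succ a, pow_add, ← he', ← hf', pow_two]
    group
  have h4 : e = 1 ∨ e = 3 ∨ e = 5 ∨ e = 7 := by interval_cases e <;> simp_all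
  by_contra hc
  rw [he', pow_eq_iff ha, pow_eq_iff ha] at hc
  by_cases h5 : f = 2 ∨ f = 6
  · exact hb' (h.mem_of_sq ha (by rw [pow_two, hf', pow_eq_iff ha, pow_eq_iff ha]; omega))
  · have := h.mem_of_sq ha (y := b * a) (by rw [h3, pow_eq_iff ha, pow_eq_iff ha]; omega)
    exact hb' ((mul_mem_cancel_right (mem_zpowers a)).mp this)

theorem inverts_sq {b : G} (hb : b ∈ T a) (hb' : b ∉ zpowers a) : b * a ^ 2 * b⁻¹ = (a ^ 2)⁻¹ := by
  rw [← conj_pow, eq_inv_iff_mul_eq_one]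
  rcases h.inverts ha hb hb' with h1 | h1 <;> rw [h1, ← pow_mul, ← pow_add, pow_eq_one_iff' ha]

theorem comm_four {b : G} (hb : b ∈ T a) : Commute b (a ^ 4) := by
  by_cases hb' : b ∈ zpowers a
  · obtain ⟨k, -, rfl⟩ := exists_pow ha hb'
    exact Commute.pow_pow_self a k 4
  · refine mul_inv_eq_iff_eq_mul.mp ?_
    rw [← conj_pow]
    rcases h.inverts ha hb hb' with h1 | h1 <;> rw [h1, ← pow_mul, pow_eq_iff ha]

theorem mem_of_comm {u : G} (hu : Commute u (a ^ 2)) : u ∈ zpowers a := by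
  by_contra hc
  have h1 : u * a ^ 2 * u⁻¹ = a ^ 2 := mul_inv_eq_iff_eq_mul.mpr hu
  have h2 := h.inverts_sq ha (b := u) (by
    rw [T, mem_normalizer_zpowers, h1]; exact mem_zpowers _) hc
  rw [h1, eq_inv_iff_mul_eq_one, ← pow_add, pow_eq_one_iff' ha] at h2
  omega

theorem conj4 {y : G} (hy : orderOf y = 4) : ∃ g : G, g * a ^ 2 * g⁻¹ = y := by
  have h4 : orderOf (a ^ 2) = 4 := ord_pow ha 2
  refine conj_of_index ?_ (hy.trans h4.symm)
  have h1 : Nat.card (centralizer {a ^ 2}) ≤ Nat.card (zpowers a) :=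
    card_le_of_le fun u hu => h.mem_of_comm ha (mem_centralizer_singleton_iff.mp hu)
  have h2 := index_mul_card' (centralizer {a ^ 2}) h.card
  rw [Nat.card_zpowers, ha] at h1
  rw [h4, h.m4]
  by_contra hc
  have := Nat.mul_le_mul (Nat.le_of_lt_succ (not_le.mp hc)) h1
  omega

theorem eq_four {t : G} (ht : t ∈ zpowers a) (ht2 : t * t = 1) : t = 1 ∨ t = a ^ 4 := by
  obtain ⟨k, hk, rfl⟩ := exists_pow ha ht
  rw [← pow_add, pow_eq_one_iff' ha] at ht2
  rw [pow_eq_one_iff' ha, pow_eq_iff ha]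
  omega

omit ha in
theorem exists_eight : ∃ a : G, orderOf a = 8 := mo_pos_iff.mp (by rw [h.m8]; norm_num)

omit ha in
theorem exists_sqrt {y : G} (hy : orderOf y = 4) : ∃ a : G, orderOf a = 8 ∧ a ^ 2 = y := by
  obtain ⟨a, ha⟩ := h.exists_eight
  obtain ⟨g, hg⟩ := h.conj4 ha hy
  exact ⟨g * a * g⁻¹, by rw [orderOf_conj', ha], by rw [conj_pow, hg]⟩

omit ha in
theorem exists_four {R : Subgroup G} (hR : Nat.card R = 2 ^ 3) : ∃ y ∈ R, orderOf y = 4 := by
  classical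
  obtain ⟨a, ha⟩ := h.exists_eight
  obtain ⟨c, -, hc⟩ := exists_conj_le (p := 2) (H := ⊤) (T := T a) (le_top (a := R))
    (IsPGroup.of_card hR) (by
      rw [relIndex_eq le_top (n := 495) (by rw [card_top, h.card, (h.T_spec ha).1])]; norm_num)
  by_contra hc'
  have h1 : ∀ y ∈ R, y * y = 1 := by
    intro y hy
    have h2 := h.ord y
    have h3 := R.orderOf_dvd_natCard hy
    have h4 : orderOf y ≠ 4 := fun e => hc' ⟨y, hy, e⟩
    have h5 : orderOf y ≠ 8 := fun e => hc' ⟨y ^ 2, pow_mem hy 2, ord_pow e 2⟩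
    rw [← pow_two, ← orderOf_dvd_iff_pow_eq_one]
    rw [hR] at h3
    generalize orderOf y = n at h2 h3 h4 h5
    revert n
    decide
  have h2 : ∀ y ∈ R, c * y * c⁻¹ ∈ zpowers a → y = 1 ∨ y = c⁻¹ * a ^ 4 * c := by
    intro y hy h3
    rcases h.eq_four ha h3 (by rw [conj_mul, h1 y hy, mul_one, mul_inv_cancel]) with h4 | h4
    · exact Or.inl (by simpa using h4)
    · exact Or.inr (by rw [← h4]; group)
  obtain ⟨r, hr, hr'⟩ := exists_notMem (H := R) (s := {1, c⁻¹ * a ^ 4 * c})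
    (lt_of_le_of_lt Finset.card_le_two (by rw [hR]; norm_num))
  obtain ⟨y, hy, hy'⟩ := exists_notMem (H := R) (s := {1, c⁻¹ * a ^ 4 * c, r, c⁻¹ * a ^ 4 * c * r})
    (lt_of_le_of_lt Finset.card_le_four (by rw [hR]; norm_num))
  simp only [Finset.mem_insert, Finset.mem_singleton, not_or] at hr' hy'
  have h3 := mul_mem_of_index_two (h.zp_le ha) (h.card_T ha) (hc y hy) (hc r hr)
    (fun e => by rcases h2 y hy e with e | e; exacts [hy'.1 e, hy'.2.1 e])
    (fun e => by rcases h2 r hr e with e | e; exacts [hr'.1 e, hr'.2 e])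
  rw [conj_mul] at h3
  have h4 : y = y * r * r := by rw [mul_assoc, h1 r hr, mul_one]
  rcases h2 _ (mul_mem hy hr) h3 with e | e
  · exact hy'.2.2.1 (by rw [h4, e, one_mul])
  · exact hy'.2.2.2 (by rw [h4, e])

theorem conj2 {t : G} (ht : orderOf t = 2) : ∃ g : G, g * a ^ 4 * g⁻¹ = t := by
  have h1 := h.not_dvd_cent ht (p := 5) (by norm_num) (by norm_num) (by decide)
  have h2 := h.not_dvd_cent ht (p := 11) (by norm_num) (by norm_num) (by decide)
  have h3 := index_le_mo t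
  have h4 := index_mul_card' (centralizer {t}) h.card
  rw [ht, h.m2] at h3
  have h5 := Nat.mul_le_mul_right (Nat.card (centralizer ({t} : Set G))) h3
  have : ∀ n ∈ Nat.divisors 7920, ¬ 5 ∣ n → ¬ 11 ∣ n → 48 ≤ n → 2 ^ 3 ∣ n := by decide +kernel
  obtain ⟨R, hR, hR'⟩ := exists_le_card Nat.prime_two (this _ (h.card_dvd _) h1 h2 (by omega))
  obtain ⟨y, hy, hy'⟩ := h.exists_four hR'
  obtain ⟨g, rfl⟩ := h.conj4 ha hy'
  have h6 : orderOf (g * a * g⁻¹) = 8 := by rw [orderOf_conj', ha]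
  have h7 := h.mem_of_comm h6 (u := t) (by
    rw [conj_pow]; exact (mem_centralizer_singleton_iff.mp (hR hy)).symm)
  rcases h.eq_four h6 h7 (by rw [← pow_two, ← ht, pow_orderOf_eq_one]) with e | e
  · rw [e, orderOf_one] at ht
    omega
  · exact ⟨g, by rw [e, conj_pow]⟩

omit ha in
theorem card_cent2 {t : G} (ht : orderOf t = 2) : Nat.card (centralizer ({t} : Set G)) = 48 := by
  obtain ⟨a, ha⟩ := h.exists_eight
  obtain ⟨g, rfl⟩ := h.conj2 ha ht
  have h4 : orderOf (a ^ 4) = 2 := ord_pow ha 4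
  have h1 := index_eq_of_conj (y := a ^ 4) fun x hx => h.conj2 ha (hx.trans h4)
  have h2 := index_mul_card' (centralizer {a ^ 4}) h.card
  rw [h1, h4, h.m2] at h2
  rw [card_centralizer_conj]
  omega

theorem T_le : T a ≤ centralizer {a ^ 4} := fun _ hb =>
  mem_centralizer_singleton_iff.mpr (h.comm_four ha hb)

theorem relIndex_T : (T a).relIndex (centralizer {a ^ 4}) = 3 :=
  relIndex_eq (h.T_le ha) (by rw [h.card_cent2 (ord_pow ha 4), (h.T_spec ha).1])

theorem jlem {x : G} (hx : orderOf x = 3) (hc : Commute x (a ^ 4)) :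
    x * a ^ 2 * x⁻¹ ∈ T a ∧ x * a ^ 2 * x⁻¹ ∉ zpowers a := by
  refine ⟨conj_mem_of_pow (h.T_le ha (h.T_spec ha).2.1) (mem_centralizer_singleton_iff.mpr hc)
    (by rw [ha, h.relIndex_T ha]; decide), fun h1 => ?_⟩
  obtain ⟨k, hk, hk'⟩ := exists_pow ha h1
  have h2 : 8 / Nat.gcd 8 k = 4 := by rw [← ord_pow ha k, ← hk', orderOf_conj', ord_pow ha 2]; rfl
  have h3 : k = 2 * 1 ∨ k = 2 * 3 := by interval_cases k <;> simp_all
  have h4 : x ∈ T a := by
    rw [T, mem_normalizer_zpowers, hk']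
    rcases h3 with rfl | rfl <;> rw [pow_mul] <;> exact npow_mem_zpowers _ _
  have h5 := (T a).orderOf_dvd_natCard h4
  rw [hx, (h.T_spec ha).1] at h5
  omega

theorem exists_conj_T {R : Subgroup G} (hR : R ≤ centralizer {a ^ 4}) (hp : IsPGroup 2 R) :
    ∃ c, Commute c (a ^ 4) ∧ ∀ y ∈ R, c * y * c⁻¹ ∈ T a := by
  obtain ⟨c, hc, h1⟩ := exists_conj_le (T := T a) hR hp (by rw [h.relIndex_T ha]; norm_num)
  exact ⟨c, mem_centralizer_singleton_iff.mp hc, h1⟩

theorem not_comm {x v : G} (hx : orderOf x = 3) (hc : Commute x (a ^ 4)) (hv : orderOf v = 2)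
    (hv1 : Commute v (a ^ 4)) (hv2 : Commute v x) : v = a ^ 4 := by
  obtain ⟨c, hc1, hc2⟩ := h.exists_conj_T ha
    (zpowers_le_of_mem (mem_centralizer_singleton_iff.mpr hv1))
    (IsPGroup.of_card (n := 1) (by rw [Nat.card_zpowers, hv]; rfl))
  have e : c * a ^ 4 * c⁻¹ = a ^ 4 := mul_inv_eq_iff_eq_mul.mpr hc1
  have h1 := hc2 v (mem_zpowers v)
  have h2 : c * v * c⁻¹ * (c * v * c⁻¹) = 1 := by
    rw [conj_mul, ← pow_two, ← hv, pow_orderOf_eq_one, mul_one, mul_inv_cancel]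
  have h3 : Commute (c * v * c⁻¹) (c * x * c⁻¹) := hv2.conj c
  have h4 : Commute (c * x * c⁻¹) (a ^ 4) := e ▸ hc.conj c
  have h5 : orderOf (c * x * c⁻¹) = 3 := by rw [orderOf_conj', hx]
  by_contra hne
  have h6 : c * v * c⁻¹ ∉ zpowers a := by
    intro h6
    rcases h.eq_four ha h6 h2 with e' | e'
    · rw [show v = 1 by simpa using e', orderOf_one] at hv
      omega
    · rw [← e] at e'
      exact hne (by simpa using e')
  generalize c * v * c⁻¹ = v at h1 h2 h3 h6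
  generalize c * x * c⁻¹ = x at h3 h4 h5
  obtain ⟨j1, j2⟩ := h.jlem ha h5 h4
  have h7 := h.inverts_sq ha h1 h6
  have h8 : v * (x * a ^ 2 * x⁻¹) * v⁻¹ = (x * a ^ 2 * x⁻¹)⁻¹ := by
    calc _ = x * (v * a ^ 2 * v⁻¹) * x⁻¹ := by
          rw [← mul_assoc, ← mul_assoc, h3.eq, mul_assoc _ x⁻¹, h3.inv_inv.symm.eq]
          group
      _ = _ := by rw [h7]; group
  have h9 : orderOf (x * a ^ 2 * x⁻¹) = 4 := by rw [orderOf_conj', ord_pow ha 2]; rfl
  generalize x * a ^ 2 * x⁻¹ = j at j1 j2 h8 h9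
  have h10 := mul_mem_of_index_two (h.zp_le ha) (h.card_T ha) j1 h1 j2 h6
  have hv' : v⁻¹ = v := inv_eq_of_mul_eq_one_right h2
  have h11 : j * v * (j * v) = 1 := by
    rw [hv'] at h8
    calc _ = j * (v * j * v) := by group
      _ = 1 := by rw [h8, mul_inv_cancel]
  have h12 : Commute v (j * v) := by
    rcases h.eq_four ha h10 h11 with e | e <;> rw [e]
    · exact Commute.one_right v
    · exact h.comm_four ha h1
  have h13 : j ^ 2 = 1 := by
    have : j = j * v * v := by rw [mul_assoc, h2, mul_one]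
    rw [this, h12.symm.mul_pow, pow_two, pow_two, h11, h2, mul_one]
  rw [← orderOf_dvd_iff_pow_eq_one, h9] at h13
  omega

omit ha in
theorem card_cent3 {x : G} (hx : orderOf x = 3) : Nat.card (centralizer ({x} : Set G)) = 18 := by
  classical
  obtain ⟨a, ha⟩ := h.exists_eight
  have hz : orderOf (a ^ 4) = 2 := ord_pow ha 4
  obtain ⟨y, hy, hy3⟩ := exists_mem_orderOf Nat.prime_three (H := centralizer {a ^ 4})
    (by rw [h.card_cent2 hz]; norm_num)
  have hc : Commute y (a ^ 4) := mem_centralizer_singleton_iff.mp hy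
  have h1 := h.not_dvd_cent hy3 (p := 5) (by norm_num) (by norm_num) (by decide)
  have h2 := h.not_dvd_cent hy3 (p := 11) (by norm_num) (by norm_num) (by decide)
  have h3 := index_le_mo y
  have h4 := index_mul_card' (centralizer {y}) h.card
  rw [hy3, h.m3] at h3
  have h5 := Nat.mul_le_mul_right (Nat.card (centralizer ({y} : Set G))) h3
  have h6 : ¬ 2 ^ 2 ∣ Nat.card (centralizer ({y} : Set G)) := by
    intro h6
    obtain ⟨R, h7, h8, h9⟩ := exists_between (n := 1) Nat.prime_two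
      (zpowers_le_of_mem (mem_centralizer_singleton_iff.mpr hc.symm))
      (by rw [Nat.card_zpowers, hz]; rfl) (by norm_num) h6
    have h10 : ∀ v ∈ R, v * v = 1 := by
      intro v hv
      have h11 := R.orderOf_dvd_natCard hv
      have h12 : orderOf v ≠ 4 := fun e => by
        have := h.comm (x := v) (y := y) (mem_centralizer_singleton_iff.mp (h8 hv))
          (by rw [e, hy3]; norm_num)
        rw [e, hy3] at this
        exact absurd this (by decide)
      have h13 := h.ord v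
      rw [← pow_two, ← orderOf_dvd_iff_pow_eq_one]
      rw [h9] at h11
      have : ∀ n ∈ [1, 2, 3, 4, 5, 6, 8, 11], n ∣ 2 ^ (1 + 1) → n ≠ 4 → n ∣ 2 := by decide
      exact this _ h13 h11 h12
    obtain ⟨v, hv, hv'⟩ := exists_notMem (H := R) (s := {1, a ^ 4})
      (lt_of_le_of_lt Finset.card_le_two (by rw [h9]; norm_num))
    simp only [Finset.mem_insert, Finset.mem_singleton, not_or] at hv'
    have hzR := h7 (mem_zpowers _)
    refine hv'.2 (h.not_comm ha hy3 hc (orderOf_eq_prime (by rw [pow_two, h10 v hv]) hv'.1) ?_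
      (mem_centralizer_singleton_iff.mp (h8 hv)))
    have h11 := h10 _ (mul_mem hv hzR)
    rw [Commute, SemiconjBy, eq_inv_of_mul_eq_one_left h11, mul_inv_rev,
      inv_eq_of_mul_eq_one_left (h10 v hv), inv_eq_of_mul_eq_one_left (h10 _ hzR)]
  have h7 := (centralizer {y}).orderOf_dvd_natCard (mem_centralizer_singleton_iff.mpr hc.symm)
  have : ∀ n ∈ Nat.divisors 7920, ¬ 5 ∣ n → ¬ 11 ∣ n → ¬ 2 ^ 2 ∣ n → 18 ≤ n → n = 18 := by
    decide +kernel
  have h8 := this _ (h.card_dvd _) h1 h2 h6 (by omega)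
  rw [h8] at h4
  obtain ⟨g, rfl⟩ := conj_of_index (y := y) (by rw [hy3, h.m3]; omega) (hx.trans hy3.symm)
  rw [card_centralizer_conj, h8]

omit ha in
theorem P_card (P : Sylow 3 G) : Nat.card (P : Subgroup G) = 9 := by
  rw [P.card_eq_multiplicity, h.card]
  decide +kernel

omit ha in
theorem P_ord (P : Sylow 3 G) {x : G} (hx : x ∈ (P : Subgroup G)) (hx1 : x ≠ 1) : orderOf x = 3 := by
  have h1 := (P : Subgroup G).orderOf_dvd_natCard hx
  have h2 := h.ord x
  have h3 : orderOf x ≠ 1 := fun e => hx1 (orderOf_eq_one_iff.mp e)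
  rw [h.P_card] at h1
  have : ∀ n ∈ [1, 2, 3, 4, 5, 6, 8, 11], n ∣ 9 → n ≠ 1 → n = 3 := by decide
  exact this _ h2 h1 h3

omit ha in
theorem P_comm (P : Sylow 3 G) {x y : G} (hx : x ∈ (P : Subgroup G)) (hy : y ∈ (P : Subgroup G)) :
    Commute x y := by
  have := IsPGroup.isMulCommutative_of_card_eq_prime_sq (p := 3) (G := (P : Subgroup G)) (h.P_card P)
  exact congrArg Subtype.val (this.is_comm.comm (⟨x, hx⟩ : (P : Subgroup G)) ⟨y, hy⟩)

omit ha in
theorem P_le (P : Sylow 3 G) {x : G} (hx : x ∈ (P : Subgroup G)) :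
    (P : Subgroup G) ≤ centralizer {x} := fun _ hy =>
  mem_centralizer_singleton_iff.mpr (h.P_comm P hy hx)

omit ha in
theorem cent_le (P : Sylow 3 G) {x : G} (hx : x ∈ (P : Subgroup G)) (hx1 : x ≠ 1) :
    centralizer {x} ≤ normalizer ((P : Subgroup G) : Set G) := fun _ hc =>
  mem_normalizer_fintype fun _ hy => conj_mem_of_index_two (h.P_le P hx)
    (by rw [h.card_cent3 (h.P_ord P hx hx1), h.P_card]) hc hy

omit h ha in
theorem mem_P (P : Sylow 3 G) {x : G} (hx : x ∈ normalizer ((P : Subgroup G) : Set G))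
    (hx3 : orderOf x = 3) : x ∈ (P : Subgroup G) := by
  have h1 : IsPGroup 3 (zpowers x) := IsPGroup.of_card (n := 1) (by rw [Nat.card_zpowers, hx3]; rfl)
  have h2 := h1.inf_normalizer_sylow P
  have h3 : x ∈ zpowers x ⊓ normalizer ((P : Subgroup G) : Set G) := ⟨mem_zpowers x, hx⟩
  exact (h2.le h3).2

omit ha in
theorem card_N (P : Sylow 3 G) : Nat.card (normalizer ((P : Subgroup G) : Set G)) = 144 := by
  have h1 := H2.card_conjSet (P : Subgroup G) (normalizer ((P : Subgroup G) : Set G))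
    (fun g y hy1 hy hg => mem_normalizer_fintype fun p hp => by
      by_cases hp1 : p = 1
      · simp [hp1]
      refine mem_P P (h.cent_le P hg (by simpa using hy1) ?_)
        (by rw [orderOf_conj', h.P_ord P hp hp1])
      exact (H2.conj_mem_centralizer_iff g p y).mpr (h.P_le P hy hp))
    (fun g hg y hy => (mem_set_normalizer_iff.mp hg y).mp hy)
  have h2 : H2.conjSet (P : Subgroup G) = {g | orderOf g = 3} := by
    ext y
    refine ⟨fun ⟨hy1, g, hg⟩ => ?_, fun hy => ⟨?_, ?_⟩⟩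
    · have := h.P_ord P hg (by simpa using hy1)
      rwa [orderOf_conj'] at this
    · rintro rfl
      simp at hy
    · obtain ⟨c, -, hc⟩ := exists_conj_le (p := 3) (H := ⊤) (T := P) (le_top (a := zpowers y))
        (IsPGroup.of_card (n := 1) (by rw [Nat.card_zpowers, hy]; rfl))
        (by rw [relIndex_top_right]; exact P.not_dvd_index)
      exact ⟨c, hc y (mem_zpowers y)⟩
  have h3 : ({g | orderOf g = 3} : Set G).ncard = 440 := h.m3
  rw [h2, h3, h.card, h.P_card] at h1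
  omega

omit ha in
theorem not_cent (P : Sylow 3 G) {t : G} (ht : orderOf t = 2) :
    ¬ (P : Subgroup G) ≤ centralizer {t} := fun h1 => by
  have := card_dvd_of_le h1
  rw [h.P_card, h.card_cent2 ht] at this
  omega

omit ha in
theorem mem_P_iff (P : Sylow 3 G) {x y : G} (hx : x ∈ (P : Subgroup G)) (hy : y ∈ (P : Subgroup G))
    (hx1 : x ≠ 1) (hxy : y ∉ zpowers x) {p : G} (hp : p ∈ (P : Subgroup G)) :
    ∃ i < 3, ∃ j < 3, p = x ^ i * y ^ j := by
  have hx3 := h.P_ord P hx hx1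
  have hy3 := h.P_ord P hy (fun e => hxy (e ▸ one_mem _))
  have hc := h.P_comm P hx hy
  let f : Fin 3 × Fin 3 → (P : Subgroup G) := fun q =>
    ⟨x ^ q.1.val * y ^ q.2.val, mul_mem (pow_mem hx _) (pow_mem hy _)⟩
  have key : ∀ i j i' j' : ℕ, j ≤ j' → j' < 3 → x ^ i * y ^ j = x ^ i' * y ^ j' → j = j' := by
    intro i j i' j' h1 h2 h3
    obtain ⟨d, rfl⟩ := Nat.exists_eq_add_of_le h1
    rw [add_comm, pow_add, ← mul_assoc, mul_left_inj] at h3
    have h4 : y ^ d ∈ zpowers x := by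
      rw [eq_inv_mul_of_mul_eq h3.symm]
      exact mul_mem (inv_mem (npow_mem_zpowers x _)) (npow_mem_zpowers x _)
    by_contra h5
    have h6 : y = (y ^ d) ^ d := by
      rw [← pow_mul]
      conv_lhs => rw [← pow_one y]
      rw [pow_eq_iff hy3]
      have : d = 1 ∨ d = 2 := by omega
      rcases this with rfl | rfl <;> rfl
    exact hxy (h6 ▸ pow_mem h4 d)
  have hf : Function.Injective f := by
    rintro ⟨i, j⟩ ⟨i', j'⟩ e
    have e' : x ^ i.val * y ^ j.val = x ^ i'.val * y ^ j'.val := congrArg Subtype.val e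
    obtain rfl : j = j' := by
      rcases le_total j.val j'.val with h1 | h1
      · exact Fin.ext (key _ _ _ _ h1 j'.2 e')
      · exact Fin.ext (key _ _ _ _ h1 j.2 e'.symm).symm
    rw [mul_left_inj, pow_eq_iff hx3, Nat.mod_eq_of_lt i.2, Nat.mod_eq_of_lt i'.2] at e'
    rw [Fin.ext e']
  obtain ⟨q, hq⟩ := (hf.bijective_of_nat_card_le (by rw [h.P_card]; simp)).2 ⟨p, hp⟩
  exact ⟨_, q.1.2, _, q.2.2, (congrArg Subtype.val hq).symm⟩

theorem conj_notMem {x : G} (hx : orderOf x = 3) {k : ℕ} (hk : k = 1 ∨ k = 2)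
    (hz : k = 2 → a ^ 4 * x * (a ^ 4)⁻¹ = x⁻¹) : a ^ k * x * (a ^ k)⁻¹ ∉ zpowers x := by
  intro h1
  obtain ⟨i, hi, hi'⟩ := exists_pow hx h1
  have h2 : 3 / Nat.gcd 3 i = 3 := by rw [← ord_pow hx i, ← hi', orderOf_conj', hx]
  have h3 : (a ^ k) ^ 2 * x * ((a ^ k) ^ 2)⁻¹ = x := by
    calc _ = a ^ k * (a ^ k * x * (a ^ k)⁻¹) * (a ^ k)⁻¹ := by rw [pow_two]; group
      _ = x ^ (i * i) := by rw [hi', ← conj_pow, hi', pow_mul]
      _ = x ^ 1 := by rw [pow_eq_iff hx]; interval_cases i <;> simp_all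
      _ = x := pow_one x
  rcases hk with rfl | rfl
  · rw [pow_one] at h3
    have := h.comm (x := a ^ 2) (y := x) (mul_inv_eq_iff_eq_mul.mp h3)
      (by rw [ord_pow ha 2, hx]; decide)
    rw [ord_pow ha 2, hx] at this
    exact absurd this (by decide)
  · rw [← pow_mul, hz rfl, inv_eq_iff_mul_eq_one, ← pow_two, pow_eq_one_iff' hx] at h3
    omega

theorem four_inverts (P : Sylow 3 G) (haP : a ∈ normalizer ((P : Subgroup G) : Set G)) {p : G}
    (hp : p ∈ (P : Subgroup G)) : a ^ 4 * p * (a ^ 4)⁻¹ = p⁻¹ := by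
  have hz : orderOf (a ^ 4) = 2 := ord_pow ha 4
  have h1 : ∀ k : ℕ, ∀ p ∈ (P : Subgroup G), a ^ k * p * (a ^ k)⁻¹ ∈ (P : Subgroup G) := fun k p hp =>
    (mem_set_normalizer_iff.mp (pow_mem haP k) p).mp hp
  by_contra hne
  obtain ⟨x, hx⟩ : ∃ x, x = p * (a ^ 4 * p * (a ^ 4)⁻¹) := ⟨_, rfl⟩
  have hxP : x ∈ (P : Subgroup G) := hx ▸ mul_mem hp (h1 4 p hp)
  have hx1 : x ≠ 1 := fun e => hne (eq_inv_of_mul_eq_one_right (hx ▸ e))
  have h2 : Commute x (a ^ 4) := by
    have h8 : a ^ 4 * a ^ 4 = 1 := by rw [← pow_add, pow_eq_one_iff' ha]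
    refine Commute.symm (mul_inv_eq_iff_eq_mul.mp ?_)
    calc _ = (a ^ 4 * p * (a ^ 4)⁻¹) * ((a ^ 4 * a ^ 4) * p * (a ^ 4 * a ^ 4)⁻¹) := by rw [hx]; group
      _ = x := by rw [h8, one_mul, inv_one, mul_one, hx, (h.P_comm P hp (h1 4 p hp)).eq]
  refine h.not_cent P hz fun q hq => ?_
  obtain ⟨i, -, j, -, rfl⟩ := h.mem_P_iff P hxP (h1 1 x hxP) hx1
    (h.conj_notMem ha (h.P_ord P hxP hx1) (Or.inl rfl) (by omega)) hq
  refine mul_mem (pow_mem (mem_centralizer_singleton_iff.mpr h2) _)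
    (pow_mem (mem_centralizer_singleton_iff.mpr ?_) _)
  have := h2.conj (a ^ 1)
  rwa [show a ^ 1 * a ^ 4 * (a ^ 1)⁻¹ = a ^ 4 by group] at this

omit ha in
theorem exists_base (P : Sylow 3 G) : ∃ a r g : G, orderOf a = 8 ∧ orderOf r = 2 ∧ r ∈ T a ∧
    r ∉ zpowers a ∧ g ∈ (P : Subgroup G) ∧ g ≠ 1 ∧ T a ≤ normalizer ((P : Subgroup G) : Set G) ∧
    r * g = g * r ∧ r * a * r = a ^ 3 ∧ a * g * a⁻¹ = g * (a ^ 2 * g * (a ^ 2)⁻¹)⁻¹ := by
  obtain ⟨g, hg, hg3⟩ := exists_mem_orderOf Nat.prime_three (H := (P : Subgroup G))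
    (by rw [h.P_card]; norm_num)
  have hg1 : g ≠ 1 := by
    rintro rfl
    simp at hg3
  obtain ⟨r, hr, hr2⟩ := exists_mem_orderOf Nat.prime_two (H := centralizer {g})
    (by rw [h.card_cent3 hg3]; norm_num)
  have hrg : r * g = g * r := mem_centralizer_singleton_iff.mp hr
  obtain ⟨S, hS1, hS2, hS3⟩ := exists_between (n := 1) (m := 4) Nat.prime_two
    (zpowers_le_of_mem (h.cent_le P hg hg1 hr)) (by rw [Nat.card_zpowers, hr2]; rfl) (by norm_num)
    (by rw [h.card_N]; norm_num)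
  obtain ⟨b, hb⟩ := h.exists_eight
  obtain ⟨c, -, hc⟩ := exists_conj_le (p := 2) (H := ⊤) (T := S) (le_top (a := zpowers b))
    (IsPGroup.of_card (n := 3) (by rw [Nat.card_zpowers, hb]; rfl))
    (by rw [relIndex_eq le_top (n := 495) (by rw [card_top, h.card, hS3]; rfl)]; norm_num)
  have hr' : r⁻¹ = r := inv_eq_of_mul_eq_one_right (by rw [← pow_two, ← hr2, pow_orderOf_eq_one])
  have key : ∀ a ∈ S, orderOf a = 8 → r ∈ T a ∧ r ∉ zpowers a ∧
      T a ≤ normalizer ((P : Subgroup G) : Set G) ∧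
      (a * g * a⁻¹ = g * (a ^ 2 * g * (a ^ 2)⁻¹)⁻¹ ∨ a * g * a⁻¹ = (g * (a ^ 2 * g * (a ^ 2)⁻¹)⁻¹)⁻¹) ∧
      (a * g * a⁻¹ = g * (a ^ 2 * g * (a ^ 2)⁻¹)⁻¹ → r * a * r = a ^ 3) := by
    intro a haS ha
    have h1 := (h.eq_T ha hS3 haS).1
    have h2 := h.four_inverts ha P (hS2 haS) hg
    have h3 : ∀ k : ℕ, a ^ k * g * (a ^ k)⁻¹ ∈ (P : Subgroup G) := fun k =>
      (mem_set_normalizer_iff.mp (pow_mem (hS2 haS) k) g).mp hg
    have h4 : r ∉ zpowers a := by
      intro h4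
      rcases h.eq_four ha h4 (by rw [← pow_two, ← hr2, pow_orderOf_eq_one]) with e | e
      · rw [e, orderOf_one] at hr2
        omega
      · rw [← e, hrg, mul_inv_cancel_right, eq_inv_iff_mul_eq_one, ← pow_two,
          pow_eq_one_iff' hg3] at h2
        omega
    have hrT : r ∈ T a := h1 ▸ hS1 (mem_zpowers r)
    have h5 := h.conj_notMem ha hg3 (Or.inr rfl) fun _ => h2
    have h6 := h.conj_notMem ha hg3 (Or.inl rfl) (by omega)
    obtain ⟨i, hi, j, hj, hij⟩ := h.mem_P_iff P hg (h3 2) hg1 h5 (h3 1)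
    obtain ⟨f, hf⟩ : ∃ f, f = a ^ 2 * g * (a ^ 2)⁻¹ := ⟨_, rfl⟩
    have hc : Commute g f := hf ▸ h.P_comm P hg (h3 2)
    have hf3 : orderOf f = 3 := by rw [hf, orderOf_conj', hg3]
    have hg2 : g⁻¹ = g ^ 2 := inv_eq_of_mul_eq_one_right (by rw [← pow_succ', pow_eq_one_iff' hg3])
    have hf2 : f⁻¹ = f ^ 2 := inv_eq_of_mul_eq_one_right (by rw [← pow_succ', pow_eq_one_iff' hf3])
    rw [pow_one] at hij h6
    rw [← hf] at hij h5 ⊢
    have h7 : a ^ 2 * f * (a ^ 2)⁻¹ = g ^ 2 := by rw [← hg2, ← h2, hf]; group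
    have h8 : a * f * a⁻¹ = f ^ i * (g ^ 2) ^ j := by
      calc _ = a ^ 2 * (a * g * a⁻¹) * (a ^ 2)⁻¹ := by rw [hf]; group
        _ = (a ^ 2 * g * (a ^ 2)⁻¹) ^ i * (a ^ 2 * f * (a ^ 2)⁻¹) ^ j := by
          rw [hij, conj_pow, conj_pow]; group
        _ = _ := by rw [← hf, h7]
    have h9 : f = g ^ (i * i + 2 * j * j) * f ^ (j * i + i * j) := by
      calc f = a * (a * g * a⁻¹) * a⁻¹ := by rw [hf, pow_two]; group
        _ = (a * g * a⁻¹) ^ i * (a * f * a⁻¹) ^ j := by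
          conv_lhs => rw [hij]
          rw [conj_pow, conj_pow]; group
        _ = _ := by
          rw [h8, hij, ← pow_mul g 2, (hc.pow_pow i j).mul_pow, (hc.pow_pow (2 * j) i).symm.mul_pow,
            ← pow_mul, ← pow_mul, ← pow_mul, ← pow_mul, pow_add, pow_add, mul_assoc, mul_assoc,
            ← mul_assoc (f ^ _), ← pow_add, (hc.pow_pow _ _).symm.eq, pow_add, mul_assoc]
    have hfg : ∀ k l : ℕ, g ^ k * f ^ l = f → l % 3 = 1 := by
      intro k l e
      by_contra hl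
      rw [← pow_mod_orderOf f, hf3] at e
      have : l % 3 = 0 ∨ l % 3 = 2 := by omega
      rcases this with e' | e' <;> rw [e'] at e
      · rw [pow_zero, mul_one] at e
        exact h5 (e ▸ npow_mem_zpowers g k)
      · rw [pow_two, ← mul_assoc, mul_eq_right] at e
        exact h5 (eq_inv_of_mul_eq_one_right e ▸ inv_mem (npow_mem_zpowers g k))
    have h10 := hfg _ _ h9.symm
    refine ⟨hrT, h4, h1 ▸ hS2, ?_, fun h11 => ?_⟩
    · have : i = 1 ∧ j = 2 ∨ i = 2 ∧ j = 1 := by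
        interval_cases i <;> interval_cases j <;> omega
      rcases this with ⟨rfl, rfl⟩ | ⟨rfl, rfl⟩
      · left
        rw [hij, pow_one, hf2]
      · right
        rw [hij, pow_one, mul_inv_rev, inv_inv, hg2, (hc.pow_left 2).eq]
    · rcases h.inverts ha hrT h4 with e | e <;> rw [hr'] at e
      · exact e
      exfalso
      have h12 := h.inverts_sq ha hrT h4
      have h13 : r * f * r⁻¹ = f⁻¹ := by
        calc _ = (r * a ^ 2 * r⁻¹) * (r * g * r⁻¹) * (r * a ^ 2 * r⁻¹)⁻¹ := by rw [hf]; group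
          _ = (a ^ 2)⁻¹ * (g ^ 2) ^ 2 * a ^ 2 := by
            rw [h12, hrg, mul_inv_cancel_right, inv_inv, ← pow_mul, ← pow_mod_orderOf g, hg3, pow_one]
          _ = f⁻¹ := by rw [← h7, conj_pow, hf2]; group
      have h14 : a⁻¹ = r * a * r⁻¹ := by
        rw [hr', e]
        exact inv_eq_of_mul_eq_one_right (by rw [← pow_succ', pow_eq_one_iff' ha])
      have h15 : a⁻¹ * g * a = g * f := by
        calc _ = r * (a * (r⁻¹ * g * r) * a⁻¹) * r⁻¹ := by
              conv_lhs => rw [← inv_inv a, inv_inv a⁻¹, h14]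
              group
          _ = (r * g * r⁻¹) * (r * f * r⁻¹)⁻¹ := by
              rw [mul_assoc r⁻¹, ← hrg, inv_mul_cancel_left, h11]; group
          _ = _ := by rw [h13, hrg, mul_inv_cancel_right, inv_inv]
      have h16 : a * f * a⁻¹ = f * g := by
        calc _ = a ^ 2 * (a * g * a⁻¹) * (a ^ 2)⁻¹ := by rw [hf]; group
          _ = (a ^ 2 * g * (a ^ 2)⁻¹) * (a ^ 2 * f * (a ^ 2)⁻¹)⁻¹ := by rw [h11]; group
          _ = _ := by rw [← hf, h7, ← hg2, inv_inv]
      have h17 : g = g * g := by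
        calc g = a * (a⁻¹ * g * a) * a⁻¹ := by group
          _ = (a * g * a⁻¹) * (a * f * a⁻¹) := by rw [h15]; group
          _ = _ := by rw [h11, h16]; group
      exact hg1 (by simpa using h17)
  have ha : orderOf (c * b * c⁻¹) = 8 := by rw [orderOf_conj', hb]
  have haS := hc b (mem_zpowers b)
  generalize c * b * c⁻¹ = a at ha haS
  obtain ⟨k1, k2, k3, k4 | k4, k5⟩ := key a haS ha
  · exact ⟨a, r, g, ha, hr2, k1, k2, hg, hg1, k3, hrg, k5 k4, k4⟩
  · have ha5 : orderOf (a ^ 5) = 8 := ord_pow ha 5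
    obtain ⟨l1, l2, l3, -, l5⟩ := key (a ^ 5) (pow_mem haS 5) ha5
    have e : (a ^ 5) ^ 2 = a ^ 2 := by rw [← pow_mul, pow_eq_iff ha]
    have l4 : a ^ 5 * g * (a ^ 5)⁻¹ = g * ((a ^ 5) ^ 2 * g * ((a ^ 5) ^ 2)⁻¹)⁻¹ := by
      rw [e, ← inv_inj, ← k4]
      calc _ = a * (a ^ 4 * g * (a ^ 4)⁻¹)⁻¹ * a⁻¹ := by group
        _ = _ := by rw [h.four_inverts ha P (hS2 haS) hg, inv_inv]
    exact ⟨a ^ 5, r, g, ha5, hr2, l1, l2, hg, hg1, l3, hrg, l5 l4, l4⟩

end Hyp

end Cfsg.Agent.H4.M11R
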