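import Cfsg.Agent.H4.M11Rec

/-!
# Groups of order `7920` with the element order statistics of `M₁₁` are isomorphic
-/

set_option autoImplicit false
set_option linter.unusedSectionVars false

namespace Cfsg.Agent.H4.M11R

open Subgroup Nse M11P

variable {G : Type*} [Group G] [Finite G]

theorem conj_r {a r : G} (h1 : r * r = 1) (h2 : r * a * r = a ^ 3) (k : ℕ) :
    r * a ^ k = a ^ (3 * k) * r := by
  have h3 : r⁻¹ = r := inv_eq_of_mul_eq_one_right h1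
  rw [pow_mul, ← h2]
  conv_rhs => rw [show r * a * r = r * a * r⁻¹ by rw [h3], conj_pow, inv_mul_cancel_right]

namespace Hyp

variable (h : Hyp G) {a : G} (ha : orderOf a = 8) {r : G} (hrT : r ∈ T a) (hr : r ∉ zpowers a)
  (h1 : r * r = 1) (h2 : r * a * r = a ^ 3)
include h ha hrT hr h1 h2

omit h2 in
theorem exists_pow_mul {t : G} (ht : t ∈ T a) (ht' : t ∉ zpowers a) : ∃ k < 8, t = a ^ k * r := by
  obtain ⟨k, hk, e⟩ := exists_pow ha (mul_mem_of_index_two (h.zp_le ha) (h.card_T ha) ht hrT ht' hr)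
  exact ⟨k, hk, by rw [← e, mul_assoc, h1, mul_one]⟩

omit h hrT hr in
theorem sq_pow_mul (k : ℕ) : a ^ k * r * (a ^ k * r) = a ^ (4 * k) := by
  rw [mul_assoc, ← mul_assoc r, conj_r h1 h2, mul_assoc, h1, mul_one, ← pow_add]
  congr 1
  omega

theorem exists_swap : ∃ c : G, c * a ^ 4 * c⁻¹ = r ∧ c * r * c⁻¹ = a ^ 4 := by
  have hr1 : r ≠ 1 := fun e => hr (e ▸ one_mem _)
  have hr2 : orderOf r = 2 := orderOf_eq_prime (by rw [pow_two, h1]) hr1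
  have hz : orderOf (a ^ 4) = 2 := ord_pow ha 4
  obtain ⟨c, hc⟩ := h.conj2 ha hr2
  have h3 : Commute (c⁻¹ * a ^ 4 * c⁻¹⁻¹) (a ^ 4) := by
    have := (h.comm_four ha hrT).symm.conj c⁻¹
    rwa [← hc, show c⁻¹ * (c * a ^ 4 * c⁻¹) * c⁻¹⁻¹ = a ^ 4 by group] at this
  obtain ⟨d, hd1, hd2⟩ := h.exists_conj_T ha
    (zpowers_le_of_mem (mem_centralizer_singleton_iff.mpr h3))
    (IsPGroup.of_card (n := 1) (by rw [Nat.card_zpowers, orderOf_conj', hz]; rfl))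
  have e : d * a ^ 4 * d⁻¹ = a ^ 4 := mul_inv_eq_iff_eq_mul.mpr hd1
  have h4 := hd2 _ (mem_zpowers _)
  have h5 : orderOf (d * (c⁻¹ * a ^ 4 * c⁻¹⁻¹) * d⁻¹) = 2 := by rw [orderOf_conj', orderOf_conj', hz]
  have h6 : d * (c⁻¹ * a ^ 4 * c⁻¹⁻¹) * d⁻¹ * (d * (c⁻¹ * a ^ 4 * c⁻¹⁻¹) * d⁻¹) = 1 := by
    rw [← pow_two, ← h5, pow_orderOf_eq_one]
  obtain ⟨k, hk, hk'⟩ := h.exists_pow_mul ha hrT hr h1 h4 (fun h7 => by
    rcases h.eq_four ha h7 h6 with e' | e'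
    · rw [e', orderOf_one] at h5
      omega
    · refine hr ?_
      have : r = a ^ 4 := by
        calc r = c * d⁻¹ * (d * a ^ 4 * d⁻¹) * d * c⁻¹ := by rw [← hc]; group
          _ = c * d⁻¹ * (d * (c⁻¹ * a ^ 4 * c⁻¹⁻¹) * d⁻¹) * d * c⁻¹ := by rw [e, e']
          _ = a ^ 4 := by group
      exact this ▸ npow_mem_zpowers a 4)
  rw [hk', sq_pow_mul ha h1 h2, pow_eq_one_iff' ha] at h6
  obtain ⟨l, rfl⟩ : ∃ l, k = 2 * l := ⟨k / 2, by omega⟩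
  have h7 : a ^ l * (a ^ (2 * l) * r) * (a ^ l)⁻¹ = r := by
    rw [mul_inv_eq_iff_eq_mul, conj_r h1 h2, ← mul_assoc, ← pow_add]
    congr 2
    omega
  refine ⟨c * d⁻¹ * (a ^ l)⁻¹, ?_, ?_⟩
  · calc _ = c * d⁻¹ * a ^ 4 * d * c⁻¹ := by group
      _ = c * d⁻¹ * (d * a ^ 4 * d⁻¹) * d * c⁻¹ := by rw [e]
      _ = r := by rw [← hc]; group
  · rw [← h7, ← hk']
    group

theorem exists_w : ∃ w : G, w ^ 3 = 1 ∧ w * a ^ 4 * w⁻¹ = r ∧ a ^ 2 * r * w * (a ^ 2 * r) = w⁻¹ := by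
  obtain ⟨c, hc1, hc2⟩ := h.exists_swap ha hrT hr h1 h2
  have hs : a ^ 2 * r * (a ^ 2 * r) = 1 := by rw [sq_pow_mul ha h1 h2, pow_eq_one_iff' ha]
  have hzr : Commute r (a ^ 4) := h.comm_four ha hrT
  have hz : a ^ 4 * a ^ 4 = 1 := by rw [← pow_add, pow_eq_one_iff' ha]
  have hsz : a ^ 2 * r * a ^ 4 * (a ^ 2 * r)⁻¹ = a ^ 4 := by
    rw [mul_assoc (a ^ 2), hzr.eq]
    group
  have hsr : a ^ 2 * r * r * (a ^ 2 * r)⁻¹ = a ^ 4 * r := by
    rw [inv_eq_of_mul_eq_one_right hs, mul_assoc (a ^ 2), h1]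
    group
  have hne : r ≠ a ^ 4 := fun e => hr (e ▸ npow_mem_zpowers a 4)
  generalize a ^ 2 * r = s at hs hsz hsr ⊢
  generalize a ^ 4 = z at *
  obtain ⟨w, hw⟩ : ∃ w, w = s * (c * s * c⁻¹) := ⟨_, rfl⟩
  have w2 : w * r * w⁻¹ = z * r := by
    calc _ = s * (c * (s * (c⁻¹ * r * c) * s⁻¹) * c⁻¹) * s⁻¹ := by rw [hw]; group
      _ = _ := by rw [show c⁻¹ * r * c = z by rw [← hc1]; group, hsz, hc1, hsr]
  have w1 : w * z * w⁻¹ = r := by
    calc _ = s * (c * (s * (c⁻¹ * z * c) * s⁻¹) * c⁻¹) * s⁻¹ := by rw [hw]; group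
      _ = s * ((c * z * c⁻¹) * (c * r * c⁻¹)) * s⁻¹ := by
        rw [show c⁻¹ * z * c = r by rw [← hc2]; group, hsr]; group
      _ = (s * r * s⁻¹) * (s * z * s⁻¹) := by rw [hc1, hc2]; group
      _ = _ := by rw [hsr, hsz, mul_assoc, hzr.eq, ← mul_assoc, hz, one_mul]
  have w3 : w * (z * r) * w⁻¹ = z := by
    rw [← conj_mul, w1, w2, ← mul_assoc, hzr.eq, mul_assoc, h1, mul_one]
  have w4 : w ^ 3 * z * (w ^ 3)⁻¹ = z := by
    calc _ = w * (w * (w * z * w⁻¹) * w⁻¹) * w⁻¹ := by rw [pow_succ, pow_two]; group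
      _ = _ := by rw [w1, w2, w3]
  have w5 : w ^ 3 * r * (w ^ 3)⁻¹ = r := by
    calc _ = w * (w * (w * r * w⁻¹) * w⁻¹) * w⁻¹ := by rw [pow_succ, pow_two]; group
      _ = _ := by rw [w2, w3, w1]
  have hs' : s⁻¹ = s := inv_eq_of_mul_eq_one_right hs
  have w6 : s * w * s⁻¹ = w⁻¹ := by
    rw [hw, ← mul_assoc, hs, one_mul, mul_inv_rev, conj_inv, hs']
  have : ∀ n ∈ [1, 2, 3, 4, 5, 6, 8, 11], n ∣ 4 * 3 ∨ n ∣ 3 * 293 + 1 := by decide
  rcases this _ (h.ord w) with h3 | h3 <;> rw [orderOf_dvd_iff_pow_eq_one] at h3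
  · refine ⟨w ^ 4, by rw [← pow_mul, h3], ?_, ?_⟩
    · rw [← w5, ← w1]
      group
    · conv_lhs => rw [show s * w ^ 4 * s = s * w ^ 4 * s⁻¹ by rw [hs'], ← conj_pow, w6, inv_pow]
  · rw [pow_succ, pow_mul] at h3
    have h4 : Commute w z := by
      rw [eq_inv_of_mul_eq_one_right h3]
      exact (Commute.pow_left (mul_inv_eq_iff_eq_mul.mp w4) _).inv_left
    rw [h4.eq, mul_inv_cancel_right] at w1
    exact absurd w1.symm hne

omit h2 in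
theorem closure_eq_top (P : Sylow 3 G) {g w : G} (hR : Rel a r g w) (hg : g ∈ (P : Subgroup G))
    (hg1 : g ≠ 1) (hT : T a ≤ normalizer ((P : Subgroup G) : Set G)) :
    closure {a, r, g, w} = ⊤ := by
  obtain ⟨H, hH⟩ : ∃ H, H = closure ({a, r, g, w} : Set G) := ⟨_, rfl⟩
  have haH : a ∈ H := hH ▸ subset_closure (by simp)
  have hrH : r ∈ H := hH ▸ subset_closure (by simp)
  have hgH : g ∈ H := hH ▸ subset_closure (by simp)
  have hwH : w ∈ H := hH ▸ subset_closure (by simp)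
  rw [← hH]
  have hg3 := h.P_ord P hg hg1
  have haN := hT (h.T_spec ha).2.1
  have h3 : T a ≤ H := fun t ht => by
    by_cases ht' : t ∈ zpowers a
    · exact zpowers_le_of_mem haH ht'
    · obtain ⟨k, -, rfl⟩ := h.exists_pow_mul ha hrT hr h1 ht ht'
      exact mul_mem (pow_mem haH k) hrH
  have h4 : (P : Subgroup G) ≤ H := fun p hp => by
    obtain ⟨i, -, j, -, rfl⟩ := h.mem_P_iff P hg ((mem_set_normalizer_iff.mp (pow_mem haN 1) g).mp hg)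
      hg1 (h.conj_notMem ha hg3 (Or.inl rfl) (by omega)) hp
    exact mul_mem (pow_mem hgH i)
      (pow_mem (mul_mem (mul_mem (pow_mem haH 1) hgH) (inv_mem (pow_mem haH 1))) j)
  have h5 : normalizer ((P : Subgroup G) : Set G) ≤ H := by
    have e1 := card_dvd_of_le (le_inf hT h3)
    have e2 := card_dvd_of_le (le_inf le_normalizer h4)
    rw [(h.T_spec ha).1] at e1
    rw [h.P_card] at e2
    have e3 := Nat.le_of_dvd Nat.card_pos (Nat.Coprime.mul_dvd_of_dvd_of_dvd (by norm_num) e1 e2)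
    exact inf_eq_left.mp (eq_of_le_of_card_ge inf_le_left (by rw [h.card_N]; exact e3))
  have h6 := relIndex_normalizer_modEq P h4
  have h7 := relIndex_mul_card h5
  have h8 := h.card_dvd H
  rw [← h7, h.card_N, Nat.mem_divisors] at h8
  have h9 : ∀ n ∈ Nat.divisors 55, n ≡ 1 [MOD 3] → n = 1 ∨ n = 55 := by decide
  rcases h9 _ (Nat.mem_divisors.mpr ⟨Nat.dvd_of_mul_dvd_mul_right (k := 144) (by norm_num) h8.1,
    by norm_num⟩) h6 with e | e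
  · exfalso
    have h10 : w⁻¹ * g * w⁻¹⁻¹ ∈ (P : Subgroup G) := mem_P P (relIndex_eq_one.mp e
      (mul_mem (mul_mem (inv_mem hwH) hgH) (inv_mem (inv_mem hwH)))) (by rw [orderOf_conj', hg3])
    have h11 := h.four_inverts ha P haN h10
    have h12 : a ^ 4 * (w⁻¹ * g * w⁻¹⁻¹) * (a ^ 4)⁻¹ = w⁻¹ * g * w⁻¹⁻¹ := by
      calc _ = w⁻¹ * ((w * a ^ 4 * w⁻¹) * g * (w * a ^ 4 * w⁻¹)⁻¹) * w := by group
        _ = _ := by rw [hR.e9, hR.e4]; group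
    rw [h12, eq_inv_iff_mul_eq_one, conj_mul, ← pow_two, conj_eq_one_iff, pow_eq_one_iff' hg3] at h11
    omega
  · rw [e, h.card_N] at h7
    exact eq_top_of_card_eq _ (by rw [← h7, h.card])

omit ha hrT hr h1 h2 in
theorem exists_gens : ∃ a r g w : G, Rel a r g w ∧
    w⁻¹ * g * w * a ^ 2 * (w⁻¹ * g * w)⁻¹ = a ^ 3 * r ∧ closure {a, r, g, w} = ⊤ := by
  obtain ⟨P⟩ : Nonempty (Sylow 3 G) := inferInstance
  obtain ⟨a, r, g, ha, hr2, hrT, hr, hg, hg1, hT, hrg, h2, h7⟩ := h.exists_base P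
  have h1 : r * r = 1 := by rw [← pow_two, ← hr2, pow_orderOf_eq_one]
  obtain ⟨w, h8, h9, h10⟩ := h.exists_w ha hrT hr h1 h2
  have hg3 := h.P_ord P hg hg1
  have haN := hT (h.T_spec ha).2.1
  have hR : Rel a r g w := ⟨by rw [pow_eq_one_iff' ha], h1, h2, by rw [pow_eq_one_iff' hg3], hrg,
    h.P_comm P hg ((mem_set_normalizer_iff.mp (pow_mem haN 2) g).mp hg),
    h.four_inverts ha P haN hg, h7, h8, h9, h10⟩
  have t1 := h.closure_eq_top ha hrT hr h1 P hR hg hg1 hT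
  have t2 := h.closure_eq_top ha hrT hr h1 P hR.inv (inv_mem hg) (inv_ne_one.mpr hg1) hT
  have hx : Commute (w⁻¹ * g * w) (a ^ 4) := by
    have := (Commute.symm hrg).conj w⁻¹
    rwa [← h9, inv_inv, show w⁻¹ * (w * a ^ 4 * w⁻¹) * w = a ^ 4 by group] at this
  have hx3 : orderOf (w⁻¹ * g * w) = 3 := by rw [← hg3, ← orderOf_conj' w⁻¹ g, inv_inv]
  obtain ⟨j1, j2⟩ := h.jlem ha hx3 hx
  obtain ⟨k, hk, hk'⟩ := h.exists_pow_mul ha hrT hr h1 j1 j2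
  have hk2 : k % 2 = 1 := by
    have h3 : orderOf (a ^ k * r) = 4 := by rw [← hk', orderOf_conj', ord_pow ha 2]; rfl
    have h4 := (pow_eq_one_iff' h3 2).not.mpr (by norm_num)
    rw [pow_two, sq_pow_mul ha h1 h2, pow_eq_one_iff' ha] at h4
    omega
  have hr' : r⁻¹ = r := inv_eq_of_mul_eq_one_right h1
  have hs : a ^ 2 * r * (a ^ 2 * r) = 1 := by rw [sq_pow_mul ha h1 h2, pow_eq_one_iff' ha]
  have hzr : Commute r (a ^ 4) := h.comm_four ha hrT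
  have h11 : w⁻¹ * a ^ 4 * w = a ^ 4 * r := by
    have e : w = a ^ 2 * r * w⁻¹ * (a ^ 2 * r) := by
      calc w = a ^ 2 * r * (a ^ 2 * r) * w * (a ^ 2 * r * (a ^ 2 * r)) := by rw [hs]; group
        _ = _ := by rw [← h10]; group
    calc _ = a ^ 2 * r * w * (a ^ 2 * r) * a ^ 4 * (a ^ 2 * r * w⁻¹ * (a ^ 2 * r)) := by rw [← e, h10]
      _ = a ^ 2 * r * w * (a ^ 2 * (r * a ^ 4) * (a ^ 2 * r)) * w⁻¹ * (a ^ 2 * r) := by group
      _ = a ^ 2 * r * w * (a ^ 4 * (a ^ 2 * r * (a ^ 2 * r))) * w⁻¹ * (a ^ 2 * r) := by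
        rw [hzr.eq]; group
      _ = a ^ 2 * r * (w * a ^ 4 * w⁻¹) * (a ^ 2 * r) := by rw [hs]; group
      _ = _ := by rw [h9, mul_assoc (a ^ 2), h1]; group
  have h12 : r * (w⁻¹ * g * w) * r⁻¹ = (w⁻¹ * g * w)⁻¹ := by
    have e : r = w⁻¹ * (a ^ 4 * r) * w := by
      calc r = a ^ 4 * a ^ 4 * r := by rw [← pow_add, (pow_eq_one_iff' ha _).mpr rfl, one_mul]
        _ = a ^ 4 * r * a ^ 4 := by rw [mul_assoc, mul_assoc, hzr.eq]
        _ = (w⁻¹ * a ^ 4 * w) * (w⁻¹ * (w * a ^ 4 * w⁻¹) * w) := by rw [h11]; group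
        _ = _ := by rw [h9]; group
    calc _ = w⁻¹ * (a ^ 4 * (r * g * r⁻¹) * (a ^ 4)⁻¹) * w := by
          conv_lhs => rw [e]
          group
      _ = _ := by rw [hrg, mul_inv_cancel_right, hR.e6]; group
  have h13 : w⁻¹ * g⁻¹ * w * a ^ 2 * (w⁻¹ * g⁻¹ * w)⁻¹ = a ^ (3 * (k + 4)) * r := by
    have e : r⁻¹ * a ^ 2 * r = (a ^ 2) ^ 3 := by
      rw [hr', conj_r h1 h2, mul_assoc, h1, mul_one, ← pow_mul]
    have e' : (a ^ k * r) ^ 3 = a ^ (k + 4) * r := by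
      rw [pow_succ, pow_two, sq_pow_mul ha h1 h2, ← mul_assoc, ← pow_add, mul_left_inj, pow_eq_iff ha]
      omega
    calc _ = (w⁻¹ * g * w)⁻¹ * a ^ 2 * (w⁻¹ * g * w)⁻¹⁻¹ := by group
      _ = r * (w⁻¹ * g * w * (r⁻¹ * a ^ 2 * r) * (w⁻¹ * g * w)⁻¹) * r⁻¹ := by
        conv_lhs => rw [← h12]
        group
      _ = _ := by rw [e, ← conj_pow, hk', e', ← mul_assoc, mul_inv_cancel_right, conj_r h1 h2]
  have h14 : k = 1 ∨ k = 3 ∨ k = 5 ∨ k = 7 := by omega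
  rcases h14 with rfl | rfl | rfl | rfl
  · have := hR.card_one hk'
    rw [t1, card_top, h.card] at this
    omega
  · exact ⟨a, r, g, w, hR, hk', t1⟩
  · exact ⟨a, r, g⁻¹, w, hR.inv, by rw [h13, mul_left_inj, pow_eq_iff ha], t2⟩
  · have := hR.inv.card_one (by rw [h13, mul_left_inj, pow_eq_iff ha])
    rw [t2, card_top, h.card] at this
    omega

omit ha hrT hr h1 h2 in
theorem nonempty_mulEquiv {M : Type*} [Group M] [Finite M] (hM : Hyp M) : Nonempty (G ≃* M) := by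
  obtain ⟨a, r, g, w, hR, hk, ht⟩ := h.exists_gens
  obtain ⟨a', r', g', w', hR', hk', ht'⟩ := hM.exists_gens
  obtain ⟨φ, e1, e2, e3, e4⟩ := hR.exists_hom hk hR' hk' hM.card ht'
  have hs : Function.Surjective φ := by
    rw [← MonoidHom.range_eq_top, eq_top_iff, ← ht, closure_le]
    rintro x (rfl | rfl | rfl | rfl)
    exacts [⟨_, e1⟩, ⟨_, e2⟩, ⟨_, e3⟩, ⟨_, e4⟩]
  exact ⟨(MulEquiv.ofBijective φ (hs.bijective_of_nat_card_le (by rw [h.card, hM.card]))).symm⟩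

end Hyp

end Cfsg.Agent.H4.M11R
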