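import Cfsg.Agent.H4.M12Pres
import Cfsg.Agent.H4.Golay
import Cfsg.Agent.H4.Nse2
import Cfsg.Agent.L0.SC3Main
import Cfsg.Agent.H6.AltSpec
import Cfsg.Agent.H7.TwoMod4
import Cfsg.Agent.S3412

/-!
# Completions of the amalgam of two groups `3² : GL₂(3)`
-/

set_option autoImplicit false
set_option linter.unusedSectionVars false

namespace Cfsg.Agent.H4.M12P

open Subgroup L0.SC3 Nse Matrix.SpecialLinearGroup
open scoped MatrixGroups

variable {G : Type*} [Group G]

theorem sq_eq {z s a : G} (hz : z ^ 3 = 1) (hs : s * z * s⁻¹ = z⁻¹) (hs2 : s * s = 1)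
    (ha : a * a = 1) (haz : (a * z) ^ 3 = 1) (hsa : Commute s a) : (s * (z * a * z⁻¹)) ^ 2 = a := by
  have h1 : s⁻¹ = s := inv_eq_of_mul_eq_one_right hs2
  have h2 : a⁻¹ = a := inv_eq_of_mul_eq_one_right ha
  have h3 : z * a * z * a * z = a := by
    rw [← h2]
    conv_lhs => rw [h2]
    exact eq_inv_of_mul_eq_one_right (by rw [← haz, pow_succ, pow_two]; group)
  calc _ = (s * z * s⁻¹) * (s * a * s⁻¹) * (s * z * s⁻¹)⁻¹ * (s * s) * (z * a * z⁻¹) := by
        rw [pow_two]; group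
    _ = z⁻¹ * a * (z * z) * a * z⁻¹ := by rw [hs, hs2, hsa.eq]; group
    _ = (z * a⁻¹ * z * a⁻¹ * z)⁻¹ := by rw [mul_self_of_cube hz]; group
    _ = a := by rw [h2, h3, h2]

variable [Finite G]

theorem exists_inv {z s : G} (h : SC z) (hs : s * z * s⁻¹ = z⁻¹) (hs2 : s * s = 1) :
    ∃ R, Inv z R ∧ ∀ a, a * a = 1 → (a * z) ^ 3 = 1 → Commute s a → ¬ IsConj s a → a ∈ R := by
  rcases core_or_T2 _ G rfl z h with ⟨R, c⟩ | ⟨S, _, π, hπ, hk, hS, hS'⟩
  · refine ⟨R, c.inv, fun a ha haz _ _ => ?_⟩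
    rcases c.act a trivial with e | e
    · exact c.mem_of_act h e fun e => two_ne_three e ha
    · have h1 : a * z ∈ R := by
        have : a * z = (a * z * a⁻¹ * z)⁻¹ := by
          rw [inv_eq_of_mul_eq_one_right ha]
          exact eq_inv_of_mul_eq_one_right (by rw [← haz, pow_succ, pow_two]; group)
        exact this ▸ inv_mem e
      have h2 := c.cube _ h1 haz
      rw [eq_inv_of_mul_eq_one_left h2, ← mul_inv_rev, inv_eq_one] at ha
      exact absurd (two_ne_three h.cube ha) h.ne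
  refine ⟨π.ker, inv_ker π hk, fun a ha haz hsa hc => ?_⟩
  by_contra hne
  have := Finite.of_surjective π hπ
  rcases h.post π hπ hk hS' with ⟨-, -, h60, -⟩ | ⟨hb, -⟩
  · obtain ⟨e⟩ := Small.alt5_of_simple h60
    have h1 := congrArg π (sq_eq h.cube hs hs2 ha haz hsa)
    rw [map_pow] at h1
    have h2 : orderOf (π (s * (z * a * z⁻¹))) = 2 ^ (1 + 1) := orderOf_eq_prime_pow
      (by rw [pow_one, h1]; exact hne)
      (by rw [pow_succ, pow_mul, pow_one, h1, pow_two, ← map_mul, ha, map_one])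
    have h3 : orderOf (e (π (s * (z * a * z⁻¹)))) ∈ ({1, 2, 3, 5} : Set ℕ) :=
      H6.spec_alt5 ▸ ⟨_, rfl⟩
    rw [e.orderOf_eq, h2] at h3
    simp at h3
  · have hi := (π.ker_eq_bot_iff).mp hb
    have := Fintype.ofFinite S
    obtain ⟨g, hg⟩ := isConj_iff.mp ((h.map π hπ hk).isConj_invol (t := π s)
      (by rw [← map_inv, ← map_mul, ← map_mul, hs, map_inv]) (z := π s) (w := π a)
      (fun e => (h.invol hs).1 (hi (e.trans (map_one π).symm))) (by rw [← map_mul, hs2, map_one])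
      hne (by rw [← map_mul, ha, map_one]))
    obtain ⟨g, rfl⟩ := hπ g
    exact hc (isConj_iff.mpr ⟨g, hi (by rw [map_mul, map_mul, map_inv, hg])⟩)

theorem cube_or {t z s a b : G} (ht1 : t ≠ 1) (ht : t * t = 1) (hz1 : z ≠ 1) (hz : z ^ 3 = 1)
    (hzt : Commute z t) (hst : Commute s t) (hs : s * z * s⁻¹ = z⁻¹) (hs2 : s * s = 1)
    (ha : a * a = t) (hb : b * b = t) (haz : (a * z) ^ 3 = 1) (hbz : (b * z⁻¹) ^ 3 = 1)
    (hsa : s * a * s⁻¹ = a⁻¹) (hsb : s * b * s⁻¹ = b⁻¹)
    (hc : ∀ g, Commute g z → Commute g t → ∃ i : ℕ, g = z ^ i ∨ g = z ^ i * t) :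
    (a * b * z) ^ 3 = 1 ∨ (a * b * z) ^ 3 = t := by
  let C := centralizer ({t} : Set G)
  have hm : ∀ {g}, Commute g t → g ∈ C := fun h => mem_centralizer_singleton_iff.mpr h
  let t' : C := ⟨t, hm rfl⟩
  have hct : ∀ g : C, Commute g t' := fun g => Subtype.ext (mem_centralizer_singleton_iff.mp g.2)
  have ho : orderOf t' = 2 := orderOf_eq_prime (Subtype.ext ((pow_two t).trans ht))
    fun e => ht1 (congrArg Subtype.val e)
  have hN : (zpowers t').Normal := ⟨fun n hn g => by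
    obtain ⟨k, rfl⟩ := mem_zpowers_iff.mp hn
    rwa [((hct g).zpow_right k).eq, mul_inv_cancel_right]⟩
  let π := QuotientGroup.mk' (zpowers t')
  have hπ : ∀ g : C, π g = 1 ↔ (g : G) = 1 ∨ (g : G) = t := fun g => by
    refine (QuotientGroup.eq_one_iff g).trans ⟨fun h => ?_, ?_⟩
    · obtain ⟨k, hk, rfl⟩ := exists_pow ho h
      interval_cases k
      exacts [Or.inl (pow_zero t), Or.inr (pow_one t)]
    · rintro (h | h)
      · exact (show g = 1 from Subtype.ext h) ▸ one_mem _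
      · exact (show g = t' from Subtype.ext h) ▸ mem_zpowers _
  have hπt : π t' = 1 := (hπ _).mpr (Or.inr rfl)
  have hsq : ∀ {g : G}, g * g = t → Commute g t := fun e => e ▸ (Commute.refl _).mul_right rfl
  let z' : C := ⟨z, hm hzt⟩
  let s' : C := ⟨s, hm hst⟩
  have hz' : z' ^ 3 = 1 := Subtype.ext hz
  have h1 : SC (π z') := by
    refine ⟨fun e => ?_, by rw [← map_pow, hz', map_one], fun g hg => ?_⟩
    · rcases (hπ _).mp e with e | e
      · exact hz1 e
      · exact hz1 (two_ne_three hz ((show z = t from e).symm ▸ ht))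
    obtain ⟨g, rfl⟩ : ∃ g', π g' = g := QuotientGroup.mk'_surjective _ g
    have h2 : Commute (g : G) z := by
      rcases (hπ (g * z' * g⁻¹ * z'⁻¹)).mp (by
        rw [map_mul, map_mul, map_mul, map_inv, map_inv, ← hg.eq]; group) with e | e
      · exact mul_inv_eq_iff_eq_mul.mp (mul_inv_eq_one.mp e)
      · have h3 : (g * z * (g : G)⁻¹) ^ 3 = (t * z) ^ 3 := by rw [← e]; simp [z']
        rw [conj_pow, hzt.symm.mul_pow, hz, mul_one, mul_one, mul_inv_cancel, pow_succ, pow_two, ht,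
          one_mul] at h3
        exact absurd h3.symm ht1
    obtain ⟨i, hi⟩ := hc g h2 (mem_centralizer_singleton_iff.mp g.2)
    have h3 : π g = π z' ^ (i % 3) := by
      rw [← map_pow, ← pow_eq_pow_mod i hz']
      rcases hi with e | e
      · rw [show g = z' ^ i from Subtype.ext e]
      · rw [show g = z' ^ i * t' from Subtype.ext e, map_mul, hπt, mul_one]
    have h4 := Nat.mod_lt i three_pos
    change π g = 1 ∨ π g = π z' ∨ π g = (π z')⁻¹
    rw [h3]
    interval_cases i % 3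
    · exact Or.inl (pow_zero _)
    · exact Or.inr (Or.inl (pow_one _))
    · exact Or.inr (Or.inr (by
        rw [pow_two, ← map_mul, mul_self_of_cube hz', map_inv]))
  obtain ⟨R, hR, key⟩ := exists_inv h1 (s := π s')
    (by rw [← map_inv, ← map_inv, ← map_mul, ← map_mul]; exact congrArg π (Subtype.ext hs))
    (by rw [← map_mul, (hπ _).mpr (Or.inl hs2)])
  have h2 : ∀ (a : G) (ha : a * a = t), π ⟨a, hm (hsq ha)⟩ * π ⟨a, hm (hsq ha)⟩ = 1 := fun a ha => by
    rw [← map_mul, (hπ _).mpr (Or.inr ha)]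
  have h3 : ∀ (a : G) (ha : a * a = t), s * a * s⁻¹ = a⁻¹ → (π ⟨a, hm (hsq ha)⟩ * π z') ^ 3 = 1 →
      π ⟨a, hm (hsq ha)⟩ ∈ R := by
    intro a ha hsa haz
    refine key _ (h2 a ha) haz (mul_inv_eq_iff_eq_mul.mp ?_) fun e => ?_
    · rw [← map_inv, ← map_mul, ← map_mul, ← inv_eq_of_mul_eq_one_right (h2 a ha), ← map_inv]
      exact congrArg π (Subtype.ext hsa)
    · obtain ⟨g, hg⟩ := isConj_iff.mp e
      obtain ⟨g, rfl⟩ := QuotientGroup.mk'_surjective _ g
      have h4 : (g * s * (g : G)⁻¹) * (g * s * (g : G)⁻¹) = 1 := by rw [conj_mul, hs2]; simp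
      rcases (hπ (g * s' * g⁻¹ * ⟨a, hm (hsq ha)⟩⁻¹)).mp (by
        rw [map_mul, map_mul, map_mul, map_inv, map_inv]; exact mul_inv_eq_one.mpr hg) with e | e
      · rw [show g * s * (g : G)⁻¹ = a from mul_inv_eq_one.mp e, ha] at h4
        exact ht1 h4
      · rw [show g * s * (g : G)⁻¹ = t * a from mul_inv_eq_iff_eq_mul.mp e, (hsq ha).symm.eq,
          mul_assoc, ← mul_assoc t, (hsq ha).symm.eq, mul_assoc, ht, mul_one, ha] at h4
        exact ht1 h4
  obtain ⟨w, -, hw⟩ := h1.surj hR (mul_mem (h3 a ha hsa (by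
    rw [← map_mul, ← map_pow, (hπ _).mpr (Or.inl haz)])) (h3 b hb hsb (by
      have : (π ⟨b, hm (hsq hb)⟩ * (π z')⁻¹) ^ 3 = 1 := by
        rw [← map_inv, ← map_mul, ← map_pow, (hπ _).mpr (Or.inl hbz)]
      rw [← inv_eq_of_mul_eq_one_right (h2 b hb), ← mul_inv_rev, inv_pow, inv_eq_one] at this
      rw [← conj_eq_one_iff (a := π z'), ← conj_pow, ← mul_assoc, mul_inv_cancel_right, this])))
  have h4 := (h1.conj w).cube
  rw [hw, ← map_mul, ← map_mul, ← map_pow] at h4
  exact (hπ _).mp h4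

omit [Finite G] in
theorem Rel.of_map {H : Type*} [Group H] (φ : G →* H) (hφ : Function.Injective φ)
    {x y z u v r s : G} (h : Rel (φ x) (φ y) (φ z) (φ u) (φ v) (φ r) (φ s)) : Rel x y z u v r s := by
  obtain ⟨h1, h2, h3, h4, h5, h6, h7, h8, h9, h10, h11, h12, h13, h14, h15, h16, h17, h18, h19, h20,
    h21, h22, h23, h24, h25⟩ := h
  constructor <;> apply hφ <;> simp only [map_mul, map_pow, map_inv, map_one] <;> assumption

omit [Finite G] in
theorem Rel.map {H : Type*} [Group H] (φ : G →* H) {x y z u v r s : G} (h : Rel x y z u v r s) :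
    Rel (φ x) (φ y) (φ z) (φ u) (φ v) (φ r) (φ s) := by
  obtain ⟨h1, h2, h3, h4, h5, h6, h7, h8, h9, h10, h11, h12, h13, h14, h15, h16, h17, h18, h19, h20,
    h21, h22, h23, h24, h25⟩ := h
  constructor <;> simp only [← map_mul, ← map_pow, ← map_inv, ← map_one φ] <;> congr 1

theorem Rel.cube_or {x y z u v r s : G} (h : Rel x y z u v r s) (hz1 : z ≠ 1)
    (hc : ∀ g, Commute g z → Commute g (s * r) → ∃ i : ℕ, g = z ^ i ∨ g = z ^ i * (s * r)) :
    (v * u * v⁻¹ * (u * v * u⁻¹) * z) ^ 3 = 1 ∨ (v * u * v⁻¹ * (u * v * u⁻¹) * z) ^ 3 = s * r := by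
  have hs : s⁻¹ = s := inv_eq_of_mul_eq_one_right h.ss
  have hr : r⁻¹ = r := inv_eq_of_mul_eq_one_right h.rr
  have hsr : Commute s r := h.sr
  have hsu : Commute s u := h.uu ▸ (Commute.refl u).mul_left (Commute.refl u)
  have hv : s * v * s⁻¹ = v⁻¹ := by rw [hs, h.sv]
  have hu : r * u * r⁻¹ = u⁻¹ := by rw [hr, h.ru]
  refine M12P.cube_or (s := s) (fun e => hz1 ?_) ?_ hz1 h.z3 ?_ ((Commute.refl s).mul_right hsr)
    (by rw [hs, h.sz]) h.ss ?_ ?_ ?_ ?_ ?_ ?_ hc
  · have h1 := h.sx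
    rw [eq_inv_of_mul_eq_one_left e, hr, h.rx, mul_assoc, h.rr, mul_one, eq_inv_iff_mul_eq_one] at h1
    rw [← conj_eq_one_iff (a := u), h.uz, two_ne_three h.x3 h1]
  · rw [hsr.symm.mul_mul_mul_comm, h.ss, h.rr, mul_one]
  · refine Commute.symm (mul_inv_eq_iff_eq_mul.mp ?_)
    calc _ = s * (r * z * r⁻¹) * s⁻¹ := by group
      _ = (s * z * s⁻¹)⁻¹ := by rw [hr, h.rz]; group
      _ = z := by rw [hs, h.sz, inv_inv]
  · calc _ = s * (s⁻¹ * v * s) * v⁻¹ := by rw [conj_mul, h.uu]; group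
      _ = _ := by rw [hs, h.sv, mul_assoc, ← mul_inv_rev, h.vv, hr]
  · calc _ = r * (r⁻¹ * u * r) * u⁻¹ := by rw [conj_mul, h.vv]; group
      _ = _ := by rw [hr, h.ru, mul_assoc, ← mul_inv_rev, h.uu, hs, h.sr]
  · rw [← h.vy, conj_mul, conj_pow, h.uy, mul_one, mul_inv_cancel]
  · rw [← h.ux, conj_mul, conj_pow, h.vx, mul_one, mul_inv_cancel]
  · calc _ = (s * v * s⁻¹) * (s * u * s⁻¹) * (s * v * s⁻¹)⁻¹ := by group
      _ = v * (r⁻¹ * u * r) * v⁻¹ := by rw [hv, hsu.eq, ← h.vv]; group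
      _ = _ := by rw [hr, h.ru]; group
  · calc _ = (s * u * s⁻¹) * (s * v * s⁻¹) * (s * u * s⁻¹)⁻¹ := by group
      _ = _ := by rw [hv, hsu.eq]; group

/-- A generator. -/
def lx : SL(3, ZMod 3) := ⟨!![1, 1, 0; 0, 1, 0; 0, 0, 1], by decide +kernel⟩

/-- A generator. -/
def ly : SL(3, ZMod 3) := ⟨!![1, 0, 0; 0, 1, 1; 0, 0, 1], by decide +kernel⟩

/-- A generator. -/
def lu : SL(3, ZMod 3) := ⟨!![1, 0, 0; 0, 0, 1; 0, 2, 0], by decide +kernel⟩

/-- A generator. -/
def lv : SL(3, ZMod 3) := ⟨!![0, 1, 0; 2, 0, 0; 0, 0, 1], by decide +kernel⟩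

theorem rel_L : Rel lx ly (lv * ly * lv⁻¹) lu lv (lv * lv) (lu * lu) := by
  constructor <;> decide +kernel

theorem Rel.exists_hom_L {x y z u v r s : G} (h : Rel x y z u v r s)
    (hk : (v * u * v⁻¹ * (u * v * u⁻¹) * z) ^ 3 = 1) :
    ∃ φ : PSL(3, ZMod 3) →* G, φ.range = closure {x, y, u, v} := by
  let π : SL(3, ZMod 3) →* PSL(3, ZMod 3) := QuotientGroup.mk' _
  refine exists_hom (x' := π lx) (y' := π ly) (u' := π lu) (v' := π lv)
    (S3412.card_L ▸ (h.prod (rel_L.map π)).card_one (Prod.ext hk ?_)) ?_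
  · change (π lv * π lu * (π lv)⁻¹ * (π lu * π lv * (π lu)⁻¹) * π (lv * ly * lv⁻¹)) ^ 3 = 1
    simp only [← map_inv, ← map_mul, ← map_pow]
    rw [← map_one π]
    exact congrArg π (by decide +kernel)
  · rw [eq_top_iff]
    intro g _
    have h1 := S3412.mem_Gr g
    rw [Coding.Gr_eq_closure S3412.hF] at h1
    refine closure_le _ |>.mpr ?_ h1
    intro g hg
    simp only [Set.mem_ofPred_eq, List.mem_cons, List.not_mem_nil, or_false] at hg
    rcases hg with rfl | rfl
    · exact subset_closure (Or.inl rfl)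
    · change π _ ∈ _
      rw [show S3412.gb = lu * lu * lv * lu by decide +kernel, map_mul, map_mul, map_mul]
      have hu : π lu ∈ Subgroup.closure {π lx, π ly, π lu, π lv} := subset_closure (by simp)
      exact mul_mem (mul_mem (mul_mem hu hu) (subset_closure (by simp))) hu

open Golay

theorem mem_MM12 {g : Equiv.Perm (Fin 12)} (h : g ∈ [gs, gt, gu, gv, gw, gx1, gx2, gx3]) :
    g ∈ MM12 := subset_closure (by simpa using h)

/-- A generator. -/
def py : Equiv.Perm (Fin 12) := gx2 * gx3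

/-- A generator. -/
def pv : Equiv.Perm (Fin 12) := ⟨![4, 5, 3, 2, 1, 0, 9, 11, 10, 6, 7, 8],
  ![5, 4, 3, 2, 0, 1, 9, 10, 11, 6, 8, 7], by decide, by decide⟩

theorem rel_P : Rel gt py gs gu pv (pv * pv) (gu * gu) := by
  constructor <;> decide +kernel

theorem hk_P : (pv * gu * pv⁻¹ * (gu * pv * gu⁻¹) * gs) ^ 3 = gu * gu * (pv * pv) := by
  decide +kernel

theorem closure_P : closure {gt, py, gu, pv} = MM12 := by
  refine le_antisymm ((closure_le _).mpr ?_) ((closure_le _).mpr ?_)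
  · rintro g (rfl | rfl | rfl | rfl)
    · exact mem_MM12 (by simp)
    · exact mul_mem (mem_MM12 (by simp)) (mem_MM12 (by simp))
    · exact mem_MM12 (by simp)
    · rw [show pv = gv * gx1 * gt * gx2 * gx1 * gx3 * gt * gx2 * gu * gx1 by decide +kernel]
      iterate 9 refine mul_mem ?_ (mem_MM12 (by simp))
      exact mem_MM12 (by simp)
  · have h : ∀ g ∈ [gt, py, gu, pv], g ∈ closure {gt, py, gu, pv} := fun g hg =>
      subset_closure (by simpa using hg)
    rintro g (rfl | rfl | rfl | rfl | rfl | rfl | rfl | rfl)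
    · rw [show gs = gu * gu * gu * gt * gu by decide +kernel]
      iterate 4 refine mul_mem ?_ (h _ (by simp))
      exact h _ (by simp)
    · exact h _ (by simp)
    · exact h _ (by simp)
    · rw [show gv = py * py * gu * py by decide +kernel]
      iterate 3 refine mul_mem ?_ (h _ (by simp))
      exact h _ (by simp)
    · rw [show gw = py * py * gu * py * gu by decide +kernel]
      iterate 4 refine mul_mem ?_ (h _ (by simp))
      exact h _ (by simp)
    · rw [show gx1 = py * gu * pv * gu * pv * gt * gu * pv * pv * pv by decide +kernel]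
      iterate 9 refine mul_mem ?_ (h _ (by simp))
      exact h _ (by simp)
    · rw [show gx2 = gu * gu * pv * pv by decide +kernel]
      iterate 3 refine mul_mem ?_ (h _ (by simp))
      exact h _ (by simp)
    · rw [show gx3 = gu * gu * pv * pv * py by decide +kernel]
      iterate 4 refine mul_mem ?_ (h _ (by simp))
      exact h _ (by simp)

theorem Rel.exists_hom_M {x y z u v r s : G} (h : Rel x y z u v r s)
    (hk : (v * u * v⁻¹ * (u * v * u⁻¹) * z) ^ 3 = s * r) :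
    ∃ φ : MM12 →* G, φ.range = closure {x, y, u, v} := by
  have hy : py ∈ MM12 := closure_P.le (subset_closure (by simp))
  have hv : pv ∈ MM12 := closure_P.le (subset_closure (by simp))
  let u' : MM12 := ⟨gu, mem_MM12 (by simp)⟩
  let v' : MM12 := ⟨pv, hv⟩
  have h1 : Rel (G := MM12) ⟨gt, mem_MM12 (by simp)⟩ ⟨py, hy⟩ ⟨gs, mem_MM12 (by simp)⟩ u' v'
    (v' * v') (u' * u') := Rel.of_map MM12.subtype MM12.subtype_injective rel_P
  refine exists_hom (MM_spec.2.2.1.symm ▸ (h.prod h1).card_two (Prod.ext hk (Subtype.ext hk_P))) ?_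
  apply map_injective MM12.subtype_injective
  rw [MonoidHom.map_closure, ← MonoidHom.range_eq_map, range_subtype]
  simp only [Set.image_insert_eq, Set.image_singleton]
  exact closure_P

theorem eq_bot_of_normal (N : Subgroup MM12) [N.Normal] (h : ¬ 3 ∣ Nat.card N) : N = ⊥ := by
  by_contra hN
  have h2 : MulAction.IsMultiplyPretransitive MM12 (Fin 12) 2 :=
    have := MM_spec.1
    MulAction.isMultiplyPretransitive_of_le (n := 5) (by norm_num) (by simp)
  have := MulAction.isPreprimitive_of_is_two_pretransitive h2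
  have := H7.isPretransitive_of_normal_of_ne_bot (Ω := Fin 12) N hN
  have h3 := (MulAction.stabilizer N (0 : Fin 12)).index_dvd_card
  rw [MulAction.index_stabilizer_of_transitive, Nat.card_fin] at h3
  exact h (dvd_trans (by norm_num) h3)

/-- The main identification. -/
theorem Rel.iso {x y z u v r s : G} (h : Rel x y z u v r s) (hz1 : z ≠ 1)
    (hc : ∀ g, Commute g z → Commute g (s * r) → ∃ i : ℕ, g = z ^ i ∨ g = z ^ i * (s * r))
    (ht : closure {x, y, u, v} = ⊤) (h1 : 432 ∣ Nat.card G) (h2 : Nat.card G ≠ 432) :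
    Nonempty (G ≃* Spor.M12) ∨ Nonempty (G ≃* PSL(3, ZMod 3)) := by
  rcases h.cube_or hz1 hc with hk | hk
  · obtain ⟨φ, hφ⟩ := h.exists_hom_L hk
    have hs := MonoidHom.range_eq_top.mp (hφ.trans ht)
    refine Or.inr ⟨(MulEquiv.ofBijective φ (hs.bijective_of_nat_card_le ?_)).symm⟩
    have h3 := card_dvd_of_surjective φ hs
    rw [S3412.card_L] at h3 ⊢
    obtain ⟨k, hk⟩ := h1
    rw [hk] at h2 h3 ⊢
    have h4 : k ∣ 13 := Nat.dvd_of_mul_dvd_mul_left (by norm_num) h3
    rcases (Nat.dvd_prime (by norm_num)).mp h4 with rfl | rfl <;> omega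
  · obtain ⟨φ, hφ⟩ := h.exists_hom_M hk
    have hs := MonoidHom.range_eq_top.mp (hφ.trans ht)
    refine Or.inl ⟨(MulEquiv.ofBijective φ ⟨(φ.ker_eq_bot_iff).mp (eq_bot_of_normal _ ?_), hs⟩).symm.trans
      isoM12.symm⟩
    have h3 := φ.ker.card_mul_index
    rw [index_ker, hφ, ht, card_top, MM_spec.2.2.1] at h3
    rintro ⟨k, hk⟩
    obtain ⟨l, hl⟩ := h1
    rw [hk, hl, show 3 * k * (432 * l) = 1296 * (k * l) by ring] at h3
    omega

end Cfsg.Agent.H4.M12P
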