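import Cfsg.Agent.H4.TC

/-!
# Coset enumerations for presentations of `M₁₂` and `PSL₃(3)`
-/

set_option autoImplicit false
set_option maxRecDepth 100000
set_option linter.unusedSimpArgs false

namespace Cfsg.Agent.H4.M12P

/-- Certificate data. -/
def pn_par : Trie :=
    (.node (.node (.node (.node (.node (.node (.node (.node (.leaf (nat_lit 0)) (.leaf (nat_lit
    21513))) (.leaf (nat_lit 4617))) (.node (.leaf (nat_lit 1539)) (.leaf (nat_lit 10505)))) (.node
    (.node (.leaf (nat_lit 514)) (.leaf (nat_lit 7433))) (.node (.leaf (nat_lit 3076)) (.leaf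
    (nat_lit 14339))))) (.node (.node (.node (.node (.leaf (nat_lit 10)) (.leaf (nat_lit 26121)))
    (.leaf (nat_lit 5898))) (.node (.leaf (nat_lit 2567)) (.leaf (nat_lit 13065)))) (.node (.node
    (.leaf (nat_lit 778)) (.leaf (nat_lit 9476))) (.node (.leaf (nat_lit 4104)) (.leaf (nat_lit
    16905)))))) (.node (.node (.node (.node (.node (.leaf (nat_lit 6)) (.leaf (nat_lit 23305)))
    (.leaf (nat_lit 5385))) (.node (.leaf (nat_lit 2311)) (.leaf (nat_lit 12041)))) (.node (.node
    (.leaf (nat_lit 522)) (.leaf (nat_lit 9219))) (.node (.leaf (nat_lit 3848)) (.leaf (nat_lit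
    15113))))) (.node (.node (.node (.node (.leaf (nat_lit 264)) (.leaf (nat_lit 27913))) (.leaf
    (nat_lit 6659))) (.node (.leaf (nat_lit 2819)) (.leaf (nat_lit 13578)))) (.node (.node (.leaf
    (nat_lit 1034)) (.leaf (nat_lit 10244))) (.node (.leaf (nat_lit 4356)) (.leaf (nat_lit
    18697))))))) (.node (.node (.node (.node (.node (.node (.leaf (nat_lit 4)) (.leaf (nat_lit
    22281))) (.leaf (nat_lit 5379))) (.node (.leaf (nat_lit 1545)) (.leaf (nat_lit 11273)))) (.node
    (.node (.leaf (nat_lit 520)) (.leaf (nat_lit 8201))) (.node (.leaf (nat_lit 3338)) (.leaf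
    (nat_lit 14345))))) (.node (.node (.node (.node (.leaf (nat_lit 258)) (.leaf (nat_lit 26889)))
    (.leaf (nat_lit 6404))) (.node (.leaf (nat_lit 2569)) (.leaf (nat_lit 13316)))) (.node (.node
    (.leaf (nat_lit 1032)) (.leaf (nat_lit 9738))) (.node (.leaf (nat_lit 4106)) (.leaf (nat_lit
    17673)))))) (.node (.node (.node (.node (.node (.leaf (nat_lit 8)) (.leaf (nat_lit 24073)))
    (.leaf (nat_lit 5636))) (.node (.leaf (nat_lit 2313)) (.leaf (nat_lit 13059)))) (.node (.node
    (.leaf (nat_lit 776)) (.leaf (nat_lit 9225))) (.node (.leaf (nat_lit 3850)) (.leaf (nat_lit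
    15881))))) (.node (.node (.node (.node (.leaf (nat_lit 266)) (.leaf (nat_lit 28681))) (.leaf
    (nat_lit 6665))) (.node (.leaf (nat_lit 2825)) (.leaf (nat_lit 14084)))) (.node (.node (.leaf
    (nat_lit 1284)) (.leaf (nat_lit 10499))) (.node (.leaf (nat_lit 4611)) (.leaf (nat_lit
    19465)))))))) (.node (.node (.node (.node (.node (.node (.node (.leaf (nat_lit 3)) (.leaf
    (nat_lit 21769))) (.leaf (nat_lit 4874))) (.node (.leaf (nat_lit 1540)) (.leaf (nat_lit
    10762)))) (.node (.node (.leaf (nat_lit 519)) (.leaf (nat_lit 7689))) (.node (.leaf (nat_lit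
    3081)) (.leaf (nat_lit 14340))))) (.node (.node (.node (.node (.leaf (nat_lit 257)) (.leaf
    (nat_lit 26377))) (.leaf (nat_lit 6403))) (.node (.leaf (nat_lit 2568)) (.leaf (nat_lit
    13315)))) (.node (.node (.leaf (nat_lit 1031)) (.leaf (nat_lit 9481))) (.node (.leaf (nat_lit
    4105)) (.leaf (nat_lit 17161)))))) (.node (.node (.node (.node (.node (.leaf (nat_lit 7))
    (.leaf (nat_lit 23561))) (.leaf (nat_lit 5635))) (.node (.leaf (nat_lit 2312)) (.leaf (nat_lit
    12297)))) (.node (.node (.leaf (nat_lit 775)) (.leaf (nat_lit 9220))) (.node (.leaf (nat_lit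
    3849)) (.leaf (nat_lit 15369))))) (.node (.node (.node (.node (.leaf (nat_lit 265)) (.leaf
    (nat_lit 28169))) (.leaf (nat_lit 6660))) (.node (.leaf (nat_lit 2820)) (.leaf (nat_lit
    14083)))) (.node (.node (.leaf (nat_lit 1283)) (.leaf (nat_lit 10249))) (.node (.leaf (nat_lit
    4361)) (.leaf (nat_lit 18953))))))) (.node (.node (.node (.node (.node (.node (.leaf (nat_lit
    5)) (.leaf (nat_lit 22537))) (.leaf (nat_lit 5380))) (.node (.leaf (nat_lit 1802)) (.leaf
    (nat_lit 11529)))) (.node (.node (.leaf (nat_lit 521)) (.leaf (nat_lit 8457))) (.node (.leaf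
    (nat_lit 3847)) (.leaf (nat_lit 14602))))) (.node (.node (.node (.node (.leaf (nat_lit 263))
    (.leaf (nat_lit 27145))) (.leaf (nat_lit 6409))) (.node (.leaf (nat_lit 2570)) (.leaf (nat_lit
    13321)))) (.node (.node (.leaf (nat_lit 1033)) (.leaf (nat_lit 10243))) (.node (.leaf (nat_lit
    4355)) (.leaf (nat_lit 17929)))))) (.node (.node (.node (.node (.node (.leaf (nat_lit 9))
    (.leaf (nat_lit 24329))) (.leaf (nat_lit 5641))) (.node (.leaf (nat_lit 2314)) (.leaf (nat_lit
    13060)))) (.node (.node (.leaf (nat_lit 777)) (.leaf (nat_lit 9475))) (.node (.leaf (nat_lit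
    4103)) (.leaf (nat_lit 16137))))) (.node (.node (.node (.node (.leaf (nat_lit 513)) (.leaf
    (nat_lit 28937))) (.leaf (nat_lit 6922))) (.node (.leaf (nat_lit 3075)) (.leaf (nat_lit
    14089)))) (.node (.node (.leaf (nat_lit 1289)) (.leaf (nat_lit 10500))) (.node (.leaf (nat_lit
    4612)) (.leaf (nat_lit 19721)))))))))

/-- Certificate data. -/
def pn_fact : Trie :=
    (.node (.node (.node (.node (.node (.node (.node (.node (.node (.node (.leaf (nat_lit 1))
    (.leaf (nat_lit 7355905))) (.leaf (nat_lit 3293443))) (.node (.node (.leaf (nat_lit 2434823))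
    (.leaf (nat_lit 6522117))) (.leaf (nat_lit 6039556)))) (.node (.node (.node (.leaf (nat_lit
    1447429)) (.leaf (nat_lit 5470977))) (.leaf (nat_lit 4935431))) (.node (.node (.leaf (nat_lit
    1783044)) (.leaf (nat_lit 8621575))) (.leaf (nat_lit 6699777))))) (.node (.node (.node (.node
    (.leaf (nat_lit 462083)) (.leaf (nat_lit 5272840))) (.leaf (nat_lit 4790531))) (.node (.node
    (.leaf (nat_lit 2891271)) (.leaf (nat_lit 8948234))) (.leaf (nat_lit 3235846)))) (.node (.node
    (.node (.leaf (nat_lit 1973766)) (.leaf (nat_lit 5668867))) (.leaf (nat_lit 2512391))) (.node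
    (.leaf (nat_lit 3553793)) (.leaf (nat_lit 3566601)))))) (.node (.node (.node (.node (.node
    (.leaf (nat_lit 524298)) (.leaf (nat_lit 7551242))) (.leaf (nat_lit 4593156))) (.node (.node
    (.leaf (nat_lit 2755081)) (.leaf (nat_lit 8619781))) (.leaf (nat_lit 6184449)))) (.node (.node
    (.node (.leaf (nat_lit 399874)) (.leaf (nat_lit 8158730))) (.leaf (nat_lit 5394949))) (.node
    (.leaf (nat_lit 1193985)) (.leaf (nat_lit 6897154))))) (.node (.node (.node (.node (.leaf
    (nat_lit 1180168)) (.leaf (nat_lit 7881225))) (.leaf (nat_lit 4803594))) (.node (.node (.leaf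
    (nat_lit 864520)) (.leaf (nat_lit 8621064))) (.leaf (nat_lit 6447875)))) (.node (.node (.node
    (.leaf (nat_lit 2040583)) (.leaf (nat_lit 6652674))) (.leaf (nat_lit 2513160))) (.node (.leaf
    (nat_lit 2964999)) (.leaf (nat_lit 7237122))))))) (.node (.node (.node (.node (.node (.node
    (.leaf (nat_lit 263169)) (.leaf (nat_lit 7423240))) (.leaf (nat_lit 4461833))) (.node (.node
    (.leaf (nat_lit 2369538)) (.leaf (nat_lit 8553989))) (.leaf (nat_lit 5659906)))) (.node (.node
    (.node (.leaf (nat_lit 530437)) (.leaf (nat_lit 8158213))) (.leaf (nat_lit 5263365))) (.node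
    (.node (.leaf (nat_lit 1324550)) (.leaf (nat_lit 9277194))) (.leaf (nat_lit 3500039))))) (.node
    (.node (.node (.node (.leaf (nat_lit 983558)) (.leaf (nat_lit 4224515))) (.leaf (nat_lit
    1985025))) (.node (.node (.leaf (nat_lit 1978119)) (.leaf (nat_lit 8162055))) (.leaf (nat_lit
    3301637)))) (.node (.node (.node (.leaf (nat_lit 2105604)) (.leaf (nat_lit 8421898))) (.leaf
    (nat_lit 5719559))) (.node (.leaf (nat_lit 3881988)) (.leaf (nat_lit 3894529)))))) (.node
    (.node (.node (.node (.node (.leaf (nat_lit 592386)) (.leaf (nat_lit 7107333))) (.leaf (nat_lit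
    2246401))) (.node (.node (.leaf (nat_lit 2632456)) (.leaf (nat_lit 9004809))) (.leaf (nat_lit
    5791490)))) (.node (.node (.node (.leaf (nat_lit 1645576)) (.leaf (nat_lit 8093441))) (.leaf
    (nat_lit 4609031))) (.node (.leaf (nat_lit 1521924)) (.leaf (nat_lit 7025673))))) (.node (.node
    (.node (.node (.leaf (nat_lit 922628)) (.leaf (nat_lit 7960837))) (.leaf (nat_lit 4607233)))
    (.node (.node (.leaf (nat_lit 1127169)) (.leaf (nat_lit 7900424))) (.leaf (nat_lit 6631433))))
    (.node (.node (.node (.leaf (nat_lit 2368778)) (.leaf (nat_lit 6128643))) (.leaf (nat_lit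
    3299841))) (.node (.leaf (nat_lit 4198921)) (.leaf (nat_lit 6844166)))))))) (.node (.node
    (.node (.node (.node (.node (.node (.leaf (nat_lit 196613)) (.leaf (nat_lit 4157701))) (.leaf
    (nat_lit 4396292))) (.node (.node (.leaf (nat_lit 927493)) (.leaf (nat_lit 8357383))) (.leaf
    (nat_lit 2972674)))) (.node (.node (.node (.leaf (nat_lit 1573642)) (.leaf (nat_lit 8145161)))
    (.leaf (nat_lit 2313989))) (.node (.node (.leaf (nat_lit 3356168)) (.leaf (nat_lit 7507459)))
    (.leaf (nat_lit 6776578))))) (.node (.node (.node (.node (.leaf (nat_lit 527876)) (.leaf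
    (nat_lit 7749129))) (.leaf (nat_lit 4856068))) (.node (.node (.leaf (nat_lit 3017481)) (.leaf
    (nat_lit 7047683))) (.leaf (nat_lit 2842889)))) (.node (.node (.node (.leaf (nat_lit 2098691))
    (.leaf (nat_lit 8421635))) (.leaf (nat_lit 3102470))) (.node (.leaf (nat_lit 3870979)) (.leaf
    (nat_lit 4287493)))))) (.node (.node (.node (.node (.node (.leaf (nat_lit 590081)) (.leaf
    (nat_lit 4748036))) (.leaf (nat_lit 2180609))) (.node (.node (.leaf (nat_lit 2501125)) (.leaf
    (nat_lit 8882184))) (.leaf (nat_lit 6184708)))) (.node (.node (.node (.leaf (nat_lit 1514245))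
    (.leaf (nat_lit 8289797))) (.leaf (nat_lit 2249476))) (.node (.leaf (nat_lit 3739657)) (.leaf
    (nat_lit 6777354))))) (.node (.node (.node (.node (.leaf (nat_lit 463620)) (.leaf (nat_lit
    7947017))) (.leaf (nat_lit 5000452))) (.node (.node (.leaf (nat_lit 930313)) (.leaf (nat_lit
    7638021))) (.leaf (nat_lit 5465095)))) (.node (.node (.node (.leaf (nat_lit 2361607)) (.leaf
    (nat_lit 8674057))) (.leaf (nat_lit 5659143))) (.node (.leaf (nat_lit 3948298)) (.leaf (nat_lit
    3763975))))))) (.node (.node (.node (.node (.node (.node (.leaf (nat_lit 329226)) (.leaf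
    (nat_lit 7041538))) (.leaf (nat_lit 4527619))) (.node (.node (.leaf (nat_lit 2435329)) (.leaf
    (nat_lit 8619778))) (.leaf (nat_lit 6170883)))) (.node (.node (.node (.leaf (nat_lit 334081))
    (.leaf (nat_lit 8158467))) (.leaf (nat_lit 5329157))) (.node (.node (.leaf (nat_lit 1128194))
    (.leaf (nat_lit 9342723))) (.leaf (nat_lit 4090118))))) (.node (.node (.node (.node (.leaf
    (nat_lit 987141)) (.leaf (nat_lit 5404424))) (.leaf (nat_lit 2050817))) (.node (.node (.leaf
    (nat_lit 3092484)) (.leaf (nat_lit 7047940))) (.leaf (nat_lit 5464584)))) (.node (.node (.node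
    (.leaf (nat_lit 2040330)) (.leaf (nat_lit 5865987))) (.leaf (nat_lit 5593098))) (.node (.leaf
    (nat_lit 4002057)) (.leaf (nat_lit 7223044)))))) (.node (.node (.node (.node (.node (.leaf
    (nat_lit 721159)) (.leaf (nat_lit 6648840))) (.leaf (nat_lit 4671496))) (.node (.node (.leaf
    (nat_lit 2566917)) (.leaf (nat_lit 8947971))) (.leaf (nat_lit 2777096)))) (.node (.node (.node
    (.leaf (nat_lit 1901827)) (.leaf (nat_lit 8410121))) (.leaf (nat_lit 5526788))) (.node (.leaf
    (nat_lit 3684871)) (.leaf (nat_lit 4221701))))) (.node (.node (.node (.node (.leaf (nat_lit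
    333058)) (.leaf (nat_lit 4684291))) (.leaf (nat_lit 2248194))) (.node (.node (.leaf (nat_lit
    1192966)) (.leaf (nat_lit 7703813))) (.leaf (nat_lit 6697731)))) (.node (.node (.node (.leaf
    (nat_lit 861698)) (.leaf (nat_lit 6522114))) (.leaf (nat_lit 2906886))) (.node (.leaf (nat_lit
    4014343)) (.leaf (nat_lit 7172106))))))))) (.node (.node (.node (.node (.node (.node (.node
    (.node (.leaf (nat_lit 131076)) (.leaf (nat_lit 7368964))) (.leaf (nat_lit 4342277))) (.node
    (.node (.leaf (nat_lit 1582852)) (.leaf (nat_lit 8805897))) (.leaf (nat_lit 2972678)))) (.node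
    (.node (.node (.leaf (nat_lit 1513218)) (.leaf (nat_lit 4684548))) (.leaf (nat_lit 1855241)))
    (.node (.node (.leaf (nat_lit 3542794)) (.leaf (nat_lit 7769602))) (.leaf (nat_lit 6711044)))))
    (.node (.node (.node (.node (.leaf (nat_lit 790023)) (.leaf (nat_lit 7632131))) (.leaf (nat_lit
    1919233))) (.node (.node (.leaf (nat_lit 2951940)) (.leaf (nat_lit 8751624))) (.leaf (nat_lit
    6119687)))) (.node (.node (.node (.leaf (nat_lit 466695)) (.leaf (nat_lit 8475913))) (.leaf
    (nat_lit 3036678))) (.node (.leaf (nat_lit 1325573)) (.leaf (nat_lit 6384643)))))) (.node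
    (.node (.node (.node (.node (.leaf (nat_lit 329736)) (.leaf (nat_lit 7500552))) (.leaf (nat_lit
    4605446))) (.node (.node (.leaf (nat_lit 862721)) (.leaf (nat_lit 8939017))) (.leaf (nat_lit
    6180103)))) (.node (.node (.node (.leaf (nat_lit 1770505)) (.leaf (nat_lit 8027649))) (.leaf
    (nat_lit 5329674))) (.node (.leaf (nat_lit 1193989)) (.leaf (nat_lit 6908420))))) (.node (.node
    (.node (.node (.leaf (nat_lit 1245705)) (.leaf (nat_lit 4487171))) (.leaf (nat_lit 2116610)))
    (.node (.node (.leaf (nat_lit 3027463)) (.leaf (nat_lit 7638017))) (.leaf (nat_lit 6565641))))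
    (.node (.node (.node (.leaf (nat_lit 533257)) (.leaf (nat_lit 5866244))) (.leaf (nat_lit
    3234053))) (.node (.leaf (nat_lit 4133380)) (.leaf (nat_lit 7225864))))))) (.node (.node (.node
    (.node (.node (.node (.leaf (nat_lit 328965)) (.leaf (nat_lit 7303690))) (.leaf (nat_lit
    2049026))) (.node (.node (.leaf (nat_lit 2689544)) (.leaf (nat_lit 8871689))) (.leaf (nat_lit
    3038469)))) (.node (.node (.node (.leaf (nat_lit 1644805)) (.leaf (nat_lit 7961858))) (.leaf
    (nat_lit 5263619))) (.node (.node (.leaf (nat_lit 3356421)) (.leaf (nat_lit 8032008))) (.leaf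
    (nat_lit 4024326))))) (.node (.node (.node (.node (.leaf (nat_lit 987138)) (.leaf (nat_lit
    7698186))) (.leaf (nat_lit 1788679))) (.node (.node (.leaf (nat_lit 3092225)) (.leaf (nat_lit
    9145090))) (.leaf (nat_lit 6433801)))) (.node (.node (.node (.leaf (nat_lit 1974538)) (.leaf
    (nat_lit 7963144))) (.leaf (nat_lit 5724164))) (.node (.leaf (nat_lit 2112520)) (.leaf (nat_lit
    7165191)))))) (.node (.node (.node (.node (.node (.leaf (nat_lit 657669)) (.leaf (nat_lit
    7617289))) (.leaf (nat_lit 4724490))) (.node (.node (.leaf (nat_lit 2566913)) (.leaf (nat_lit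
    8161544))) (.leaf (nat_lit 6301961)))) (.node (.node (.node (.leaf (nat_lit 1580037)) (.leaf
    (nat_lit 5144324))) (.leaf (nat_lit 5526529))) (.node (.leaf (nat_lit 3488006)) (.leaf (nat_lit
    3500808))))) (.node (.node (.node (.node (.leaf (nat_lit 1377031)) (.leaf (nat_lit 7895562)))
    (.leaf (nat_lit 4935178))) (.node (.node (.leaf (nat_lit 3355658)) (.leaf (nat_lit 9211139)))
    (.leaf (nat_lit 6579459)))) (.node (.node (.node (.leaf (nat_lit 795910)) (.leaf (nat_lit
    8422406))) (.leaf (nat_lit 5974019))) (.node (.leaf (nat_lit 1261576)) (.leaf (nat_lit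
    4091909)))))))) (.node (.node (.node (.node (.node (.node (.node (.leaf (nat_lit 262150))
    (.leaf (nat_lit 7434498))) (.leaf (nat_lit 4408070))) (.node (.node (.leaf (nat_lit 2369541))
    (.leaf (nat_lit 8816130))) (.leaf (nat_lit 6105097)))) (.node (.node (.node (.leaf (nat_lit
    1382408)) (.leaf (nat_lit 5274625))) (.leaf (nat_lit 5250313))) (.node (.node (.leaf (nat_lit
    1848835)) (.leaf (nat_lit 7769606))) (.leaf (nat_lit 6768904))))) (.node (.node (.node (.node
    (.leaf (nat_lit 265987)) (.leaf (nat_lit 6649351))) (.leaf (nat_lit 4868614))) (.node (.node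
    (.leaf (nat_lit 3083267)) (.leaf (nat_lit 9136649))) (.leaf (nat_lit 5923073)))) (.node (.node
    (.node (.leaf (nat_lit 1908746)) (.leaf (nat_lit 6521094))) (.leaf (nat_lit 5723905))) (.node
    (.leaf (nat_lit 3878151)) (.leaf (nat_lit 6712581)))))) (.node (.node (.node (.node (.node
    (.leaf (nat_lit 590595)) (.leaf (nat_lit 7107329))) (.leaf (nat_lit 4474634))) (.node (.node
    (.leaf (nat_lit 2820618)) (.leaf (nat_lit 6850563))) (.leaf (nat_lit 3170053)))) (.node (.node
    (.node (.leaf (nat_lit 1836042)) (.leaf (nat_lit 8224522))) (.leaf (nat_lit 5514243))) (.node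
    (.leaf (nat_lit 1259777)) (.leaf (nat_lit 4811272))))) (.node (.node (.node (.node (.leaf
    (nat_lit 1184775)) (.leaf (nat_lit 7895299))) (.leaf (nat_lit 4869386))) (.node (.node (.leaf
    (nat_lit 3346183)) (.leaf (nat_lit 9268745))) (.leaf (nat_lit 6579202)))) (.node (.node (.node
    (.leaf (nat_lit 730114)) (.leaf (nat_lit 8356872))) (.leaf (nat_lit 2578953))) (.node (.leaf
    (nat_lit 1916680)) (.leaf (nat_lit 6844161))))))) (.node (.node (.node (.node (.node (.node
    (.leaf (nat_lit 458761)) (.leaf (nat_lit 7041541))) (.leaf (nat_lit 4343050))) (.node (.node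
    (.leaf (nat_lit 796933)) (.leaf (nat_lit 8816387))) (.leaf (nat_lit 5725702)))) (.node (.node
    (.node (.leaf (nat_lit 1645066)) (.leaf (nat_lit 8224005))) (.leaf (nat_lit 5263882))) (.node
    (.node (.leaf (nat_lit 3674120)) (.leaf (nat_lit 9146117))) (.leaf (nat_lit 6056199))))) (.node
    (.node (.node (.node (.leaf (nat_lit 593924)) (.leaf (nat_lit 7763715))) (.leaf (nat_lit
    4987395))) (.node (.node (.leaf (nat_lit 3214345)) (.leaf (nat_lit 9202953))) (.leaf (nat_lit
    3039747)))) (.node (.node (.node (.leaf (nat_lit 2236933)) (.leaf (nat_lit 8607753))) (.leaf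
    (nat_lit 5842185))) (.node (.leaf (nat_lit 4067843)) (.leaf (nat_lit 3960326)))))) (.node
    (.node (.node (.node (.node (.leaf (nat_lit 723978)) (.leaf (nat_lit 7683081))) (.leaf (nat_lit
    4737025))) (.node (.node (.leaf (nat_lit 2886403)) (.leaf (nat_lit 7702790))) (.leaf (nat_lit
    5857281)))) (.node (.node (.node (.leaf (nat_lit 1967364)) (.leaf (nat_lit 8093704))) (.leaf
    (nat_lit 2970881))) (.node (.leaf (nat_lit 2570756)) (.leaf (nat_lit 6843399))))) (.node (.node
    (.node (.node (.leaf (nat_lit 1381898)) (.leaf (nat_lit 8078857))) (.leaf (nat_lit 5131781)))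
    (.node (.node (.leaf (nat_lit 1258754)) (.leaf (nat_lit 9334793))) (.leaf (nat_lit 6252039))))
    (.node (.node (.node (.leaf (nat_lit 861701)) (.leaf (nat_lit 8684803))) (.leaf (nat_lit
    5069575))) (.node (.leaf (nat_lit 1327369)) (.leaf (nat_lit 5599239)))))))))) (.node (.node
    (.node (.node (.node (.node (.node (.node (.node (.leaf (nat_lit 65539)) (.leaf (nat_lit
    7419908))) (.leaf (nat_lit 4330755))) (.node (.node (.leaf (nat_lit 2369288)) (.leaf (nat_lit
    8488198))) (.leaf (nat_lit 5987332)))) (.node (.node (.node (.leaf (nat_lit 1508105)) (.leaf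
    (nat_lit 8026883))) (.leaf (nat_lit 5132040))) (.node (.node (.leaf (nat_lit 1258758)) (.leaf
    (nat_lit 8490504))) (.leaf (nat_lit 6763268))))) (.node (.node (.node (.node (.leaf (nat_lit
    917770)) (.leaf (nat_lit 7697666))) (.leaf (nat_lit 4802821))) (.node (.node (.leaf (nat_lit
    2894849)) (.leaf (nat_lit 8882695))) (.leaf (nat_lit 6367754)))) (.node (.node (.node (.leaf
    (nat_lit 2032905)) (.leaf (nat_lit 6455302))) (.leaf (nat_lit 3036674))) (.node (.leaf (nat_lit
    1325570)) (.leaf (nat_lit 5204996)))))) (.node (.node (.node (.node (.node (.leaf (nat_lit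
    395271)) (.leaf (nat_lit 7303943))) (.leaf (nat_lit 4539908))) (.node (.node (.leaf (nat_lit
    2501122)) (.leaf (nat_lit 6653702))) (.leaf (nat_lit 4873735)))) (.node (.node (.node (.leaf
    (nat_lit 1710597)) (.leaf (nat_lit 5406210))) (.leaf (nat_lit 5447945))) (.node (.leaf (nat_lit
    3422210)) (.leaf (nat_lit 6960132))))) (.node (.node (.node (.node (.leaf (nat_lit 1118730))
    (.leaf (nat_lit 5273602))) (.leaf (nat_lit 4541441))) (.node (.node (.leaf (nat_lit 3280138))
    (.leaf (nat_lit 8948738))) (.leaf (nat_lit 3040004)))) (.node (.node (.node (.leaf (nat_lit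
    2237192)) (.leaf (nat_lit 8553219))) (.leaf (nat_lit 3234049))) (.node (.leaf (nat_lit
    4075527)) (.leaf (nat_lit 4550152))))))) (.node (.node (.node (.node (.node (.node (.leaf
    (nat_lit 327687)) (.leaf (nat_lit 7485449))) (.leaf (nat_lit 1524743))) (.node (.node (.leaf
    (nat_lit 731137)) (.leaf (nat_lit 6587910))) (.leaf (nat_lit 3038465)))) (.node (.node (.node
    (.leaf (nat_lit 1639431)) (.leaf (nat_lit 8210953))) (.leaf (nat_lit 5316105))) (.node (.node
    (.leaf (nat_lit 3608583)) (.leaf (nat_lit 7900935))) (.leaf (nat_lit 4024321))))) (.node (.node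
    (.node (.node (.leaf (nat_lit 1049090)) (.leaf (nat_lit 7814921))) (.leaf (nat_lit 4921609)))
    (.node (.node (.leaf (nat_lit 3088647)) (.leaf (nat_lit 8293128))) (.leaf (nat_lit 5923078))))
    (.node (.node (.node (.leaf (nat_lit 2171142)) (.leaf (nat_lit 8094215))) (.leaf (nat_lit
    5776644))) (.node (.leaf (nat_lit 3947522)) (.leaf (nat_lit 5795079)))))) (.node (.node (.node
    (.node (.node (.leaf (nat_lit 68101)) (.leaf (nat_lit 4289286))) (.leaf (nat_lit 4671237)))
    (.node (.node (.leaf (nat_lit 1846020)) (.leaf (nat_lit 8292615))) (.leaf (nat_lit 3170049))))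
    (.node (.node (.node (.leaf (nat_lit 1842177)) (.leaf (nat_lit 8290051))) (.leaf (nat_lit
    5522183))) (.node (.leaf (nat_lit 1259781)) (.leaf (nat_lit 6843146))))) (.node (.node (.node
    (.node (.leaf (nat_lit 529411)) (.leaf (nat_lit 8013065))) (.leaf (nat_lit 5118473))) (.node
    (.node (.leaf (nat_lit 3411720)) (.leaf (nat_lit 9276674))) (.leaf (nat_lit 6513930)))) (.node
    (.node (.node (.leaf (nat_lit 795905)) (.leaf (nat_lit 6456325))) (.leaf (nat_lit 3299846)))
    (.node (.leaf (nat_lit 4014090)) (.leaf (nat_lit 7354371)))))))) (.node (.node (.node (.node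
    (.node (.node (.node (.leaf (nat_lit 197378)) (.leaf (nat_lit 7237898))) (.leaf (nat_lit
    4342532))) (.node (.node (.leaf (nat_lit 2624007)) (.leaf (nat_lit 8226312))) (.leaf (nat_lit
    5594113)))) (.node (.node (.node (.leaf (nat_lit 1447943)) (.leaf (nat_lit 7896066))) (.leaf
    (nat_lit 4738822))) (.node (.node (.leaf (nat_lit 2831876)) (.leaf (nat_lit 9080325))) (.leaf
    (nat_lit 5007112))))) (.node (.node (.node (.node (.leaf (nat_lit 983553)) (.leaf (nat_lit
    7632394))) (.leaf (nat_lit 4803076))) (.node (.node (.leaf (nat_lit 863751)) (.leaf (nat_lit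
    7768581))) (.leaf (nat_lit 5202179)))) (.node (.node (.node (.leaf (nat_lit 2105349)) (.leaf
    (nat_lit 5669124))) (.leaf (nat_lit 5527306))) (.node (.leaf (nat_lit 3160839)) (.leaf (nat_lit
    7157507)))))) (.node (.node (.node (.node (.node (.leaf (nat_lit 67846)) (.leaf (nat_lit
    5927683))) (.leaf (nat_lit 4658697))) (.node (.node (.leaf (nat_lit 862726)) (.leaf (nat_lit
    7636994))) (.leaf (nat_lit 5791494)))) (.node (.node (.node (.leaf (nat_lit 465670)) (.leaf
    (nat_lit 8342793))) (.leaf (nat_lit 5460741))) (.node (.leaf (nat_lit 3488002)) (.leaf (nat_lit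
    6973954))))) (.node (.node (.node (.node (.leaf (nat_lit 1311242)) (.leaf (nat_lit 5339394)))
    (.leaf (nat_lit 5065990))) (.node (.node (.leaf (nat_lit 2306563)) (.leaf (nat_lit 8948742)))
    (.leaf (nat_lit 5334024)))) (.node (.node (.node (.leaf (nat_lit 730117)) (.leaf (nat_lit
    8225799))) (.leaf (nat_lit 5855752))) (.node (.leaf (nat_lit 4144898)) (.leaf (nat_lit
    4026114))))))) (.node (.node (.node (.node (.node (.node (.leaf (nat_lit 394757)) (.leaf
    (nat_lit 4223489))) (.leaf (nat_lit 4539653))) (.node (.node (.leaf (nat_lit 796930)) (.leaf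
    (nat_lit 6653697))) (.leaf (nat_lit 3104261)))) (.node (.node (.node (.leaf (nat_lit 1704968))
    (.leaf (nat_lit 4947204))) (.leaf (nat_lit 5382153))) (.node (.node (.leaf (nat_lit 3356417))
    (.leaf (nat_lit 7507716))) (.leaf (nat_lit 6711562))))) (.node (.node (.node (.node (.leaf
    (nat_lit 200707)) (.leaf (nat_lit 7829250))) (.leaf (nat_lit 4934405))) (.node (.node (.leaf
    (nat_lit 2961418)) (.leaf (nat_lit 7834373))) (.leaf (nat_lit 6447618)))) (.node (.node (.node
    (.leaf (nat_lit 467464)) (.leaf (nat_lit 6586885))) (.leaf (nat_lit 3168258))) (.node (.leaf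
    (nat_lit 1260807)) (.leaf (nat_lit 7171588)))))) (.node (.node (.node (.node (.node (.leaf
    (nat_lit 786696)) (.leaf (nat_lit 4027395))) (.leaf (nat_lit 1591305))) (.node (.node (.leaf
    (nat_lit 928518)) (.leaf (nat_lit 6850820))) (.leaf (nat_lit 3235842)))) (.node (.node (.node
    (.leaf (nat_lit 1907973)) (.leaf (nat_lit 7962631))) (.leaf (nat_lit 2970885))) (.node (.leaf
    (nat_lit 3619336)) (.leaf (nat_lit 7091466))))) (.node (.node (.node (.node (.leaf (nat_lit
    1442568)) (.leaf (nat_lit 8026629))) (.leaf (nat_lit 4673025))) (.node (.node (.leaf (nat_lit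
    3477257)) (.leaf (nat_lit 9014534))) (.leaf (nat_lit 3892741)))) (.node (.node (.node (.leaf
    (nat_lit 1517059)) (.leaf (nat_lit 8488193))) (.leaf (nat_lit 5987073))) (.node (.leaf (nat_lit
    4210952)) (.leaf (nat_lit 6909953))))))))) (.node (.node (.node (.node (.node (.node (.node
    (.node (.leaf (nat_lit 66052)) (.leaf (nat_lit 6975750))) (.leaf (nat_lit 1917442))) (.node
    (.node (.leaf (nat_lit 927489)) (.leaf (nat_lit 8685066))) (.leaf (nat_lit 5594117)))) (.node
    (.node (.node (.leaf (nat_lit 464645)) (.leaf (nat_lit 8092421))) (.leaf (nat_lit 5197569)))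
    (.node (.node (.leaf (nat_lit 3421703)) (.leaf (nat_lit 9080321))) (.leaf (nat_lit 3958533)))))
    (.node (.node (.node (.node (.leaf (nat_lit 724488)) (.leaf (nat_lit 4027652))) (.leaf (nat_lit
    4344066))) (.node (.node (.leaf (nat_lit 2895108)) (.leaf (nat_lit 7768577))) (.leaf (nat_lit
    6316296)))) (.node (.node (.node (.leaf (nat_lit 2039557)) (.leaf (nat_lit 6521089))) (.leaf
    (nat_lit 5711107))) (.node (.leaf (nat_lit 3553798)) (.leaf (nat_lit 4287489)))))) (.node
    (.node (.node (.node (.node (.leaf (nat_lit 526337)) (.leaf (nat_lit 3830537))) (.leaf (nat_lit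
    4408842))) (.node (.node (.leaf (nat_lit 1780227)) (.leaf (nat_lit 8751111))) (.leaf (nat_lit
    6236420)))) (.node (.node (.node (.leaf (nat_lit 1776386)) (.leaf (nat_lit 5144067))) (.leaf
    (nat_lit 5395203))) (.node (.leaf (nat_lit 3422214)) (.leaf (nat_lit 4155910))))) (.node (.node
    (.node (.node (.leaf (nat_lit 856835)) (.leaf (nat_lit 7895045))) (.leaf (nat_lit 5052932)))
    (.node (.node (.leaf (nat_lit 3224072)) (.leaf (nat_lit 7310339))) (.leaf (nat_lit 6448138))))
    (.node (.node (.node (.leaf (nat_lit 2302721)) (.leaf (nat_lit 6652677))) (.leaf (nat_lit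
    5907978))) (.node (.leaf (nat_lit 4079364)) (.leaf (nat_lit 7288585))))))) (.node (.node (.node
    (.node (.node (.node (.leaf (nat_lit 393224)) (.leaf (nat_lit 3764744))) (.leaf (nat_lit
    4473861))) (.node (.node (.leaf (nat_lit 2631946)) (.leaf (nat_lit 8750858))) (.leaf (nat_lit
    5659910)))) (.node (.node (.node (.leaf (nat_lit 1382658)) (.leaf (nat_lit 5340417))) (.leaf
    (nat_lit 2052356))) (.node (.node (.leaf (nat_lit 1128198)) (.leaf (nat_lit 9408258))) (.leaf
    (nat_lit 6894595))))) (.node (.node (.node (.node (.leaf (nat_lit 135174)) (.leaf (nat_lit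
    5273351))) (.leaf (nat_lit 4475650))) (.node (.node (.leaf (nat_lit 3148804)) (.leaf (nat_lit
    9079555))) (.leaf (nat_lit 5333511)))) (.node (.node (.node (.leaf (nat_lit 2229769)) (.leaf
    (nat_lit 8552962))) (.leaf (nat_lit 3168262))) (.node (.leaf (nat_lit 3939592)) (.leaf (nat_lit
    7169537)))))) (.node (.node (.node (.node (.node (.leaf (nat_lit 264708)) (.leaf (nat_lit
    6517767))) (.leaf (nat_lit 4474887))) (.node (.node (.leaf (nat_lit 928514)) (.leaf (nat_lit
    9013506))) (.leaf (nat_lit 6119434)))) (.node (.node (.node (.leaf (nat_lit 531462)) (.leaf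
    (nat_lit 8355589))) (.leaf (nat_lit 5579780))) (.node (.leaf (nat_lit 3805194)) (.leaf (nat_lit
    4221698))))) (.node (.node (.node (.node (.leaf (nat_lit 1381637)) (.leaf (nat_lit 5405185)))
    (.leaf (nat_lit 1789448))) (.node (.node (.leaf (nat_lit 1192962)) (.leaf (nat_lit 7310596)))
    (.leaf (nat_lit 3237124)))) (.node (.node (.node (.leaf (nat_lit 2492681)) (.leaf (nat_lit
    8739849))) (.leaf (nat_lit 5528325))) (.node (.leaf (nat_lit 4264714)) (.leaf (nat_lit
    6909958)))))))) (.node (.node (.node (.node (.node (.node (.node (.leaf (nat_lit 197638))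
    (.leaf (nat_lit 4354312))) (.leaf (nat_lit 1983234))) (.node (.node (.leaf (nat_lit 731142))
    (.leaf (nat_lit 6325763))) (.leaf (nat_lit 2776327)))) (.node (.node (.node (.leaf (nat_lit
    1579009)) (.leaf (nat_lit 4946947))) (.leaf (nat_lit 2052099))) (.node (.node (.leaf (nat_lit
    1324545)) (.leaf (nat_lit 9400585))) (.leaf (nat_lit 6828809))))) (.node (.node (.node (.node
    (.leaf (nat_lit 985603)) (.leaf (nat_lit 6518280))) (.leaf (nat_lit 4409858))) (.node (.node
    (.leaf (nat_lit 2895626)) (.leaf (nat_lit 9014026))) (.leaf (nat_lit 3301634)))) (.node (.node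
    (.node (.leaf (nat_lit 2164228)) (.leaf (nat_lit 8541961))) (.leaf (nat_lit 4413191))) (.node
    (.leaf (nat_lit 3936516)) (.leaf (nat_lit 3894534)))))) (.node (.node (.node (.node (.node
    (.leaf (nat_lit 655618)) (.leaf (nat_lit 4289282))) (.leaf (nat_lit 1525512))) (.node (.node
    (.leaf (nat_lit 2697991)) (.leaf (nat_lit 7636998))) (.leaf (nat_lit 6053642)))) (.node (.node
    (.node (.leaf (nat_lit 1711111)) (.leaf (nat_lit 5472002))) (.leaf (nat_lit 2905093))) (.node
    (.leaf (nat_lit 2504963)) (.leaf (nat_lit 6966280))))) (.node (.node (.node (.node (.leaf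
    (nat_lit 1119240)) (.leaf (nat_lit 4487428))) (.leaf (nat_lit 2182402))) (.node (.node (.leaf
    (nat_lit 1127173)) (.leaf (nat_lit 8031495))) (.leaf (nat_lit 3236867)))) (.node (.node (.node
    (.leaf (nat_lit 2427144)) (.leaf (nat_lit 8684546))) (.leaf (nat_lit 4741635))) (.node (.leaf
    (nat_lit 4136968)) (.leaf (nat_lit 4026117))))))) (.node (.node (.node (.node (.node (.node
    (.leaf (nat_lit 460546)) (.leaf (nat_lit 4223494))) (.leaf (nat_lit 2114817))) (.node (.node
    (.leaf (nat_lit 2435334)) (.leaf (nat_lit 6326020))) (.leaf (nat_lit 5987850)))) (.node (.node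
    (.node (.leaf (nat_lit 1448449)) (.leaf (nat_lit 8277001))) (.leaf (nat_lit 2249219))) (.node
    (.node (.leaf (nat_lit 3618826)) (.leaf (nat_lit 7835398))) (.leaf (nat_lit 6905607))))) (.node
    (.node (.node (.node (.leaf (nat_lit 1114631)) (.leaf (nat_lit 4224772))) (.leaf (nat_lit
    5000197))) (.node (.node (.leaf (nat_lit 3027210)) (.leaf (nat_lit 8489991))) (.leaf (nat_lit
    6499593)))) (.node (.node (.node (.leaf (nat_lit 2295562)) (.leaf (nat_lit 8487690))) (.leaf
    (nat_lit 5658890))) (.node (.leaf (nat_lit 3882506)) (.leaf (nat_lit 6778373)))))) (.node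
    (.node (.node (.node (.node (.leaf (nat_lit 852233)) (.leaf (nat_lit 5403911))) (.leaf (nat_lit
    2312198))) (.node (.node (.leaf (nat_lit 2173959)) (.leaf (nat_lit 9070857))) (.leaf (nat_lit
    5857285)))) (.node (.node (.node (.leaf (nat_lit 1908228)) (.leaf (nat_lit 8421378))) (.leaf
    (nat_lit 5645321))) (.node (.leaf (nat_lit 1587715)) (.leaf (nat_lit 7040008))))) (.node (.node
    (.node (.node (.leaf (nat_lit 398849)) (.leaf (nat_lit 7961354))) (.leaf (nat_lit 5184266)))
    (.node (.node (.leaf (nat_lit 2766083)) (.leaf (nat_lit 9211402))) (.leaf (nat_lit 6708231))))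
    (.node (.node (.node (.leaf (nat_lit 2558218)) (.leaf (nat_lit 6128900))) (.leaf (nat_lit
    5982727))) (.node (.leaf (nat_lit 2310404)) (.leaf (nat_lit 7362567)))))))))))

/-- Certificate data. -/
def pn_just : Trie :=
    (.node (.node (.node (.node (.node (.node (.node (.node (.node (.node (.leaf (nat_lit 1))
    (.leaf (nat_lit 18398851408788127774))) (.leaf (nat_lit 6377996434213634076))) (.node (.node
    (.leaf (nat_lit 2094565356077067)) (.leaf (nat_lit 15535207557890244639))) (.leaf (nat_lit
    0)))) (.node (.node (.node (.leaf (nat_lit 2197853903461220361)) (.leaf (nat_lit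
    12146564973656735790))) (.leaf (nat_lit 5254012018491403))) (.node (.node (.leaf (nat_lit
    2955031486417535003)) (.leaf (nat_lit 22418916183386554406))) (.leaf (nat_lit
    16094011059689685022))))) (.node (.node (.node (.node (.leaf (nat_lit 504429817127698451))
    (.leaf (nat_lit 11749535448035426346))) (.leaf (nat_lit 0))) (.node (.node (.leaf (nat_lit
    2806868502249483)) (.leaf (nat_lit 23715064204386041897))) (.leaf (nat_lit
    6271512297886384163)))) (.node (.node (.node (.leaf (nat_lit 3386892449485094935)) (.leaf
    (nat_lit 12652138269992222739))) (.leaf (nat_lit 4433594542368948262))) (.node (.leaf (nat_lit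
    6990327378983714829)) (.leaf (nat_lit 6992924442628390955)))))) (.node (.node (.node (.node
    (.node (.leaf (nat_lit 0)) (.leaf (nat_lit 0))) (.leaf (nat_lit 0))) (.node (.node (.leaf
    (nat_lit 0)) (.leaf (nat_lit 22417042168896225311))) (.leaf (nat_lit
    29416902742746713030708)))) (.node (.node (.node (.leaf (nat_lit 396431782138019874)) (.leaf
    (nat_lit 20902055376503111721))) (.leaf (nat_lit 11999377878941892639))) (.node (.leaf (nat_lit
    1730140494731870238)) (.leaf (nat_lit 16670120062761500706))))) (.node (.node (.node (.node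
    (.leaf (nat_lit 0)) (.leaf (nat_lit 0))) (.leaf (nat_lit 10377668330428497959))) (.node (.node
    (.leaf (nat_lit 1117413176019976234)) (.leaf (nat_lit 22418520221761601578))) (.leaf (nat_lit
    15351138762960863251)))) (.node (.node (.node (.leaf (nat_lit 1733788103213067)) (.leaf
    (nat_lit 15859097183484837898))) (.leaf (nat_lit 4433647447776100394))) (.node (.leaf (nat_lit
    24483332409940016026157104)) (.leaf (nat_lit 36310599812699918696497))))))) (.node (.node
    (.node (.node (.node (.node (.leaf (nat_lit 216172837948555270)) (.leaf (nat_lit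
    9141459932545036))) (.leaf (nat_lit 0))) (.node (.node (.leaf (nat_lit 4179807793886461981))
    (.leaf (nat_lit 22164717375741689887))) (.leaf (nat_lit 12648503645328048138)))) (.node (.node
    (.node (.leaf (nat_lit 576540505551339552)) (.leaf (nat_lit 20901800195316187167))) (.leaf
    (nat_lit 11747035502191247391))) (.node (.node (.leaf (nat_lit 1910240396282363940)) (.leaf
    (nat_lit 25013086403084615721))) (.leaf (nat_lit 6812657123252699174))))) (.node (.node (.node
    (.node (.leaf (nat_lit 1387214259821412375)) (.leaf (nat_lit 8939342108653977619))) (.leaf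
    (nat_lit 6936355413602186035253))) (.node (.node (.leaf (nat_lit 14206207843690253216186416))
    (.leaf (nat_lit 20904976426710794278))) (.leaf (nat_lit 6379721894375129120)))) (.node (.node
    (.node (.leaf (nat_lit 1760107662802947)) (.leaf (nat_lit 21767679096977031209))) (.leaf
    (nat_lit 6326753115111435))) (.node (.leaf (nat_lit 4013006988115971)) (.leaf (nat_lit
    32851204847647974490164)))))) (.node (.node (.node (.node (.node (.leaf (nat_lit
    352045584482320)) (.leaf (nat_lit 17189575814384123936))) (.leaf (nat_lit
    3856191972456988718))) (.node (.node (.leaf (nat_lit 2341053529194508)) (.leaf (nat_lit 0)))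
    (.leaf (nat_lit 26641478442830853832753)))) (.node (.node (.node (.leaf (nat_lit
    1284972610715660)) (.leaf (nat_lit 20686023383417290798))) (.leaf (nat_lit
    41107979685151741724393520))) (.node (.leaf (nat_lit 2342665279965954075)) (.leaf (nat_lit
    0))))) (.node (.node (.node (.node (.leaf (nat_lit 1189003537745641492)) (.leaf (nat_lit
    20324855520457588767))) (.leaf (nat_lit 20072382802027817992245))) (.node (.node (.leaf
    (nat_lit 1694067511089365025)) (.leaf (nat_lit 20184902001072734250))) (.leaf (nat_lit 0))))
    (.node (.node (.node (.leaf (nat_lit 2041720078467080)) (.leaf (nat_lit 14057894878587846675)))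
    (.leaf (nat_lit 6379281694587027469))) (.node (.leaf (nat_lit 0)) (.leaf (nat_lit
    16396660555882102819)))))))) (.node (.node (.node (.node (.node (.node (.node (.leaf (nat_lit
    0)) (.leaf (nat_lit 8722667648590217270))) (.leaf (nat_lit 0))) (.node (.node (.leaf (nat_lit
    1189320832749600800)) (.leaf (nat_lit 21516278194237538342))) (.leaf (nat_lit
    11957743918467787259953)))) (.node (.node (.node (.leaf (nat_lit 0)) (.leaf (nat_lit 0)))
    (.leaf (nat_lit 4000694549403074592))) (.node (.node (.leaf (nat_lit 3203448602492940)) (.leaf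
    (nat_lit 18779902131354927123))) (.leaf (nat_lit 33137002892663575543857))))) (.node (.node
    (.node (.node (.leaf (nat_lit 576487428345495572)) (.leaf (nat_lit 0))) (.leaf (nat_lit 0)))
    (.node (.node (.leaf (nat_lit 0)) (.leaf (nat_lit 17013681570579677203))) (.leaf (nat_lit
    5406865210025902123)))) (.node (.node (.node (.leaf (nat_lit 0)) (.leaf (nat_lit
    21767520724352958483))) (.leaf (nat_lit 5982929605567381559))) (.node (.leaf (nat_lit 0))
    (.leaf (nat_lit 9046627445360492576)))))) (.node (.node (.node (.node (.node (.leaf (nat_lit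
    0)) (.leaf (nat_lit 10163925211314061332))) (.leaf (nat_lit 7600546057776569516085))) (.node
    (.node (.leaf (nat_lit 4432009467508490271)) (.leaf (nat_lit 23426569833774514218))) (.leaf
    (nat_lit 6969971712327683)))) (.node (.node (.node (.leaf (nat_lit 2341995660204769311)) (.leaf
    (nat_lit 21298363347618693151))) (.leaf (nat_lit 3856904971387863067))) (.node (.leaf (nat_lit
    0)) (.leaf (nat_lit 16180206006733832232))))) (.node (.node (.node (.node (.leaf (nat_lit
    504447572522500123)) (.leaf (nat_lit 0))) (.leaf (nat_lit 5315481590431747))) (.node (.node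
    (.leaf (nat_lit 1189505980199796779)) (.leaf (nat_lit 19392066087796539423))) (.leaf (nat_lit
    12144690203252162598)))) (.node (.node (.node (.leaf (nat_lit 0)) (.leaf (nat_lit 0))) (.leaf
    (nat_lit 6204436741488651))) (.node (.leaf (nat_lit 8323516211556188200)) (.leaf (nat_lit
    7641654084180836390))))))) (.node (.node (.node (.node (.node (.node (.leaf (nat_lit
    158428458778632)) (.leaf (nat_lit 17009273439485362186))) (.leaf (nat_lit 0))) (.node (.node
    (.leaf (nat_lit 4287894227893026846)) (.leaf (nat_lit 22417094945454358538))) (.leaf (nat_lit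
    0)))) (.node (.node (.node (.leaf (nat_lit 324374153740353569)) (.leaf (nat_lit
    20901861810917015571))) (.leaf (nat_lit 11855165899483054111))) (.node (.node (.leaf (nat_lit
    1694111654763233309)) (.leaf (nat_lit 25301264002678194195))) (.leaf (nat_lit
    8578164968564916279))))) (.node (.node (.node (.node (.leaf (nat_lit 1513975091371900945))
    (.leaf (nat_lit 12001948227889987626))) (.leaf (nat_lit 3496132872484618286))) (.node (.node
    (.leaf (nat_lit 2921776057286659)) (.leaf (nat_lit 17013787183825485851))) (.leaf (nat_lit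
    12144505416579219498)))) (.node (.node (.node (.leaf (nat_lit 3495005340490203177)) (.leaf
    (nat_lit 13192799018184540179))) (.leaf (nat_lit 12504106733167378472))) (.node (.leaf (nat_lit
    0)) (.leaf (nat_lit 0)))))) (.node (.node (.node (.node (.node (.leaf (nat_lit 0)) (.leaf
    (nat_lit 15856703924628291626))) (.leaf (nat_lit 4919442656067596))) (.node (.node (.leaf
    (nat_lit 4576124707123953696)) (.leaf (nat_lit 23714870630210011155))) (.leaf (nat_lit
    5190586814666309674)))) (.node (.node (.node (.leaf (nat_lit 0)) (.leaf (nat_lit 0))) (.leaf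
    (nat_lit 6019512629592067))) (.node (.leaf (nat_lit 3625875815923723)) (.leaf (nat_lit
    8938453050423705631))))) (.node (.node (.node (.node (.leaf (nat_lit 324338840519245853))
    (.leaf (nat_lit 9984705168173891603))) (.leaf (nat_lit 3856491348857389066))) (.node (.node
    (.leaf (nat_lit 1730043557319999532)) (.leaf (nat_lit 19536304489894182943))) (.leaf (nat_lit
    0)))) (.node (.node (.node (.leaf (nat_lit 1117254408258912266)) (.leaf (nat_lit
    15535242742262333450))) (.leaf (nat_lit 5694928125402742839))) (.node (.leaf (nat_lit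
    4180304554229771)) (.leaf (nat_lit 17477612478920851495))))))))) (.node (.node (.node (.node
    (.node (.node (.node (.node (.leaf (nat_lit 0)) (.leaf (nat_lit 8888464883974147))) (.leaf
    (nat_lit 9260440984758714405))) (.node (.node (.leaf (nat_lit 2450355116692406292)) (.leaf
    (nat_lit 0))) (.leaf (nat_lit 5839043365018206231)))) (.node (.node (.node (.leaf (nat_lit
    2341960329803792394)) (.leaf (nat_lit 9984775579867742235))) (.leaf (nat_lit
    3099930643463864363))) (.node (.node (.leaf (nat_lit 0)) (.leaf (nat_lit
    19752802796169265162))) (.leaf (nat_lit 7814791779450883))))) (.node (.node (.node (.node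
    (.leaf (nat_lit 510461158227979)) (.leaf (nat_lit 19387578843404632083))) (.leaf (nat_lit
    6865504784230033653812))) (.node (.node (.leaf (nat_lit 0)) (.leaf (nat_lit
    22886419465135915050))) (.leaf (nat_lit 6890927134212107)))) (.node (.node (.node (.leaf
    (nat_lit 504571121551736870)) (.leaf (nat_lit 0))) (.leaf (nat_lit 5910784016239493155)))
    (.node (.leaf (nat_lit 1910284591495839776)) (.leaf (nat_lit 15027372566136422428)))))) (.node
    (.node (.node (.node (.node (.leaf (nat_lit 158471408451596)) (.leaf (nat_lit
    9214049174814732))) (.leaf (nat_lit 9800969825915437079))) (.node (.node (.leaf (nat_lit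
    1117307365205671982)) (.leaf (nat_lit 0))) (.leaf (nat_lit 7065925576687627)))) (.node (.node
    (.node (.leaf (nat_lit 0)) (.leaf (nat_lit 20505756201480552494))) (.leaf (nat_lit
    11855341890062975017))) (.node (.leaf (nat_lit 1730114106452803593)) (.leaf (nat_lit
    8078812009070595))))) (.node (.node (.node (.node (.leaf (nat_lit 0)) (.leaf (nat_lit
    9516137215571460115))) (.leaf (nat_lit 7381585257488661610547))) (.node (.node (.leaf (nat_lit
    2913031503872011)) (.leaf (nat_lit 19392083679982583854))) (.leaf (nat_lit 0)))) (.node (.node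
    (.node (.leaf (nat_lit 576716796778971179)) (.leaf (nat_lit 13192904631430348827))) (.leaf
    (nat_lit 6271160076208373791))) (.node (.leaf (nat_lit 0)) (.leaf (nat_lit
    8754436134535180))))))) (.node (.node (.node (.node (.node (.node (.leaf (nat_lit
    324268050868273159)) (.leaf (nat_lit 17982015774625300521))) (.leaf (nat_lit
    3495851114040066058))) (.node (.node (.leaf (nat_lit 0)) (.leaf (nat_lit 0))) (.leaf (nat_lit
    5911101010595741727)))) (.node (.node (.node (.leaf (nat_lit 2630252347326136327)) (.leaf
    (nat_lit 20325436242985680906))) (.leaf (nat_lit 11747061916240117779))) (.node (.node (.leaf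
    (nat_lit 6557981660137324551)) (.leaf (nat_lit 20509548348365275178))) (.leaf (nat_lit
    8506019379237027875))))) (.node (.node (.node (.node (.leaf (nat_lit 651267366060048)) (.leaf
    (nat_lit 19531905232202301481))) (.leaf (nat_lit 2955656936735047718))) (.node (.node (.leaf
    (nat_lit 6072542590664900638)) (.leaf (nat_lit 24435780942383218698))) (.leaf (nat_lit 0))))
    (.node (.node (.node (.leaf (nat_lit 3386918915073572904)) (.leaf (nat_lit
    20326562400590561322))) (.leaf (nat_lit 6248331307253763))) (.node (.leaf (nat_lit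
    15112829178399661909934130)) (.leaf (nat_lit 8614506100031499)))))) (.node (.node (.node (.node
    (.node (.leaf (nat_lit 829102346540875793)) (.leaf (nat_lit 0))) (.leaf (nat_lit 0))) (.node
    (.node (.leaf (nat_lit 4576080726658842637)) (.leaf (nat_lit 20904703627568021546))) (.leaf
    (nat_lit 0)))) (.node (.node (.node (.leaf (nat_lit 2450082085621399584)) (.leaf (nat_lit
    11282428196630495259))) (.leaf (nat_lit 12416743786946953246))) (.node (.leaf (nat_lit
    6810218518131441699)) (.leaf (nat_lit 6812710045839720490))))) (.node (.node (.node (.node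
    (.leaf (nat_lit 0)) (.leaf (nat_lit 20180881112819761193))) (.leaf (nat_lit
    10701927598088454185))) (.node (.node (.leaf (nat_lit 3203371293081608)) (.leaf (nat_lit
    24724433668438949907))) (.leaf (nat_lit 15639527546096386067)))) (.node (.node (.node (.leaf
    (nat_lit 1045196779861245996)) (.leaf (nat_lit 21768066236739158051))) (.leaf (nat_lit 0)))
    (.node (.leaf (nat_lit 1802295206570295338)) (.leaf (nat_lit 8578552391794884645)))))))) (.node
    (.node (.node (.node (.node (.node (.node (.leaf (nat_lit 0)) (.leaf (nat_lit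
    37860234542200454905905))) (.leaf (nat_lit 9368536197678432279))) (.node (.node (.leaf (nat_lit
    4179763813421350919)) (.leaf (nat_lit 23137538875718828042))) (.leaf (nat_lit 0)))) (.node
    (.node (.node (.leaf (nat_lit 1020935201226764)) (.leaf (nat_lit 11750494548592361518))) (.leaf
    (nat_lit 0))) (.node (.node (.leaf (nat_lit 3099146717443063836)) (.leaf (nat_lit
    19752688446959976483))) (.leaf (nat_lit 7980672006357004))))) (.node (.node (.node (.node
    (.leaf (nat_lit 442721902071617159189)) (.leaf (nat_lit 15856923912853192742))) (.leaf (nat_lit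
    10521721859953852439))) (.node (.node (.leaf (nat_lit 0)) (.leaf (nat_lit 0))) (.leaf (nat_lit
    13369238147309961229)))) (.node (.node (.node (.leaf (nat_lit 3314861295265841191)) (.leaf
    (nat_lit 15534556432258236451))) (.leaf (nat_lit 26311039961123202007092))) (.node (.leaf
    (nat_lit 4038897050976267)) (.leaf (nat_lit 16000343668414414885)))))) (.node (.node (.node
    (.node (.node (.leaf (nat_lit 774636766748672015)) (.leaf (nat_lit 17189487853453901837)))
    (.leaf (nat_lit 9512695512248287273))) (.node (.node (.leaf (nat_lit 0)) (.leaf (nat_lit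
    16400928026797473811))) (.leaf (nat_lit 6163425846699950134)))) (.node (.node (.node (.leaf
    (nat_lit 0)) (.leaf (nat_lit 21082304966253805609))) (.leaf (nat_lit 0))) (.node (.leaf
    (nat_lit 1802171752030339118)) (.leaf (nat_lit 43526717327757809325244466))))) (.node (.node
    (.node (.node (.leaf (nat_lit 844884491763723)) (.leaf (nat_lit 20180722740195688467))) (.leaf
    (nat_lit 10521783561454026792))) (.node (.node (.leaf (nat_lit 0)) (.leaf (nat_lit 0))) (.leaf
    (nat_lit 15639501106277711882)))) (.node (.node (.node (.leaf (nat_lit 1009176753165500445))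
    (.leaf (nat_lit 21515917434164543530))) (.leaf (nat_lit 4577833047545806891))) (.node (.leaf
    (nat_lit 13903311099282185683009586)) (.leaf (nat_lit 16396713332440236078))))))) (.node (.node
    (.node (.node (.node (.node (.leaf (nat_lit 0)) (.leaf (nat_lit 17009308623857451039))) (.leaf
    (nat_lit 9260493855806128167))) (.node (.node (.leaf (nat_lit 1045249719628136457)) (.leaf
    (nat_lit 23137600517089460243))) (.leaf (nat_lit 12792742030245822519)))) (.node (.node (.node
    (.leaf (nat_lit 1284895301304328)) (.leaf (nat_lit 21082023388197879839))) (.leaf (nat_lit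
    11747185095902167081))) (.node (.node (.leaf (nat_lit 0)) (.leaf (nat_lit
    24436590466409103391))) (.leaf (nat_lit 58039662063015247976136752))))) (.node (.node (.node
    (.node (.leaf (nat_lit 1772311272602290356250)) (.leaf (nat_lit 19748060422130040851))) (.leaf
    (nat_lit 0))) (.node (.node (.leaf (nat_lit 0)) (.leaf (nat_lit 0))) (.leaf (nat_lit
    5911514736205430803)))) (.node (.node (.node (.leaf (nat_lit 3855319698958909471)) (.leaf
    (nat_lit 0))) (.leaf (nat_lit 0))) (.node (.leaf (nat_lit 0)) (.leaf (nat_lit
    8326227555690676247)))))) (.node (.node (.node (.node (.node (.leaf (nat_lit 492834612445192))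
    (.leaf (nat_lit 0))) (.leaf (nat_lit 10161284270283489293))) (.node (.node (.leaf (nat_lit 0))
    (.leaf (nat_lit 19535547768196235299))) (.leaf (nat_lit 13189006141155377198)))) (.node (.node
    (.node (.leaf (nat_lit 0)) (.leaf (nat_lit 20686586393500254250))) (.leaf (nat_lit
    11958356451679747178549))) (.node (.leaf (nat_lit 4576468347457306644)) (.leaf (nat_lit
    8034934623174667))))) (.node (.node (.node (.node (.leaf (nat_lit 1020875071684616)) (.leaf
    (nat_lit 0))) (.leaf (nat_lit 11278449923043033119))) (.node (.node (.leaf (nat_lit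
    1802101185717665802)) (.leaf (nat_lit 0))) (.leaf (nat_lit 60909822192167506776752176))))
    (.node (.node (.node (.leaf (nat_lit 1117263204351934495)) (.leaf (nat_lit
    22632862978440101907))) (.leaf (nat_lit 46398210900015424760774704))) (.node (.leaf (nat_lit
    1910416807769079851)) (.leaf (nat_lit 52446683948002932026572848)))))))))) (.node (.node (.node
    (.node (.node (.node (.node (.node (.node (.leaf (nat_lit 0)) (.leaf (nat_lit 0))) (.leaf
    (nat_lit 0))) (.node (.node (.leaf (nat_lit 2041788797943820)) (.leaf (nat_lit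
    21984379816470839331))) (.leaf (nat_lit 6653149154770947)))) (.node (.node (.node (.leaf
    (nat_lit 0)) (.leaf (nat_lit 20505193105498243091))) (.leaf (nat_lit 5553079181246476))) (.node
    (.node (.leaf (nat_lit 1802153962275799075)) (.leaf (nat_lit 21986544230879920170))) (.leaf
    (nat_lit 0))))) (.node (.node (.node (.node (.leaf (nat_lit 0)) (.leaf (nat_lit
    19531711623666532362))) (.leaf (nat_lit 10377597841425236005))) (.node (.node (.leaf (nat_lit
    5748441669859213342)) (.leaf (nat_lit 23426877808699441190))) (.leaf (nat_lit 0)))) (.node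
    (.node (.node (.leaf (nat_lit 0)) (.leaf (nat_lit 15354306842507542563))) (.leaf (nat_lit
    5910801608425537546))) (.node (.leaf (nat_lit 1910258203216773167)) (.leaf (nat_lit
    11496568050463997972)))))) (.node (.node (.node (.node (.node (.leaf (nat_lit 193655780540427))
    (.leaf (nat_lit 8809428895793163))) (.leaf (nat_lit 4717046617210883))) (.node (.node (.leaf
    (nat_lit 4431965487043379210)) (.leaf (nat_lit 15859818703630827555))) (.leaf (nat_lit
    44132291184922476635553840)))) (.node (.node (.node (.leaf (nat_lit 2774358773668708361))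
    (.leaf (nat_lit 12002977697191100426))) (.leaf (nat_lit 0))) (.node (.leaf (nat_lit
    6666103278515978274)) (.leaf (nat_lit 0))))) (.node (.node (.node (.node (.leaf (nat_lit
    827249356046344)) (.leaf (nat_lit 11749949019026292746))) (.leaf (nat_lit
    19858353733293712867380))) (.node (.node (.leaf (nat_lit 0)) (.leaf (nat_lit
    23715600894909415434))) (.leaf (nat_lit 5911585147899281435)))) (.node (.node (.node (.leaf
    (nat_lit 1927302149701644)) (.leaf (nat_lit 22164083885245399059))) (.leaf (nat_lit
    6271142484022329390))) (.node (.leaf (nat_lit 4232406802497547)) (.leaf (nat_lit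
    40504114296777056169820210))))))) (.node (.node (.node (.node (.node (.node (.leaf (nat_lit 0))
    (.leaf (nat_lit 0))) (.leaf (nat_lit 2342903221154152486))) (.node (.node (.leaf (nat_lit
    1009247267938566177)) (.leaf (nat_lit 15643487523123167267))) (.leaf (nat_lit
    5911136194967830574)))) (.node (.node (.node (.leaf (nat_lit 0)) (.leaf (nat_lit 0))) (.leaf
    (nat_lit 0))) (.node (.node (.leaf (nat_lit 0)) (.leaf (nat_lit 20185262786915532838))) (.leaf
    (nat_lit 8506036971423072302))))) (.node (.node (.node (.node (.leaf (nat_lit 0)) (.leaf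
    (nat_lit 0))) (.leaf (nat_lit 0))) (.node (.node (.leaf (nat_lit 2965193881681931)) (.leaf
    (nat_lit 21301319582198464554))) (.leaf (nat_lit 13369290923868094500)))) (.node (.node (.node
    (.leaf (nat_lit 3711204476523315223)) (.leaf (nat_lit 20686876759059267622))) (.leaf (nat_lit
    0))) (.node (.leaf (nat_lit 17052144980697924501553)) (.leaf (nat_lit
    54561559921162886029049904)))))) (.node (.node (.node (.node (.node (.leaf (nat_lit
    738968772752375825)) (.leaf (nat_lit 9047050095912222756))) (.leaf (nat_lit
    9981113853959929887))) (.node (.node (.leaf (nat_lit 3098952825439453204)) (.leaf (nat_lit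
    21300994006497558566))) (.leaf (nat_lit 12621970926025731997749)))) (.node (.node (.node (.leaf
    (nat_lit 3098626820241817613)) (.leaf (nat_lit 21298442563995500563))) (.leaf (nat_lit
    6062874619412491))) (.node (.leaf (nat_lit 1802198140309405727)) (.leaf (nat_lit
    16396378848977158185))))) (.node (.node (.node (.node (.leaf (nat_lit 576505192330231836))
    (.leaf (nat_lit 0))) (.leaf (nat_lit 0))) (.node (.node (.leaf (nat_lit 0)) (.leaf (nat_lit
    25012716821148794890))) (.leaf (nat_lit 15531458747225538601)))) (.node (.node (.node (.leaf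
    (nat_lit 1045205575954268190)) (.leaf (nat_lit 15354957959549616159))) (.leaf (nat_lit
    6379316878959116324))) (.node (.leaf (nat_lit 8503660248190615593)) (.leaf (nat_lit 0))))))))
    (.node (.node (.node (.node (.node (.node (.node (.leaf (nat_lit 144124022823780356)) (.leaf
    (nat_lit 17729814126773076008))) (.leaf (nat_lit 4523429491507203))) (.node (.node (.leaf
    (nat_lit 0)) (.leaf (nat_lit 21083906241730904106))) (.leaf (nat_lit
    25608316571390904107061)))) (.node (.node (.node (.leaf (nat_lit 1073711759360011)) (.leaf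
    (nat_lit 20181250643215974410))) (.leaf (nat_lit 10161601247459868708))) (.node (.node (.leaf
    (nat_lit 5405016114935824404)) (.leaf (nat_lit 24184248072478588959))) (.leaf (nat_lit
    45643376294552437757640754))))) (.node (.node (.node (.node (.leaf (nat_lit 0)) (.leaf (nat_lit
    19387702040246550569))) (.leaf (nat_lit 5069062136791043))) (.node (.node (.leaf (nat_lit
    1117395497934585894)) (.leaf (nat_lit 19751878940113960991))) (.leaf (nat_lit
    11495775886695923740)))) (.node (.node (.node (.leaf (nat_lit 3603109263603597349)) (.leaf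
    (nat_lit 12652226282462052379))) (.leaf (nat_lit 12323962696532951079))) (.node (.leaf (nat_lit
    25842929325499231611715632)) (.leaf (nat_lit 0)))))) (.node (.node (.node (.node (.node (.leaf
    (nat_lit 73787002859211194382)) (.leaf (nat_lit 13370470553815810076))) (.leaf (nat_lit 0)))
    (.node (.node (.leaf (nat_lit 1117333753484738595)) (.leaf (nat_lit 19391388548115660810)))
    (.leaf (nat_lit 13008914872489148439)))) (.node (.node (.node (.leaf (nat_lit
    504518216144584739)) (.leaf (nat_lit 0))) (.leaf (nat_lit 12143554674028642335))) (.node (.leaf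
    (nat_lit 6810183333759352842)) (.leaf (nat_lit 34318477720422692683825))))) (.node (.node
    (.node (.node (.leaf (nat_lit 0)) (.leaf (nat_lit 11858105813187100682))) (.leaf (nat_lit
    11062277089389641751))) (.node (.node (.leaf (nat_lit 3999760943772008476)) (.leaf (nat_lit
    23715504137886171171))) (.leaf (nat_lit 11856433438821384234)))) (.node (.node (.node (.leaf
    (nat_lit 1009167957072478215)) (.leaf (nat_lit 21083598258216042534))) (.leaf (nat_lit
    6485911718199308))) (.node (.leaf (nat_lit 17863188966603520999473)) (.leaf (nat_lit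
    8506389193101082634))))))) (.node (.node (.node (.node (.node (.node (.leaf (nat_lit
    396316865993048073)) (.leaf (nat_lit 8938805315051388974))) (.leaf (nat_lit
    9656845807386820645))) (.node (.node (.leaf (nat_lit 1045276107907203106)) (.leaf (nat_lit
    15859871480188960814))) (.leaf (nat_lit 5983281801475588133)))) (.node (.node (.node (.leaf
    (nat_lit 0)) (.leaf (nat_lit 10705703458457190427))) (.leaf (nat_lit 0))) (.node (.node (.leaf
    (nat_lit 6558016844509413409)) (.leaf (nat_lit 18780042946152693787))) (.leaf (nat_lit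
    16000061970099404839))))) (.node (.node (.node (.node (.leaf (nat_lit 369079040999214546969))
    (.leaf (nat_lit 19928239591596949514))) (.leaf (nat_lit 10701865887998345247))) (.node (.node
    (.leaf (nat_lit 5837194355827474472)) (.leaf (nat_lit 19932146130640633887))) (.leaf (nat_lit
    15351112331732123658)))) (.node (.node (.node (.leaf (nat_lit 504606391823171626)) (.leaf
    (nat_lit 15642766011567112223))) (.leaf (nat_lit 12622655534380966215729))) (.node (.leaf
    (nat_lit 1802277511305035814)) (.leaf (nat_lit 8536440774459395)))))) (.node (.node (.node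
    (.node (.node (.leaf (nat_lit 0)) (.leaf (nat_lit 8506820536666619923))) (.leaf (nat_lit
    2451112912132177963))) (.node (.node (.leaf (nat_lit 1189391399062274084)) (.leaf (nat_lit
    16401016039267303451))) (.leaf (nat_lit 6271494705700339722)))) (.node (.node (.node (.leaf
    (nat_lit 3314826042174275621)) (.leaf (nat_lit 20326324811589681190))) (.leaf (nat_lit
    5838726387841826870))) (.node (.leaf (nat_lit 3537914885701644)) (.leaf (nat_lit 0))))) (.node
    (.node (.node (.node (.leaf (nat_lit 0)) (.leaf (nat_lit 20505131489897414687))) (.leaf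
    (nat_lit 9981369249895219246))) (.node (.node (.leaf (nat_lit 0)) (.leaf (nat_lit
    23931835318393831459))) (.leaf (nat_lit 8217788908596035621)))) (.node (.node (.node (.leaf
    (nat_lit 2342268691275776019)) (.leaf (nat_lit 21984415000842928174))) (.leaf (nat_lit
    28081639443495712456756))) (.node (.leaf (nat_lit 4409002972807180)) (.leaf (nat_lit
    33987481100980416938036))))))))) (.node (.node (.node (.node (.node (.node (.node (.node (.leaf
    (nat_lit 17613661011971)) (.leaf (nat_lit 16757106976005226519))) (.leaf (nat_lit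
    6790568079154657624115))) (.node (.node (.leaf (nat_lit 1189312036656578573)) (.leaf (nat_lit
    22633109329174265897))) (.leaf (nat_lit 12504353221340495926)))) (.node (.node (.node (.leaf
    (nat_lit 504482885743607839)) (.leaf (nat_lit 20685354682779107359))) (.leaf (nat_lit
    11494649144975491085))) (.node (.node (.leaf (nat_lit 3256225160626187)) (.leaf (nat_lit
    24184283256850677806))) (.leaf (nat_lit 8325875342602600502))))) (.node (.node (.node (.node
    (.leaf (nat_lit 492868972183564)) (.leaf (nat_lit 8506873347584491547))) (.leaf (nat_lit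
    18965960145382301499443))) (.node (.node (.leaf (nat_lit 2780961259520003)) (.leaf (nat_lit
    19751958104951160878))) (.leaf (nat_lit 7260363041144844)))) (.node (.node (.node (.leaf
    (nat_lit 3494978866311790623)) (.leaf (nat_lit 15534574024444280878))) (.leaf (nat_lit 0)))
    (.node (.leaf (nat_lit 6990362563355803684)) (.leaf (nat_lit 9046574668802359309)))))) (.node
    (.node (.node (.node (.node (.leaf (nat_lit 576469690130563085)) (.leaf (nat_lit
    7894049426468175915))) (.leaf (nat_lit 9368580281222758440))) (.node (.node (.leaf (nat_lit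
    2954837585823989779)) (.leaf (nat_lit 22886164266769121318))) (.leaf (nat_lit 0)))) (.node
    (.node (.node (.leaf (nat_lit 2954511597806223370)) (.leaf (nat_lit 11282340184160665619)))
    (.leaf (nat_lit 11999421893766742035))) (.node (.leaf (nat_lit 6666068094143889452)) (.leaf
    (nat_lit 8722280208180379671))))) (.node (.node (.node (.node (.leaf (nat_lit
    1116945917937909779)) (.leaf (nat_lit 20180678725370839071))) (.leaf (nat_lit 0))) (.node
    (.node (.leaf (nat_lit 3106545550360588)) (.leaf (nat_lit 17986916615777878035))) (.leaf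
    (nat_lit 15351209157474844713)))) (.node (.node (.node (.leaf (nat_lit 3999461309673570317))
    (.leaf (nat_lit 15859061999112749087))) (.leaf (nat_lit 0))) (.node (.leaf (nat_lit
    4189023337840643)) (.leaf (nat_lit 0))))))) (.node (.node (.node (.node (.node (.node (.leaf
    (nat_lit 0)) (.leaf (nat_lit 7641742234089619498))) (.leaf (nat_lit 9512651420114026527)))
    (.node (.node (.leaf (nat_lit 2340950449979400)) (.leaf (nat_lit 22885451714514845737))) (.leaf
    (nat_lit 12648468460955959331)))) (.node (.node (.node (.leaf (nat_lit 2089794003762610205))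
    (.leaf (nat_lit 11858686535715192878))) (.leaf (nat_lit 3496458602804346907))) (.node (.node
    (.leaf (nat_lit 1694085266484166701)) (.leaf (nat_lit 25625593544593047562))) (.leaf (nat_lit
    0))))) (.node (.node (.node (.node (.leaf (nat_lit 1351783932135407640)) (.leaf (nat_lit
    11749720260478173222))) (.leaf (nat_lit 9512924382465556490))) (.node (.node (.leaf (nat_lit
    0)) (.leaf (nat_lit 24183526586692337683))) (.leaf (nat_lit 11856301428706574374)))) (.node
    (.node (.node (.leaf (nat_lit 0)) (.leaf (nat_lit 22164022252464701450))) (.leaf (nat_lit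
    6163073642201808919))) (.node (.leaf (nat_lit 4126248095842316)) (.leaf (nat_lit
    17643224807241875486)))))) (.node (.node (.node (.node (.node (.leaf (nat_lit
    270612029461692434)) (.leaf (nat_lit 15532471139736682534))) (.leaf (nat_lit
    4673152051445771))) (.node (.node (.leaf (nat_lit 1189365010783207471)) (.leaf (nat_lit
    23931078596695883786))) (.leaf (nat_lit 14053679677424468009)))) (.node (.node (.node (.leaf
    (nat_lit 576575844542251044)) (.leaf (nat_lit 21514632938295328799))) (.leaf (nat_lit 0)))
    (.node (.leaf (nat_lit 0)) (.leaf (nat_lit 8938435458237661194))))) (.node (.node (.node (.node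
    (.leaf (nat_lit 2089758690541502471)) (.leaf (nat_lit 12002361781700984878))) (.leaf (nat_lit
    2955727442918178858))) (.node (.node (.leaf (nat_lit 1730096333878132770)) (.leaf (nat_lit
    17987039829799665691))) (.leaf (nat_lit 6272031525072732187)))) (.node (.node (.node (.leaf
    (nat_lit 0)) (.leaf (nat_lit 0))) (.leaf (nat_lit 12324209184706068517))) (.node (.leaf
    (nat_lit 0)) (.leaf (nat_lit 16540934125171966007)))))))) (.node (.node (.node (.node (.node
    (.node (.node (.leaf (nat_lit 70424578883589)) (.leaf (nat_lit 38841023224678126056702002)))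
    (.leaf (nat_lit 6938138539712584089649))) (.node (.node (.leaf (nat_lit 1009220879659499565))
    (.leaf (nat_lit 14778787598575009811))) (.leaf (nat_lit 5190498681937395750)))) (.node (.node
    (.node (.leaf (nat_lit 2450046746630488077)) (.leaf (nat_lit 10705633046763339795))) (.leaf
    (nat_lit 3496423392662454291))) (.node (.node (.leaf (nat_lit 1910187619724230669)) (.leaf
    (nat_lit 0))) (.leaf (nat_lit 0))))) (.node (.node (.node (.node (.leaf (nat_lit
    677531091075094)) (.leaf (nat_lit 15532638351403450410))) (.leaf (nat_lit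
    19187317300768679395377))) (.node (.node (.leaf (nat_lit 5693079124801945639)) (.leaf (nat_lit
    23931360191931678761))) (.leaf (nat_lit 6379669117816995887)))) (.node (.node (.node (.leaf
    (nat_lit 0)) (.leaf (nat_lit 0))) (.leaf (nat_lit 39295258911823348946501680))) (.node (.leaf
    (nat_lit 0)) (.leaf (nat_lit 8218141104504242231)))))) (.node (.node (.node (.node (.node
    (.leaf (nat_lit 0)) (.leaf (nat_lit 9046997319354089519))) (.leaf (nat_lit
    2342956109381435434))) (.node (.node (.leaf (nat_lit 2429014459416587)) (.leaf (nat_lit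
    19391326975464505379))) (.leaf (nat_lit 13837506835181142056)))) (.node (.node (.node (.leaf
    (nat_lit 1355341354893323)) (.leaf (nat_lit 12147180897736785930))) (.leaf (nat_lit
    5694611156816298021))) (.node (.leaf (nat_lit 4432353099251908627)) (.leaf (nat_lit
    8279734874144780))))) (.node (.node (.node (.node (.leaf (nat_lit 827292305719308)) (.leaf
    (nat_lit 9516190026489331739))) (.leaf (nat_lit 7602942289738327130161))) (.node (.node (.leaf
    (nat_lit 1694014734531231751)) (.leaf (nat_lit 20509134785964343334))) (.leaf (nat_lit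
    6271943512602902547)))) (.node (.node (.node (.leaf (nat_lit 0)) (.leaf (nat_lit
    22632801345659404298))) (.leaf (nat_lit 10162322973764288540))) (.node (.leaf (nat_lit
    4337350033408012)) (.leaf (nat_lit 8506371600915038239))))))) (.node (.node (.node (.node
    (.node (.node (.leaf (nat_lit 504412078912765962)) (.leaf (nat_lit 8938840499423477795)))
    (.leaf (nat_lit 7456088596094673748020))) (.node (.node (.leaf (nat_lit 4287850247427915820))
    (.leaf (nat_lit 14778910812596797467))) (.leaf (nat_lit 13621333992937816103)))) (.node (.node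
    (.node (.leaf (nat_lit 2197880429179240478)) (.leaf (nat_lit 0))) (.leaf (nat_lit
    3856852160469991443))) (.node (.node (.leaf (nat_lit 3537803216551944)) (.leaf (nat_lit
    19933008431224651811))) (.leaf (nat_lit 8139882149052427))))) (.node (.node (.node (.node
    (.leaf (nat_lit 0)) (.leaf (nat_lit 8939412520347828251))) (.leaf (nat_lit
    10882124265252126757))) (.node (.node (.leaf (nat_lit 5909251975635206185)) (.leaf (nat_lit
    21986201045813100582))) (.leaf (nat_lit 0)))) (.node (.node (.node (.leaf (nat_lit 0)) (.leaf
    (nat_lit 21983975084522668073))) (.leaf (nat_lit 12648221964192907305))) (.node (.leaf (nat_lit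
    8215429786139557927)) (.leaf (nat_lit 16180487713638776886)))))) (.node (.node (.node (.node
    (.node (.leaf (nat_lit 0)) (.leaf (nat_lit 12001710638889107494))) (.leaf (nat_lit
    4000377572226695204))) (.node (.node (.leaf (nat_lit 15565731638823528180285488)) (.leaf
    (nat_lit 0))) (.leaf (nat_lit 13189058917713510431)))) (.node (.node (.node (.leaf (nat_lit
    1619292865036291)) (.leaf (nat_lit 21767494284534284298))) (.leaf (nat_lit 0))) (.node (.leaf
    (nat_lit 2450751731152388124)) (.leaf (nat_lit 8351593971974156))))) (.node (.node (.node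
    (.node (.leaf (nat_lit 396396460326977566)) (.leaf (nat_lit 20325084304775512105))) (.leaf
    (nat_lit 0))) (.node (.node (.leaf (nat_lit 5188843289872367635)) (.leaf (nat_lit
    24724697619949092905))) (.leaf (nat_lit 7858411467309067)))) (.node (.node (.node (.leaf
    (nat_lit 0)) (.leaf (nat_lit 14058000491833655323))) (.leaf (nat_lit 6731678336811019))) (.node
    (.leaf (nat_lit 4000113423148056596)) (.leaf (nat_lit 8983937711996939)))))))))))

/-- Certificate data. -/
def pn_rel : Trie :=
    (.node (.node (.node (.node (.node (.node (.leaf (nat_lit 0)) (.leaf (nat_lit 117770241)))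
    (.node (.leaf (nat_lit 100926723)) (.leaf (nat_lit 3328650445575)))) (.node (.node (.leaf
    (nat_lit 151128321)) (.leaf (nat_lit 151456007))) (.leaf (nat_lit 4395893251)))) (.node (.node
    (.node (.leaf (nat_lit 83953154)) (.leaf (nat_lit 151521544))) (.node (.leaf (nat_lit 263172))
    (.leaf (nat_lit 50660358)))) (.node (.node (.leaf (nat_lit 8657109765)) (.leaf (nat_lit
    151062786))) (.leaf (nat_lit 117835778))))) (.node (.node (.node (.node (.leaf (nat_lit
    100795649)) (.leaf (nat_lit 168102405))) (.node (.leaf (nat_lit 168036867)) (.leaf (nat_lit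
    17196844290)))) (.node (.node (.leaf (nat_lit 657159)) (.leaf (nat_lit 117573637))) (.leaf
    (nat_lit 167971332)))) (.node (.node (.node (.leaf (nat_lit 460554)) (.leaf (nat_lit
    50988042))) (.leaf (nat_lit 17170949))) (.node (.node (.leaf (nat_lit 65793)) (.leaf (nat_lit
    4432473883656))) (.leaf (nat_lit 168167942)))))) (.node (.node (.node (.node (.node (.leaf
    (nat_lit 197379)) (.leaf (nat_lit 151324933))) (.node (.leaf (nat_lit 151259396)) (.leaf
    (nat_lit 25837044481)))) (.node (.node (.leaf (nat_lit 657416)) (.leaf (nat_lit 168364553)))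
    (.leaf (nat_lit 151193859)))) (.node (.node (.node (.leaf (nat_lit 134350598)) (.leaf (nat_lit
    67765002))) (.node (.leaf (nat_lit 50725893)) (.leaf (nat_lit 67502853)))) (.node (.node (.leaf
    (nat_lit 100861188)) (.leaf (nat_lit 167840257))) (.leaf (nat_lit 151390470))))) (.node (.node
    (.node (.node (.leaf (nat_lit 328965)) (.leaf (nat_lit 67437318))) (.node (.leaf (nat_lit
    8640333316)) (.leaf (nat_lit 12902073346)))) (.node (.node (.leaf (nat_lit 167905794)) (.leaf
    (nat_lit 134285061))) (.leaf (nat_lit 134612737)))) (.node (.node (.node (.leaf (nat_lit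
    117508102)) (.leaf (nat_lit 151652618))) (.leaf (nat_lit 4345627140))) (.node (.node (.leaf
    (nat_lit 17105414)) (.leaf (nat_lit 12968920065))) (.leaf (nat_lit 134547202)))))))

/-- Certificate data. -/
def pn_rc : Trie :=
    (.node (.node (.node (.node (.node (.node (.leaf (nat_lit 40)) (.leaf (nat_lit 131094))) (.node
    (.leaf (nat_lit 11)) (.leaf (nat_lit 20)))) (.node (.node (.leaf (nat_lit 131102)) (.leaf
    (nat_lit 131100))) (.leaf (nat_lit 131078)))) (.node (.node (.node (.leaf (nat_lit 262153))
    (.leaf (nat_lit 29))) (.node (.leaf (nat_lit 3)) (.leaf (nat_lit 262154)))) (.node (.node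
    (.leaf (nat_lit 7)) (.leaf (nat_lit 393246))) (.leaf (nat_lit 262167))))) (.node (.node (.node
    (.node (.leaf (nat_lit 9)) (.leaf (nat_lit 131110))) (.node (.leaf (nat_lit 131098)) (.leaf
    (nat_lit 524295)))) (.node (.node (.leaf (nat_lit 18)) (.leaf (nat_lit 131096))) (.leaf
    (nat_lit 393242)))) (.node (.node (.node (.leaf (nat_lit 262162)) (.leaf (nat_lit 262170)))
    (.leaf (nat_lit 131081))) (.node (.node (.leaf (nat_lit 0)) (.leaf (nat_lit 131093))) (.leaf
    (nat_lit 39)))))) (.node (.node (.node (.node (.node (.leaf (nat_lit 2)) (.leaf (nat_lit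
    131106))) (.node (.leaf (nat_lit 33)) (.leaf (nat_lit 6)))) (.node (.node (.leaf (nat_lit
    131091)) (.leaf (nat_lit 131088))) (.leaf (nat_lit 131104)))) (.node (.node (.node (.leaf
    (nat_lit 23)) (.leaf (nat_lit 26))) (.node (.leaf (nat_lit 131083)) (.leaf (nat_lit 10))))
    (.node (.node (.leaf (nat_lit 393226)) (.leaf (nat_lit 131108))) (.leaf (nat_lit 35))))) (.node
    (.node (.node (.node (.leaf (nat_lit 4)) (.leaf (nat_lit 393227))) (.node (.leaf (nat_lit
    393222)) (.leaf (nat_lit 262150)))) (.node (.node (.leaf (nat_lit 37)) (.leaf (nat_lit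
    393238))) (.leaf (nat_lit 25)))) (.node (.node (.node (.leaf (nat_lit 262169)) (.leaf (nat_lit
    16))) (.leaf (nat_lit 393223))) (.node (.node (.leaf (nat_lit 262152)) (.leaf (nat_lit
    262151))) (.leaf (nat_lit 393240)))))))

/-- Certificate data. -/
def pn_lv : Trie :=
    (.node (.node (.node (.node (.node (.node (.node (.node (.leaf (nat_lit 0)) (.leaf (nat_lit
    128))) (.leaf (nat_lit 64))) (.node (.leaf (nat_lit 32)) (.leaf (nat_lit 96)))) (.node (.node
    (.leaf (nat_lit 16)) (.leaf (nat_lit 80))) (.node (.leaf (nat_lit 48)) (.leaf (nat_lit 112)))))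
    (.node (.node (.node (.node (.leaf (nat_lit 8)) (.leaf (nat_lit 136))) (.leaf (nat_lit 72)))
    (.node (.leaf (nat_lit 40)) (.leaf (nat_lit 104)))) (.node (.node (.leaf (nat_lit 24)) (.leaf
    (nat_lit 88))) (.node (.leaf (nat_lit 56)) (.leaf (nat_lit 120)))))) (.node (.node (.node
    (.node (.node (.leaf (nat_lit 4)) (.leaf (nat_lit 132))) (.leaf (nat_lit 68))) (.node (.leaf
    (nat_lit 36)) (.leaf (nat_lit 100)))) (.node (.node (.leaf (nat_lit 20)) (.leaf (nat_lit 84)))
    (.node (.leaf (nat_lit 52)) (.leaf (nat_lit 116))))) (.node (.node (.node (.node (.leaf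
    (nat_lit 12)) (.leaf (nat_lit 140))) (.leaf (nat_lit 76))) (.node (.leaf (nat_lit 44)) (.leaf
    (nat_lit 108)))) (.node (.node (.leaf (nat_lit 28)) (.leaf (nat_lit 92))) (.node (.leaf
    (nat_lit 60)) (.leaf (nat_lit 124))))))) (.node (.node (.node (.node (.node (.node (.leaf
    (nat_lit 2)) (.leaf (nat_lit 130))) (.leaf (nat_lit 66))) (.node (.leaf (nat_lit 34)) (.leaf
    (nat_lit 98)))) (.node (.node (.leaf (nat_lit 18)) (.leaf (nat_lit 82))) (.node (.leaf (nat_lit
    50)) (.leaf (nat_lit 114))))) (.node (.node (.node (.node (.leaf (nat_lit 10)) (.leaf (nat_lit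
    138))) (.leaf (nat_lit 74))) (.node (.leaf (nat_lit 42)) (.leaf (nat_lit 106)))) (.node (.node
    (.leaf (nat_lit 26)) (.leaf (nat_lit 90))) (.node (.leaf (nat_lit 58)) (.leaf (nat_lit
    122)))))) (.node (.node (.node (.node (.node (.leaf (nat_lit 6)) (.leaf (nat_lit 134))) (.leaf
    (nat_lit 70))) (.node (.leaf (nat_lit 38)) (.leaf (nat_lit 102)))) (.node (.node (.leaf
    (nat_lit 22)) (.leaf (nat_lit 86))) (.node (.leaf (nat_lit 54)) (.leaf (nat_lit 118))))) (.node
    (.node (.node (.node (.leaf (nat_lit 14)) (.leaf (nat_lit 142))) (.leaf (nat_lit 78))) (.node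
    (.leaf (nat_lit 46)) (.leaf (nat_lit 110)))) (.node (.node (.leaf (nat_lit 30)) (.leaf (nat_lit
    94))) (.node (.leaf (nat_lit 62)) (.leaf (nat_lit 126)))))))) (.node (.node (.node (.node
    (.node (.node (.node (.leaf (nat_lit 1)) (.leaf (nat_lit 129))) (.leaf (nat_lit 65))) (.node
    (.leaf (nat_lit 33)) (.leaf (nat_lit 97)))) (.node (.node (.leaf (nat_lit 17)) (.leaf (nat_lit
    81))) (.node (.leaf (nat_lit 49)) (.leaf (nat_lit 113))))) (.node (.node (.node (.node (.leaf
    (nat_lit 9)) (.leaf (nat_lit 137))) (.leaf (nat_lit 73))) (.node (.leaf (nat_lit 41)) (.leaf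
    (nat_lit 105)))) (.node (.node (.leaf (nat_lit 25)) (.leaf (nat_lit 89))) (.node (.leaf
    (nat_lit 57)) (.leaf (nat_lit 121)))))) (.node (.node (.node (.node (.node (.leaf (nat_lit 5))
    (.leaf (nat_lit 133))) (.leaf (nat_lit 69))) (.node (.leaf (nat_lit 37)) (.leaf (nat_lit
    101)))) (.node (.node (.leaf (nat_lit 21)) (.leaf (nat_lit 85))) (.node (.leaf (nat_lit 53))
    (.leaf (nat_lit 117))))) (.node (.node (.node (.node (.leaf (nat_lit 13)) (.leaf (nat_lit
    141))) (.leaf (nat_lit 77))) (.node (.leaf (nat_lit 45)) (.leaf (nat_lit 109)))) (.node (.node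
    (.leaf (nat_lit 29)) (.leaf (nat_lit 93))) (.node (.leaf (nat_lit 61)) (.leaf (nat_lit
    125))))))) (.node (.node (.node (.node (.node (.node (.leaf (nat_lit 3)) (.leaf (nat_lit 131)))
    (.leaf (nat_lit 67))) (.node (.leaf (nat_lit 35)) (.leaf (nat_lit 99)))) (.node (.node (.leaf
    (nat_lit 19)) (.leaf (nat_lit 83))) (.node (.leaf (nat_lit 51)) (.leaf (nat_lit 115))))) (.node
    (.node (.node (.node (.leaf (nat_lit 11)) (.leaf (nat_lit 139))) (.leaf (nat_lit 75))) (.node
    (.leaf (nat_lit 43)) (.leaf (nat_lit 107)))) (.node (.node (.leaf (nat_lit 27)) (.leaf (nat_lit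
    91))) (.node (.leaf (nat_lit 59)) (.leaf (nat_lit 123)))))) (.node (.node (.node (.node (.node
    (.leaf (nat_lit 7)) (.leaf (nat_lit 135))) (.leaf (nat_lit 71))) (.node (.leaf (nat_lit 39))
    (.leaf (nat_lit 103)))) (.node (.node (.leaf (nat_lit 23)) (.leaf (nat_lit 87))) (.node (.leaf
    (nat_lit 55)) (.leaf (nat_lit 119))))) (.node (.node (.node (.node (.leaf (nat_lit 15)) (.leaf
    (nat_lit 143))) (.leaf (nat_lit 79))) (.node (.leaf (nat_lit 47)) (.leaf (nat_lit 111))))
    (.node (.node (.leaf (nat_lit 31)) (.leaf (nat_lit 95))) (.node (.leaf (nat_lit 63)) (.leaf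
    (nat_lit 127)))))))))

/-- Certificate data. -/
def pn_tb : Trie :=
    (.node (.node (.node (.node (.node (.node (.node (.node (.node (.node (.leaf (nat_lit 0))
    (.leaf (nat_lit 240705))) (.node (.leaf (nat_lit 232453)) (.leaf (nat_lit 92506)))) (.node
    (.node (.leaf (nat_lit 263359)) (.leaf (nat_lit 37361))) (.leaf (nat_lit 183102)))) (.node
    (.node (.node (.leaf (nat_lit 220087)) (.leaf (nat_lit 14364))) (.node (.leaf (nat_lit 65738))
    (.leaf (nat_lit 224248)))) (.node (.node (.leaf (nat_lit 24919)) (.leaf (nat_lit 173241)))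
    (.leaf (nat_lit 113042))))) (.node (.node (.node (.node (.leaf (nat_lit 156261)) (.leaf
    (nat_lit 175100))) (.node (.leaf (nat_lit 6152)) (.leaf (nat_lit 168605)))) (.node (.node
    (.leaf (nat_lit 6234)) (.leaf (nat_lit 84789))) (.leaf (nat_lit 271605)))) (.node (.node (.node
    (.leaf (nat_lit 183100)) (.leaf (nat_lit 168602))) (.leaf (nat_lit 234527))) (.node (.node
    (.leaf (nat_lit 64142)) (.leaf (nat_lit 119222))) (.leaf (nat_lit 127458)))))) (.node (.node
    (.node (.node (.node (.leaf (nat_lit 4179)) (.leaf (nat_lit 199495))) (.node (.leaf (nat_lit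
    177344)) (.leaf (nat_lit 125426)))) (.node (.node (.leaf (nat_lit 2050)) (.leaf (nat_lit
    60045))) (.leaf (nat_lit 127988)))) (.node (.node (.node (.leaf (nat_lit 246883)) (.leaf
    (nat_lit 117160))) (.node (.leaf (nat_lit 180951)) (.leaf (nat_lit 267473)))) (.node (.node
    (.leaf (nat_lit 244831)) (.leaf (nat_lit 16416))) (.leaf (nat_lit 123349))))) (.node (.node
    (.node (.node (.leaf (nat_lit 180955)) (.leaf (nat_lit 249018))) (.node (.leaf (nat_lit 30808))
    (.leaf (nat_lit 191286)))) (.node (.node (.leaf (nat_lit 67793)) (.leaf (nat_lit 292220)))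
    (.leaf (nat_lit 10258)))) (.node (.node (.node (.leaf (nat_lit 216058)) (.leaf (nat_lit
    207728))) (.leaf (nat_lit 164496))) (.node (.node (.leaf (nat_lit 277791)) (.leaf (nat_lit
    59596))) (.leaf (nat_lit 133627))))))) (.node (.node (.node (.node (.node (.node (.leaf
    (nat_lit 16422)) (.leaf (nat_lit 230398))) (.node (.leaf (nat_lit 140388)) (.leaf (nat_lit
    113054)))) (.node (.node (.leaf (nat_lit 288099)) (.leaf (nat_lit 49722))) (.leaf (nat_lit
    228337)))) (.node (.node (.node (.leaf (nat_lit 148028)) (.leaf (nat_lit 71909))) (.node (.leaf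
    (nat_lit 73996)) (.leaf (nat_lit 250997)))) (.node (.node (.leaf (nat_lit 230386)) (.leaf
    (nat_lit 210213))) (.leaf (nat_lit 45194))))) (.node (.node (.node (.node (.leaf (nat_lit
    22802)) (.leaf (nat_lit 290161))) (.node (.leaf (nat_lit 57527)) (.leaf (nat_lit 174808))))
    (.node (.node (.leaf (nat_lit 80133)) (.leaf (nat_lit 105359))) (.leaf (nat_lit 288107))))
    (.node (.node (.node (.leaf (nat_lit 125842)) (.leaf (nat_lit 191244))) (.leaf (nat_lit
    162443))) (.node (.node (.leaf (nat_lit 76499)) (.leaf (nat_lit 6281))) (.leaf (nat_lit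
    33181)))))) (.node (.node (.node (.node (.node (.leaf (nat_lit 49294)) (.leaf (nat_lit
    109456))) (.node (.leaf (nat_lit 214316)) (.leaf (nat_lit 47669)))) (.node (.node (.leaf
    (nat_lit 28745)) (.leaf (nat_lit 269532))) (.leaf (nat_lit 246886)))) (.node (.node (.node
    (.leaf (nat_lit 195377)) (.leaf (nat_lit 148027))) (.node (.leaf (nat_lit 37284)) (.leaf
    (nat_lit 283969)))) (.node (.node (.leaf (nat_lit 236585)) (.leaf (nat_lit 33))) (.leaf
    (nat_lit 88369))))) (.node (.node (.node (.node (.leaf (nat_lit 37280)) (.leaf (nat_lit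
    273702))) (.node (.leaf (nat_lit 16528)) (.leaf (nat_lit 220083)))) (.node (.node (.leaf
    (nat_lit 187124)) (.leaf (nat_lit 136289))) (.leaf (nat_lit 12322)))) (.node (.node (.node
    (.leaf (nat_lit 255115)) (.leaf (nat_lit 234514))) (.leaf (nat_lit 195371))) (.node (.node
    (.leaf (nat_lit 281915)) (.leaf (nat_lit 84247))) (.leaf (nat_lit 139830)))))))) (.node (.node
    (.node (.node (.node (.node (.node (.leaf (nat_lit 8208)) (.leaf (nat_lit 144048))) (.node
    (.leaf (nat_lit 126010)) (.leaf (nat_lit 104820)))) (.node (.node (.leaf (nat_lit 271599))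
    (.leaf (nat_lit 43537))) (.leaf (nat_lit 275731)))) (.node (.node (.node (.leaf (nat_lit
    154199)) (.leaf (nat_lit 55460))) (.node (.leaf (nat_lit 22762)) (.leaf (nat_lit 242763))))
    (.node (.node (.leaf (nat_lit 215958)) (.leaf (nat_lit 187625))) (.leaf (nat_lit 36972)))))
    (.node (.node (.node (.node (.leaf (nat_lit 82193)) (.leaf (nat_lit 203830))) (.node (.leaf
    (nat_lit 13)) (.leaf (nat_lit 178891)))) (.node (.node (.leaf (nat_lit 16498)) (.leaf (nat_lit
    97125))) (.leaf (nat_lit 201970)))) (.node (.node (.node (.leaf (nat_lit 205677)) (.leaf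
    (nat_lit 176830))) (.leaf (nat_lit 139798))) (.node (.node (.leaf (nat_lit 174777)) (.leaf
    (nat_lit 4203))) (.leaf (nat_lit 31091)))))) (.node (.node (.node (.node (.node (.leaf (nat_lit
    119235)) (.leaf (nat_lit 170856))) (.node (.leaf (nat_lit 191728)) (.leaf (nat_lit 145965))))
    (.node (.node (.leaf (nat_lit 20535)) (.leaf (nat_lit 263352))) (.leaf (nat_lit 279855))))
    (.node (.node (.node (.leaf (nat_lit 172724)) (.leaf (nat_lit 133629))) (.node (.leaf (nat_lit
    115111)) (.leaf (nat_lit 275719)))) (.node (.node (.leaf (nat_lit 248943)) (.leaf (nat_lit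
    57516))) (.leaf (nat_lit 80131))))) (.node (.node (.node (.node (.leaf (nat_lit 115107)) (.leaf
    (nat_lit 257258))) (.node (.leaf (nat_lit 110993)) (.leaf (nat_lit 201574)))) (.node (.node
    (.leaf (nat_lit 172716)) (.leaf (nat_lit 121909))) (.leaf (nat_lit 51346)))) (.node (.node
    (.node (.leaf (nat_lit 279851)) (.leaf (nat_lit 220080))) (.leaf (nat_lit 90798))) (.node
    (.node (.leaf (nat_lit 101230)) (.leaf (nat_lit 76017))) (.leaf (nat_lit 47634))))))) (.node
    (.node (.node (.node (.node (.node (.leaf (nat_lit 84251)) (.leaf (nat_lit 209790))) (.node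
    (.leaf (nat_lit 154766)) (.leaf (nat_lit 129513)))) (.node (.node (.leaf (nat_lit 238948))
    (.leaf (nat_lit 259230))) (.leaf (nat_lit 134088)))) (.node (.node (.node (.leaf (nat_lit
    141922)) (.leaf (nat_lit 100700))) (.node (.leaf (nat_lit 187129)) (.leaf (nat_lit 259233))))
    (.node (.node (.leaf (nat_lit 35279)) (.leaf (nat_lit 224605))) (.leaf (nat_lit 53422)))))
    (.node (.node (.node (.node (.leaf (nat_lit 90434)) (.leaf (nat_lit 281909))) (.node (.leaf
    (nat_lit 76021)) (.leaf (nat_lit 195375)))) (.node (.node (.leaf (nat_lit 88371)) (.leaf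
    (nat_lit 111552))) (.leaf (nat_lit 238952)))) (.node (.node (.node (.leaf (nat_lit 134086))
    (.leaf (nat_lit 201556))) (.leaf (nat_lit 156254))) (.node (.node (.leaf (nat_lit 82689))
    (.leaf (nat_lit 8365))) (.leaf (nat_lit 59863)))))) (.node (.node (.node (.node (.node (.leaf
    (nat_lit 57522)) (.leaf (nat_lit 213948))) (.node (.leaf (nat_lit 228710)) (.leaf (nat_lit
    150112)))) (.node (.node (.leaf (nat_lit 96588)) (.leaf (nat_lit 273654))) (.leaf (nat_lit
    255120)))) (.node (.node (.node (.leaf (nat_lit 174858)) (.leaf (nat_lit 162437))) (.node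
    (.leaf (nat_lit 226269)) (.leaf (nat_lit 292223)))) (.node (.node (.leaf (nat_lit 158313))
    (.leaf (nat_lit 22588))) (.leaf (nat_lit 67902))))) (.node (.node (.node (.node (.leaf (nat_lit
    123347)) (.leaf (nat_lit 265566))) (.node (.leaf (nat_lit 49332)) (.leaf (nat_lit 109499))))
    (.node (.node (.leaf (nat_lit 92487)) (.leaf (nat_lit 150665))) (.leaf (nat_lit 2107)))) (.node
    (.node (.node (.leaf (nat_lit 165004)) (.leaf (nat_lit 240700))) (.leaf (nat_lit 174854)))
    (.node (.node (.leaf (nat_lit 199620)) (.leaf (nat_lit 96591))) (.leaf (nat_lit 211851)))))))))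
    (.node (.node (.node (.node (.node (.node (.node (.node (.leaf (nat_lit 30794)) (.leaf (nat_lit
    244825))) (.node (.leaf (nat_lit 294299)) (.leaf (nat_lit 26979)))) (.node (.node (.leaf
    (nat_lit 267479)) (.leaf (nat_lit 246880))) (.leaf (nat_lit 263363)))) (.node (.node (.node
    (.leaf (nat_lit 150087)) (.leaf (nat_lit 39012))) (.node (.leaf (nat_lit 69852)) (.leaf
    (nat_lit 228372)))) (.node (.node (.leaf (nat_lit 72042)) (.leaf (nat_lit 179407))) (.leaf
    (nat_lit 4193))))) (.node (.node (.node (.node (.leaf (nat_lit 160377)) (.leaf (nat_lit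
    236581))) (.node (.leaf (nat_lit 32855)) (.leaf (nat_lit 164508)))) (.node (.node (.leaf
    (nat_lit 127452)) (.leaf (nat_lit 90965))) (.leaf (nat_lit 206042)))) (.node (.node (.node
    (.leaf (nat_lit 201563)) (.leaf (nat_lit 12503))) (.leaf (nat_lit 135684))) (.node (.node
    (.leaf (nat_lit 70302)) (.leaf (nat_lit 34914))) (.leaf (nat_lit 94564)))))) (.node (.node
    (.node (.node (.node (.leaf (nat_lit 106871)) (.leaf (nat_lit 166742))) (.node (.leaf (nat_lit
    183512)) (.leaf (nat_lit 141853)))) (.node (.node (.leaf (nat_lit 5)) (.leaf (nat_lit 66203)))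
    (.leaf (nat_lit 220188)))) (.node (.node (.node (.leaf (nat_lit 259235)) (.leaf (nat_lit
    131568))) (.node (.leaf (nat_lit 185075)) (.leaf (nat_lit 263376)))) (.node (.node (.leaf
    (nat_lit 137739)) (.leaf (nat_lit 41066))) (.leaf (nat_lit 71907))))) (.node (.node (.node
    (.node (.leaf (nat_lit 199503)) (.leaf (nat_lit 253138))) (.node (.leaf (nat_lit 106873))
    (.leaf (nat_lit 205671)))) (.node (.node (.leaf (nat_lit 170665)) (.leaf (nat_lit 115731)))
    (.leaf (nat_lit 34910)))) (.node (.node (.node (.leaf (nat_lit 132122)) (.leaf (nat_lit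
    29032))) (.leaf (nat_lit 168608))) (.node (.node (.leaf (nat_lit 95068)) (.leaf (nat_lit
    63704))) (.leaf (nat_lit 232463))))))) (.node (.node (.node (.node (.node (.node (.leaf
    (nat_lit 2095)) (.leaf (nat_lit 176872))) (.node (.leaf (nat_lit 146552)) (.leaf (nat_lit
    33207)))) (.node (.node (.leaf (nat_lit 243014)) (.leaf (nat_lit 257170))) (.leaf (nat_lit
    232455)))) (.node (.node (.node (.leaf (nat_lit 62032)) (.leaf (nat_lit 86304))) (.node (.leaf
    (nat_lit 78120)) (.leaf (nat_lit 246900)))) (.node (.node (.leaf (nat_lit 49598)) (.leaf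
    (nat_lit 216383))) (.leaf (nat_lit 8347))))) (.node (.node (.node (.node (.leaf (nat_lit
    26916)) (.leaf (nat_lit 294293))) (.node (.leaf (nat_lit 2098)) (.leaf (nat_lit 78567))))
    (.node (.node (.leaf (nat_lit 156252)) (.leaf (nat_lit 286028))) (.leaf (nat_lit 243018))))
    (.node (.node (.node (.leaf (nat_lit 218027)) (.leaf (nat_lit 20769))) (.leaf (nat_lit
    152141))) (.node (.node (.leaf (nat_lit 148206)) (.leaf (nat_lit 51356))) (.leaf (nat_lit
    115128)))))) (.node (.node (.node (.node (.node (.leaf (nat_lit 45214)) (.leaf (nat_lit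
    156591))) (.node (.leaf (nat_lit 220488)) (.leaf (nat_lit 158317)))) (.node (.node (.leaf
    (nat_lit 30798)) (.leaf (nat_lit 80620))) (.leaf (nat_lit 251002)))) (.node (.node (.node
    (.leaf (nat_lit 103152)) (.leaf (nat_lit 160370))) (.node (.leaf (nat_lit 41412)) (.leaf
    (nat_lit 279872)))) (.node (.node (.leaf (nat_lit 51785)) (.leaf (nat_lit 88364))) (.leaf
    (nat_lit 197433))))) (.node (.node (.node (.node (.leaf (nat_lit 111040)) (.leaf (nat_lit
    277826))) (.node (.leaf (nat_lit 53410)) (.leaf (nat_lit 211880)))) (.node (.node (.leaf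
    (nat_lit 55590)) (.leaf (nat_lit 142451))) (.leaf (nat_lit 82186)))) (.node (.node (.node
    (.leaf (nat_lit 169078)) (.leaf (nat_lit 236583))) (.leaf (nat_lit 199507))) (.node (.node
    (.leaf (nat_lit 107427)) (.leaf (nat_lit 199490))) (.leaf (nat_lit 187134)))))))) (.node (.node
    (.node (.node (.node (.node (.node (.leaf (nat_lit 53409)) (.leaf (nat_lit 78528))) (.node
    (.leaf (nat_lit 132176)) (.leaf (nat_lit 31109)))) (.node (.node (.leaf (nat_lit 275725))
    (.leaf (nat_lit 253052))) (.leaf (nat_lit 121722)))) (.node (.node (.node (.leaf (nat_lit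
    68136)) (.leaf (nat_lit 69846))) (.node (.leaf (nat_lit 26876)) (.leaf (nat_lit 238666))))
    (.node (.node (.leaf (nat_lit 57740)) (.leaf (nat_lit 193797))) (.leaf (nat_lit 6267)))))
    (.node (.node (.node (.node (.leaf (nat_lit 86307)) (.leaf (nat_lit 207948))) (.node (.leaf
    (nat_lit 12314)) (.leaf (nat_lit 183007)))) (.node (.node (.leaf (nat_lit 141848)) (.leaf
    (nat_lit 279844))) (.leaf (nat_lit 267536)))) (.node (.node (.node (.leaf (nat_lit 224214))
    (.leaf (nat_lit 18679))) (.leaf (nat_lit 143909))) (.node (.node (.leaf (nat_lit 265419))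
    (.leaf (nat_lit 43132))) (.leaf (nat_lit 106886)))))) (.node (.node (.node (.node (.node (.leaf
    (nat_lit 12414)) (.leaf (nat_lit 195452))) (.node (.leaf (nat_lit 197902)) (.leaf (nat_lit
    137766)))) (.node (.node (.leaf (nat_lit 65736)) (.leaf (nat_lit 74431))) (.leaf (nat_lit
    292237)))) (.node (.node (.node (.leaf (nat_lit 191249)) (.leaf (nat_lit 145962))) (.node
    (.leaf (nat_lit 119239)) (.leaf (nat_lit 271622)))) (.node (.node (.leaf (nat_lit 45601))
    (.leaf (nat_lit 10264))) (.leaf (nat_lit 183009))))) (.node (.node (.node (.node (.leaf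
    (nat_lit 41358)) (.leaf (nat_lit 261384))) (.node (.leaf (nat_lit 45184)) (.leaf (nat_lit
    215963)))) (.node (.node (.leaf (nat_lit 47354)) (.leaf (nat_lit 128073))) (.leaf (nat_lit
    23)))) (.node (.node (.node (.leaf (nat_lit 292229)) (.leaf (nat_lit 222145))) (.leaf (nat_lit
    191255))) (.node (.node (.leaf (nat_lit 211845)) (.leaf (nat_lit 185062))) (.leaf (nat_lit
    178896))))))) (.node (.node (.node (.node (.node (.node (.leaf (nat_lit 88375)) (.leaf (nat_lit
    152354))) (.node (.leaf (nat_lit 160934)) (.leaf (nat_lit 121310)))) (.node (.node (.leaf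
    (nat_lit 284038)) (.leaf (nat_lit 53875))) (.leaf (nat_lit 211934)))) (.node (.node (.node
    (.leaf (nat_lit 146042)) (.leaf (nat_lit 102761))) (.node (.leaf (nat_lit 176837)) (.leaf
    (nat_lit 255136)))) (.node (.node (.leaf (nat_lit 129511)) (.leaf (nat_lit 230781))) (.leaf
    (nat_lit 90432))))) (.node (.node (.node (.node (.leaf (nat_lit 176835)) (.leaf (nat_lit
    286035))) (.node (.leaf (nat_lit 88379)) (.leaf (nat_lit 187166)))) (.node (.node (.leaf
    (nat_lit 10429)) (.leaf (nat_lit 290156))) (.leaf (nat_lit 284042)))) (.node (.node (.node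
    (.leaf (nat_lit 226273)) (.leaf (nat_lit 22857))) (.leaf (nat_lit 160380))) (.node (.node
    (.leaf (nat_lit 195369)) (.leaf (nat_lit 67797))) (.leaf (nat_lit 92640)))))) (.node (.node
    (.node (.node (.node (.leaf (nat_lit 137743)) (.leaf (nat_lit 136165))) (.node (.leaf (nat_lit
    234888)) (.leaf (nat_lit 154228)))) (.node (.node (.leaf (nat_lit 41073)) (.leaf (nat_lit
    275716))) (.leaf (nat_lit 259240)))) (.node (.node (.node (.leaf (nat_lit 193312)) (.leaf
    (nat_lit 166546))) (.node (.leaf (nat_lit 215961)) (.leaf (nat_lit 288126)))) (.node (.node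
    (.leaf (nat_lit 261301)) (.leaf (nat_lit 2115))) (.leaf (nat_lit 26954))))) (.node (.node
    (.node (.node (.leaf (nat_lit 230400)) (.leaf (nat_lit 269696))) (.node (.leaf (nat_lit 61633))
    (.leaf (nat_lit 232459)))) (.node (.node (.leaf (nat_lit 203619)) (.leaf (nat_lit 156831)))
    (.leaf (nat_lit 24644)))) (.node (.node (.node (.leaf (nat_lit 251044)) (.leaf (nat_lit
    242760))) (.leaf (nat_lit 97050))) (.node (.node (.leaf (nat_lit 113625)) (.leaf (nat_lit
    100703))) (.leaf (nat_lit 162435)))))))))) (.node (.node (.node (.node (.node (.node (.node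
    (.node (.node (.leaf (nat_lit 18472)) (.leaf (nat_lit 205675))) (.node (.leaf (nat_lit 115715))
    (.leaf (nat_lit 94558)))) (.node (.node (.leaf (nat_lit 203974)) (.leaf (nat_lit 41468)))
    (.leaf (nat_lit 103248)))) (.node (.node (.node (.leaf (nat_lit 236591)) (.leaf (nat_lit
    26686))) (.node (.leaf (nat_lit 67795)) (.leaf (nat_lit 226314)))) (.node (.node (.leaf
    (nat_lit 207735)) (.leaf (nat_lit 175301))) (.leaf (nat_lit 41071))))) (.node (.node (.node
    (.node (.leaf (nat_lit 158319)) (.leaf (nat_lit 142353))) (.node (.leaf (nat_lit 18475)) (.leaf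
    (nat_lit 170661)))) (.node (.node (.leaf (nat_lit 121288)) (.leaf (nat_lit 88904))) (.leaf
    (nat_lit 273667)))) (.node (.node (.node (.leaf (nat_lit 185164)) (.leaf (nat_lit 170658)))
    (.leaf (nat_lit 236595))) (.node (.node (.leaf (nat_lit 164500)) (.leaf (nat_lit 36963)))
    (.leaf (nat_lit 102759)))))) (.node (.node (.node (.node (.node (.leaf (nat_lit 113049)) (.leaf
    (nat_lit 191300))) (.node (.leaf (nat_lit 263368)) (.leaf (nat_lit 39415)))) (.node (.node
    (.leaf (nat_lit 4103)) (.leaf (nat_lit 62099))) (.leaf (nat_lit 130056)))) (.node (.node (.node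
    (.leaf (nat_lit 248939)) (.leaf (nat_lit 125400))) (.node (.leaf (nat_lit 197441)) (.leaf
    (nat_lit 269535)))) (.node (.node (.leaf (nat_lit 102912)) (.leaf (nat_lit 28738))) (.leaf
    (nat_lit 96594))))) (.node (.node (.node (.node (.leaf (nat_lit 197435)) (.leaf (nat_lit
    292227))) (.node (.leaf (nat_lit 113047)) (.leaf (nat_lit 86851)))) (.node (.node (.leaf
    (nat_lit 12495)) (.leaf (nat_lit 294286))) (.leaf (nat_lit 22584)))) (.node (.node (.node
    (.leaf (nat_lit 232461)) (.leaf (nat_lit 24925))) (.leaf (nat_lit 166552))) (.node (.node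
    (.leaf (nat_lit 162634)) (.leaf (nat_lit 61652))) (.leaf (nat_lit 125432))))))) (.node (.node
    (.node (.node (.node (.node (.leaf (nat_lit 20529)) (.leaf (nat_lit 185067))) (.node (.leaf
    (nat_lit 246892)) (.leaf (nat_lit 236576)))) (.node (.node (.leaf (nat_lit 281911)) (.leaf
    (nat_lit 255112))) (.leaf (nat_lit 230391)))) (.node (.node (.node (.leaf (nat_lit 59972))
    (.leaf (nat_lit 78070))) (.node (.leaf (nat_lit 24860)) (.leaf (nat_lit 253055)))) (.node
    (.node (.leaf (nat_lit 78254)) (.leaf (nat_lit 212273))) (.leaf (nat_lit 57521))))) (.node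
    (.node (.node (.node (.leaf (nat_lit 76056)) (.leaf (nat_lit 267477))) (.node (.leaf (nat_lit
    20532)) (.leaf (nat_lit 176862)))) (.node (.node (.leaf (nat_lit 150080)) (.leaf (nat_lit
    283966))) (.leaf (nat_lit 290171)))) (.node (.node (.node (.leaf (nat_lit 127905)) (.leaf
    (nat_lit 197428))) (.leaf (nat_lit 150082))) (.node (.node (.leaf (nat_lit 269541)) (.leaf
    (nat_lit 53405))) (.leaf (nat_lit 234519)))))) (.node (.node (.node (.node (.node (.leaf
    (nat_lit 10392)) (.leaf (nat_lit 189340))) (.node (.leaf (nat_lit 279864)) (.leaf (nat_lit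
    156257)))) (.node (.node (.leaf (nat_lit 32861)) (.leaf (nat_lit 76509))) (.leaf (nat_lit
    248944)))) (.node (.node (.node (.leaf (nat_lit 101090)) (.leaf (nat_lit 154194))) (.node
    (.leaf (nat_lit 39346)) (.leaf (nat_lit 286031)))) (.node (.node (.leaf (nat_lit 152139))
    (.leaf (nat_lit 80126))) (.leaf (nat_lit 20757))))) (.node (.node (.node (.node (.leaf (nat_lit
    39340)) (.leaf (nat_lit 259378))) (.node (.leaf (nat_lit 51348)) (.leaf (nat_lit 209818))))
    (.node (.node (.leaf (nat_lit 193304)) (.leaf (nat_lit 138345))) (.leaf (nat_lit 73960))))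
    (.node (.node (.node (.leaf (nat_lit 257173)) (.leaf (nat_lit 33193))) (.leaf (nat_lit
    101092))) (.node (.node (.leaf (nat_lit 218021)) (.leaf (nat_lit 82198))) (.leaf (nat_lit
    218029)))))))) (.node (.node (.node (.node (.node (.node (.node (.leaf (nat_lit 43129)) (.leaf
    (nat_lit 224212))) (.node (.leaf (nat_lit 238660)) (.leaf (nat_lit 222138)))) (.node (.node
    (.leaf (nat_lit 265466)) (.leaf (nat_lit 250994))) (.leaf (nat_lit 277795)))) (.node (.node
    (.node (.leaf (nat_lit 66078)) (.leaf (nat_lit 63682))) (.node (.leaf (nat_lit 84255)) (.leaf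
    (nat_lit 244821)))) (.node (.node (.leaf (nat_lit 86398)) (.leaf (nat_lit 189687))) (.leaf
    (nat_lit 49293))))) (.node (.node (.node (.node (.leaf (nat_lit 24818)) (.leaf (nat_lit
    169022))) (.node (.leaf (nat_lit 10260)) (.leaf (nat_lit 180953)))) (.node (.node (.leaf
    (nat_lit 135682)) (.leaf (nat_lit 99185))) (.leaf (nat_lit 204032)))) (.node (.node (.node
    (.leaf (nat_lit 269537)) (.leaf (nat_lit 183004))) (.leaf (nat_lit 141850))) (.node (.node
    (.leaf (nat_lit 74423)) (.leaf (nat_lit 45181))) (.leaf (nat_lit 220085)))))) (.node (.node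
    (.node (.node (.node (.leaf (nat_lit 51351)) (.leaf (nat_lit 238649))) (.node (.leaf (nat_lit
    271612)) (.leaf (nat_lit 135708)))) (.node (.node (.leaf (nat_lit 59576)) (.leaf (nat_lit
    265412))) (.leaf (nat_lit 281917)))) (.node (.node (.node (.leaf (nat_lit 92860)) (.leaf
    (nat_lit 139792))) (.node (.leaf (nat_lit 117173)) (.leaf (nat_lit 277783)))) (.node (.node
    (.leaf (nat_lit 143907)) (.leaf (nat_lit 12313))) (.leaf (nat_lit 18671))))) (.node (.node
    (.node (.node (.leaf (nat_lit 117163)) (.leaf (nat_lit 283973))) (.node (.leaf (nat_lit 43126))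
    (.leaf (nat_lit 203634)))) (.node (.node (.leaf (nat_lit 178886)) (.leaf (nat_lit 123965)))
    (.leaf (nat_lit 16421)))) (.node (.node (.node (.leaf (nat_lit 240707)) (.leaf (nat_lit
    31099))) (.leaf (nat_lit 92858))) (.node (.node (.leaf (nat_lit 205684)) (.leaf (nat_lit
    73968))) (.leaf (nat_lit 226275))))))) (.node (.node (.node (.node (.node (.node (.leaf
    (nat_lit 78073)) (.leaf (nat_lit 86798))) (.node (.leaf (nat_lit 255128)) (.leaf (nat_lit
    131571)))) (.node (.node (.leaf (nat_lit 290163)) (.leaf (nat_lit 261290))) (.leaf (nat_lit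
    209868)))) (.node (.node (.node (.leaf (nat_lit 143984)) (.leaf (nat_lit 2111))) (.node (.leaf
    (nat_lit 189189)) (.leaf (nat_lit 261293)))) (.node (.node (.leaf (nat_lit 240711)) (.leaf
    (nat_lit 226669))) (.leaf (nat_lit 129517))))) (.node (.node (.node (.node (.leaf (nat_lit
    189193)) (.leaf (nat_lit 275723))) (.node (.leaf (nat_lit 86315)) (.leaf (nat_lit 197431))))
    (.node (.node (.leaf (nat_lit 61631)) (.leaf (nat_lit 288092))) (.leaf (nat_lit 241016))))
    (.node (.node (.node (.leaf (nat_lit 121808)) (.leaf (nat_lit 203614))) (.leaf (nat_lit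
    158315))) (.node (.node (.leaf (nat_lit 273663)) (.leaf (nat_lit 65741))) (.leaf (nat_lit
    39386)))))) (.node (.node (.node (.node (.node (.leaf (nat_lit 135687)) (.leaf (nat_lit
    181202))) (.node (.leaf (nat_lit 288116)) (.leaf (nat_lit 152172)))) (.node (.node (.leaf
    (nat_lit 14400)) (.leaf (nat_lit 82701))) (.leaf (nat_lit 257180)))) (.node (.node (.node
    (.leaf (nat_lit 94994)) (.leaf (nat_lit 164492))) (.node (.leaf (nat_lit 213909)) (.leaf
    (nat_lit 294289)))) (.node (.node (.leaf (nat_lit 53863)) (.leaf (nat_lit 102754))) (.leaf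
    (nat_lit 121292))))) (.node (.node (.node (.node (.leaf (nat_lit 228331)) (.leaf (nat_lit
    251246))) (.node (.leaf (nat_lit 59578)) (.leaf (nat_lit 230393)))) (.node (.node (.leaf
    (nat_lit 22853)) (.leaf (nat_lit 152723))) (.leaf (nat_lit 100705)))) (.node (.node (.node
    (.leaf (nat_lit 167062)) (.leaf (nat_lit 35289))) (.leaf (nat_lit 94996))) (.node (.node (.leaf
    (nat_lit 226267)) (.leaf (nat_lit 98651))) (.leaf (nat_lit 193316))))))))) (.node (.node (.node
    (.node (.node (.node (.node (.node (.leaf (nat_lit 6155)) (.leaf (nat_lit 201561))) (.node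
    (.leaf (nat_lit 185386)) (.leaf (nat_lit 106869)))) (.node (.node (.leaf (nat_lit 277785))
    (.leaf (nat_lit 248936))) (.leaf (nat_lit 265421)))) (.node (.node (.node (.leaf (nat_lit
    152143)) (.leaf (nat_lit 47234))) (.node (.leaf (nat_lit 148031)) (.leaf (nat_lit 117793))))
    (.node (.node (.leaf (nat_lit 209784)) (.leaf (nat_lit 181469))) (.leaf (nat_lit 131573)))))
    (.node (.node (.node (.node (.leaf (nat_lit 71910)) (.leaf (nat_lit 228386))) (.node (.leaf
    (nat_lit 8207)) (.leaf (nat_lit 166564)))) (.node (.node (.leaf (nat_lit 26726)) (.leaf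
    (nat_lit 93023))) (.leaf (nat_lit 208102)))) (.node (.node (.node (.leaf (nat_lit 273657))
    (.leaf (nat_lit 16612))) (.leaf (nat_lit 137741))) (.node (.node (.leaf (nat_lit 168614))
    (.leaf (nat_lit 133622))) (.leaf (nat_lit 110985)))))) (.node (.node (.node (.node (.node
    (.leaf (nat_lit 108925)) (.leaf (nat_lit 242767))) (.node (.leaf (nat_lit 267490)) (.leaf
    (nat_lit 143911)))) (.node (.node (.leaf (nat_lit 18476)) (.leaf (nat_lit 68259))) (.leaf
    (nat_lit 222256)))) (.node (.node (.node (.leaf (nat_lit 261295)) (.leaf (nat_lit 4197)))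
    (.node (.leaf (nat_lit 35182)) (.leaf (nat_lit 265438)))) (.node (.node (.leaf (nat_lit 43529))
    (.leaf (nat_lit 49288))) (.leaf (nat_lit 63712))))) (.node (.node (.node (.node (.leaf (nat_lit
    35184)) (.leaf (nat_lit 288097))) (.node (.leaf (nat_lit 108931)) (.leaf (nat_lit 207731))))
    (.node (.node (.leaf (nat_lit 133631)) (.leaf (nat_lit 119846))) (.leaf (nat_lit 43124))))
    (.node (.node (.node (.leaf (nat_lit 222252)) (.leaf (nat_lit 213902))) (.leaf (nat_lit
    170666))) (.node (.node (.leaf (nat_lit 201568)) (.leaf (nat_lit 14559))) (.leaf (nat_lit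
    172722))))))) (.node (.node (.node (.node (.node (.node (.leaf (nat_lit 73965)) (.leaf (nat_lit
    158460))) (.node (.leaf (nat_lit 251010)) (.leaf (nat_lit 127455)))) (.node (.node (.leaf
    (nat_lit 286037)) (.leaf (nat_lit 51795))) (.leaf (nat_lit 132024)))) (.node (.node (.node
    (.leaf (nat_lit 64088)) (.leaf (nat_lit 94536))) (.node (.leaf (nat_lit 80184)) (.leaf (nat_lit
    248958)))) (.node (.node (.leaf (nat_lit 123345)) (.leaf (nat_lit 218445))) (.leaf (nat_lit
    160375))))) (.node (.node (.node (.node (.leaf (nat_lit 80180)) (.leaf (nat_lit 263357)))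
    (.node (.leaf (nat_lit 82191)) (.leaf (nat_lit 193311)))) (.node (.node (.leaf (nat_lit
    108929)) (.leaf (nat_lit 107441))) (.leaf (nat_lit 245082)))) (.node (.node (.node (.leaf
    (nat_lit 234521)) (.leaf (nat_lit 199497))) (.leaf (nat_lit 154202))) (.node (.node (.leaf
    (nat_lit 189187)) (.leaf (nat_lit 162430))) (.leaf (nat_lit 98762)))))) (.node (.node (.node
    (.node (.node (.leaf (nat_lit 55463)) (.leaf (nat_lit 222143))) (.node (.leaf (nat_lit 283990))
    (.leaf (nat_lit 160373)))) (.node (.node (.leaf (nat_lit 90428)) (.leaf (nat_lit 271592)))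
    (.leaf (nat_lit 253062)))) (.node (.node (.node (.leaf (nat_lit 187130)) (.leaf (nat_lit
    8357))) (.node (.leaf (nat_lit 224207)) (.leaf (nat_lit 281934)))) (.node (.node (.leaf
    (nat_lit 257179)) (.leaf (nat_lit 24637))) (.leaf (nat_lit 84270))))) (.node (.node (.node
    (.node (.leaf (nat_lit 209792)) (.leaf (nat_lit 255312))) (.node (.leaf (nat_lit 47272)) (.leaf
    (nat_lit 213938)))) (.node (.node (.leaf (nat_lit 110987)) (.leaf (nat_lit 144509))) (.leaf
    (nat_lit 28743)))) (.node (.node (.node (.leaf (nat_lit 171136)) (.leaf (nat_lit 238644)))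
    (.leaf (nat_lit 172790))) (.node (.node (.leaf (nat_lit 286041)) (.leaf (nat_lit 20781)))
    (.leaf (nat_lit 55892)))))))) (.node (.node (.node (.node (.node (.node (.node (.leaf (nat_lit
    14367)) (.leaf (nat_lit 137934))) (.node (.leaf (nat_lit 242780)) (.leaf (nat_lit 115103))))
    (.node (.node (.leaf (nat_lit 208154)) (.leaf (nat_lit 45611))) (.leaf (nat_lit 123782))))
    (.node (.node (.node (.leaf (nat_lit 70192)) (.leaf (nat_lit 29))) (.node (.leaf (nat_lit
    28936)) (.leaf (nat_lit 240724)))) (.node (.node (.leaf (nat_lit 224202)) (.leaf (nat_lit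
    195861))) (.leaf (nat_lit 145967))))) (.node (.node (.node (.node (.leaf (nat_lit 28934))
    (.leaf (nat_lit 164950))) (.node (.leaf (nat_lit 55467)) (.leaf (nat_lit 172746)))) (.node
    (.node (.leaf (nat_lit 117169)) (.leaf (nat_lit 281904))) (.leaf (nat_lit 269600)))) (.node
    (.node (.node (.leaf (nat_lit 211849)) (.leaf (nat_lit 185069))) (.leaf (nat_lit 145970)))
    (.node (.node (.leaf (nat_lit 180949)) (.leaf (nat_lit 148020))) (.leaf (nat_lit 119227))))))
    (.node (.node (.node (.node (.node (.leaf (nat_lit 47237)) (.leaf (nat_lit 150413))) (.node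
    (.leaf (nat_lit 275740)) (.leaf (nat_lit 139820)))) (.node (.node (.leaf (nat_lit 39017))
    (.leaf (nat_lit 267470))) (.leaf (nat_lit 294303)))) (.node (.node (.node (.leaf (nat_lit
    178892)) (.leaf (nat_lit 6275))) (.node (.leaf (nat_lit 104852)) (.leaf (nat_lit 273686))))
    (.node (.node (.leaf (nat_lit 253061)) (.leaf (nat_lit 71902))) (.leaf (nat_lit 76032)))))
    (.node (.node (.node (.node (.leaf (nat_lit 104858)) (.leaf (nat_lit 279849))) (.node (.leaf
    (nat_lit 14470)) (.leaf (nat_lit 218025)))) (.node (.node (.leaf (nat_lit 119229)) (.leaf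
    (nat_lit 130131))) (.leaf (nat_lit 69851)))) (.node (.node (.node (.leaf (nat_lit 244827))
    (.leaf (nat_lit 228326))) (.leaf (nat_lit 193309))) (.node (.node (.leaf (nat_lit 105347))
    (.leaf (nat_lit 18687))) (.leaf (nat_lit 148025))))))) (.node (.node (.node (.node (.node
    (.node (.leaf (nat_lit 32853)) (.leaf (nat_lit 215966))) (.node (.leaf (nat_lit 259250)) (.leaf
    (nat_lit 123368)))) (.node (.node (.leaf (nat_lit 294295)) (.leaf (nat_lit 57988))) (.leaf
    (nat_lit 125934)))) (.node (.node (.node (.leaf (nat_lit 162438)) (.leaf (nat_lit 108922)))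
    (.node (.leaf (nat_lit 178889)) (.leaf (nat_lit 257196)))) (.node (.node (.leaf (nat_lit
    37349)) (.leaf (nat_lit 232847))) (.leaf (nat_lit 14532))))) (.node (.node (.node (.node (.leaf
    (nat_lit 96596)) (.leaf (nat_lit 271597))) (.node (.leaf (nat_lit 4177)) (.leaf (nat_lit
    189230)))) (.node (.node (.leaf (nat_lit 166551)) (.leaf (nat_lit 113639))) (.leaf (nat_lit
    286108)))) (.node (.node (.node (.leaf (nat_lit 213996)) (.leaf (nat_lit 205668))) (.leaf
    (nat_lit 72328))) (.node (.node (.leaf (nat_lit 84775)) (.leaf (nat_lit 69849))) (.leaf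
    (nat_lit 66031)))))) (.node (.node (.node (.node (.node (.leaf (nat_lit 139797)) (.leaf
    (nat_lit 117736))) (.node (.leaf (nat_lit 292248)) (.leaf (nat_lit 55935)))) (.node (.node
    (.leaf (nat_lit 8268)) (.leaf (nat_lit 277780))) (.leaf (nat_lit 261302)))) (.node (.node
    (.node (.leaf (nat_lit 99122)) (.leaf (nat_lit 10435))) (.node (.leaf (nat_lit 218023)) (.leaf
    (nat_lit 290192)))) (.node (.node (.leaf (nat_lit 222147)) (.leaf (nat_lit 110980))) (.leaf
    (nat_lit 61776))))) (.node (.node (.node (.node (.leaf (nat_lit 129515)) (.leaf (nat_lit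
    247186))) (.node (.leaf (nat_lit 63686)) (.leaf (nat_lit 234517)))) (.node (.node (.leaf
    (nat_lit 98649)) (.leaf (nat_lit 158891))) (.leaf (nat_lit 104812)))) (.node (.node (.node
    (.leaf (nat_lit 253104)) (.leaf (nat_lit 244818))) (.leaf (nat_lit 99116))) (.node (.node
    (.leaf (nat_lit 290167)) (.leaf (nat_lit 90446))) (.leaf (nat_lit 154240)))))))))))

/-- Certificate data. -/
def pn_C : TC.Cert := ⟨8, 255, 11, 2047, 12131889199575371729666560, 6, pn_par, pn_fact, pn_just, pn_rel, 54⟩

/-- Certificate data. -/
def pn_rs : List (List ℕ) := [[1, 1, 1], [3, 3, 3], [5, 5, 5], [1, 3, 2, 4, 6], [5, 1, 6, 2], [5, 3, 6, 4], [10, 10], [9, 9], [10, 9, 10, 9], [7, 7, 10], [7, 3, 7, 3, 7, 3], [7, 1, 8, 5], [7, 5, 8, 2], [10, 3, 10, 4], [9, 7, 9, 7], [9, 1, 9, 2], [9, 3, 9, 3], [9, 5, 9, 5], [10, 1, 10, 1], [10, 5, 10, 5]]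

/-- Certificate data. -/
def pn_gl : List ℕ := [1, 36867, 73733, 110599, 147465, 184330]

theorem pn_h1_0 : allR pn_C.factChk 0 719 = true := by decide +kernel

theorem pn_h1_1 : allR pn_C.factChk 719 1 = true := by decide +kernel

theorem pn_h1 : allB pn_C.factChk 720 = true :=
  allB_of_allR (a := 720)
    (allR_append (pn_h1_0) pn_h1_1)

theorem pn_h2 : pn_C.finChk 720 144 pn_lv pn_tb pn_gl = true := by decide +kernel

theorem pn_h3 : TC.relChk pn_C.ivc pn_rs pn_C.rel pn_rc pn_C.nrel = true := by decide +kernel

theorem pn_bound {G : Type*} [Group G] {x y z u r s : G}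
    (r0 : x * x * x = 1)
    (r1 : y * y * y = 1)
    (r2 : z * z * z = 1)
    (r3 : x * y * x⁻¹ * y⁻¹ * z⁻¹ = 1)
    (r4 : z * x * z⁻¹ * x⁻¹ = 1)
    (r5 : z * y * z⁻¹ * y⁻¹ = 1)
    (r6 : s * s = 1)
    (r7 : r * r = 1)
    (r8 : s * r * s * r = 1)
    (r9 : u * u * s = 1)
    (r10 : u * y * u * y * u * y = 1)
    (r11 : u * x * u⁻¹ * z = 1)
    (r12 : u * z * u⁻¹ * x⁻¹ = 1)
    (r13 : s * y * s * y⁻¹ = 1)
    (r14 : r * u * r * u = 1)
    (r15 : r * x * r * x⁻¹ = 1)
    (r16 : r * y * r * y = 1)
    (r17 : r * z * r * z = 1)
    (r18 : s * x * s * x = 1)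
    (r19 : s * z * s * z = 1)
    (H : Subgroup G) [Finite H] (m1 : x ∈ H) :
    Finite (Subgroup.closure ({x, y, z, u, r, s} : Set G)) ∧
      Nat.card (Subgroup.closure ({x, y, z, u, r, s} : Set G)) ≤ 144 * Nat.card H := by
  have hL : TC.Lett (TC.lett [x, x⁻¹, y, y⁻¹, z, z⁻¹, u, u⁻¹, r, s]) pn_C.ivc :=
    TC.lett_ok (show Nat.shiftRight pn_C.ivc (8 * 11) = 0 by decide +kernel) (by
      intro a ha
      change a < 11 at ha
      interval_cases a
      · exact inv_one.symm
      · rfl
      · exact (inv_inv _).symm
      · rfl
      · exact (inv_inv _).symm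
      · rfl
      · exact (inv_inv _).symm
      · rfl
      · exact (inv_inv _).symm
      · exact (inv_eq_of_mul_eq_one_right r7).symm
      · exact (inv_eq_of_mul_eq_one_right r6).symm)
  have h := TC.card_le pn_h1 pn_h2 pn_h3 (by decide) hL (by
    simp only [pn_rs, List.forall_mem_cons]
    refine ⟨?_, ?_, ?_, ?_, ?_, ?_, ?_, ?_, ?_, ?_, ?_, ?_, ?_, ?_, ?_, ?_, ?_, ?_, ?_, ?_,
    List.forall_mem_nil _⟩
    · show x * (x * (x * 1)) = 1
      simp only [mul_assoc, mul_one] at r0 ⊢
      exact r0
    · show y * (y * (y * 1)) = 1
      simp only [mul_assoc, mul_one] at r1 ⊢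
      exact r1
    · show z * (z * (z * 1)) = 1
      simp only [mul_assoc, mul_one] at r2 ⊢
      exact r2
    · show x * (y * (x⁻¹ * (y⁻¹ * (z⁻¹ * 1)))) = 1
      simp only [mul_assoc, mul_one] at r3 ⊢
      exact r3
    · show z * (x * (z⁻¹ * (x⁻¹ * 1))) = 1
      simp only [mul_assoc, mul_one] at r4 ⊢
      exact r4
    · show z * (y * (z⁻¹ * (y⁻¹ * 1))) = 1
      simp only [mul_assoc, mul_one] at r5 ⊢
      exact r5
    · show s * (s * 1) = 1
      simp only [mul_one] at r6 ⊢
      exact r6
    · show r * (r * 1) = 1
      simp only [mul_one] at r7 ⊢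
      exact r7
    · show s * (r * (s * (r * 1))) = 1
      simp only [mul_assoc, mul_one] at r8 ⊢
      exact r8
    · show u * (u * (s * 1)) = 1
      simp only [mul_assoc, mul_one] at r9 ⊢
      exact r9
    · show u * (y * (u * (y * (u * (y * 1))))) = 1
      simp only [mul_assoc, mul_one] at r10 ⊢
      exact r10
    · show u * (x * (u⁻¹ * (z * 1))) = 1
      simp only [mul_assoc, mul_one] at r11 ⊢
      exact r11
    · show u * (z * (u⁻¹ * (x⁻¹ * 1))) = 1
      simp only [mul_assoc, mul_one] at r12 ⊢
      exact r12
    · show s * (y * (s * (y⁻¹ * 1))) = 1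
      simp only [mul_assoc, mul_one] at r13 ⊢
      exact r13
    · show r * (u * (r * (u * 1))) = 1
      simp only [mul_assoc, mul_one] at r14 ⊢
      exact r14
    · show r * (x * (r * (x⁻¹ * 1))) = 1
      simp only [mul_assoc, mul_one] at r15 ⊢
      exact r15
    · show r * (y * (r * (y * 1))) = 1
      simp only [mul_assoc, mul_one] at r16 ⊢
      exact r16
    · show r * (z * (r * (z * 1))) = 1
      simp only [mul_assoc, mul_one] at r17 ⊢
      exact r17
    · show s * (x * (s * (x * 1))) = 1
      simp only [mul_assoc, mul_one] at r18 ⊢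
      exact r18
    · show s * (z * (s * (z * 1))) = 1
      simp only [mul_assoc, mul_one] at r19 ⊢
      exact r19) H
    (TC.forall_subs (K := 11) (by decide +kernel) (by
      intro a ha hb
      interval_cases a
      · exact absurd hb (by decide +kernel)
      · exact m1
      · exact H.inv_mem m1
      · exact absurd hb (by decide +kernel)
      · exact absurd hb (by decide +kernel)
      · exact absurd hb (by decide +kernel)
      · exact absurd hb (by decide +kernel)
      · exact absurd hb (by decide +kernel)
      · exact absurd hb (by decide +kernel)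
      · exact absurd hb (by decide +kernel)
      · exact absurd hb (by decide +kernel)))
  have e : {g₀ | ∃ ak ∈ pn_gl, TC.lett [x, x⁻¹, y, y⁻¹, z, z⁻¹, u, u⁻¹, r, s] (ak % 256) = g₀} =
      {x, y, z, u, r, s} := by
    ext g₀
    simp only [pn_gl, List.mem_cons, List.not_mem_nil, or_false, exists_eq_or_imp,
      exists_eq_left, Set.mem_ofPred_eq, Set.mem_insert_iff, Set.mem_singleton_iff]
    exact or_congr eq_comm (or_congr eq_comm (or_congr eq_comm (or_congr eq_comm (or_congr eq_comm (eq_comm)))))
  rw [e] at h
  exact h

theorem pn_card {G : Type*} [Group G] {x y z u r s : G}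
    (e0 : x ^ 3 = 1)
    (e1 : y ^ 3 = 1)
    (e2 : z ^ 3 = 1)
    (e3 : x * y = z * y * x)
    (e4 : z * x = x * z)
    (e5 : z * y = y * z)
    (e6 : s * s = 1)
    (e7 : r * r = 1)
    (e8 : s * r = r * s)
    (e9 : u * u = s)
    (e10 : (u * y) ^ 3 = 1)
    (e11 : u * x * u⁻¹ = z⁻¹)
    (e12 : u * z * u⁻¹ = x)
    (e13 : s * y = y * s)
    (e14 : r * u * r = u⁻¹)
    (e15 : r * x = x * r)
    (e16 : r * y * r = y⁻¹)
    (e17 : r * z * r = z⁻¹)
    (e18 : s * x * s = x⁻¹)
    (e19 : s * z * s = z⁻¹)
    (H : Subgroup G) [Finite H] (mx : x ∈ H) :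
    Finite (Subgroup.closure ({x, y, z, u, r, s} : Set G)) ∧
      Nat.card (Subgroup.closure ({x, y, z, u, r, s} : Set G)) ≤ 144 * Nat.card H := by
  have ir : r⁻¹ = r := inv_eq_of_mul_eq_one_right e7
  have is : s⁻¹ = s := inv_eq_of_mul_eq_one_right e6
  refine pn_bound ?_ ?_ ?_ ?_ ?_ ?_ ?_ ?_ ?_ ?_ ?_ ?_ ?_ ?_ ?_ ?_ ?_ ?_ ?_ ?_ H mx
  · have h := mul_inv_eq_one.mpr e0
    simp only [pow_succ, pow_zero, mul_inv_rev, inv_inv, inv_one, one_mul, mul_one, mul_assoc,
      mul_inv_cancel_left, inv_mul_cancel_left, mul_inv_cancel, inv_mul_cancel, ir, is] at h ⊢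
    exact h
  · have h := mul_inv_eq_one.mpr e1
    simp only [pow_succ, pow_zero, mul_inv_rev, inv_inv, inv_one, one_mul, mul_one, mul_assoc,
      mul_inv_cancel_left, inv_mul_cancel_left, mul_inv_cancel, inv_mul_cancel, ir, is] at h ⊢
    exact h
  · have h := mul_inv_eq_one.mpr e2
    simp only [pow_succ, pow_zero, mul_inv_rev, inv_inv, inv_one, one_mul, mul_one, mul_assoc,
      mul_inv_cancel_left, inv_mul_cancel_left, mul_inv_cancel, inv_mul_cancel, ir, is] at h ⊢
    exact h
  · have h := mul_inv_eq_one.mpr e3
    simp only [pow_succ, pow_zero, mul_inv_rev, inv_inv, inv_one, one_mul, mul_one, mul_assoc,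
      mul_inv_cancel_left, inv_mul_cancel_left, mul_inv_cancel, inv_mul_cancel, ir, is] at h ⊢
    exact h
  · have h := mul_inv_eq_one.mpr e4
    simp only [pow_succ, pow_zero, mul_inv_rev, inv_inv, inv_one, one_mul, mul_one, mul_assoc,
      mul_inv_cancel_left, inv_mul_cancel_left, mul_inv_cancel, inv_mul_cancel, ir, is] at h ⊢
    exact h
  · have h := mul_inv_eq_one.mpr e5
    simp only [pow_succ, pow_zero, mul_inv_rev, inv_inv, inv_one, one_mul, mul_one, mul_assoc,
      mul_inv_cancel_left, inv_mul_cancel_left, mul_inv_cancel, inv_mul_cancel, ir, is] at h ⊢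
    exact h
  · have h := mul_inv_eq_one.mpr e6
    simp only [pow_succ, pow_zero, mul_inv_rev, inv_inv, inv_one, one_mul, mul_one, mul_assoc,
      mul_inv_cancel_left, inv_mul_cancel_left, mul_inv_cancel, inv_mul_cancel, ir, is] at h ⊢
    exact h
  · have h := mul_inv_eq_one.mpr e7
    simp only [pow_succ, pow_zero, mul_inv_rev, inv_inv, inv_one, one_mul, mul_one, mul_assoc,
      mul_inv_cancel_left, inv_mul_cancel_left, mul_inv_cancel, inv_mul_cancel, ir, is] at h ⊢
    exact h
  · have h := mul_inv_eq_one.mpr e8
    simp only [pow_succ, pow_zero, mul_inv_rev, inv_inv, inv_one, one_mul, mul_one, mul_assoc,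
      mul_inv_cancel_left, inv_mul_cancel_left, mul_inv_cancel, inv_mul_cancel, ir, is] at h ⊢
    exact h
  · have h := mul_inv_eq_one.mpr e9
    simp only [pow_succ, pow_zero, mul_inv_rev, inv_inv, inv_one, one_mul, mul_one, mul_assoc,
      mul_inv_cancel_left, inv_mul_cancel_left, mul_inv_cancel, inv_mul_cancel, ir, is] at h ⊢
    exact h
  · have h := mul_inv_eq_one.mpr e10
    simp only [pow_succ, pow_zero, mul_inv_rev, inv_inv, inv_one, one_mul, mul_one, mul_assoc,
      mul_inv_cancel_left, inv_mul_cancel_left, mul_inv_cancel, inv_mul_cancel, ir, is] at h ⊢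
    exact h
  · have h := mul_inv_eq_one.mpr e11
    simp only [pow_succ, pow_zero, mul_inv_rev, inv_inv, inv_one, one_mul, mul_one, mul_assoc,
      mul_inv_cancel_left, inv_mul_cancel_left, mul_inv_cancel, inv_mul_cancel, ir, is] at h ⊢
    exact h
  · have h := mul_inv_eq_one.mpr e12
    simp only [pow_succ, pow_zero, mul_inv_rev, inv_inv, inv_one, one_mul, mul_one, mul_assoc,
      mul_inv_cancel_left, inv_mul_cancel_left, mul_inv_cancel, inv_mul_cancel, ir, is] at h ⊢
    exact h
  · have h := mul_inv_eq_one.mpr e13
    simp only [pow_succ, pow_zero, mul_inv_rev, inv_inv, inv_one, one_mul, mul_one, mul_assoc,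
      mul_inv_cancel_left, inv_mul_cancel_left, mul_inv_cancel, inv_mul_cancel, ir, is] at h ⊢
    exact h
  · have h := mul_inv_eq_one.mpr e14
    simp only [pow_succ, pow_zero, mul_inv_rev, inv_inv, inv_one, one_mul, mul_one, mul_assoc,
      mul_inv_cancel_left, inv_mul_cancel_left, mul_inv_cancel, inv_mul_cancel, ir, is] at h ⊢
    exact h
  · have h := mul_inv_eq_one.mpr e15
    simp only [pow_succ, pow_zero, mul_inv_rev, inv_inv, inv_one, one_mul, mul_one, mul_assoc,
      mul_inv_cancel_left, inv_mul_cancel_left, mul_inv_cancel, inv_mul_cancel, ir, is] at h ⊢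
    exact h
  · have h := mul_inv_eq_one.mpr e16
    simp only [pow_succ, pow_zero, mul_inv_rev, inv_inv, inv_one, one_mul, mul_one, mul_assoc,
      mul_inv_cancel_left, inv_mul_cancel_left, mul_inv_cancel, inv_mul_cancel, ir, is] at h ⊢
    exact h
  · have h := mul_inv_eq_one.mpr e17
    simp only [pow_succ, pow_zero, mul_inv_rev, inv_inv, inv_one, one_mul, mul_one, mul_assoc,
      mul_inv_cancel_left, inv_mul_cancel_left, mul_inv_cancel, inv_mul_cancel, ir, is] at h ⊢
    exact h
  · have h := mul_inv_eq_one.mpr e18
    simp only [pow_succ, pow_zero, mul_inv_rev, inv_inv, inv_one, one_mul, mul_one, mul_assoc,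
      mul_inv_cancel_left, inv_mul_cancel_left, mul_inv_cancel, inv_mul_cancel, ir, is] at h ⊢
    exact h
  · have h := mul_inv_eq_one.mpr e19
    simp only [pow_succ, pow_zero, mul_inv_rev, inv_inv, inv_one, one_mul, mul_one, mul_assoc,
      mul_inv_cancel_left, inv_mul_cancel_left, mul_inv_cancel, inv_mul_cancel, ir, is] at h ⊢
    exact h

/-- Certificate data. -/
def p1_par : Trie :=
    (.node (.node (.node (.node (.node (.node (.node (.node (.node (.node (.leaf (nat_lit 0))
    (.leaf (nat_lit 84737))) (.node (.leaf (nat_lit 38657)) (.leaf (nat_lit 150019)))) (.node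
    (.node (.leaf (nat_lit 17924)) (.leaf (nat_lit 115209))) (.node (.leaf (nat_lit 61191)) (.leaf
    (nat_lit 182529))))) (.node (.node (.node (.leaf (nat_lit 7943)) (.leaf (nat_lit 95492)))
    (.node (.leaf (nat_lit 51714)) (.leaf (nat_lit 164871)))) (.node (.node (.leaf (nat_lit 29194))
    (.leaf (nat_lit 129026))) (.leaf (nat_lit 77063))))) (.node (.node (.node (.node (.leaf
    (nat_lit 4098)) (.leaf (nat_lit 88065))) (.node (.leaf (nat_lit 41473)) (.leaf (nat_lit
    159239)))) (.node (.node (.leaf (nat_lit 23048)) (.leaf (nat_lit 120329))) (.node (.leaf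
    (nat_lit 67848)) (.leaf (nat_lit 202506))))) (.node (.node (.node (.leaf (nat_lit 12552))
    (.leaf (nat_lit 105737))) (.node (.leaf (nat_lit 56072)) (.leaf (nat_lit 171524)))) (.node
    (.node (.leaf (nat_lit 35332)) (.leaf (nat_lit 134914))) (.leaf (nat_lit 81416)))))) (.node
    (.node (.node (.node (.node (.leaf (nat_lit 1801)) (.leaf (nat_lit 86017))) (.node (.leaf
    (nat_lit 39683)) (.leaf (nat_lit 156418)))) (.node (.node (.leaf (nat_lit 21769)) (.leaf
    (nat_lit 116737))) (.node (.leaf (nat_lit 65543)) (.leaf (nat_lit 189185))))) (.node (.node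
    (.node (.leaf (nat_lit 11265)) (.leaf (nat_lit 97289))) (.node (.leaf (nat_lit 52996)) (.leaf
    (nat_lit 166660)))) (.node (.node (.leaf (nat_lit 32513)) (.leaf (nat_lit 132867))) (.leaf
    (nat_lit 79111))))) (.node (.node (.node (.node (.leaf (nat_lit 5384)) (.leaf (nat_lit 93955)))
    (.node (.leaf (nat_lit 47106)) (.leaf (nat_lit 162568)))) (.node (.node (.leaf (nat_lit 26625))
    (.leaf (nat_lit 124937))) (.node (.leaf (nat_lit 70664)) (.leaf (nat_lit 209159))))) (.node
    (.node (.node (.leaf (nat_lit 14346)) (.leaf (nat_lit 108547))) (.node (.leaf (nat_lit 59400))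
    (.leaf (nat_lit 176386)))) (.node (.node (.leaf (nat_lit 37127)) (.leaf (nat_lit 143370)))
    (.leaf (nat_lit 83204))))))) (.node (.node (.node (.node (.node (.node (.leaf (nat_lit 1028))
    (.leaf (nat_lit 85250))) (.node (.leaf (nat_lit 39171)) (.leaf (nat_lit 155402)))) (.node
    (.node (.leaf (nat_lit 19975)) (.leaf (nat_lit 115969))) (.node (.leaf (nat_lit 64004)) (.leaf
    (nat_lit 184072))))) (.node (.node (.node (.leaf (nat_lit 9736)) (.leaf (nat_lit 96257)))
    (.node (.leaf (nat_lit 52483)) (.leaf (nat_lit 165636)))) (.node (.node (.leaf (nat_lit 30211))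
    (.leaf (nat_lit 131337))) (.leaf (nat_lit 77577))))) (.node (.node (.node (.node (.leaf
    (nat_lit 4616)) (.leaf (nat_lit 90627))) (.node (.leaf (nat_lit 42756)) (.leaf (nat_lit
    160002)))) (.node (.node (.leaf (nat_lit 24066)) (.leaf (nat_lit 123401))) (.node (.leaf
    (nat_lit 68872)) (.leaf (nat_lit 208136))))) (.node (.node (.node (.leaf (nat_lit 13834))
    (.leaf (nat_lit 106499))) (.node (.leaf (nat_lit 57863)) (.leaf (nat_lit 174338)))) (.node
    (.node (.leaf (nat_lit 36617)) (.leaf (nat_lit 136195))) (.leaf (nat_lit 82436)))))) (.node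
    (.node (.node (.node (.node (.leaf (nat_lit 2826)) (.leaf (nat_lit 86787))) (.node (.leaf
    (nat_lit 40451)) (.leaf (nat_lit 157192)))) (.node (.node (.leaf (nat_lit 22538)) (.leaf
    (nat_lit 119298))) (.node (.leaf (nat_lit 66568)) (.leaf (nat_lit 198658))))) (.node (.node
    (.node (.leaf (nat_lit 12036)) (.leaf (nat_lit 99073))) (.node (.leaf (nat_lit 53764)) (.leaf
    (nat_lit 168451)))) (.node (.node (.leaf (nat_lit 33281)) (.leaf (nat_lit 133635))) (.leaf
    (nat_lit 79625))))) (.node (.node (.node (.node (.leaf (nat_lit 6915)) (.leaf (nat_lit 94724)))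
    (.node (.leaf (nat_lit 48642)) (.leaf (nat_lit 163586)))) (.node (.node (.leaf (nat_lit 27914))
    (.leaf (nat_lit 127745))) (.leaf (nat_lit 72196)))) (.node (.node (.node (.leaf (nat_lit
    15619)) (.leaf (nat_lit 112132))) (.node (.leaf (nat_lit 60420)) (.leaf (nat_lit 178435))))
    (.node (.node (.leaf (nat_lit 38145)) (.leaf (nat_lit 147209))) (.leaf (nat_lit 83722))))))))
    (.node (.node (.node (.node (.node (.node (.node (.leaf (nat_lit 263)) (.leaf (nat_lit 84993)))
    (.node (.leaf (nat_lit 38913)) (.leaf (nat_lit 151049)))) (.node (.node (.leaf (nat_lit 18435))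
    (.leaf (nat_lit 115713))) (.node (.leaf (nat_lit 63495)) (.leaf (nat_lit 183560))))) (.node
    (.node (.node (.leaf (nat_lit 8708)) (.leaf (nat_lit 95753))) (.node (.leaf (nat_lit 51975))
    (.leaf (nat_lit 165379)))) (.node (.node (.leaf (nat_lit 29448)) (.leaf (nat_lit 130050)))
    (.leaf (nat_lit 77321))))) (.node (.node (.node (.node (.leaf (nat_lit 4354)) (.leaf (nat_lit
    88577))) (.node (.leaf (nat_lit 42243)) (.leaf (nat_lit 159495)))) (.node (.node (.leaf
    (nat_lit 23562)) (.leaf (nat_lit 121089))) (.node (.leaf (nat_lit 68356)) (.leaf (nat_lit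
    203778))))) (.node (.node (.node (.leaf (nat_lit 13060)) (.leaf (nat_lit 105994))) (.node
    (.leaf (nat_lit 56840)) (.leaf (nat_lit 172804)))) (.node (.node (.leaf (nat_lit 35849)) (.leaf
    (nat_lit 135681))) (.leaf (nat_lit 82180)))))) (.node (.node (.node (.node (.node (.leaf
    (nat_lit 2311)) (.leaf (nat_lit 86273))) (.node (.leaf (nat_lit 40195)) (.leaf (nat_lit
    156938)))) (.node (.node (.leaf (nat_lit 22026)) (.leaf (nat_lit 117251))) (.node (.leaf
    (nat_lit 66051)) (.leaf (nat_lit 193539))))) (.node (.node (.node (.leaf (nat_lit 11527))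
    (.leaf (nat_lit 98307))) (.node (.leaf (nat_lit 53256)) (.leaf (nat_lit 167681)))) (.node
    (.node (.leaf (nat_lit 32777)) (.leaf (nat_lit 133124))) (.leaf (nat_lit 79369))))) (.node
    (.node (.node (.node (.leaf (nat_lit 5890)) (.leaf (nat_lit 94211))) (.node (.leaf (nat_lit
    47617)) (.leaf (nat_lit 162824)))) (.node (.node (.leaf (nat_lit 27146)) (.leaf (nat_lit
    125442))) (.node (.leaf (nat_lit 71428)) (.leaf (nat_lit 213763))))) (.node (.node (.node
    (.leaf (nat_lit 14602)) (.leaf (nat_lit 110596))) (.node (.leaf (nat_lit 59912)) (.leaf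
    (nat_lit 177155)))) (.node (.node (.leaf (nat_lit 37633)) (.leaf (nat_lit 146177))) (.leaf
    (nat_lit 83466))))))) (.node (.node (.node (.node (.node (.node (.leaf (nat_lit 1289)) (.leaf
    (nat_lit 85761))) (.node (.leaf (nat_lit 39427)) (.leaf (nat_lit 155905)))) (.node (.node
    (.leaf (nat_lit 21507)) (.leaf (nat_lit 116233))) (.node (.leaf (nat_lit 64775)) (.leaf
    (nat_lit 186632))))) (.node (.node (.node (.leaf (nat_lit 9994)) (.leaf (nat_lit 97025)))
    (.node (.leaf (nat_lit 52740)) (.leaf (nat_lit 166152)))) (.node (.node (.leaf (nat_lit 32257))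
    (.leaf (nat_lit 132105))) (.leaf (nat_lit 78083))))) (.node (.node (.node (.node (.leaf
    (nat_lit 5124)) (.leaf (nat_lit 91908))) (.node (.leaf (nat_lit 44290)) (.leaf (nat_lit
    162314)))) (.node (.node (.leaf (nat_lit 26121)) (.leaf (nat_lit 124161))) (.node (.leaf
    (nat_lit 69890)) (.leaf (nat_lit 208650))))) (.node (.node (.node (.leaf (nat_lit 14090))
    (.leaf (nat_lit 108036))) (.node (.leaf (nat_lit 58626)) (.leaf (nat_lit 175363)))) (.node
    (.node (.leaf (nat_lit 36871)) (.leaf (nat_lit 136963))) (.leaf (nat_lit 82696)))))) (.node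
    (.node (.node (.node (.node (.leaf (nat_lit 3329)) (.leaf (nat_lit 87299))) (.node (.leaf
    (nat_lit 40708)) (.leaf (nat_lit 157706)))) (.node (.node (.leaf (nat_lit 22792)) (.leaf
    (nat_lit 119562))) (.node (.leaf (nat_lit 67332)) (.leaf (nat_lit 201736))))) (.node (.node
    (.node (.leaf (nat_lit 12292)) (.leaf (nat_lit 100097))) (.node (.leaf (nat_lit 54529)) (.leaf
    (nat_lit 170759)))) (.node (.node (.leaf (nat_lit 34314)) (.leaf (nat_lit 134409))) (.leaf
    (nat_lit 80131))))) (.node (.node (.node (.node (.leaf (nat_lit 7175)) (.leaf (nat_lit 94986)))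
    (.node (.leaf (nat_lit 49153)) (.leaf (nat_lit 164354)))) (.node (.node (.leaf (nat_lit 28674))
    (.leaf (nat_lit 128266))) (.leaf (nat_lit 72706)))) (.node (.node (.node (.leaf (nat_lit
    16130)) (.leaf (nat_lit 114698))) (.node (.leaf (nat_lit 60676)) (.leaf (nat_lit 181768))))
    (.node (.node (.leaf (nat_lit 38401)) (.leaf (nat_lit 148993))) (.leaf (nat_lit 84233)))))))))
    (.node (.node (.node (.node (.node (.node (.node (.node (.leaf (nat_lit 257)) (.leaf (nat_lit
    84745))) (.node (.leaf (nat_lit 38663)) (.leaf (nat_lit 150538)))) (.node (.node (.leaf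
    (nat_lit 17930)) (.leaf (nat_lit 115465))) (.node (.leaf (nat_lit 61443)) (.leaf (nat_lit
    183554))))) (.node (.node (.node (.leaf (nat_lit 8199)) (.leaf (nat_lit 95747))) (.node (.leaf
    (nat_lit 51720)) (.leaf (nat_lit 165124)))) (.node (.node (.leaf (nat_lit 29442)) (.leaf
    (nat_lit 129801))) (.leaf (nat_lit 77315))))) (.node (.node (.node (.node (.leaf (nat_lit
    4104)) (.leaf (nat_lit 88321))) (.node (.leaf (nat_lit 41730)) (.leaf (nat_lit 159489))))
    (.node (.node (.leaf (nat_lit 23306)) (.leaf (nat_lit 120586))) (.node (.leaf (nat_lit 68100))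
    (.leaf (nat_lit 203268))))) (.node (.node (.node (.leaf (nat_lit 12804)) (.leaf (nat_lit
    105988))) (.node (.leaf (nat_lit 56833)) (.leaf (nat_lit 172034)))) (.node (.node (.leaf
    (nat_lit 35338)) (.leaf (nat_lit 135433))) (.leaf (nat_lit 81928)))))) (.node (.node (.node
    (.node (.node (.leaf (nat_lit 2305)) (.leaf (nat_lit 86025))) (.node (.leaf (nat_lit 39939))
    (.leaf (nat_lit 156674)))) (.node (.node (.leaf (nat_lit 22019)) (.leaf (nat_lit 116993)))
    (.node (.leaf (nat_lit 65799)) (.leaf (nat_lit 192010))))) (.node (.node (.node (.leaf (nat_lit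
    11521)) (.leaf (nat_lit 97795))) (.node (.leaf (nat_lit 53002)) (.leaf (nat_lit 166914))))
    (.node (.node (.leaf (nat_lit 32519)) (.leaf (nat_lit 132871))) (.leaf (nat_lit 79363)))))
    (.node (.node (.node (.node (.leaf (nat_lit 5639)) (.leaf (nat_lit 93961))) (.node (.leaf
    (nat_lit 47112)) (.leaf (nat_lit 162818)))) (.node (.node (.leaf (nat_lit 26890)) (.leaf
    (nat_lit 125186))) (.node (.leaf (nat_lit 70920)) (.leaf (nat_lit 209667))))) (.node (.node
    (.node (.leaf (nat_lit 14594)) (.leaf (nat_lit 108554))) (.node (.leaf (nat_lit 59656)) (.leaf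
    (nat_lit 176644)))) (.node (.node (.leaf (nat_lit 37385)) (.leaf (nat_lit 143626))) (.leaf
    (nat_lit 83460))))))) (.node (.node (.node (.node (.node (.node (.leaf (nat_lit 1283)) (.leaf
    (nat_lit 85506))) (.node (.leaf (nat_lit 39175)) (.leaf (nat_lit 155655)))) (.node (.node
    (.leaf (nat_lit 20999)) (.leaf (nat_lit 115975))) (.node (.leaf (nat_lit 64260)) (.leaf
    (nat_lit 185097))))) (.node (.node (.node (.leaf (nat_lit 9988)) (.leaf (nat_lit 96513)))
    (.node (.leaf (nat_lit 52488)) (.leaf (nat_lit 165896)))) (.node (.node (.leaf (nat_lit 32009))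
    (.leaf (nat_lit 131585))) (.leaf (nat_lit 77831))))) (.node (.node (.node (.node (.leaf
    (nat_lit 4868)) (.leaf (nat_lit 90631))) (.node (.leaf (nat_lit 43012)) (.leaf (nat_lit
    160258)))) (.node (.node (.leaf (nat_lit 25865)) (.leaf (nat_lit 123913))) (.node (.leaf
    (nat_lit 69380)) (.leaf (nat_lit 208644))))) (.node (.node (.node (.leaf (nat_lit 14084))
    (.leaf (nat_lit 106506))) (.node (.leaf (nat_lit 58375)) (.leaf (nat_lit 174849)))) (.node
    (.node (.leaf (nat_lit 36865)) (.leaf (nat_lit 136707))) (.leaf (nat_lit 82442)))))) (.node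
    (.node (.node (.node (.node (.leaf (nat_lit 3074)) (.leaf (nat_lit 87043))) (.node (.leaf
    (nat_lit 40455)) (.leaf (nat_lit 157448)))) (.node (.node (.leaf (nat_lit 22786)) (.leaf
    (nat_lit 119306))) (.node (.leaf (nat_lit 66824)) (.leaf (nat_lit 201480))))) (.node (.node
    (.node (.leaf (nat_lit 12042)) (.leaf (nat_lit 99331))) (.node (.leaf (nat_lit 54020)) (.leaf
    (nat_lit 170241)))) (.node (.node (.leaf (nat_lit 34307)) (.leaf (nat_lit 134153))) (.leaf
    (nat_lit 79879))))) (.node (.node (.node (.node (.leaf (nat_lit 6921)) (.leaf (nat_lit 94980)))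
    (.node (.leaf (nat_lit 48648)) (.leaf (nat_lit 164097)))) (.node (.node (.leaf (nat_lit 28170))
    (.leaf (nat_lit 128001))) (.leaf (nat_lit 72452)))) (.node (.node (.node (.leaf (nat_lit
    15874)) (.leaf (nat_lit 114692))) (.node (.leaf (nat_lit 60426)) (.leaf (nat_lit 179713))))
    (.node (.node (.leaf (nat_lit 38151)) (.leaf (nat_lit 148233))) (.leaf (nat_lit 84227))))))))
    (.node (.node (.node (.node (.node (.node (.node (.leaf (nat_lit 520)) (.leaf (nat_lit 85002)))
    (.node (.leaf (nat_lit 38919)) (.leaf (nat_lit 151812)))) (.node (.node (.leaf (nat_lit 19207))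
    (.leaf (nat_lit 115719))) (.node (.leaf (nat_lit 63752)) (.leaf (nat_lit 183816))))) (.node
    (.node (.node (.leaf (nat_lit 9480)) (.leaf (nat_lit 96009))) (.node (.leaf (nat_lit 52231))
    (.leaf (nat_lit 165385)))) (.node (.node (.leaf (nat_lit 29955)) (.leaf (nat_lit 131081)))
    (.leaf (nat_lit 77571))))) (.node (.node (.node (.node (.leaf (nat_lit 4612)) (.leaf (nat_lit
    89353))) (.node (.leaf (nat_lit 42499)) (.leaf (nat_lit 159753)))) (.node (.node (.leaf
    (nat_lit 23810)) (.leaf (nat_lit 122113))) (.node (.leaf (nat_lit 68616)) (.leaf (nat_lit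
    207879))))) (.node (.node (.node (.leaf (nat_lit 13828)) (.leaf (nat_lit 106249))) (.node
    (.leaf (nat_lit 57353)) (.leaf (nat_lit 173315)))) (.node (.node (.leaf (nat_lit 36353)) (.leaf
    (nat_lit 135937))) (.leaf (nat_lit 82186)))))) (.node (.node (.node (.node (.node (.leaf
    (nat_lit 2570)) (.leaf (nat_lit 86529))) (.node (.leaf (nat_lit 40199)) (.leaf (nat_lit
    157186)))) (.node (.node (.leaf (nat_lit 22282)) (.leaf (nat_lit 118787))) (.node (.leaf
    (nat_lit 66308)) (.leaf (nat_lit 197634))))) (.node (.node (.node (.leaf (nat_lit 11784))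
    (.leaf (nat_lit 98563))) (.node (.leaf (nat_lit 53512)) (.leaf (nat_lit 167940)))) (.node
    (.node (.leaf (nat_lit 33025)) (.leaf (nat_lit 133383))) (.leaf (nat_lit 79619))))) (.node
    (.node (.node (.node (.leaf (nat_lit 6407)) (.leaf (nat_lit 94467))) (.node (.leaf (nat_lit
    48391)) (.leaf (nat_lit 163330)))) (.node (.node (.leaf (nat_lit 27650)) (.leaf (nat_lit
    127497))) (.leaf (nat_lit 71688)))) (.node (.node (.node (.leaf (nat_lit 15106)) (.leaf
    (nat_lit 111107))) (.node (.leaf (nat_lit 60168)) (.leaf (nat_lit 177666)))) (.node (.node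
    (.leaf (nat_lit 37889)) (.leaf (nat_lit 146697))) (.leaf (nat_lit 83716))))))) (.node (.node
    (.node (.node (.node (.node (.leaf (nat_lit 1539)) (.leaf (nat_lit 85769))) (.node (.leaf
    (nat_lit 39431)) (.leaf (nat_lit 156169)))) (.node (.node (.leaf (nat_lit 21513)) (.leaf
    (nat_lit 116489))) (.node (.leaf (nat_lit 65028)) (.leaf (nat_lit 187138))))) (.node (.node
    (.node (.leaf (nat_lit 11017)) (.leaf (nat_lit 97281))) (.node (.leaf (nat_lit 52746)) (.leaf
    (nat_lit 166404)))) (.node (.node (.leaf (nat_lit 32263)) (.leaf (nat_lit 132609))) (.leaf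
    (nat_lit 78339))))) (.node (.node (.node (.node (.leaf (nat_lit 5377)) (.leaf (nat_lit 92424)))
    (.node (.leaf (nat_lit 46855)) (.leaf (nat_lit 162562)))) (.node (.node (.leaf (nat_lit 26369))
    (.leaf (nat_lit 124418))) (.node (.leaf (nat_lit 70402)) (.leaf (nat_lit 208905))))) (.node
    (.node (.node (.leaf (nat_lit 14338)) (.leaf (nat_lit 108297))) (.node (.leaf (nat_lit 58888))
    (.leaf (nat_lit 176129)))) (.node (.node (.leaf (nat_lit 37121)) (.leaf (nat_lit 141319)))
    (.leaf (nat_lit 82948)))))) (.node (.node (.node (.node (.node (.leaf (nat_lit 3335)) (.leaf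
    (nat_lit 87809))) (.node (.leaf (nat_lit 40964)) (.leaf (nat_lit 158209)))) (.node (.node
    (.leaf (nat_lit 23042)) (.leaf (nat_lit 119810))) (.node (.leaf (nat_lit 67592)) (.leaf
    (nat_lit 202499))))) (.node (.node (.node (.leaf (nat_lit 12298)) (.leaf (nat_lit 102145)))
    (.node (.leaf (nat_lit 55810)) (.leaf (nat_lit 171267)))) (.node (.node (.leaf (nat_lit 34825))
    (.leaf (nat_lit 134657))) (.leaf (nat_lit 80387))))) (.node (.node (.node (.node (.leaf
    (nat_lit 7683)) (.leaf (nat_lit 95241))) (.node (.leaf (nat_lit 49929)) (.leaf (nat_lit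
    164610)))) (.node (.node (.leaf (nat_lit 28938)) (.leaf (nat_lit 128522))) (.leaf (nat_lit
    73217)))) (.node (.node (.node (.leaf (nat_lit 17673)) (.leaf (nat_lit 114953))) (.node (.leaf
    (nat_lit 60935)) (.leaf (nat_lit 182279)))) (.node (.node (.leaf (nat_lit 38407)) (.leaf
    (nat_lit 149514))) (.leaf (nat_lit 84483)))))))))) (.node (.node (.node (.node (.node (.node
    (.node (.node (.node (.leaf (nat_lit 9)) (.leaf (nat_lit 84738))) (.node (.leaf (nat_lit
    38658)) (.leaf (nat_lit 150020)))) (.node (.node (.leaf (nat_lit 17929)) (.leaf (nat_lit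
    115210))) (.node (.leaf (nat_lit 61192)) (.leaf (nat_lit 183303))))) (.node (.node (.node
    (.leaf (nat_lit 7944)) (.leaf (nat_lit 95497))) (.node (.leaf (nat_lit 51719)) (.leaf (nat_lit
    165123)))) (.node (.node (.leaf (nat_lit 29441)) (.leaf (nat_lit 129545))) (.leaf (nat_lit
    77064))))) (.node (.node (.node (.node (.leaf (nat_lit 4103)) (.leaf (nat_lit 88066))) (.node
    (.leaf (nat_lit 41729)) (.leaf (nat_lit 159240)))) (.node (.node (.leaf (nat_lit 23305)) (.leaf
    (nat_lit 120585))) (.node (.leaf (nat_lit 68099)) (.leaf (nat_lit 202755))))) (.node (.node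
    (.node (.leaf (nat_lit 12803)) (.leaf (nat_lit 105738))) (.node (.leaf (nat_lit 56578)) (.leaf
    (nat_lit 171780)))) (.node (.node (.leaf (nat_lit 35337)) (.leaf (nat_lit 135177))) (.leaf
    (nat_lit 81927)))))) (.node (.node (.node (.node (.node (.leaf (nat_lit 1802)) (.leaf (nat_lit
    86018))) (.node (.leaf (nat_lit 39684)) (.leaf (nat_lit 156673)))) (.node (.node (.leaf
    (nat_lit 21770)) (.leaf (nat_lit 116738))) (.node (.leaf (nat_lit 65544)) (.leaf (nat_lit
    191754))))) (.node (.node (.node (.leaf (nat_lit 11266)) (.leaf (nat_lit 97538))) (.node (.leaf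
    (nat_lit 53001)) (.leaf (nat_lit 166913)))) (.node (.node (.leaf (nat_lit 32514)) (.leaf
    (nat_lit 132868))) (.leaf (nat_lit 79112))))) (.node (.node (.node (.node (.leaf (nat_lit
    5633)) (.leaf (nat_lit 93956))) (.node (.leaf (nat_lit 47111)) (.leaf (nat_lit 162817))))
    (.node (.node (.leaf (nat_lit 26626)) (.leaf (nat_lit 124938))) (.node (.leaf (nat_lit 70919))
    (.leaf (nat_lit 209416))))) (.node (.node (.node (.leaf (nat_lit 14593)) (.leaf (nat_lit
    108553))) (.node (.leaf (nat_lit 59655)) (.leaf (nat_lit 176643)))) (.node (.node (.leaf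
    (nat_lit 37128)) (.leaf (nat_lit 143625))) (.leaf (nat_lit 83459))))))) (.node (.node (.node
    (.node (.node (.node (.leaf (nat_lit 1033)) (.leaf (nat_lit 85505))) (.node (.leaf (nat_lit
    39172)) (.leaf (nat_lit 155649)))) (.node (.node (.leaf (nat_lit 19976)) (.leaf (nat_lit
    115970))) (.node (.leaf (nat_lit 64259)) (.leaf (nat_lit 184842))))) (.node (.node (.node
    (.leaf (nat_lit 9987)) (.leaf (nat_lit 96258))) (.node (.leaf (nat_lit 52487)) (.leaf (nat_lit
    165892)))) (.node (.node (.leaf (nat_lit 30212)) (.leaf (nat_lit 131338))) (.leaf (nat_lit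
    77578))))) (.node (.node (.node (.node (.leaf (nat_lit 4867)) (.leaf (nat_lit 90628))) (.node
    (.leaf (nat_lit 43011)) (.leaf (nat_lit 160257)))) (.node (.node (.leaf (nat_lit 24580)) (.leaf
    (nat_lit 123402))) (.node (.leaf (nat_lit 69123)) (.leaf (nat_lit 208392))))) (.node (.node
    (.node (.leaf (nat_lit 14083)) (.leaf (nat_lit 106505))) (.node (.leaf (nat_lit 58369)) (.leaf
    (nat_lit 174593)))) (.node (.node (.leaf (nat_lit 36618)) (.leaf (nat_lit 136196))) (.leaf
    (nat_lit 82441)))))) (.node (.node (.node (.node (.node (.leaf (nat_lit 3073)) (.leaf (nat_lit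
    86788))) (.node (.leaf (nat_lit 40452)) (.leaf (nat_lit 157442)))) (.node (.node (.leaf
    (nat_lit 22785)) (.leaf (nat_lit 119305))) (.node (.leaf (nat_lit 66823)) (.leaf (nat_lit
    200449))))) (.node (.node (.node (.leaf (nat_lit 12041)) (.leaf (nat_lit 99074))) (.node (.leaf
    (nat_lit 54019)) (.leaf (nat_lit 168708)))) (.node (.node (.leaf (nat_lit 33282)) (.leaf
    (nat_lit 133636))) (.leaf (nat_lit 79626))))) (.node (.node (.node (.node (.leaf (nat_lit
    6916)) (.leaf (nat_lit 94979))) (.node (.leaf (nat_lit 48647)) (.leaf (nat_lit 163842))))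
    (.node (.node (.leaf (nat_lit 28169)) (.leaf (nat_lit 127746))) (.leaf (nat_lit 72451))))
    (.node (.node (.node (.leaf (nat_lit 15620)) (.leaf (nat_lit 112387))) (.node (.leaf (nat_lit
    60425)) (.leaf (nat_lit 179457)))) (.node (.node (.leaf (nat_lit 38146)) (.leaf (nat_lit
    147465))) (.leaf (nat_lit 83976)))))))) (.node (.node (.node (.node (.node (.node (.node (.leaf
    (nat_lit 519)) (.leaf (nat_lit 84994))) (.node (.leaf (nat_lit 38914)) (.leaf (nat_lit
    151050)))) (.node (.node (.leaf (nat_lit 18698)) (.leaf (nat_lit 115714))) (.node (.leaf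
    (nat_lit 63496)) (.leaf (nat_lit 183815))))) (.node (.node (.node (.leaf (nat_lit 9479)) (.leaf
    (nat_lit 96002))) (.node (.leaf (nat_lit 51976)) (.leaf (nat_lit 165380)))) (.node (.node
    (.leaf (nat_lit 29698)) (.leaf (nat_lit 130825))) (.leaf (nat_lit 77322))))) (.node (.node
    (.node (.node (.leaf (nat_lit 4611)) (.leaf (nat_lit 88578))) (.node (.leaf (nat_lit 42244))
    (.leaf (nat_lit 159496)))) (.node (.node (.leaf (nat_lit 23809)) (.leaf (nat_lit 121090)))
    (.node (.leaf (nat_lit 68615)) (.leaf (nat_lit 207624))))) (.node (.node (.node (.leaf (nat_lit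
    13827)) (.leaf (nat_lit 106243))) (.node (.leaf (nat_lit 57090)) (.leaf (nat_lit 173059))))
    (.node (.node (.leaf (nat_lit 35850)) (.leaf (nat_lit 135682))) (.leaf (nat_lit 82185))))))
    (.node (.node (.node (.node (.node (.leaf (nat_lit 2569)) (.leaf (nat_lit 86274))) (.node
    (.leaf (nat_lit 40196)) (.leaf (nat_lit 157185)))) (.node (.node (.leaf (nat_lit 22281)) (.leaf
    (nat_lit 117507))) (.node (.leaf (nat_lit 66052)) (.leaf (nat_lit 196359))))) (.node (.node
    (.node (.leaf (nat_lit 11783)) (.leaf (nat_lit 98308))) (.node (.leaf (nat_lit 53511)) (.leaf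
    (nat_lit 167682)))) (.node (.node (.leaf (nat_lit 32778)) (.leaf (nat_lit 133380))) (.leaf
    (nat_lit 79370))))) (.node (.node (.node (.node (.leaf (nat_lit 6146)) (.leaf (nat_lit 94212)))
    (.node (.leaf (nat_lit 48386)) (.leaf (nat_lit 163081)))) (.node (.node (.leaf (nat_lit 27394))
    (.leaf (nat_lit 127242))) (.node (.leaf (nat_lit 71687)) (.leaf (nat_lit 213769))))) (.node
    (.node (.node (.leaf (nat_lit 14850)) (.leaf (nat_lit 110851))) (.node (.leaf (nat_lit 60167))
    (.leaf (nat_lit 177409)))) (.node (.node (.leaf (nat_lit 37634)) (.leaf (nat_lit 146433)))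
    (.leaf (nat_lit 83715))))))) (.node (.node (.node (.node (.node (.node (.leaf (nat_lit 1290))
    (.leaf (nat_lit 85762))) (.node (.leaf (nat_lit 39428)) (.leaf (nat_lit 155912)))) (.node
    (.node (.leaf (nat_lit 21508)) (.leaf (nat_lit 116482))) (.node (.leaf (nat_lit 64776)) (.leaf
    (nat_lit 186882))))) (.node (.node (.node (.leaf (nat_lit 10244)) (.leaf (nat_lit 97033)))
    (.node (.leaf (nat_lit 52745)) (.leaf (nat_lit 166403)))) (.node (.node (.leaf (nat_lit 32258))
    (.leaf (nat_lit 132106))) (.leaf (nat_lit 78084))))) (.node (.node (.node (.node (.leaf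
    (nat_lit 5129)) (.leaf (nat_lit 92163))) (.node (.leaf (nat_lit 46850)) (.leaf (nat_lit
    162561)))) (.node (.node (.leaf (nat_lit 26122)) (.leaf (nat_lit 124162))) (.node (.leaf
    (nat_lit 70401)) (.leaf (nat_lit 208900))))) (.node (.node (.node (.leaf (nat_lit 14337))
    (.leaf (nat_lit 108291))) (.node (.leaf (nat_lit 58887)) (.leaf (nat_lit 175620)))) (.node
    (.node (.leaf (nat_lit 36872)) (.leaf (nat_lit 140808))) (.leaf (nat_lit 82947)))))) (.node
    (.node (.node (.node (.node (.leaf (nat_lit 3330)) (.leaf (nat_lit 87555))) (.node (.leaf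
    (nat_lit 40963)) (.leaf (nat_lit 157953)))) (.node (.node (.leaf (nat_lit 23041)) (.leaf
    (nat_lit 119809))) (.node (.leaf (nat_lit 67591)) (.leaf (nat_lit 201987))))) (.node (.node
    (.node (.leaf (nat_lit 12297)) (.leaf (nat_lit 101124))) (.node (.leaf (nat_lit 55809)) (.leaf
    (nat_lit 171009)))) (.node (.node (.leaf (nat_lit 34564)) (.leaf (nat_lit 134410))) (.leaf
    (nat_lit 80132))))) (.node (.node (.node (.node (.leaf (nat_lit 7176)) (.leaf (nat_lit 95236)))
    (.node (.leaf (nat_lit 49416)) (.leaf (nat_lit 164609)))) (.node (.node (.leaf (nat_lit 28937))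
    (.leaf (nat_lit 128521))) (.leaf (nat_lit 72962)))) (.node (.node (.node (.leaf (nat_lit
    17668)) (.leaf (nat_lit 114948))) (.node (.leaf (nat_lit 60681)) (.leaf (nat_lit 182024))))
    (.node (.node (.leaf (nat_lit 38402)) (.leaf (nat_lit 149249))) (.leaf (nat_lit 84234)))))))))
    (.node (.node (.node (.node (.node (.node (.node (.node (.leaf (nat_lit 258)) (.leaf (nat_lit
    84746))) (.node (.leaf (nat_lit 38664)) (.leaf (nat_lit 150786)))) (.node (.node (.leaf
    (nat_lit 18179)) (.leaf (nat_lit 115466))) (.node (.leaf (nat_lit 61699)) (.leaf (nat_lit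
    183559))))) (.node (.node (.node (.leaf (nat_lit 8452)) (.leaf (nat_lit 95748))) (.node (.leaf
    (nat_lit 51970)) (.leaf (nat_lit 165127)))) (.node (.node (.leaf (nat_lit 29447)) (.leaf
    (nat_lit 129802))) (.leaf (nat_lit 77316))))) (.node (.node (.node (.node (.leaf (nat_lit
    4353)) (.leaf (nat_lit 88322))) (.node (.leaf (nat_lit 41985)) (.leaf (nat_lit 159490))))
    (.node (.node (.leaf (nat_lit 23561)) (.leaf (nat_lit 120834))) (.node (.leaf (nat_lit 68355))
    (.leaf (nat_lit 203522))))) (.node (.node (.node (.leaf (nat_lit 13059)) (.leaf (nat_lit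
    105993))) (.node (.leaf (nat_lit 56839)) (.leaf (nat_lit 172545)))) (.node (.node (.leaf
    (nat_lit 35587)) (.leaf (nat_lit 135434))) (.leaf (nat_lit 82179)))))) (.node (.node (.node
    (.node (.node (.leaf (nat_lit 2306)) (.leaf (nat_lit 86026))) (.node (.leaf (nat_lit 39940))
    (.leaf (nat_lit 156937)))) (.node (.node (.leaf (nat_lit 22025)) (.leaf (nat_lit 116994)))
    (.node (.leaf (nat_lit 65800)) (.leaf (nat_lit 192770))))) (.node (.node (.node (.leaf (nat_lit
    11522)) (.leaf (nat_lit 98051))) (.node (.leaf (nat_lit 53255)) (.leaf (nat_lit 167425))))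
    (.node (.node (.leaf (nat_lit 32520)) (.leaf (nat_lit 132872))) (.leaf (nat_lit 79364)))))
    (.node (.node (.node (.node (.leaf (nat_lit 5640)) (.leaf (nat_lit 93962))) (.node (.leaf
    (nat_lit 47361)) (.leaf (nat_lit 162823)))) (.node (.node (.leaf (nat_lit 27145)) (.leaf
    (nat_lit 125441))) (.node (.leaf (nat_lit 71172)) (.leaf (nat_lit 209923))))) (.node (.node
    (.node (.leaf (nat_lit 14601)) (.leaf (nat_lit 110340))) (.node (.leaf (nat_lit 59911)) (.leaf
    (nat_lit 176899)))) (.node (.node (.leaf (nat_lit 37386)) (.leaf (nat_lit 144649))) (.leaf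
    (nat_lit 83465))))))) (.node (.node (.node (.node (.node (.node (.leaf (nat_lit 1284)) (.leaf
    (nat_lit 85511))) (.node (.leaf (nat_lit 39176)) (.leaf (nat_lit 155656)))) (.node (.node
    (.leaf (nat_lit 21000)) (.leaf (nat_lit 115976))) (.node (.leaf (nat_lit 64520)) (.leaf
    (nat_lit 185351))))) (.node (.node (.node (.leaf (nat_lit 9993)) (.leaf (nat_lit 96769)))
    (.node (.leaf (nat_lit 52739)) (.leaf (nat_lit 166148)))) (.node (.node (.leaf (nat_lit 32010))
    (.leaf (nat_lit 131841))) (.leaf (nat_lit 77832))))) (.node (.node (.node (.node (.leaf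
    (nat_lit 5123)) (.leaf (nat_lit 90632))) (.node (.leaf (nat_lit 44034)) (.leaf (nat_lit
    162313)))) (.node (.node (.leaf (nat_lit 25866)) (.leaf (nat_lit 123914))) (.node (.leaf
    (nat_lit 69634)) (.leaf (nat_lit 208649))))) (.node (.node (.node (.leaf (nat_lit 14089))
    (.leaf (nat_lit 107780))) (.node (.leaf (nat_lit 58376)) (.leaf (nat_lit 175107)))) (.node
    (.node (.leaf (nat_lit 36866)) (.leaf (nat_lit 136708))) (.leaf (nat_lit 82695)))))) (.node
    (.node (.node (.node (.node (.leaf (nat_lit 3079)) (.leaf (nat_lit 87044))) (.node (.leaf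
    (nat_lit 40456)) (.leaf (nat_lit 157705)))) (.node (.node (.leaf (nat_lit 22791)) (.leaf
    (nat_lit 119561))) (.node (.leaf (nat_lit 67076)) (.leaf (nat_lit 201729))))) (.node (.node
    (.node (.leaf (nat_lit 12291)) (.leaf (nat_lit 99844))) (.node (.leaf (nat_lit 54273)) (.leaf
    (nat_lit 170497)))) (.node (.node (.leaf (nat_lit 34313)) (.leaf (nat_lit 134154))) (.leaf
    (nat_lit 79880))))) (.node (.node (.node (.node (.leaf (nat_lit 6922)) (.leaf (nat_lit 94985)))
    (.node (.leaf (nat_lit 48897)) (.leaf (nat_lit 164098)))) (.node (.node (.leaf (nat_lit 28418))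
    (.leaf (nat_lit 128265))) (.leaf (nat_lit 72705)))) (.node (.node (.node (.leaf (nat_lit
    16129)) (.leaf (nat_lit 114697))) (.node (.leaf (nat_lit 60675)) (.leaf (nat_lit 181762))))
    (.node (.node (.leaf (nat_lit 38152)) (.leaf (nat_lit 148745))) (.leaf (nat_lit 84228))))))))
    (.node (.node (.node (.node (.node (.node (.node (.leaf (nat_lit 1027)) (.leaf (nat_lit
    85249))) (.node (.leaf (nat_lit 38920)) (.leaf (nat_lit 155401)))) (.node (.node (.leaf
    (nat_lit 19463)) (.leaf (nat_lit 115720))) (.node (.leaf (nat_lit 64003)) (.leaf (nat_lit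
    184071))))) (.node (.node (.node (.leaf (nat_lit 9735)) (.leaf (nat_lit 96010))) (.node (.leaf
    (nat_lit 52232)) (.leaf (nat_lit 165635)))) (.node (.node (.leaf (nat_lit 29956)) (.leaf
    (nat_lit 131082))) (.leaf (nat_lit 77572))))) (.node (.node (.node (.node (.leaf (nat_lit
    4615)) (.leaf (nat_lit 89610))) (.node (.leaf (nat_lit 42500)) (.leaf (nat_lit 159754))))
    (.node (.node (.leaf (nat_lit 24065)) (.leaf (nat_lit 122633))) (.node (.leaf (nat_lit 68871))
    (.leaf (nat_lit 207880))))) (.node (.node (.node (.leaf (nat_lit 13833)) (.leaf (nat_lit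
    106250))) (.node (.leaf (nat_lit 57607)) (.leaf (nat_lit 174082)))) (.node (.node (.leaf
    (nat_lit 36354)) (.leaf (nat_lit 135938))) (.leaf (nat_lit 82435)))))) (.node (.node (.node
    (.node (.node (.leaf (nat_lit 2825)) (.leaf (nat_lit 86530))) (.node (.leaf (nat_lit 40200))
    (.leaf (nat_lit 157191)))) (.node (.node (.leaf (nat_lit 22537)) (.leaf (nat_lit 119043)))
    (.node (.leaf (nat_lit 66567)) (.leaf (nat_lit 198402))))) (.node (.node (.node (.leaf (nat_lit
    12035)) (.leaf (nat_lit 98818))) (.node (.leaf (nat_lit 53763)) (.leaf (nat_lit 168195))))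
    (.node (.node (.leaf (nat_lit 33026)) (.leaf (nat_lit 133384))) (.leaf (nat_lit 79620)))))
    (.node (.node (.node (.node (.leaf (nat_lit 6408)) (.leaf (nat_lit 94723))) (.node (.leaf
    (nat_lit 48392)) (.leaf (nat_lit 163585)))) (.node (.node (.leaf (nat_lit 27913)) (.leaf
    (nat_lit 127498))) (.leaf (nat_lit 71944)))) (.node (.node (.node (.leaf (nat_lit 15363))
    (.leaf (nat_lit 111876))) (.node (.leaf (nat_lit 60419)) (.leaf (nat_lit 177922)))) (.node
    (.node (.leaf (nat_lit 37890)) (.leaf (nat_lit 146946))) (.leaf (nat_lit 83721))))))) (.node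
    (.node (.node (.node (.node (.node (.leaf (nat_lit 1540)) (.leaf (nat_lit 85770))) (.node
    (.leaf (nat_lit 39432)) (.leaf (nat_lit 156170)))) (.node (.node (.leaf (nat_lit 21763)) (.leaf
    (nat_lit 116490))) (.node (.leaf (nat_lit 65284)) (.leaf (nat_lit 187393))))) (.node (.node
    (.node (.leaf (nat_lit 11018)) (.leaf (nat_lit 97282))) (.node (.leaf (nat_lit 52995)) (.leaf
    (nat_lit 166659)))) (.node (.node (.leaf (nat_lit 32264)) (.leaf (nat_lit 132610))) (.leaf
    (nat_lit 78340))))) (.node (.node (.node (.node (.leaf (nat_lit 5383)) (.leaf (nat_lit 93449)))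
    (.node (.leaf (nat_lit 46856)) (.leaf (nat_lit 162567)))) (.node (.node (.leaf (nat_lit 26370))
    (.leaf (nat_lit 124681))) (.node (.leaf (nat_lit 70663)) (.leaf (nat_lit 208906))))) (.node
    (.node (.node (.leaf (nat_lit 14345)) (.leaf (nat_lit 108298))) (.node (.leaf (nat_lit 59399))
    (.leaf (nat_lit 176130)))) (.node (.node (.leaf (nat_lit 37122)) (.leaf (nat_lit 141576)))
    (.leaf (nat_lit 83203)))))) (.node (.node (.node (.node (.node (.leaf (nat_lit 4097)) (.leaf
    (nat_lit 87810))) (.node (.leaf (nat_lit 41217)) (.leaf (nat_lit 158986)))) (.node (.node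
    (.leaf (nat_lit 23047)) (.leaf (nat_lit 120065))) (.node (.leaf (nat_lit 67847)) (.leaf
    (nat_lit 202505))))) (.node (.node (.node (.leaf (nat_lit 12551)) (.leaf (nat_lit 105732)))
    (.node (.leaf (nat_lit 56071)) (.leaf (nat_lit 171523)))) (.node (.node (.leaf (nat_lit 35081))
    (.leaf (nat_lit 134658))) (.leaf (nat_lit 81415))))) (.node (.node (.node (.node (.leaf
    (nat_lit 7684)) (.leaf (nat_lit 95491))) (.node (.leaf (nat_lit 50185)) (.leaf (nat_lit
    164868)))) (.node (.node (.leaf (nat_lit 29193)) (.leaf (nat_lit 129025))) (.leaf (nat_lit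
    73218)))) (.node (.node (.node (.leaf (nat_lit 17674)) (.leaf (nat_lit 114954))) (.node (.leaf
    (nat_lit 60936)) (.leaf (nat_lit 182280)))) (.node (.node (.leaf (nat_lit 38408)) (.leaf
    (nat_lit 149769))) (.leaf (nat_lit 84484)))))))))))

/-- Certificate data. -/
def p1_fact : Trie :=
    (.node (.node (.node (.node (.node (.node (.node (.node (.node (.node (.node (.node (.leaf
    (nat_lit 1)) (.leaf (nat_lit 159282699))) (.node (.leaf (nat_lit 79507723)) (.leaf (nat_lit
    220699904)))) (.node (.node (.leaf (nat_lit 22843141)) (.leaf (nat_lit 213856268))) (.node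
    (.leaf (nat_lit 122278660)) (.leaf (nat_lit 14711552))))) (.node (.node (.node (.leaf (nat_lit
    17834500)) (.leaf (nat_lit 188403458))) (.node (.leaf (nat_lit 100237317)) (.leaf (nat_lit
    85282304)))) (.node (.node (.leaf (nat_lit 36495882)) (.leaf (nat_lit 204958976))) (.leaf
    (nat_lit 93465350))))) (.node (.node (.node (.node (.leaf (nat_lit 7080967)) (.leaf (nat_lit
    175756290))) (.node (.leaf (nat_lit 55137542)) (.leaf (nat_lit 54206208)))) (.node (.node
    (.leaf (nat_lit 49311746)) (.leaf (nat_lit 205743109))) (.leaf (nat_lit 134349058)))) (.node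
    (.node (.node (.leaf (nat_lit 28063497)) (.leaf (nat_lit 201476611))) (.node (.leaf (nat_lit
    109162251)) (.leaf (nat_lit 61717760)))) (.node (.node (.leaf (nat_lit 56166662)) (.leaf
    (nat_lit 214914560))) (.leaf (nat_lit 116806920)))))) (.node (.node (.node (.node (.node (.leaf
    (nat_lit 1576202)) (.leaf (nat_lit 169985281))) (.node (.leaf (nat_lit 54346242)) (.leaf
    (nat_lit 86404864)))) (.node (.node (.leaf (nat_lit 43015178)) (.leaf (nat_lit 221940228)))
    (.leaf (nat_lit 108915714)))) (.node (.node (.node (.leaf (nat_lit 22556168)) (.leaf (nat_lit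
    194176258))) (.node (.leaf (nat_lit 74291713)) (.leaf (nat_lit 55239936)))) (.node (.node
    (.leaf (nat_lit 62453004)) (.leaf (nat_lit 243472138))) (.leaf (nat_lit 98713606))))) (.node
    (.node (.node (.node (.leaf (nat_lit 11808011)) (.leaf (nat_lit 182105867))) (.node (.leaf
    (nat_lit 94988811)) (.leaf (nat_lit 63532800)))) (.node (.node (.leaf (nat_lit 54558465))
    (.leaf (nat_lit 233752066))) (.leaf (nat_lit 90315013)))) (.node (.node (.node (.leaf (nat_lit
    18906633)) (.leaf (nat_lit 207033858))) (.node (.leaf (nat_lit 89243650)) (.leaf (nat_lit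
    14707968)))) (.node (.node (.leaf (nat_lit 75550723)) (.leaf (nat_lit 117601280))) (.leaf
    (nat_lit 118646276))))))) (.node (.node (.node (.node (.node (.node (.leaf (nat_lit 1573384))
    (.leaf (nat_lit 120225289))) (.node (.leaf (nat_lit 81082379)) (.leaf (nat_lit 171660288))))
    (.node (.node (.leaf (nat_lit 23369477)) (.leaf (nat_lit 218006532))) (.leaf (nat_lit
    84271366)))) (.node (.node (.node (.leaf (nat_lit 20195332)) (.leaf (nat_lit 164027141)))
    (.node (.leaf (nat_lit 104135944)) (.leaf (nat_lit 79245056)))) (.node (.node (.leaf (nat_lit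
    61640706)) (.leaf (nat_lit 240582407))) (.leaf (nat_lit 148754183))))) (.node (.node (.node
    (.node (.leaf (nat_lit 8398089)) (.leaf (nat_lit 179430657))) (.node (.leaf (nat_lit 92102411))
    (.leaf (nat_lit 48470272)))) (.node (.node (.leaf (nat_lit 44615169)) (.leaf (nat_lit
    224096010))) (.leaf (nat_lit 137973513)))) (.node (.node (.node (.leaf (nat_lit 30176267))
    (.leaf (nat_lit 160369928))) (.node (.leaf (nat_lit 110999051)) (.leaf (nat_lit 12605952))))
    (.node (.node (.leaf (nat_lit 69276939)) (.leaf (nat_lit 214148098))) (.leaf (nat_lit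
    153509638)))))) (.node (.node (.node (.node (.node (.leaf (nat_lit 4723468)) (.leaf (nat_lit
    140153610))) (.node (.leaf (nat_lit 86822403)) (.leaf (nat_lit 56436736)))) (.node (.node
    (.leaf (nat_lit 46688522)) (.leaf (nat_lit 224826116))) (.leaf (nat_lit 132204298)))) (.node
    (.node (.node (.leaf (nat_lit 25440771)) (.leaf (nat_lit 197325317))) (.node (.leaf (nat_lit
    97887490)) (.leaf (nat_lit 41255168)))) (.node (.node (.leaf (nat_lit 65077254)) (.leaf
    (nat_lit 247148553))) (.leaf (nat_lit 153975297))))) (.node (.node (.node (.node (.leaf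
    (nat_lit 6829832)) (.leaf (nat_lit 142000906))) (.node (.leaf (nat_lit 61960965)) (.leaf
    (nat_lit 41492224)))) (.node (.node (.leaf (nat_lit 56656385)) (.leaf (nat_lit 236685318)))
    (.leaf (nat_lit 142745858)))) (.node (.node (.node (.leaf (nat_lit 19695111)) (.leaf (nat_lit
    210445058))) (.node (.leaf (nat_lit 114674178)) (.leaf (nat_lit 1838080)))) (.node (.node
    (.leaf (nat_lit 69282060)) (.leaf (nat_lit 167451648))) (.leaf (nat_lit 163424010))))))))
    (.node (.node (.node (.node (.node (.node (.node (.leaf (nat_lit 786690)) (.leaf (nat_lit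
    118389254))) (.node (.leaf (nat_lit 80803331)) (.leaf (nat_lit 89827840)))) (.node (.node
    (.leaf (nat_lit 38557193)) (.leaf (nat_lit 184498186))) (.leaf (nat_lit 100784642)))) (.node
    (.node (.node (.leaf (nat_lit 16009217)) (.leaf (nat_lit 190712072))) (.node (.leaf (nat_lit
    102037512)) (.leaf (nat_lit 78958598)))) (.node (.node (.leaf (nat_lit 60614411)) (.leaf
    (nat_lit 226959366))) (.leaf (nat_lit 146944260))))) (.node (.node (.node (.node (.leaf
    (nat_lit 8654855)) (.leaf (nat_lit 177855745))) (.node (.leaf (nat_lit 86858251)) (.leaf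
    (nat_lit 53008384)))) (.node (.node (.leaf (nat_lit 50885378)) (.leaf (nat_lit 221211145)))
    (.leaf (nat_lit 136400130)))) (.node (.node (.node (.leaf (nat_lit 16543497)) (.leaf (nat_lit
    203317001))) (.node (.leaf (nat_lit 114103812)) (.leaf (nat_lit 24549632)))) (.node (.node
    (.leaf (nat_lit 40963845)) (.leaf (nat_lit 209170432))) (.leaf (nat_lit 106060289)))))) (.node
    (.node (.node (.node (.node (.leaf (nat_lit 2887426)) (.leaf (nat_lit 120753673))) (.node
    (.leaf (nat_lit 54085125)) (.leaf (nat_lit 130423552)))) (.node (.node (.leaf (nat_lit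
    31762953)) (.leaf (nat_lit 223514369))) (.leaf (nat_lit 130413060)))) (.node (.node (.node
    (.leaf (nat_lit 17586951)) (.leaf (nat_lit 195958276))) (.node (.leaf (nat_lit 78225416))
    (.leaf (nat_lit 48049408)))) (.node (.node (.leaf (nat_lit 65600268)) (.leaf (nat_lit
    245050375))) (.leaf (nat_lit 152139273))))) (.node (.node (.node (.node (.leaf (nat_lit
    12071179)) (.leaf (nat_lit 140688649))) (.node (.leaf (nat_lit 96266247)) (.leaf (nat_lit
    81607424)))) (.node (.node (.leaf (nat_lit 48026630)) (.leaf (nat_lit 235588866))) (.leaf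
    (nat_lit 141907459)))) (.node (.node (.node (.leaf (nat_lit 34096650)) (.leaf (nat_lit
    192093190))) (.node (.leaf (nat_lit 119090947)) (.leaf (nat_lit 8442112)))) (.node (.node
    (.leaf (nat_lit 76850436)) (.leaf (nat_lit 118654208))) (.leaf (nat_lit 162111498))))))) (.node
    (.node (.node (.node (.node (.node (.leaf (nat_lit 1050889)) (.leaf (nat_lit 121274889)))
    (.node (.leaf (nat_lit 83443211)) (.leaf (nat_lit 119466496)))) (.node (.node (.leaf (nat_lit
    40410635)) (.leaf (nat_lit 219367180))) (.leaf (nat_lit 108128007)))) (.node (.node (.node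
    (.leaf (nat_lit 17060099)) (.leaf (nat_lit 184737795))) (.node (.leaf (nat_lit 105972227))
    (.leaf (nat_lit 85587968)))) (.node (.node (.leaf (nat_lit 38596872)) (.leaf (nat_lit
    220699398))) (.leaf (nat_lit 99236867))))) (.node (.node (.node (.node (.leaf (nat_lit
    10752771)) (.leaf (nat_lit 178958604))) (.node (.leaf (nat_lit 93642498)) (.leaf (nat_lit
    61774592)))) (.node (.node (.leaf (nat_lit 34654986)) (.leaf (nat_lit 191329537))) (.leaf
    (nat_lit 135926284)))) (.node (.node (.node (.leaf (nat_lit 31735044)) (.leaf (nat_lit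
    199168265))) (.node (.leaf (nat_lit 116464642)) (.leaf (nat_lit 33174272)))) (.node (.node
    (.leaf (nat_lit 41753094)) (.leaf (nat_lit 208593672))) (.leaf (nat_lit 123888387)))))) (.node
    (.node (.node (.node (.node (.leaf (nat_lit 6032137)) (.leaf (nat_lit 154834691))) (.node
    (.leaf (nat_lit 87642380)) (.leaf (nat_lit 53627136)))) (.node (.node (.leaf (nat_lit
    48019467)) (.leaf (nat_lit 226166529))) (.leaf (nat_lit 130939908)))) (.node (.node (.node
    (.leaf (nat_lit 14968325)) (.leaf (nat_lit 199901961))) (.node (.leaf (nat_lit 106015493))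
    (.leaf (nat_lit 26362880)))) (.node (.node (.leaf (nat_lit 68458498)) (.leaf (nat_lit
    221492489))) (.leaf (nat_lit 155548930))))) (.node (.node (.node (.node (.leaf (nat_lit
    15997960)) (.leaf (nat_lit 187302401))) (.node (.leaf (nat_lit 98888713)) (.leaf (nat_lit
    62848768)))) (.node (.node (.leaf (nat_lit 57990412)) (.leaf (nat_lit 231706114))) (.leaf
    (nat_lit 144005634)))) (.node (.node (.node (.leaf (nat_lit 21793287)) (.leaf (nat_lit
    212234753))) (.node (.leaf (nat_lit 118345227)) (.leaf (nat_lit 1900800)))) (.node (.node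
    (.leaf (nat_lit 48836103)) (.leaf (nat_lit 143096064))) (.leaf (nat_lit 161641227)))))))))
    (.node (.node (.node (.node (.node (.node (.node (.node (.leaf (nat_lit 262406)) (.leaf
    (nat_lit 162953227))) (.node (.leaf (nat_lit 64041731)) (.leaf (nat_lit 79547648)))) (.node
    (.node (.leaf (nat_lit 25202954)) (.leaf (nat_lit 173225225))) (.node (.leaf (nat_lit
    123328260)) (.leaf (nat_lit 3672585))))) (.node (.node (.node (.leaf (nat_lit 14435842)) (.leaf
    (nat_lit 189662984))) (.node (.leaf (nat_lit 87130631)) (.leaf (nat_lit 43334656)))) (.node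
    (.node (.leaf (nat_lit 60066826)) (.leaf (nat_lit 200244992))) (.leaf (nat_lit 95301126)))))
    (.node (.node (.node (.node (.leaf (nat_lit 3415559)) (.leaf (nat_lit 124953098))) (.node
    (.leaf (nat_lit 90231300)) (.leaf (nat_lit 53794048)))) (.node (.node (.leaf (nat_lit
    39894531)) (.leaf (nat_lit 228501506))) (.leaf (nat_lit 135351297)))) (.node (.node (.node
    (.leaf (nat_lit 28591619)) (.leaf (nat_lit 155648774))) (.node (.leaf (nat_lit 77443335))
    (.leaf (nat_lit 39519232)))) (.node (.node (.leaf (nat_lit 60886017)) (.leaf (nat_lit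
    208897024))) (.leaf (nat_lit 157385473)))))) (.node (.node (.node (.node (.node (.leaf (nat_lit
    2625025)) (.leaf (nat_lit 170560268))) (.node (.leaf (nat_lit 55133186)) (.leaf (nat_lit
    68568320)))) (.node (.node (.leaf (nat_lit 43802113)) (.leaf (nat_lit 172183814))) (.leaf
    (nat_lit 129880839)))) (.node (.node (.node (.leaf (nat_lit 23080708)) (.leaf (nat_lit
    191031308))) (.node (.leaf (nat_lit 108595208)) (.leaf (nat_lit 54348288)))) (.node (.node
    (.leaf (nat_lit 52754441)) (.leaf (nat_lit 224109314))) (.leaf (nat_lit 151639554))))) (.node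
    (.node (.node (.node (.leaf (nat_lit 7089922)) (.leaf (nat_lit 140950281))) (.node (.leaf
    (nat_lit 60648453)) (.leaf (nat_lit 60961792)))) (.node (.node (.leaf (nat_lit 33870343))
    (.leaf (nat_lit 234801160))) (.leaf (nat_lit 141171460)))) (.node (.node (.node (.leaf (nat_lit
    29655045)) (.leaf (nat_lit 164567817))) (.node (.leaf (nat_lit 109166854)) (.leaf (nat_lit
    7095552)))) (.node (.node (.leaf (nat_lit 53813763)) (.leaf (nat_lit 161931776))) (.leaf
    (nat_lit 119171078))))))) (.node (.node (.node (.node (.node (.node (.leaf (nat_lit 1836812))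
    (.leaf (nat_lit 166625036))) (.node (.leaf (nat_lit 82627587)) (.leaf (nat_lit 87119360))))
    (.node (.node (.leaf (nat_lit 40655111)) (.leaf (nat_lit 172704519))) (.leaf (nat_lit
    107864839)))) (.node (.node (.node (.leaf (nat_lit 11554570)) (.leaf (nat_lit 143056138)))
    (.node (.leaf (nat_lit 70095106)) (.leaf (nat_lit 85858560)))) (.node (.node (.leaf (nat_lit
    61402635)) (.leaf (nat_lit 240359434))) (.leaf (nat_lit 149517060))))) (.node (.node (.node
    (.node (.leaf (nat_lit 10228231)) (.leaf (nat_lit 180217609))) (.node (.leaf (nat_lit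
    92889611)) (.leaf (nat_lit 53314048)))) (.node (.node (.leaf (nat_lit 46450949)) (.leaf
    (nat_lit 211776001))) (.leaf (nat_lit 126488579)))) (.node (.node (.node (.leaf (nat_lit
    27817739)) (.leaf (nat_lit 205414922))) (.node (.leaf (nat_lit 115677955)) (.leaf (nat_lit
    9709824)))) (.node (.node (.leaf (nat_lit 73440771)) (.leaf (nat_lit 214934274))) (.leaf
    (nat_lit 123101443)))))) (.node (.node (.node (.node (.node (.leaf (nat_lit 3937545)) (.leaf
    (nat_lit 126784769))) (.node (.leaf (nat_lit 87871235)) (.leaf (nat_lit 109017088)))) (.node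
    (.node (.leaf (nat_lit 47475458)) (.leaf (nat_lit 225381379))) (.leaf (nat_lit 116259335))))
    (.node (.node (.node (.leaf (nat_lit 26227460)) (.leaf (nat_lit 155907593))) (.node (.leaf
    (nat_lit 85043205)) (.leaf (nat_lit 43373056)))) (.node (.node (.leaf (nat_lit 40698369))
    (.leaf (nat_lit 248197891))) (.leaf (nat_lit 141184520))))) (.node (.node (.node (.node (.leaf
    (nat_lit 14956812)) (.leaf (nat_lit 161400326))) (.node (.leaf (nat_lit 64583176)) (.leaf
    (nat_lit 60915712)))) (.node (.node (.leaf (nat_lit 37018119)) (.leaf (nat_lit 238213384)))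
    (.leaf (nat_lit 143481090)))) (.node (.node (.node (.leaf (nat_lit 22054914)) (.leaf (nat_lit
    211447817))) (.node (.leaf (nat_lit 113363718)) (.leaf (nat_lit 2889216)))) (.node (.node
    (.leaf (nat_lit 46476294)) (.leaf (nat_lit 117935360))) (.leaf (nat_lit 114716937))))))))
    (.node (.node (.node (.node (.node (.node (.node (.leaf (nat_lit 263175)) (.leaf (nat_lit
    118914052))) (.node (.leaf (nat_lit 61945345)) (.leaf (nat_lit 69620736)))) (.node (.node
    (.leaf (nat_lit 26252553)) (.leaf (nat_lit 217219586))) (.leaf (nat_lit 124902924)))) (.node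
    (.node (.node (.leaf (nat_lit 10504969)) (.leaf (nat_lit 191499273))) (.node (.leaf (nat_lit
    103348996)) (.leaf (nat_lit 79282944)))) (.node (.node (.leaf (nat_lit 61116170)) (.leaf
    (nat_lit 211246850))) (.leaf (nat_lit 147993860))))) (.node (.node (.node (.node (.leaf
    (nat_lit 8397580)) (.leaf (nat_lit 178381321))) (.node (.leaf (nat_lit 78470153)) (.leaf
    (nat_lit 53270016)))) (.node (.node (.leaf (nat_lit 51168268)) (.leaf (nat_lit 229862667)))
    (.leaf (nat_lit 134614028)))) (.node (.node (.node (.leaf (nat_lit 29651458)) (.leaf (nat_lit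
    203841537))) (.node (.leaf (nat_lit 84522246)) (.leaf (nat_lit 18258688)))) (.node (.node
    (.leaf (nat_lit 56693765)) (.leaf (nat_lit 214113798))) (.leaf (nat_lit 104750342)))))) (.node
    (.node (.node (.node (.node (.leaf (nat_lit 2101514)) (.leaf (nat_lit 170299404))) (.node
    (.leaf (nat_lit 56707335)) (.leaf (nat_lit 85545987)))) (.node (.node (.leaf (nat_lit
    30190596)) (.leaf (nat_lit 209147398))) (.leaf (nat_lit 87946502)))) (.node (.node (.node
    (.leaf (nat_lit 18636546)) (.leaf (nat_lit 196749319))) (.node (.leaf (nat_lit 106275330))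
    (.leaf (nat_lit 33438208)))) (.node (.node (.leaf (nat_lit 56950019)) (.leaf (nat_lit
    214149381))) (.leaf (nat_lit 99239685))))) (.node (.node (.node (.node (.leaf (nat_lit
    13637378)) (.leaf (nat_lit 184941065))) (.node (.leaf (nat_lit 63533319)) (.leaf (nat_lit
    33344000)))) (.node (.node (.leaf (nat_lit 48289029)) (.leaf (nat_lit 194479367))) (.leaf
    (nat_lit 142221058)))) (.node (.node (.node (.leaf (nat_lit 33587975)) (.leaf (nat_lit
    165879562))) (.node (.leaf (nat_lit 118867980)) (.leaf (nat_lit 7088640)))) (.node (.node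
    (.leaf (nat_lit 77374980)) (.leaf (nat_lit 119968512))) (.leaf (nat_lit 162637316))))))) (.node
    (.node (.node (.node (.node (.node (.leaf (nat_lit 2099973)) (.leaf (nat_lit 168954377)))
    (.node (.leaf (nat_lit 84199943)) (.leaf (nat_lit 48379136)))) (.node (.node (.leaf (nat_lit
    39362828)) (.leaf (nat_lit 221153540))) (.leaf (nat_lit 127265292)))) (.node (.node (.node
    (.leaf (nat_lit 22041611)) (.leaf (nat_lit 193651467))) (.node (.leaf (nat_lit 73242625))
    (.leaf (nat_lit 86687744)))) (.node (.node (.leaf (nat_lit 48820995)) (.leaf (nat_lit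
    233020681))) (.leaf (nat_lit 150828291))))) (.node (.node (.node (.node (.leaf (nat_lit
    11277315)) (.leaf (nat_lit 172667914))) (.node (.leaf (nat_lit 59336711)) (.leaf (nat_lit
    171359232)))) (.node (.node (.leaf (nat_lit 53529858)) (.leaf (nat_lit 232486667))) (.leaf
    (nat_lit 139597323)))) (.node (.node (.node (.leaf (nat_lit 32521986)) (.leaf (nat_lit
    164828170))) (.node (.leaf (nat_lit 104185347)) (.leaf (nat_lit 13915648)))) (.node (.node
    (.leaf (nat_lit 75276545)) (.leaf (nat_lit 171086336))) (.leaf (nat_lit 118121733)))))) (.node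
    (.node (.node (.node (.node (.leaf (nat_lit 3676170)) (.leaf (nat_lit 174496267))) (.node
    (.leaf (nat_lit 85807883)) (.leaf (nat_lit 89056512)))) (.node (.node (.leaf (nat_lit
    48786954)) (.leaf (nat_lit 227188738))) (.leaf (nat_lit 88211205)))) (.node (.node (.node
    (.leaf (nat_lit 15493123)) (.leaf (nat_lit 200473867))) (.node (.leaf (nat_lit 105753859))
    (.leaf (nat_lit 33183488)))) (.node (.node (.leaf (nat_lit 42010369)) (.leaf (nat_lit
    218318080))) (.leaf (nat_lit 156336131))))) (.node (.node (.node (.node (.leaf (nat_lit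
    9453575)) (.leaf (nat_lit 143313929))) (.node (.leaf (nat_lit 99937545)) (.leaf (nat_lit
    80064512)))) (.node (.node (.leaf (nat_lit 35970825)) (.leaf (nat_lit 239045897))) (.leaf
    (nat_lit 95561738)))) (.node (.node (.node (.leaf (nat_lit 36736012)) (.leaf (nat_lit
    213023242))) (.node (.leaf (nat_lit 110481410)) (.leaf (nat_lit 4202240)))) (.node (.node
    (.leaf (nat_lit 73478150)) (.leaf (nat_lit 79286016))) (.leaf (nat_lit 127038465))))))))))
    (.node (.node (.node (.node (.node (.node (.node (.node (.node (.leaf (nat_lit 11)) (.leaf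
    (nat_lit 165295873))) (.node (.leaf (nat_lit 54080002)) (.leaf (nat_lit 143881984)))) (.node
    (.node (.leaf (nat_lit 25202697)) (.leaf (nat_lit 214119179))) (.node (.leaf (nat_lit
    123287299)) (.leaf (nat_lit 2100480))))) (.node (.node (.node (.leaf (nat_lit 14173441)) (.leaf
    (nat_lit 189138692))) (.node (.leaf (nat_lit 63275269)) (.leaf (nat_lit 28605184)))) (.node
    (.node (.leaf (nat_lit 59542275)) (.leaf (nat_lit 203394567))) (.leaf (nat_lit 145632521)))))
    (.node (.node (.node (.node (.leaf (nat_lit 6560779)) (.leaf (nat_lit 123904006))) (.node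
    (.leaf (nat_lit 55399941)) (.leaf (nat_lit 91372800)))) (.node (.node (.leaf (nat_lit
    37797125)) (.leaf (nat_lit 206005509))) (.leaf (nat_lit 87425542)))) (.node (.node (.node
    (.leaf (nat_lit 15494148)) (.leaf (nat_lit 199426306))) (.node (.leaf (nat_lit 86355970))
    (.leaf (nat_lit 23827968)))) (.node (.node (.leaf (nat_lit 70031624)) (.leaf (nat_lit
    229092352))) (.leaf (nat_lit 138827271)))))) (.node (.node (.node (.node (.node (.leaf (nat_lit
    3671555)) (.leaf (nat_lit 170509575))) (.node (.leaf (nat_lit 83968779)) (.leaf (nat_lit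
    78984192)))) (.node (.node (.leaf (nat_lit 43277569)) (.leaf (nat_lit 222464772))) (.leaf
    (nat_lit 129582084)))) (.node (.node (.node (.leaf (nat_lit 18109957)) (.leaf (nat_lit
    194908930))) (.node (.leaf (nat_lit 108333063)) (.leaf (nat_lit 34309376)))) (.node (.node
    (.leaf (nat_lit 64787458)) (.leaf (nat_lit 243997188))) (.leaf (nat_lit 151352585))))) (.node
    (.node (.node (.node (.leaf (nat_lit 6565382)) (.leaf (nat_lit 182842114))) (.node (.leaf
    (nat_lit 95248137)) (.leaf (nat_lit 53111552)))) (.node (.node (.leaf (nat_lit 53793035))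
    (.leaf (nat_lit 234276616))) (.leaf (nat_lit 90577414)))) (.node (.node (.node (.leaf (nat_lit
    33062667)) (.leaf (nat_lit 208037634))) (.node (.leaf (nat_lit 117555468)) (.leaf (nat_lit
    10157568)))) (.node (.node (.leaf (nat_lit 73474313)) (.leaf (nat_lit 213359360))) (.leaf
    (nat_lit 118908675))))))) (.node (.node (.node (.node (.node (.node (.leaf (nat_lit 1312261))
    (.leaf (nat_lit 120225546))) (.node (.leaf (nat_lit 82131468)) (.leaf (nat_lit 129633280))))
    (.node (.node (.leaf (nat_lit 23631878)) (.leaf (nat_lit 206520577))) (.leaf (nat_lit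
    91349512)))) (.node (.node (.node (.leaf (nat_lit 20458249)) (.leaf (nat_lit 162192390)))
    (.node (.leaf (nat_lit 104923143)) (.leaf (nat_lit 55439616)))) (.node (.node (.leaf (nat_lit
    38857735)) (.leaf (nat_lit 241108738))) (.leaf (nat_lit 149254915))))) (.node (.node (.node
    (.node (.leaf (nat_lit 7349766)) (.leaf (nat_lit 179955202))) (.node (.leaf (nat_lit 92593410))
    (.leaf (nat_lit 67543296)))) (.node (.node (.leaf (nat_lit 52459011)) (.leaf (nat_lit
    224620554))) (.leaf (nat_lit 88739589)))) (.node (.node (.node (.leaf (nat_lit 30948098))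
    (.leaf (nat_lit 160370181))) (.node (.leaf (nat_lit 97105669)) (.leaf (nat_lit 18650368))))
    (.node (.node (.leaf (nat_lit 43587079)) (.leaf (nat_lit 169023491))) (.leaf (nat_lit
    159489289)))))) (.node (.node (.node (.node (.node (.leaf (nat_lit 2364423)) (.leaf (nat_lit
    159028231))) (.node (.leaf (nat_lit 87346697)) (.leaf (nat_lit 118700544)))) (.node (.node
    (.leaf (nat_lit 31240969)) (.leaf (nat_lit 175593990))) (.leaf (nat_lit 100268289)))) (.node
    (.node (.node (.leaf (nat_lit 23880203)) (.leaf (nat_lit 198327041))) (.node (.leaf (nat_lit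
    77702919)) (.leaf (nat_lit 39380992)))) (.node (.node (.leaf (nat_lit 40435973)) (.leaf
    (nat_lit 247673095))) (.leaf (nat_lit 154246659))))) (.node (.node (.node (.node (.leaf
    (nat_lit 11548679)) (.leaf (nat_lit 185990921))) (.node (.leaf (nat_lit 64582919)) (.leaf
    (nat_lit 62850304)))) (.node (.node (.leaf (nat_lit 56416523)) (.leaf (nat_lit 190548489)))
    (.leaf (nat_lit 143218945)))) (.node (.node (.node (.leaf (nat_lit 35161867)) (.leaf (nat_lit
    211185416))) (.node (.leaf (nat_lit 80595720)) (.leaf (nat_lit 6109952)))) (.node (.node (.leaf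
    (nat_lit 48835073)) (.leaf (nat_lit 113209088))) (.leaf (nat_lit 142766083)))))))) (.node
    (.node (.node (.node (.node (.node (.node (.leaf (nat_lit 787203)) (.leaf (nat_lit 161118980)))
    (.node (.leaf (nat_lit 61682949)) (.leaf (nat_lit 77217792)))) (.node (.node (.leaf (nat_lit
    24941578)) (.leaf (nat_lit 191052297))) (.leaf (nat_lit 124860675)))) (.node (.node (.node
    (.leaf (nat_lit 19408644)) (.leaf (nat_lit 185522177))) (.node (.leaf (nat_lit 102562307))
    (.leaf (nat_lit 43583488)))) (.node (.node (.leaf (nat_lit 37808134)) (.leaf (nat_lit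
    210700551))) (.leaf (nat_lit 147681034))))) (.node (.node (.node (.node (.leaf (nat_lit
    5251585)) (.leaf (nat_lit 178118409))) (.node (.leaf (nat_lit 91023875)) (.leaf (nat_lit
    56197632)))) (.node (.node (.leaf (nat_lit 30458631)) (.leaf (nat_lit 217017098))) (.leaf
    (nat_lit 136448523)))) (.node (.node (.node (.leaf (nat_lit 29636865)) (.leaf (nat_lit
    175048452))) (.node (.leaf (nat_lit 75084806)) (.leaf (nat_lit 39384576)))) (.node (.node
    (.leaf (nat_lit 71373324)) (.leaf (nat_lit 242198272))) (.leaf (nat_lit 106060806)))))) (.node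
    (.node (.node (.node (.node (.leaf (nat_lit 4196105)) (.leaf (nat_lit 120753930))) (.node
    (.leaf (nat_lit 86035715)) (.leaf (nat_lit 80293379)))) (.node (.node (.leaf (nat_lit
    45114889)) (.leaf (nat_lit 223776514))) (.leaf (nat_lit 131155466)))) (.node (.node (.node
    (.leaf (nat_lit 23616780)) (.leaf (nat_lit 184740870))) (.node (.leaf (nat_lit 109382147))
    (.leaf (nat_lit 33225472)))) (.node (.node (.leaf (nat_lit 51969033)) (.leaf (nat_lit
    215197441))) (.leaf (nat_lit 152663817))))) (.node (.node (.node (.node (.leaf (nat_lit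
    13374984)) (.leaf (nat_lit 132300294))) (.node (.leaf (nat_lit 63795208)) (.leaf (nat_lit
    54600704)))) (.node (.node (.leaf (nat_lit 55869450)) (.leaf (nat_lit 213877506))) (.leaf
    (nat_lit 142169857)))) (.node (.node (.node (.leaf (nat_lit 33063436)) (.leaf (nat_lit
    209349121))) (.node (.leaf (nat_lit 102614792)) (.leaf (nat_lit 26529024)))) (.node (.node
    (.leaf (nat_lit 63513858)) (.leaf (nat_lit 109187328))) (.leaf (nat_lit 161114636))))))) (.node
    (.node (.node (.node (.node (.node (.leaf (nat_lit 1837573)) (.leaf (nat_lit 168198917)))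
    (.node (.leaf (nat_lit 83937794)) (.leaf (nat_lit 118345216)))) (.node (.node (.leaf (nat_lit
    41721868)) (.leaf (nat_lit 186337538))) (.leaf (nat_lit 128270857)))) (.node (.node (.node
    (.leaf (nat_lit 21517058)) (.leaf (nat_lit 193597705))) (.node (.leaf (nat_lit 106759175))
    (.leaf (nat_lit 55441408)))) (.node (.node (.leaf (nat_lit 42267139)) (.leaf (nat_lit
    242422792))) (.leaf (nat_lit 150347272))))) (.node (.node (.node (.node (.leaf (nat_lit
    11014916)) (.leaf (nat_lit 181266945))) (.node (.leaf (nat_lit 59074053)) (.leaf (nat_lit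
    61776384)))) (.node (.node (.leaf (nat_lit 48810757)) (.leaf (nat_lit 182941189))) (.leaf
    (nat_lit 139546881)))) (.node (.node (.node (.leaf (nat_lit 25459205)) (.leaf (nat_lit
    206464265))) (.node (.leaf (nat_lit 112311563)) (.leaf (nat_lit 9717504)))) (.node (.node
    (.leaf (nat_lit 74752003)) (.leaf (nat_lit 166663168))) (.leaf (nat_lit 124150788)))))) (.node
    (.node (.node (.node (.node (.leaf (nat_lit 5773059)) (.leaf (nat_lit 146970629))) (.node
    (.leaf (nat_lit 87380492)) (.leaf (nat_lit 53597952)))) (.node (.node (.leaf (nat_lit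
    32553225)) (.leaf (nat_lit 201285633))) (.leaf (nat_lit 87948805)))) (.node (.node (.node
    (.leaf (nat_lit 15230724)) (.leaf (nat_lit 200427009))) (.node (.leaf (nat_lit 105491459))
    (.leaf (nat_lit 41483264)))) (.node (.node (.leaf (nat_lit 68720647)) (.leaf (nat_lit
    219657216))) (.leaf (nat_lit 135680519))))) (.node (.node (.node (.node (.leaf (nat_lit
    16260611)) (.leaf (nat_lit 187353867))) (.node (.leaf (nat_lit 99675396)) (.leaf (nat_lit
    41197824)))) (.node (.node (.leaf (nat_lit 58230793)) (.leaf (nat_lit 230919684))) (.leaf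
    (nat_lit 144530954)))) (.node (.node (.node (.leaf (nat_lit 36211461)) (.leaf (nat_lit
    212761097))) (.node (.leaf (nat_lit 118083339)) (.leaf (nat_lit 4488704)))) (.node (.node
    (.leaf (nat_lit 79245068)) (.leaf (nat_lit 114945792))) (.leaf (nat_lit 121533446)))))))))
    (.node (.node (.node (.node (.node (.node (.node (.node (.leaf (nat_lit 524545)) (.leaf
    (nat_lit 165574919))) (.node (.leaf (nat_lit 80787969)) (.leaf (nat_lit 120251904)))) (.node
    (.node (.leaf (nat_lit 38295043)) (.leaf (nat_lit 215645698))) (.node (.leaf (nat_lit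
    124073738)) (.leaf (nat_lit 1836554))))) (.node (.node (.node (.leaf (nat_lit 15746818)) (.leaf
    (nat_lit 182375682))) (.node (.leaf (nat_lit 88179463)) (.leaf (nat_lit 43614464)))) (.node
    (.node (.leaf (nat_lit 60329473)) (.leaf (nat_lit 205225992))) (.leaf (nat_lit 146894595)))))
    (.node (.node (.node (.node (.leaf (nat_lit 8392706)) (.leaf (nat_lit 176071436))) (.node
    (.leaf (nat_lit 90493699)) (.leaf (nat_lit 28768512)))) (.node (.node (.leaf (nat_lit
    50360842)) (.leaf (nat_lit 209414154))) (.leaf (nat_lit 126223619)))) (.node (.node (.node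
    (.leaf (nat_lit 20213255)) (.leaf (nat_lit 201262348))) (.node (.leaf (nat_lit 77443592))
    (.leaf (nat_lit 39255808)))) (.node (.node (.leaf (nat_lit 55643393)) (.leaf (nat_lit
    244557056))) (.leaf (nat_lit 130701576)))))) (.node (.node (.node (.node (.node (.leaf (nat_lit
    3673860)) (.leaf (nat_lit 119704582))) (.node (.leaf (nat_lit 55657736)) (.leaf (nat_lit
    48309760)))) (.node (.node (.leaf (nat_lit 44326916)) (.leaf (nat_lit 223251969))) (.leaf
    (nat_lit 86896901)))) (.node (.node (.node (.leaf (nat_lit 13392394)) (.leaf (nat_lit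
    183429378))) (.node (.leaf (nat_lit 78225159)) (.leaf (nat_lit 33063168)))) (.node (.node
    (.leaf (nat_lit 56424708)) (.leaf (nat_lit 233546762))) (.leaf (nat_lit 99762949))))) (.node
    (.node (.node (.node (.leaf (nat_lit 7090177)) (.leaf (nat_lit 183417867))) (.node (.leaf
    (nat_lit 96003592)) (.leaf (nat_lit 33869056)))) (.node (.node (.leaf (nat_lit 55104268))
    (.leaf (nat_lit 233799689))) (.leaf (nat_lit 140647429)))) (.node (.node (.node (.leaf (nat_lit
    33834505)) (.leaf (nat_lit 206773004))) (.node (.leaf (nat_lit 118566409)) (.leaf (nat_lit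
    9799680)))) (.node (.node (.leaf (nat_lit 70591241)) (.leaf (nat_lit 216244992))) (.leaf
    (nat_lit 161606913))))))) (.node (.node (.node (.node (.node (.node (.leaf (nat_lit 1837067))
    (.leaf (nat_lit 168149514))) (.node (.leaf (nat_lit 51723528)) (.leaf (nat_lit 85908224))))
    (.node (.node (.leaf (nat_lit 40148235)) (.leaf (nat_lit 219579908))) (.leaf (nat_lit
    127222025)))) (.node (.node (.node (.leaf (nat_lit 17584133)) (.leaf (nat_lit 192810498)))
    (.node (.leaf (nat_lit 67736070)) (.leaf (nat_lit 85637888)))) (.node (.node (.leaf (nat_lit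
    61665035)) (.leaf (nat_lit 241898248))) (.leaf (nat_lit 142227976))))) (.node (.node (.node
    (.node (.leaf (nat_lit 4990984)) (.leaf (nat_lit 128364549))) (.node (.leaf (nat_lit 58548999))
    (.leaf (nat_lit 57040896)))) (.node (.node (.leaf (nat_lit 33081861)) (.leaf (nat_lit
    231660289))) (.leaf (nat_lit 135401740)))) (.node (.node (.node (.leaf (nat_lit 16283654))
    (.leaf (nat_lit 202051333))) (.node (.leaf (nat_lit 108116482)) (.leaf (nat_lit 9979136))))
    (.node (.node (.leaf (nat_lit 73702916)) (.leaf (nat_lit 234065920))) (.leaf (nat_lit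
    154821125)))))) (.node (.node (.node (.node (.node (.leaf (nat_lit 3937802)) (.leaf (nat_lit
    122328582))) (.node (.leaf (nat_lit 88133380)) (.leaf (nat_lit 130151424)))) (.node (.node
    (.leaf (nat_lit 33863430)) (.leaf (nat_lit 225876993))) (.leaf (nat_lit 130677509)))) (.node
    (.node (.node (.leaf (nat_lit 21259527)) (.leaf (nat_lit 152762371))) (.node (.leaf (nat_lit
    111742724)) (.leaf (nat_lit 26251008)))) (.node (.node (.leaf (nat_lit 66126853)) (.leaf
    (nat_lit 248467463))) (.leaf (nat_lit 148262662))))) (.node (.node (.node (.node (.leaf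
    (nat_lit 15219467)) (.leaf (nat_lit 161138437))) (.node (.leaf (nat_lit 98364419)) (.leaf
    (nat_lit 66441728)))) (.node (.node (.leaf (nat_lit 35445770)) (.leaf (nat_lit 231443717)))
    (.leaf (nat_lit 143743489)))) (.node (.node (.node (.leaf (nat_lit 35686668)) (.leaf (nat_lit
    211709962))) (.node (.leaf (nat_lit 104713223)) (.leaf (nat_lit 6108928)))) (.node (.node
    (.leaf (nat_lit 70593797)) (.leaf (nat_lit 192099840))) (.leaf (nat_lit 114717194))))))))
    (.node (.node (.node (.node (.node (.node (.node (.leaf (nat_lit 1311239)) (.leaf (nat_lit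
    166362380))) (.node (.leaf (nat_lit 62207746)) (.leaf (nat_lit 120811776)))) (.node (.node
    (.leaf (nat_lit 39097867)) (.leaf (nat_lit 170081542))) (.leaf (nat_lit 83746824)))) (.node
    (.node (.node (.leaf (nat_lit 10505226)) (.leaf (nat_lit 187095564))) (.node (.leaf (nat_lit
    66947846)) (.leaf (nat_lit 54084608)))) (.node (.node (.leaf (nat_lit 38070533)) (.leaf
    (nat_lit 240082442))) (.leaf (nat_lit 121517575))))) (.node (.node (.node (.node (.leaf
    (nat_lit 8135692)) (.leaf (nat_lit 178906121))) (.node (.leaf (nat_lit 91806210)) (.leaf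
    (nat_lit 90357760)))) (.node (.node (.leaf (nat_lit 50644236)) (.leaf (nat_lit 230369539)))
    (.leaf (nat_lit 120720645)))) (.node (.node (.node (.leaf (nat_lit 30161161)) (.leaf (nat_lit
    204147468))) (.node (.leaf (nat_lit 76658184)) (.leaf (nat_lit 18808576)))) (.node (.node
    (.leaf (nat_lit 72398849)) (.leaf (nat_lit 214134794))) (.leaf (nat_lit 107634179)))))) (.node
    (.node (.node (.node (.node (.leaf (nat_lit 4720897)) (.leaf (nat_lit 172134923))) (.node
    (.leaf (nat_lit 56707592)) (.leaf (nat_lit 79105792)))) (.node (.node (.leaf (nat_lit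
    45901570)) (.leaf (nat_lit 224563715))) (.leaf (nat_lit 88208902)))) (.node (.node (.node
    (.leaf (nat_lit 18898945)) (.leaf (nat_lit 197538057))) (.node (.leaf (nat_lit 72197126))
    (.leaf (nat_lit 33082624)))) (.node (.node (.leaf (nat_lit 66885128)) (.leaf (nat_lit
    246361865))) (.leaf (nat_lit 122571014))))) (.node (.node (.node (.node (.leaf (nat_lit
    9975042)) (.leaf (nat_lit 142000649))) (.node (.leaf (nat_lit 63533576)) (.leaf (nat_lit
    34022656)))) (.node (.node (.leaf (nat_lit 54842892)) (.leaf (nat_lit 194217735))) (.leaf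
    (nat_lit 142694401)))) (.node (.node (.node (.leaf (nat_lit 34883850)) (.leaf (nat_lit
    164307208))) (.node (.leaf (nat_lit 118606092)) (.leaf (nat_lit 9227264)))) (.node (.node
    (.leaf (nat_lit 54601734)) (.leaf (nat_lit 167208704))) (.leaf (nat_lit 162688263))))))) (.node
    (.node (.node (.node (.node (.node (.leaf (nat_lit 1575945)) (.leaf (nat_lit 119965191)))
    (.node (.leaf (nat_lit 84462088)) (.leaf (nat_lit 76665600)))) (.node (.node (.leaf (nat_lit
    39100940)) (.leaf (nat_lit 172182536))) (.leaf (nat_lit 126479115)))) (.node (.node (.node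
    (.leaf (nat_lit 12342533)) (.leaf (nat_lit 194122241))) (.node (.leaf (nat_lit 68786438))
    (.leaf (nat_lit 85283584)))) (.node (.node (.leaf (nat_lit 62714892)) (.leaf (nat_lit
    220438023))) (.leaf (nat_lit 150842375))))) (.node (.node (.node (.node (.leaf (nat_lit
    11283467)) (.leaf (nat_lit 141211145))) (.node (.leaf (nat_lit 94200586)) (.leaf (nat_lit
    126793472)))) (.node (.node (.leaf (nat_lit 34131463)) (.leaf (nat_lit 232968449))) (.leaf
    (nat_lit 90052613)))) (.node (.node (.node (.leaf (nat_lit 28867844)) (.leaf (nat_lit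
    186323974))) (.node (.leaf (nat_lit 117517575)) (.leaf (nat_lit 28766464)))) (.node (.node
    (.leaf (nat_lit 75287556)) (.leaf (nat_lit 138899456))) (.leaf (nat_lit 160849671)))))) (.node
    (.node (.node (.node (.node (.leaf (nat_lit 5773324)) (.leaf (nat_lit 122854149))) (.node
    (.leaf (nat_lit 85545995)) (.leaf (nat_lit 86667520)))) (.node (.node (.leaf (nat_lit
    48019980)) (.leaf (nat_lit 177431302))) (.leaf (nat_lit 121241606)))) (.node (.node (.node
    (.leaf (nat_lit 27548417)) (.leaf (nat_lit 157482506))) (.node (.leaf (nat_lit 113054727))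
    (.leaf (nat_lit 61672192)))) (.node (.node (.leaf (nat_lit 51709961)) (.leaf (nat_lit
    214128640))) (.leaf (nat_lit 156373255))))) (.node (.node (.node (.node (.leaf (nat_lit
    17309703)) (.leaf (nat_lit 166644998))) (.node (.leaf (nat_lit 97615371)) (.leaf (nat_lit
    79245568)))) (.node (.node (.leaf (nat_lit 59017737)) (.leaf (nat_lit 239791626))) (.leaf
    (nat_lit 145318407)))) (.node (.node (.node (.leaf (nat_lit 37260812)) (.leaf (nat_lit
    213809927))) (.node (.leaf (nat_lit 108646662)) (.leaf (nat_lit 4247552)))) (.node (.node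
    (.leaf (nat_lit 68497412)) (.leaf (nat_lit 80901632))) (.leaf (nat_lit 165049095)))))))))))
    (.node (.node (.node (.node (.node (.node (.node (.node (.node (.node (.leaf (nat_lit 5))
    (.leaf (nat_lit 164525575))) (.node (.leaf (nat_lit 48574984)) (.leaf (nat_lit 161433856))))
    (.node (.node (.leaf (nat_lit 23891713)) (.leaf (nat_lit 214596610))) (.node (.leaf (nat_lit
    123024906)) (.leaf (nat_lit 1062912))))) (.node (.node (.node (.leaf (nat_lit 10765575)) (.leaf
    (nat_lit 182636549))) (.node (.leaf (nat_lit 100986632)) (.leaf (nat_lit 87085830)))) (.node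
    (.node (.leaf (nat_lit 59040260)) (.leaf (nat_lit 204436224))) (.leaf (nat_lit 145370121)))))
    (.node (.node (.node (.node (.leaf (nat_lit 7084812)) (.leaf (nat_lit 175546123))) (.node
    (.leaf (nat_lit 89706760)) (.leaf (nat_lit 56720384)))) (.node (.node (.leaf (nat_lit
    47758339)) (.leaf (nat_lit 205218817))) (.leaf (nat_lit 114950404)))) (.node (.node (.node
    (.leaf (nat_lit 15231747)) (.leaf (nat_lit 201738756))) (.node (.leaf (nat_lit 77180936))
    (.leaf (nat_lit 28601856)))) (.node (.node (.leaf (nat_lit 69769479)) (.leaf (nat_lit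
    169291524))) (.leaf (nat_lit 101602821)))))) (.node (.node (.node (.node (.node (.leaf (nat_lit
    2362627)) (.leaf (nat_lit 170247426))) (.node (.leaf (nat_lit 54870790)) (.leaf (nat_lit
    68570112)))) (.node (.node (.leaf (nat_lit 24683526)) (.leaf (nat_lit 221728524))) (.leaf
    (nat_lit 128052491)))) (.node (.node (.node (.leaf (nat_lit 14439937)) (.leaf (nat_lit
    194646785))) (.node (.leaf (nat_lit 107808260)) (.leaf (nat_lit 54317568)))) (.node (.node
    (.leaf (nat_lit 61666828)) (.leaf (nat_lit 243734531))) (.leaf (nat_lit 147210241))))) (.node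
    (.node (.node (.node (.leaf (nat_lit 10759681)) (.leaf (nat_lit 181843717))) (.node (.leaf
    (nat_lit 94989068)) (.leaf (nat_lit 48116992)))) (.node (.node (.leaf (nat_lit 54820610))
    (.leaf (nat_lit 234014216))) (.leaf (nat_lit 119412994)))) (.node (.node (.node (.leaf (nat_lit
    33309962)) (.leaf (nat_lit 207775240))) (.node (.leaf (nat_lit 117779720)) (.leaf (nat_lit
    8415488)))) (.node (.node (.leaf (nat_lit 43327749)) (.leaf (nat_lit 161139712))) (.leaf
    (nat_lit 113403658))))))) (.node (.node (.node (.node (.node (.node (.leaf (nat_lit 1312268))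
    (.leaf (nat_lit 166886924))) (.node (.leaf (nat_lit 81606923)) (.leaf (nat_lit 88256768))))
    (.node (.node (.leaf (nat_lit 25991178)) (.leaf (nat_lit 172965895))) (.leaf (nat_lit
    86368513)))) (.node (.node (.node (.leaf (nat_lit 19156235)) (.leaf (nat_lit 192023817)))
    (.node (.leaf (nat_lit 104398340)) (.leaf (nat_lit 48072960)))) (.node (.node (.leaf (nat_lit
    54586122)) (.leaf (nat_lit 240845826))) (.leaf (nat_lit 148781060))))) (.node (.node (.node
    (.node (.leaf (nat_lit 9966084)) (.leaf (nat_lit 179472649))) (.node (.leaf (nat_lit 57761800))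
    (.leaf (nat_lit 33492992)))) (.node (.node (.leaf (nat_lit 47499013)) (.leaf (nat_lit
    230863106))) (.leaf (nat_lit 88477190)))) (.node (.node (.node (.leaf (nat_lit 30176268))
    (.leaf (nat_lit 205152777))) (.node (.leaf (nat_lit 76920584)) (.leaf (nat_lit 10968064))))
    (.node (.node (.leaf (nat_lit 49878274)) (.leaf (nat_lit 194223872))) (.leaf (nat_lit
    147218178)))))) (.node (.node (.node (.node (.node (.leaf (nat_lit 4985354)) (.leaf (nat_lit
    173132291))) (.node (.leaf (nat_lit 87084548)) (.leaf (nat_lit 48826624)))) (.node (.node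
    (.leaf (nat_lit 28357125)) (.leaf (nat_lit 194730250))) (.leaf (nat_lit 88733700)))) (.node
    (.node (.node (.leaf (nat_lit 23093511)) (.leaf (nat_lit 198063369))) (.node (.leaf (nat_lit
    96577029)) (.leaf (nat_lit 43896832)))) (.node (.node (.leaf (nat_lit 67163651)) (.leaf
    (nat_lit 247410698))) (.leaf (nat_lit 123358214))))) (.node (.node (.node (.node (.leaf
    (nat_lit 14686979)) (.leaf (nat_lit 133612294))) (.node (.leaf (nat_lit 62223366)) (.leaf
    (nat_lit 66492160)))) (.node (.node (.leaf (nat_lit 47503369)) (.leaf (nat_lit 190810378)))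
    (.leaf (nat_lit 137765131)))) (.node (.node (.node (.leaf (nat_lit 35408903)) (.leaf (nat_lit
    164045831))) (.node (.leaf (nat_lit 117819915)) (.leaf (nat_lit 7452416)))) (.node (.node
    (.leaf (nat_lit 77933060)) (.leaf (nat_lit 213351680))) (.leaf (nat_lit 163213067))))))))
    (.node (.node (.node (.node (.node (.node (.node (.leaf (nat_lit 787211)) (.leaf (nat_lit
    120486665))) (.node (.leaf (nat_lit 69285122)) (.leaf (nat_lit 86595328)))) (.node (.node
    (.leaf (nat_lit 38048524)) (.leaf (nat_lit 169294086))) (.leaf (nat_lit 101047041)))) (.node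
    (.node (.node (.leaf (nat_lit 18106379)) (.leaf (nat_lit 190974467))) (.node (.leaf (nat_lit
    102299912)) (.leaf (nat_lit 43849984)))) (.node (.node (.leaf (nat_lit 60854025)) (.leaf
    (nat_lit 226174983))) (.leaf (nat_lit 147177992))))) (.node (.node (.node (.node (.leaf
    (nat_lit 5251330)) (.leaf (nat_lit 132556291))) (.node (.leaf (nat_lit 84761356)) (.leaf
    (nat_lit 32700928)))) (.node (.node (.leaf (nat_lit 45924867)) (.leaf (nat_lit 229551107)))
    (.leaf (nat_lit 136186123)))) (.node (.node (.node (.leaf (nat_lit 29374474)) (.leaf (nat_lit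
    159581957))) (.node (.leaf (nat_lit 104444674)) (.leaf (nat_lit 39121920)))) (.node (.node
    (.leaf (nat_lit 71604996)) (.leaf (nat_lit 244295168))) (.leaf (nat_lit 103439109)))))) (.node
    (.node (.node (.node (.node (.leaf (nat_lit 2625288)) (.leaf (nat_lit 168726028))) (.node
    (.leaf (nat_lit 56968968)) (.leaf (nat_lit 131249664)))) (.node (.node (.leaf (nat_lit
    44852490)) (.leaf (nat_lit 217273356))) (.leaf (nat_lit 127005186)))) (.node (.node (.node
    (.leaf (nat_lit 23092236)) (.leaf (nat_lit 195226379))) (.node (.leaf (nat_lit 89497601))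
    (.leaf (nat_lit 33235200)))) (.node (.node (.leaf (nat_lit 66098689)) (.leaf (nat_lit
    245312520))) (.leaf (nat_lit 122307845))))) (.node (.node (.node (.node (.leaf (nat_lit
    6304263)) (.leaf (nat_lit 140688906))) (.node (.leaf (nat_lit 81358593)) (.leaf (nat_lit
    54645504)))) (.node (.node (.leaf (nat_lit 49599492)) (.leaf (nat_lit 207323652))) (.leaf
    (nat_lit 133045515)))) (.node (.node (.node (.leaf (nat_lit 33849867)) (.leaf (nat_lit
    209086721))) (.node (.leaf (nat_lit 119353092)) (.leaf (nat_lit 8134656)))) (.node (.node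
    (.leaf (nat_lit 64038150)) (.leaf (nat_lit 113469952))) (.leaf (nat_lit 161901067))))))) (.node
    (.node (.node (.node (.node (.node (.leaf (nat_lit 2361611)) (.leaf (nat_lit 168674058)))
    (.node (.leaf (nat_lit 51461897)) (.leaf (nat_lit 129678848)))) (.node (.node (.leaf (nat_lit
    24420103)) (.leaf (nat_lit 219629580))) (.leaf (nat_lit 127789060)))) (.node (.node (.node
    (.leaf (nat_lit 21516811)) (.leaf (nat_lit 178446597))) (.node (.leaf (nat_lit 106009860))
    (.leaf (nat_lit 55398912)))) (.node (.node (.leaf (nat_lit 63476233)) (.leaf (nat_lit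
    232758025))) (.leaf (nat_lit 99761414))))) (.node (.node (.node (.node (.leaf (nat_lit
    8136969)) (.leaf (nat_lit 172143114))) (.node (.leaf (nat_lit 60384522)) (.leaf (nat_lit
    48544256)))) (.node (.node (.leaf (nat_lit 43043587)) (.leaf (nat_lit 232437250))) (.leaf
    (nat_lit 139072267)))) (.node (.node (.node (.leaf (nat_lit 26245377)) (.leaf (nat_lit
    205984258))) (.node (.leaf (nat_lit 103922691)) (.leaf (nat_lit 10105856)))) (.node (.node
    (.leaf (nat_lit 42015493)) (.leaf (nat_lit 193952770))) (.leaf (nat_lit 160538122)))))) (.node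
    (.node (.node (.node (.node (.leaf (nat_lit 5510918)) (.leaf (nat_lit 174182914))) (.node
    (.leaf (nat_lit 55136778)) (.leaf (nat_lit 129627904)))) (.node (.node (.leaf (nat_lit
    34125829)) (.leaf (nat_lit 226663940))) (.leaf (nat_lit 87686404)))) (.node (.node (.node
    (.leaf (nat_lit 27014665)) (.leaf (nat_lit 200164617))) (.node (.leaf (nat_lit 112267522))
    (.leaf (nat_lit 66649856)))) (.node (.node (.leaf (nat_lit 66389253)) (.leaf (nat_lit
    219919622))) (.leaf (nat_lit 101339653))))) (.node (.node (.node (.node (.leaf (nat_lit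
    7879942)) (.leaf (nat_lit 187564801))) (.node (.leaf (nat_lit 99413251)) (.leaf (nat_lit
    89240832)))) (.node (.node (.leaf (nat_lit 36756744)) (.leaf (nat_lit 212045317))) (.leaf
    (nat_lit 134620427)))) (.node (.node (.node (.leaf (nat_lit 36459016)) (.leaf (nat_lit
    212496898))) (.node (.leaf (nat_lit 121451012)) (.leaf (nat_lit 2130944)))) (.node (.node
    (.leaf (nat_lit 79476488)) (.leaf (nat_lit 143824128))) (.leaf (nat_lit 131756801)))))))))
    (.node (.node (.node (.node (.node (.node (.node (.node (.leaf (nat_lit 262412)) (.leaf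
    (nat_lit 166049539))) (.node (.leaf (nat_lit 80555273)) (.leaf (nat_lit 120017408)))) (.node
    (.node (.leaf (nat_lit 23630083)) (.leaf (nat_lit 171652356))) (.node (.leaf (nat_lit
    123811593)) (.leaf (nat_lit 3673866))))) (.node (.node (.node (.leaf (nat_lit 18621959)) (.leaf
    (nat_lit 189925380))) (.node (.leaf (nat_lit 101511427)) (.leaf (nat_lit 39119104)))) (.node
    (.node (.leaf (nat_lit 37283077)) (.leaf (nat_lit 238489096))) (.leaf (nat_lit 96087817)))))
    (.node (.node (.node (.node (.leaf (nat_lit 8130561)) (.leaf (nat_lit 175022604))) (.node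
    (.leaf (nat_lit 71391240)) (.leaf (nat_lit 48644864)))) (.node (.node (.leaf (nat_lit
    50098697)) (.leaf (nat_lit 228531722))) (.leaf (nat_lit 135613442)))) (.node (.node (.node
    (.leaf (nat_lit 28601858)) (.leaf (nat_lit 202526217))) (.node (.leaf (nat_lit 108638475))
    (.leaf (nat_lit 23635200)))) (.node (.node (.leaf (nat_lit 70323460)) (.leaf (nat_lit
    230927872))) (.leaf (nat_lit 153245707)))))) (.node (.node (.node (.node (.node (.leaf (nat_lit
    3671809)) (.leaf (nat_lit 171034121))) (.node (.leaf (nat_lit 84493323)) (.leaf (nat_lit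
    56960000)))) (.node (.node (.leaf (nat_lit 44064258)) (.leaf (nat_lit 195252746))) (.leaf
    (nat_lit 129888260)))) (.node (.node (.node (.leaf (nat_lit 23342857)) (.leaf (nat_lit
    195433476))) (.node (.leaf (nat_lit 81632774)) (.leaf (nat_lit 54423808)))) (.node (.node
    (.leaf (nat_lit 65312002)) (.leaf (nat_lit 224633858))) (.leaf (nat_lit 151667460))))) (.node
    (.node (.node (.node (.leaf (nat_lit 6041608)) (.leaf (nat_lit 183629066))) (.node (.leaf
    (nat_lit 95741447)) (.leaf (nat_lit 33975296)))) (.node (.node (.leaf (nat_lit 55344904))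
    (.leaf (nat_lit 234585868))) (.leaf (nat_lit 118364929)))) (.node (.node (.node (.leaf (nat_lit
    26771458)) (.leaf (nat_lit 171121411))) (.node (.leaf (nat_lit 118304260)) (.leaf (nat_lit
    6044672)))) (.node (.node (.leaf (nat_lit 43852550)) (.leaf (nat_lit 162194176))) (.leaf
    (nat_lit 140666881))))))) (.node (.node (.node (.node (.node (.node (.leaf (nat_lit 1837060))
    (.leaf (nat_lit 121536521))) (.node (.leaf (nat_lit 54606851)) (.leaf (nat_lit 109993472))))
    (.node (.node (.leaf (nat_lit 40672268)) (.leaf (nat_lit 169558790))) (.leaf (nat_lit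
    124904456)))) (.node (.node (.node (.leaf (nat_lit 20467468)) (.leaf (nat_lit 192548353)))
    (.node (.leaf (nat_lit 105447687)) (.leaf (nat_lit 85570816)))) (.node (.node (.leaf (nat_lit
    62689538)) (.leaf (nat_lit 228301057))) (.leaf (nat_lit 98712069))))) (.node (.node (.node
    (.node (.leaf (nat_lit 5252869)) (.leaf (nat_lit 129413129))) (.node (.leaf (nat_lit 92858121))
    (.leaf (nat_lit 70106368)))) (.node (.node (.leaf (nat_lit 52985097)) (.leaf (nat_lit
    229864204))) (.leaf (nat_lit 138547458)))) (.node (.node (.node (.leaf (nat_lit 31220482))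
    (.leaf (nat_lit 202837763))) (.node (.leaf (nat_lit 115940100)) (.leaf (nat_lit 12620800))))
    (.node (.node (.leaf (nat_lit 70588427)) (.leaf (nat_lit 215456520))) (.leaf (nat_lit
    154296836)))))) (.node (.node (.node (.node (.node (.leaf (nat_lit 4199684)) (.leaf (nat_lit
    153523715))) (.node (.leaf (nat_lit 75058951)) (.leaf (nat_lit 126743296)))) (.node (.node
    (.leaf (nat_lit 48000265)) (.leaf (nat_lit 225614599))) (.leaf (nat_lit 132991236)))) (.node
    (.node (.node (.leaf (nat_lit 26490371)) (.leaf (nat_lit 199114242))) (.node (.leaf (nat_lit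
    71411974)) (.leaf (nat_lit 39362816)))) (.node (.node (.leaf (nat_lit 40960770)) (.leaf
    (nat_lit 248460291))) (.leaf (nat_lit 122048003))))) (.node (.node (.node (.node (.leaf
    (nat_lit 7879177)) (.leaf (nat_lit 186515466))) (.node (.leaf (nat_lit 62223877)) (.leaf
    (nat_lit 61752576)))) (.node (.node (.leaf (nat_lit 35445513)) (.leaf (nat_lit 238475778)))
    (.leaf (nat_lit 142222092)))) (.node (.node (.node (.leaf (nat_lit 35933704)) (.leaf (nat_lit
    191833605))) (.node (.leaf (nat_lit 120664323)) (.leaf (nat_lit 6372352)))) (.node (.node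
    (.leaf (nat_lit 69545218)) (.leaf (nat_lit 143037440))) (.leaf (nat_lit 163475724))))))))
    (.node (.node (.node (.node (.node (.node (.node (.leaf (nat_lit 1049611)) (.leaf (nat_lit
    142507268))) (.node (.leaf (nat_lit 50411272)) (.leaf (nat_lit 143048448)))) (.node (.node
    (.leaf (nat_lit 39343882)) (.leaf (nat_lit 217481985))) (.leaf (nat_lit 83746567)))) (.node
    (.node (.node (.leaf (nat_lit 19680012)) (.leaf (nat_lit 164289030))) (.node (.leaf (nat_lit
    103611400)) (.leaf (nat_lit 48728832)))) (.node (.node (.leaf (nat_lit 39381251)) (.leaf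
    (nat_lit 240054530))) (.leaf (nat_lit 148467971))))) (.node (.node (.node (.node (.leaf
    (nat_lit 6561539)) (.leaf (nat_lit 178643466))) (.node (.leaf (nat_lit 91544065)) (.leaf
    (nat_lit 60915968)))) (.node (.node (.leaf (nat_lit 51672066)) (.leaf (nat_lit 230338561)))
    (.leaf (nat_lit 137711362)))) (.node (.node (.node (.leaf (nat_lit 29651468)) (.leaf (nat_lit
    204365832))) (.node (.leaf (nat_lit 111260939)) (.leaf (nat_lit 19072256)))) (.node (.node
    (.leaf (nat_lit 49091593)) (.leaf (nat_lit 214134537))) (.leaf (nat_lit 158961409)))))) (.node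
    (.node (.node (.node (.node (.leaf (nat_lit 2363653)) (.leaf (nat_lit 170037516))) (.node
    (.leaf (nat_lit 54085894)) (.leaf (nat_lit 77716992)))) (.node (.node (.leaf (nat_lit
    27307270)) (.leaf (nat_lit 224301315))) (.leaf (nat_lit 131451905)))) (.node (.node (.node
    (.leaf (nat_lit 22568715)) (.leaf (nat_lit 196800267))) (.node (.leaf (nat_lit 71934726))
    (.leaf (nat_lit 38942976)))) (.node (.node (.leaf (nat_lit 42270215)) (.leaf (nat_lit
    220178952))) (.leaf (nat_lit 147212293))))) (.node (.node (.node (.node (.leaf (nat_lit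
    7615491)) (.leaf (nat_lit 134922499))) (.node (.leaf (nat_lit 96563467)) (.leaf (nat_lit
    33347584)))) (.node (.node (.leaf (nat_lit 53007628)) (.leaf (nat_lit 194479624))) (.leaf
    (nat_lit 138813195)))) (.node (.node (.node (.leaf (nat_lit 34621443)) (.leaf (nat_lit
    209874439))) (.node (.leaf (nat_lit 80070922)) (.leaf (nat_lit 9227520)))) (.node (.node (.leaf
    (nat_lit 72689420)) (.leaf (nat_lit 79606784))) (.leaf (nat_lit 162899715))))))) (.node (.node
    (.node (.node (.node (.node (.leaf (nat_lit 2886152)) (.leaf (nat_lit 168985858))) (.node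
    (.leaf (nat_lit 80298242)) (.leaf (nat_lit 85358592)))) (.node (.node (.leaf (nat_lit
    25731594)) (.leaf (nat_lit 206785281))) (.leaf (nat_lit 91089671)))) (.node (.node (.node
    (.leaf (nat_lit 22294023)) (.leaf (nat_lit 167437062))) (.node (.leaf (nat_lit 69048326))
    (.leaf (nat_lit 54130432)))) (.node (.node (.leaf (nat_lit 60879628)) (.leaf (nat_lit
    242690817))) (.leaf (nat_lit 98451206))))) (.node (.node (.node (.node (.leaf (nat_lit
    11539460)) (.leaf (nat_lit 135181571))) (.node (.leaf (nat_lit 94462986)) (.leaf (nat_lit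
    103255040)))) (.node (.node (.leaf (nat_lit 53784074)) (.leaf (nat_lit 185825286))) (.leaf
    (nat_lit 140333570)))) (.node (.node (.node (.leaf (nat_lit 28867595)) (.leaf (nat_lit
    187896836))) (.node (.leaf (nat_lit 108117766)) (.leaf (nat_lit 7353600)))) (.node (.node
    (.leaf (nat_lit 66395916)) (.leaf (nat_lit 208346112))) (.leaf (nat_lit 129918209)))))) (.node
    (.node (.node (.node (.node (.leaf (nat_lit 5511172)) (.leaf (nat_lit 174969609))) (.node
    (.leaf (nat_lit 56448008)) (.leaf (nat_lit 79136768)))) (.node (.node (.leaf (nat_lit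
    42514947)) (.leaf (nat_lit 205742596))) (.leaf (nat_lit 120979202)))) (.node (.node (.node
    (.leaf (nat_lit 14706950)) (.leaf (nat_lit 198376451))) (.node (.leaf (nat_lit 103394822))
    (.leaf (nat_lit 39420160)))) (.node (.node (.leaf (nat_lit 69245187)) (.leaf (nat_lit
    170373888))) (.leaf (nat_lit 101340166))))) (.node (.node (.node (.node (.leaf (nat_lit
    17047304)) (.leaf (nat_lit 188089354))) (.node (.leaf (nat_lit 64323079)) (.leaf (nat_lit
    39134976)))) (.node (.node (.leaf (nat_lit 58755588)) (.leaf (nat_lit 224366593))) (.leaf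
    (nat_lit 144845067)))) (.node (.node (.node (.leaf (nat_lit 37245961)) (.leaf (nat_lit
    213285633))) (.node (.leaf (nat_lit 121976072)) (.leaf (nat_lit 2957056)))) (.node (.node
    (.leaf (nat_lit 78983179)) (.leaf (nat_lit 111010816))) (.leaf (nat_lit 160068875))))))))))
    (.node (.node (.node (.node (.node (.node (.node (.node (.node (.leaf (nat_lit 262153)) (.leaf
    (nat_lit 165787140))) (.node (.leaf (nat_lit 80525569)) (.leaf (nat_lit 80070144)))) (.node
    (.node (.leaf (nat_lit 23367684)) (.leaf (nat_lit 167457800))) (.node (.leaf (nat_lit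
    106288647)) (.leaf (nat_lit 1050880))))) (.node (.node (.node (.leaf (nat_lit 10765832)) (.leaf
    (nat_lit 184996098))) (.node (.leaf (nat_lit 97878283)) (.leaf (nat_lit 33082112)))) (.node
    (.node (.leaf (nat_lit 59804681)) (.leaf (nat_lit 212035079))) (.leaf (nat_lit 146368776)))))
    (.node (.node (.node (.node (.leaf (nat_lit 7347468)) (.leaf (nat_lit 123904261))) (.node
    (.leaf (nat_lit 89969155)) (.leaf (nat_lit 61175040)))) (.node (.node (.leaf (nat_lit
    49836298)) (.leaf (nat_lit 228238595))) (.leaf (nat_lit 134873867)))) (.node (.node (.node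
    (.leaf (nat_lit 22834438)) (.leaf (nat_lit 200213004))) (.node (.leaf (nat_lit 108900363))
    (.leaf (nat_lit 39381760)))) (.node (.node (.leaf (nat_lit 70294019)) (.leaf (nat_lit
    172699652))) (.leaf (nat_lit 134108936)))))) (.node (.node (.node (.node (.node (.leaf (nat_lit
    2625036)) (.leaf (nat_lit 170771720))) (.node (.leaf (nat_lit 84986631)) (.leaf (nat_lit
    79847168)))) (.node (.node (.leaf (nat_lit 43539714)) (.leaf (nat_lit 219369483))) (.leaf
    (nat_lit 127004427)))) (.node (.node (.node (.leaf (nat_lit 22818563)) (.leaf (nat_lit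
    194438923))) (.node (.leaf (nat_lit 81370373)) (.leaf (nat_lit 34131968)))) (.node (.node
    (.leaf (nat_lit 65049857)) (.leaf (nat_lit 244010760))) (.leaf (nat_lit 99500549))))) (.node
    (.node (.node (.node (.leaf (nat_lit 12326151)) (.leaf (nat_lit 182630923))) (.node (.leaf
    (nat_lit 92367369)) (.leaf (nat_lit 29028864)))) (.node (.node (.leaf (nat_lit 54833162))
    (.leaf (nat_lit 234539015))) (.leaf (nat_lit 141160193)))) (.node (.node (.node (.leaf (nat_lit
    28606468)) (.leaf (nat_lit 207559179))) (.node (.leaf (nat_lit 111264002)) (.leaf (nat_lit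
    14708224)))) (.node (.node (.leaf (nat_lit 76063490)) (.leaf (nat_lit 120219648))) (.leaf
    (nat_lit 143026179))))))) (.node (.node (.node (.node (.node (.node (.leaf (nat_lit 1312267))
    (.leaf (nat_lit 119963395))) (.node (.leaf (nat_lit 81869577)) (.leaf (nat_lit 79105536))))
    (.node (.node (.leaf (nat_lit 30972169)) (.leaf (nat_lit 212812289))) (.leaf (nat_lit
    84533765)))) (.node (.node (.node (.leaf (nat_lit 11816454)) (.leaf (nat_lit 186571788)))
    (.node (.leaf (nat_lit 69832705)) (.leaf (nat_lit 55394816)))) (.node (.node (.leaf (nat_lit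
    61926668)) (.leaf (nat_lit 241371138))) (.leaf (nat_lit 112867591))))) (.node (.node (.node
    (.node (.leaf (nat_lit 8398346)) (.leaf (nat_lit 136228362))) (.node (.leaf (nat_lit 91840779))
    (.leaf (nat_lit 33969920)))) (.node (.node (.leaf (nat_lit 47237121)) (.leaf (nat_lit
    223572233))) (.leaf (nat_lit 128061445)))) (.node (.node (.node (.leaf (nat_lit 31210499))
    (.leaf (nat_lit 202575364))) (.node (.leaf (nat_lit 74561542)) (.leaf (nat_lit 18810112))))
    (.node (.node (.leaf (nat_lit 73178376)) (.leaf (nat_lit 193960960))) (.leaf (nat_lit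
    159751434)))))) (.node (.node (.node (.node (.node (.leaf (nat_lit 5248012)) (.leaf (nat_lit
    173394691))) (.node (.leaf (nat_lit 87608842)) (.leaf (nat_lit 79352832)))) (.node (.node
    (.leaf (nat_lit 47213066)) (.leaf (nat_lit 176118533))) (.leaf (nat_lit 132729091)))) (.node
    (.node (.node (.leaf (nat_lit 23094027)) (.leaf (nat_lit 198374667))) (.node (.leaf (nat_lit
    111217928)) (.leaf (nat_lit 23630848)))) (.node (.node (.leaf (nat_lit 67671815)) (.leaf
    (nat_lit 247935496))) (.leaf (nat_lit 100027654))))) (.node (.node (.node (.node (.leaf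
    (nat_lit 14949124)) (.leaf (nat_lit 186253321))) (.node (.leaf (nat_lit 61961478)) (.leaf
    (nat_lit 61670656)))) (.node (.node (.leaf (nat_lit 57181699)) (.leaf (nat_lit 237949959)))
    (.leaf (nat_lit 142483980)))) (.node (.node (.node (.leaf (nat_lit 35671559)) (.leaf (nat_lit
    210969868))) (.node (.leaf (nat_lit 85576450)) (.leaf (nat_lit 5840640)))) (.node (.node (.leaf
    (nat_lit 51981062)) (.leaf (nat_lit 137788672))) (.leaf (nat_lit 119173121)))))))) (.node
    (.node (.node (.node (.node (.node (.node (.leaf (nat_lit 786954)) (.leaf (nat_lit 120486922)))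
    (.node (.leaf (nat_lit 81313031)) (.leaf (nat_lit 88167680)))) (.node (.node (.leaf (nat_lit
    37786636)) (.leaf (nat_lit 216957186))) (.leaf (nat_lit 125122820)))) (.node (.node (.node
    (.leaf (nat_lit 17844738)) (.leaf (nat_lit 191027460))) (.node (.leaf (nat_lit 103086851))
    (.leaf (nat_lit 79616000)))) (.node (.node (.leaf (nat_lit 48031747)) (.leaf (nat_lit
    210964998))) (.leaf (nat_lit 102904839))))) (.node (.node (.node (.node (.leaf (nat_lit
    4727557)) (.leaf (nat_lit 178138888))) (.node (.leaf (nat_lit 83975180)) (.leaf (nat_lit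
    63799296)))) (.node (.node (.leaf (nat_lit 51409672)) (.leaf (nat_lit 229813507))) (.leaf
    (nat_lit 137449217)))) (.node (.node (.node (.leaf (nat_lit 22311171)) (.leaf (nat_lit
    165349386))) (.node (.leaf (nat_lit 114628615)) (.leaf (nat_lit 24458496)))) (.node (.node
    (.leaf (nat_lit 71635724)) (.leaf (nat_lit 213870857))) (.leaf (nat_lit 158437891)))))) (.node
    (.node (.node (.node (.node (.leaf (nat_lit 2363398)) (.leaf (nat_lit 168464140))) (.node
    (.leaf (nat_lit 63522817)) (.leaf (nat_lit 48117248)))) (.node (.node (.leaf (nat_lit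
    44608518)) (.leaf (nat_lit 223799562))) (.leaf (nat_lit 87684099)))) (.node (.node (.node
    (.leaf (nat_lit 23354892)) (.leaf (nat_lit 196486664))) (.node (.leaf (nat_lit 109644292))
    (.leaf (nat_lit 33126400)))) (.node (.node (.leaf (nat_lit 66360834)) (.leaf (nat_lit
    214149126))) (.leaf (nat_lit 152925962))))) (.node (.node (.node (.node (.leaf (nat_lit
    7877378)) (.leaf (nat_lit 184678402))) (.node (.leaf (nat_lit 81620994)) (.leaf (nat_lit
    82956800)))) (.node (.node (.leaf (nat_lit 49861891)) (.leaf (nat_lit 214139905))) (.leaf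
    (nat_lit 142207747)))) (.node (.node (.node (.leaf (nat_lit 33587979)) (.leaf (nat_lit
    207298060))) (.node (.leaf (nat_lit 119615241)) (.leaf (nat_lit 3156224)))) (.node (.node
    (.leaf (nat_lit 72427020)) (.leaf (nat_lit 192362496))) (.leaf (nat_lit 147221254))))))) (.node
    (.node (.node (.node (.node (.node (.leaf (nat_lit 2884868)) (.leaf (nat_lit 168936449)))
    (.node (.leaf (nat_lit 53821445)) (.leaf (nat_lit 54140160)))) (.node (.node (.leaf (nat_lit
    42228489)) (.leaf (nat_lit 172444168))) (.leaf (nat_lit 128533002)))) (.node (.node (.node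
    (.leaf (nat_lit 22031623)) (.leaf (nat_lit 193859850))) (.node (.leaf (nat_lit 68785925))
    (.leaf (nat_lit 54055680)))) (.node (.node (.leaf (nat_lit 61141516)) (.leaf (nat_lit
    208378882))) (.leaf (nat_lit 100285961))))) (.node (.node (.node (.node (.leaf (nat_lit
    9185801)) (.leaf (nat_lit 139899657))) (.node (.leaf (nat_lit 59074311)) (.leaf (nat_lit
    48208128)))) (.node (.node (.leaf (nat_lit 53509633)) (.leaf (nat_lit 232699650))) (.leaf
    (nat_lit 139809026)))) (.node (.node (.node (.leaf (nat_lit 32259841)) (.leaf (nat_lit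
    161157894))) (.node (.leaf (nat_lit 116989441)) (.leaf (nat_lit 6303744)))) (.node (.node
    (.leaf (nat_lit 75014148)) (.leaf (nat_lit 187903744))) (.leaf (nat_lit 160800515)))))) (.node
    (.node (.node (.node (.node (.leaf (nat_lit 5510924)) (.leaf (nat_lit 122853638))) (.node
    (.leaf (nat_lit 56447751)) (.leaf (nat_lit 85807875)))) (.node (.node (.leaf (nat_lit
    42252548)) (.leaf (nat_lit 226189579))) (.leaf (nat_lit 133818114)))) (.node (.node (.node
    (.leaf (nat_lit 16017418)) (.leaf (nat_lit 200689409))) (.node (.leaf (nat_lit 106540293))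
    (.leaf (nat_lit 24419840)))) (.node (.node (.leaf (nat_lit 41747970)) (.leaf (nat_lit
    169323008))) (.leaf (nat_lit 155835394))))) (.node (.node (.node (.node (.leaf (nat_lit
    14696203)) (.leaf (nat_lit 182635011))) (.node (.leaf (nat_lit 90536968)) (.leaf (nat_lit
    63509760)))) (.node (.node (.leaf (nat_lit 58252811)) (.leaf (nat_lit 224628485))) (.leaf
    (nat_lit 144320268)))) (.node (.node (.node (.leaf (nat_lit 36211467)) (.leaf (nat_lit
    166669061))) (.node (.leaf (nat_lit 108384261)) (.leaf (nat_lit 4661504)))) (.node (.node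
    (.leaf (nat_lit 79738882)) (.leaf (nat_lit 80633600))) (.leaf (nat_lit 160855051)))))))))
    (.node (.node (.node (.node (.node (.node (.node (.node (.leaf (nat_lit 524811)) (.leaf
    (nat_lit 166313988))) (.node (.leaf (nat_lit 78984201)) (.leaf (nat_lit 118653952)))) (.node
    (.node (.leaf (nat_lit 23892486)) (.leaf (nat_lit 212023049))) (.node (.leaf (nat_lit
    124336135)) (.leaf (nat_lit 1574922))))) (.node (.node (.node (.leaf (nat_lit 18884104)) (.leaf
    (nat_lit 137287173))) (.node (.leaf (nat_lit 101775367)) (.leaf (nat_lit 39121408)))) (.node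
    (.node (.leaf (nat_lit 60591618)) (.leaf (nat_lit 212275208))) (.leaf (nat_lit 146900999)))))
    (.node (.node (.node (.node (.leaf (nat_lit 4988934)) (.leaf (nat_lit 175809548))) (.node
    (.leaf (nat_lit 87120139)) (.leaf (nat_lit 42353152)))) (.node (.node (.leaf (nat_lit
    49594380)) (.leaf (nat_lit 218589449))) (.leaf (nat_lit 87688710)))) (.node (.node (.node
    (.leaf (nat_lit 18116100)) (.leaf (nat_lit 199165445))) (.node (.leaf (nat_lit 82424326))
    (.leaf (nat_lit 18284032)))) (.node (.node (.leaf (nat_lit 40701446)) (.leaf (nat_lit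
    207575296))) (.leaf (nat_lit 157910019)))))) (.node (.node (.node (.node (.node (.leaf (nat_lit
    2887436)) (.leaf (nat_lit 140938498))) (.node (.leaf (nat_lit 85511175)) (.leaf (nat_lit
    79890176)))) (.node (.node (.leaf (nat_lit 25733377)) (.leaf (nat_lit 217797388))) (.leaf
    (nat_lit 130403842)))) (.node (.node (.node (.leaf (nat_lit 23867395)) (.leaf (nat_lit
    195488267))) (.node (.leaf (nat_lit 89759490)) (.leaf (nat_lit 41216000)))) (.node (.node
    (.leaf (nat_lit 42531335)) (.leaf (nat_lit 244787976))) (.leaf (nat_lit 143278856))))) (.node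
    (.node (.node (.node (.leaf (nat_lit 7352581)) (.leaf (nat_lit 132299781))) (.node (.leaf
    (nat_lit 95776261)) (.leaf (nat_lit 34224640)))) (.node (.node (.leaf (nat_lit 55607305))
    (.leaf (nat_lit 193954055))) (.leaf (nat_lit 134093835)))) (.node (.node (.node (.leaf (nat_lit
    23363843)) (.leaf (nat_lit 164568074))) (.node (.leaf (nat_lit 118828554)) (.leaf (nat_lit
    23908608)))) (.node (.node (.leaf (nat_lit 76588291)) (.leaf (nat_lit 161953536))) (.leaf
    (nat_lit 113142025))))))) (.node (.node (.node (.node (.node (.node (.leaf (nat_lit 2098952))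
    (.leaf (nat_lit 118915333))) (.node (.leaf (nat_lit 83411721)) (.leaf (nat_lit 80676608))))
    (.node (.node (.leaf (nat_lit 41186825)) (.leaf (nat_lit 219842057))) (.leaf (nat_lit
    127264267)))) (.node (.node (.node (.leaf (nat_lit 21244930)) (.leaf (nat_lit 193072898)))
    (.node (.leaf (nat_lit 105709832)) (.leaf (nat_lit 85638144)))) (.node (.node (.leaf (nat_lit
    62951687)) (.leaf (nat_lit 242160641))) (.leaf (nat_lit 150041354))))) (.node (.node (.node
    (.node (.leaf (nat_lit 5253126)) (.leaf (nat_lit 129413386))) (.node (.leaf (nat_lit 58549256))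
    (.leaf (nat_lit 54581504)))) (.node (.node (.leaf (nat_lit 42781188)) (.leaf (nat_lit
    211514369))) (.leaf (nat_lit 139022345)))) (.node (.node (.node (.leaf (nat_lit 29652999))
    (.leaf (nat_lit 205677314))) (.node (.leaf (nat_lit 107854597)) (.leaf (nat_lit 10104832))))
    (.node (.node (.leaf (nat_lit 61151489)) (.leaf (nat_lit 208332298))) (.leaf (nat_lit
    160275977)))))) (.node (.node (.node (.node (.node (.leaf (nat_lit 4462083)) (.leaf (nat_lit
    173682689))) (.node (.leaf (nat_lit 88395529)) (.leaf (nat_lit 84570112)))) (.node (.node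
    (.leaf (nat_lit 48262410)) (.leaf (nat_lit 226139395))) (.leaf (nat_lit 133253385)))) (.node
    (.node (.node (.leaf (nat_lit 26752516)) (.leaf (nat_lit 199424262))) (.node (.leaf (nat_lit
    103393794)) (.leaf (nat_lit 29030912)))) (.node (.node (.leaf (nat_lit 52233225)) (.leaf
    (nat_lit 219395078))) (.leaf (nat_lit 155286537))))) (.node (.node (.node (.node (.leaf
    (nat_lit 7879685)) (.leaf (nat_lit 187040010))) (.node (.leaf (nat_lit 90011656)) (.leaf
    (nat_lit 73743104)))) (.node (.node (.leaf (nat_lit 57465868)) (.leaf (nat_lit 230657283)))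
    (.leaf (nat_lit 134358027)))) (.node (.node (.node (.leaf (nat_lit 35948811)) (.leaf (nat_lit
    191571718))) (.node (.leaf (nat_lit 119131403)) (.leaf (nat_lit 6410752)))) (.node (.node
    (.leaf (nat_lit 61680900)) (.leaf (nat_lit 171660544))) (.leaf (nat_lit 164474628))))))))
    (.node (.node (.node (.node (.node (.node (.node (.leaf (nat_lit 1049861)) (.leaf (nat_lit
    158498056))) (.node (.leaf (nat_lit 72693762)) (.leaf (nat_lit 55175680)))) (.node (.node
    (.leaf (nat_lit 39606281)) (.leaf (nat_lit 217744130))) (.leaf (nat_lit 126173191)))) (.node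
    (.node (.node (.leaf (nat_lit 11815939)) (.leaf (nat_lit 142793482))) (.node (.leaf (nat_lit
    75336711)) (.leaf (nat_lit 54186240)))) (.node (.node (.leaf (nat_lit 61378561)) (.leaf
    (nat_lit 201823238))) (.leaf (nat_lit 147207947))))) (.node (.node (.node (.node (.leaf
    (nat_lit 9703939)) (.leaf (nat_lit 179168266))) (.node (.leaf (nat_lit 92068615)) (.leaf
    (nat_lit 48994304)))) (.node (.node (.leaf (nat_lit 51934467)) (.leaf (nat_lit 230387458)))
    (.leaf (nat_lit 134352140)))) (.node (.node (.node (.leaf (nat_lit 15233797)) (.leaf (nat_lit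
    203885579))) (.node (.leaf (nat_lit 85571073)) (.leaf (nat_lit 11244800)))) (.node (.node
    (.leaf (nat_lit 72422660)) (.leaf (nat_lit 214142725))) (.leaf (nat_lit 159227140)))))) (.node
    (.node (.node (.node (.node (.leaf (nat_lit 4983042)) (.leaf (nat_lit 172869890))) (.node
    (.leaf (nat_lit 54348293)) (.leaf (nat_lit 61714944)))) (.node (.node (.leaf (nat_lit
    45658123)) (.leaf (nat_lit 224090123))) (.leaf (nat_lit 131942153)))) (.node (.node (.node
    (.leaf (nat_lit 13393926)) (.leaf (nat_lit 147517701))) (.node (.leaf (nat_lit 110431239))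
    (.leaf (nat_lit 23368448)))) (.node (.node (.leaf (nat_lit 67147521)) (.leaf (nat_lit
    246886404))) (.leaf (nat_lit 121784579))))) (.node (.node (.node (.node (.leaf (nat_lit
    7091717)) (.leaf (nat_lit 182108676))) (.node (.leaf (nat_lit 97315335)) (.leaf (nat_lit
    62714880)))) (.node (.node (.leaf (nat_lit 56393986)) (.leaf (nat_lit 237162248))) (.leaf
    (nat_lit 111288323)))) (.node (.node (.node (.leaf (nat_lit 19956997)) (.leaf (nat_lit
    210398977))) (.node (.leaf (nat_lit 80595463)) (.leaf (nat_lit 4508928)))) (.node (.node (.leaf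
    (nat_lit 53291010)) (.leaf (nat_lit 192093696))) (.leaf (nat_lit 163161865))))))) (.node (.node
    (.node (.node (.node (.node (.leaf (nat_lit 3148812)) (.leaf (nat_lit 119965448))) (.node
    (.leaf (nat_lit 84230668)) (.leaf (nat_lit 87206400)))) (.node (.node (.leaf (nat_lit
    24421125)) (.leaf (nat_lit 219106315))) (.leaf (nat_lit 91089928)))) (.node (.node (.node
    (.leaf (nat_lit 14177538)) (.leaf (nat_lit 188670988))) (.node (.leaf (nat_lit 107545864))
    (.leaf (nat_lit 79358720)))) (.node (.node (.leaf (nat_lit 64018185)) (.leaf (nat_lit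
    243209993))) (.leaf (nat_lit 151090436))))) (.node (.node (.node (.node (.leaf (nat_lit
    5254409)) (.leaf (nat_lit 182317578))) (.node (.leaf (nat_lit 94954503)) (.leaf (nat_lit
    87736832)))) (.node (.node (.leaf (nat_lit 34131720)) (.leaf (nat_lit 233487873))) (.leaf
    (nat_lit 140858116)))) (.node (.node (.node (.leaf (nat_lit 24149253)) (.leaf (nat_lit
    185799945))) (.node (.leaf (nat_lit 108904453)) (.leaf (nat_lit 23887616)))) (.node (.node
    (.leaf (nat_lit 43851781)) (.leaf (nat_lit 234071040))) (.leaf (nat_lit 161062665)))))) (.node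
    (.node (.node (.node (.node (.leaf (nat_lit 6818818)) (.leaf (nat_lit 123116550))) (.node
    (.leaf (nat_lit 56186119)) (.leaf (nat_lit 48455168)))) (.node (.node (.leaf (nat_lit
    30718726)) (.leaf (nat_lit 227479812))) (.leaf (nat_lit 134328323)))) (.node (.node (.node
    (.leaf (nat_lit 14969350)) (.leaf (nat_lit 201214217))) (.node (.leaf (nat_lit 80064261))
    (.leaf (nat_lit 62717696)))) (.node (.node (.leaf (nat_lit 69507332)) (.leaf (nat_lit
    172989952))) (.leaf (nat_lit 156390660))))) (.node (.node (.node (.node (.leaf (nat_lit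
    10502658)) (.leaf (nat_lit 136760838))) (.node (.leaf (nat_lit 100724487)) (.leaf (nat_lit
    85545984)))) (.node (.node (.leaf (nat_lit 59040012)) (.leaf (nat_lit 237736455))) (.leaf
    (nat_lit 145580552)))) (.node (.node (.node (.leaf (nat_lit 37508355)) (.leaf (nat_lit
    214072072))) (.node (.leaf (nat_lit 106549767)) (.leaf (nat_lit 14728192)))) (.node (.node
    (.leaf (nat_lit 48574727)) (.leaf (nat_lit 169032192))) (.leaf (nat_lit 157709829))))))))))))
    (.node (.node (.node (.node (.node (.node (.node (.node (.node (.node (.node (.leaf (nat_lit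
    3)) (.leaf (nat_lit 156923393))) (.node (.leaf (nat_lit 80263176)) (.leaf (nat_lit
    186358528)))) (.node (.node (.leaf (nat_lit 28610310)) (.leaf (nat_lit 214334465))) (.node
    (.leaf (nat_lit 122762761)) (.leaf (nat_lit 14711808))))) (.node (.node (.node (.leaf (nat_lit
    18097415)) (.leaf (nat_lit 188876547))) (.node (.leaf (nat_lit 63012870)) (.leaf (nat_lit
    84233472)))) (.node (.node (.leaf (nat_lit 59040267)) (.leaf (nat_lit 204172288))) (.leaf
    (nat_lit 145843972))))) (.node (.node (.node (.node (.leaf (nat_lit 3152647)) (.leaf (nat_lit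
    176018689))) (.node (.leaf (nat_lit 86594827)) (.leaf (nat_lit 53835776)))) (.node (.node
    (.leaf (nat_lit 30981125)) (.leaf (nat_lit 226976780))) (.leaf (nat_lit 126746885)))) (.node
    (.node (.node (.leaf (nat_lit 15756041)) (.leaf (nat_lit 198377477))) (.node (.leaf (nat_lit
    113316872)) (.leaf (nat_lit 48074496)))) (.node (.node (.leaf (nat_lit 48040194)) (.leaf
    (nat_lit 215173888))) (.leaf (nat_lit 156860675)))))) (.node (.node (.node (.node (.node (.leaf
    (nat_lit 3149067)) (.leaf (nat_lit 168986635))) (.node (.leaf (nat_lit 84724482)) (.leaf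
    (nat_lit 62758400)))) (.node (.node (.leaf (nat_lit 25469962)) (.leaf (nat_lit 222202627)))
    (.leaf (nat_lit 129319939)))) (.node (.node (.node (.leaf (nat_lit 22304268)) (.leaf (nat_lit
    188409100))) (.node (.leaf (nat_lit 69048837)) (.leaf (nat_lit 55240448)))) (.node (.node
    (.leaf (nat_lit 64525313)) (.leaf (nat_lit 208379914))) (.leaf (nat_lit 149569541))))) (.node
    (.node (.node (.node (.leaf (nat_lit 12064001)) (.leaf (nat_lit 135968515))) (.node (.leaf
    (nat_lit 95216648)) (.leaf (nat_lit 42348544)))) (.node (.node (.leaf (nat_lit 53530635))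
    (.leaf (nat_lit 221215493))) (.leaf (nat_lit 131471627)))) (.node (.node (.node (.leaf (nat_lit
    24411652)) (.leaf (nat_lit 207513095))) (.node (.leaf (nat_lit 111001601)) (.leaf (nat_lit
    14873088)))) (.node (.node (.leaf (nat_lit 75801345)) (.leaf (nat_lit 118653184))) (.leaf
    (nat_lit 161324810))))))) (.node (.node (.node (.node (.node (.node (.leaf (nat_lit 787976))
    (.leaf (nat_lit 119700996))) (.node (.leaf (nat_lit 82099719)) (.leaf (nat_lit 119393280))))
    (.node (.node (.leaf (nat_lit 39868426)) (.leaf (nat_lit 218268679))) (.leaf (nat_lit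
    113369346)))) (.node (.node (.node (.leaf (nat_lit 11554054)) (.leaf (nat_lit 186833676)))
    (.node (.leaf (nat_lit 66948357)) (.leaf (nat_lit 55538944)))) (.node (.node (.leaf (nat_lit
    61401858)) (.leaf (nat_lit 202872071))) (.leaf (nat_lit 148992516))))) (.node (.node (.node
    (.node (.leaf (nat_lit 9705217)) (.leaf (nat_lit 169257993))) (.node (.leaf (nat_lit 92330760))
    (.leaf (nat_lit 103124736)))) (.node (.node (.leaf (nat_lit 52196612)) (.leaf (nat_lit
    230643722))) (.leaf (nat_lit 90312201)))) (.node (.node (.node (.leaf (nat_lit 15496198))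
    (.leaf (nat_lit 204147979))) (.node (.leaf (nat_lit 115153160)) (.leaf (nat_lit 18260480))))
    (.node (.node (.leaf (nat_lit 51713290)) (.leaf (nat_lit 208361216))) (.leaf (nat_lit
    122576645)))))) (.node (.node (.node (.node (.node (.leaf (nat_lit 4723466)) (.leaf (nat_lit
    172889098))) (.node (.leaf (nat_lit 74533639)) (.leaf (nat_lit 48048640)))) (.node (.node
    (.leaf (nat_lit 29405700)) (.leaf (nat_lit 194205961))) (.leaf (nat_lit 88995850)))) (.node
    (.node (.node (.leaf (nat_lit 24142091)) (.leaf (nat_lit 147780102))) (.node (.leaf (nat_lit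
    110693384)) (.leaf (nat_lit 39361792)))) (.node (.node (.leaf (nat_lit 52494345)) (.leaf
    (nat_lit 214937097))) (.leaf (nat_lit 154237697))))) (.node (.node (.node (.node (.leaf
    (nat_lit 7091974)) (.leaf (nat_lit 182371075))) (.node (.leaf (nat_lit 97577480)) (.leaf
    (nat_lit 68493568)))) (.node (.node (.leaf (nat_lit 53794828)) (.leaf (nat_lit 237425162)))
    (.leaf (nat_lit 109977863)))) (.node (.node (.node (.leaf (nat_lit 35161612)) (.leaf (nat_lit
    210923271))) (.node (.leaf (nat_lit 85838337)) (.leaf (nat_lit 4618496)))) (.node (.node (.leaf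
    (nat_lit 78161924)) (.leaf (nat_lit 171609856))) (.leaf (nat_lit 114978570)))))))) (.node
    (.node (.node (.node (.node (.node (.node (.leaf (nat_lit 525058)) (.leaf (nat_lit 166576137)))
    (.node (.leaf (nat_lit 81050882)) (.leaf (nat_lit 86420224)))) (.node (.node (.leaf (nat_lit
    33067780)) (.leaf (nat_lit 216432642))) (.leaf (nat_lit 124598280)))) (.node (.node (.node
    (.leaf (nat_lit 13125638)) (.leaf (nat_lit 189454091))) (.node (.leaf (nat_lit 70092033))
    (.leaf (nat_lit 85567488)))) (.node (.node (.leaf (nat_lit 60352268)) (.leaf (nat_lit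
    211246598))) (.leaf (nat_lit 119157000))))) (.node (.node (.node (.node (.leaf (nat_lit
    4464903)) (.leaf (nat_lit 156673537))) (.node (.leaf (nat_lit 91018241)) (.leaf (nat_lit
    48911360)))) (.node (.node (.leaf (nat_lit 30720517)) (.leaf (nat_lit 229327113))) (.leaf
    (nat_lit 136662529)))) (.node (.node (.node (.leaf (nat_lit 15232774)) (.leaf (nat_lit
    200214278))) (.node (.leaf (nat_lit 74560261)) (.leaf (nat_lit 23712768)))) (.node (.node
    (.leaf (nat_lit 71342851)) (.leaf (nat_lit 208634112))) (.leaf (nat_lit 158172676)))))) (.node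
    (.node (.node (.node (.node (.leaf (nat_lit 2100993)) (.leaf (nat_lit 119705093))) (.node
    (.leaf (nat_lit 85773320)) (.leaf (nat_lit 53549056)))) (.node (.node (.leaf (nat_lit
    27044358)) (.leaf (nat_lit 172708870))) (.leaf (nat_lit 87159301)))) (.node (.node (.node
    (.leaf (nat_lit 24129540)) (.leaf (nat_lit 189983500))) (.node (.leaf (nat_lit 108896268))
    (.leaf (nat_lit 28807936)))) (.node (.node (.leaf (nat_lit 40958721)) (.leaf (nat_lit
    214935042))) (.leaf (nat_lit 152401666))))) (.node (.node (.node (.node (.leaf (nat_lit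
    13112839)) (.leaf (nat_lit 184153610))) (.node (.leaf (nat_lit 63794951)) (.leaf (nat_lit
    75355648)))) (.node (.node (.leaf (nat_lit 39638019)) (.leaf (nat_lit 218857989))) (.leaf
    (nat_lit 90578181)))) (.node (.node (.node (.leaf (nat_lit 18645514)) (.leaf (nat_lit
    206511116))) (.node (.leaf (nat_lit 118081036)) (.leaf (nat_lit 8441856)))) (.node (.node
    (.leaf (nat_lit 76621060)) (.leaf (nat_lit 109013248))) (.leaf (nat_lit 113142282))))))) (.node
    (.node (.node (.node (.node (.node (.leaf (nat_lit 2361612)) (.leaf (nat_lit 118653445)))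
    (.node (.leaf (nat_lit 83674121)) (.leaf (nat_lit 119466240)))) (.node (.node (.leaf (nat_lit
    41703943)) (.leaf (nat_lit 220366596))) (.leaf (nat_lit 128008708)))) (.node (.node (.node
    (.leaf (nat_lit 21507329)) (.leaf (nat_lit 193335305))) (.node (.leaf (nat_lit 106234372))
    (.leaf (nat_lit 85587712)))) (.node (.node (.leaf (nat_lit 61927691)) (.leaf (nat_lit
    217553667))) (.leaf (nat_lit 150303748))))) (.node (.node (.node (.node (.leaf (nat_lit
    9709836)) (.leaf (nat_lit 181004546))) (.node (.leaf (nat_lit 92890380)) (.leaf (nat_lit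
    48019456)))) (.node (.node (.leaf (nat_lit 53005067)) (.leaf (nat_lit 190280966))) (.leaf
    (nat_lit 139284490)))) (.node (.node (.node (.leaf (nat_lit 26507531)) (.leaf (nat_lit
    206201858))) (.node (.leaf (nat_lit 104446982)) (.leaf (nat_lit 18712576)))) (.node (.node
    (.leaf (nat_lit 74227208)) (.leaf (nat_lit 208331522))) (.leaf (nat_lit 159802124)))))) (.node
    (.node (.node (.node (.node (.leaf (nat_lit 3675913)) (.leaf (nat_lit 154310406))) (.node
    (.leaf (nat_lit 88657674)) (.leaf (nat_lit 127793152)))) (.node (.node (.leaf (nat_lit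
    39368708)) (.leaf (nat_lit 226401795))) (.leaf (nat_lit 133515530)))) (.node (.node (.node
    (.leaf (nat_lit 24143362)) (.leaf (nat_lit 152238597))) (.node (.leaf (nat_lit 104966916))
    (.leaf (nat_lit 66956288)))) (.node (.node (.leaf (nat_lit 41485574)) (.leaf (nat_lit
    249008391))) (.leaf (nat_lit 155811331))))) (.node (.node (.node (.node (.leaf (nat_lit
    7617800)) (.leaf (nat_lit 136235526))) (.node (.leaf (nat_lit 99150858)) (.leaf (nat_lit
    43318528)))) (.node (.node (.leaf (nat_lit 57203979)) (.leaf (nat_lit 231968262))) (.leaf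
    (nat_lit 143795458)))) (.node (.node (.node (.leaf (nat_lit 22055429)) (.leaf (nat_lit
    184756489))) (.node (.leaf (nat_lit 104451591)) (.leaf (nat_lit 1095424)))) (.node (.node
    (.leaf (nat_lit 55389698)) (.leaf (nat_lit 186330368))) (.leaf (nat_lit 128086786)))))))))
    (.node (.node (.node (.node (.node (.node (.node (.node (.leaf (nat_lit 262403)) (.leaf
    (nat_lit 121534466))) (.node (.leaf (nat_lit 79770377)) (.leaf (nat_lit 88995328)))) (.node
    (.node (.leaf (nat_lit 37785867)) (.leaf (nat_lit 193934598))) (.node (.leaf (nat_lit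
    122541836)) (.leaf (nat_lit 2887433))))) (.node (.node (.node (.leaf (nat_lit 12338694)) (.leaf
    (nat_lit 189453068))) (.node (.leaf (nat_lit 101273607)) (.leaf (nat_lit 33192192)))) (.node
    (.node (.leaf (nat_lit 59827467)) (.leaf (nat_lit 191822600))) (.leaf (nat_lit 146631945)))))
    (.node (.node (.node (.node (.leaf (nat_lit 7085579)) (.leaf (nat_lit 124166662))) (.node
    (.leaf (nat_lit 87906315)) (.leaf (nat_lit 34160640)))) (.node (.node (.leaf (nat_lit
    38059526)) (.leaf (nat_lit 209151754))) (.leaf (nat_lit 120456195)))) (.node (.node (.node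
    (.leaf (nat_lit 28850178)) (.leaf (nat_lit 199164676))) (.node (.leaf (nat_lit 100249858))
    (.leaf (nat_lit 39257344)))) (.node (.node (.leaf (nat_lit 70556164)) (.leaf (nat_lit
    230665984))) (.leaf (nat_lit 134109191)))))) (.node (.node (.node (.node (.node (.leaf (nat_lit
    2887175)) (.leaf (nat_lit 169511691))) (.node (.leaf (nat_lit 79512577)) (.leaf (nat_lit
    73550080)))) (.node (.node (.leaf (nat_lit 40412940)) (.leaf (nat_lit 222989314))) (.leaf
    (nat_lit 130106628)))) (.node (.node (.node (.leaf (nat_lit 22829060)) (.leaf (nat_lit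
    195216641))) (.node (.leaf (nat_lit 108371468)) (.leaf (nat_lit 33085184)))) (.node (.node
    (.leaf (nat_lit 65071620)) (.leaf (nat_lit 244521986))) (.leaf (nat_lit 151877124))))) (.node
    (.node (.node (.node (.leaf (nat_lit 12588296)) (.leaf (nat_lit 138066691))) (.node (.leaf
    (nat_lit 94727180)) (.leaf (nat_lit 34132224)))) (.node (.node (.leaf (nat_lit 54317579))
    (.leaf (nat_lit 191856392))) (.leaf (nat_lit 90839814)))) (.node (.node (.node (.leaf (nat_lit
    32800780)) (.leaf (nat_lit 161946374))) (.node (.leaf (nat_lit 118042115)) (.leaf (nat_lit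
    15808256)))) (.node (.node (.leaf (nat_lit 76325889)) (.leaf (nat_lit 119966720))) (.leaf
    (nat_lit 160851980))))))) (.node (.node (.node (.node (.node (.node (.leaf (nat_lit 2098180))
    (.leaf (nat_lit 167887369))) (.node (.leaf (nat_lit 82886657)) (.leaf (nat_lit 54470144))))
    (.node (.node (.leaf (nat_lit 40917256)) (.leaf (nat_lit 218317573))) (.leaf (nat_lit
    126959876)))) (.node (.node (.node (.leaf (nat_lit 20467467)) (.leaf (nat_lit 161930501)))
    (.node (.leaf (nat_lit 67997958)) (.leaf (nat_lit 86595584)))) (.node (.node (.leaf (nat_lit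
    45936137)) (.leaf (nat_lit 241635073))) (.leaf (nat_lit 149305860))))) (.node (.node (.node
    (.node (.leaf (nat_lit 4990727)) (.leaf (nat_lit 180480009))) (.node (.leaf (nat_lit 60645897))
    (.leaf (nat_lit 33251072)))) (.node (.node (.leaf (nat_lit 44878081)) (.leaf (nat_lit
    231650051))) (.leaf (nat_lit 138760194)))) (.node (.node (.node (.leaf (nat_lit 29914887))
    (.leaf (nat_lit 205197067))) (.node (.leaf (nat_lit 74823941)) (.leaf (nat_lit 22714368))))
    (.node (.node (.leaf (nat_lit 56956934)) (.leaf (nat_lit 215186181))) (.leaf (nat_lit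
    160013828)))))) (.node (.node (.node (.node (.node (.leaf (nat_lit 3151110)) (.leaf (nat_lit
    173658115))) (.node (.leaf (nat_lit 86855436)) (.leaf (nat_lit 118413568)))) (.node (.node
    (.leaf (nat_lit 47737858)) (.leaf (nat_lit 203905539))) (.leaf (nat_lit 132768513)))) (.node
    (.node (.node (.leaf (nat_lit 22832139)) (.leaf (nat_lit 155383299))) (.node (.leaf (nat_lit
    111480323)) (.leaf (nat_lit 39469568)))) (.node (.node (.leaf (nat_lit 67933960)) (.leaf
    (nat_lit 222540295))) (.leaf (nat_lit 153505292))))) (.node (.node (.node (.node (.leaf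
    (nat_lit 15211273)) (.leaf (nat_lit 168740355))) (.node (.leaf (nat_lit 97875468)) (.leaf
    (nat_lit 73781248)))) (.node (.node (.leaf (nat_lit 57443849)) (.leaf (nat_lit 195529736)))
    (.leaf (nat_lit 129901317)))) (.node (.node (.node (.leaf (nat_lit 35686411)) (.leaf (nat_lit
    164046342))) (.node (.leaf (nat_lit 117558027)) (.leaf (nat_lit 4508672)))) (.node (.node
    (.leaf (nat_lit 78952194)) (.leaf (nat_lit 89567488))) (.leaf (nat_lit 128610564)))))))) (.node
    (.node (.node (.node (.node (.node (.node (.leaf (nat_lit 1049602)) (.leaf (nat_lit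
    167100676))) (.node (.leaf (nat_lit 81575176)) (.leaf (nat_lit 78272000)))) (.node (.node
    (.leaf (nat_lit 23368966)) (.leaf (nat_lit 207305731))) (.leaf (nat_lit 125648391)))) (.node
    (.node (.node (.leaf (nat_lit 11815684)) (.leaf (nat_lit 142793225))) (.node (.leaf (nat_lit
    102861324)) (.leaf (nat_lit 79656960)))) (.node (.node (.leaf (nat_lit 60877067)) (.leaf
    (nat_lit 226436615))) (.leaf (nat_lit 118109448))))) (.node (.node (.node (.node (.leaf
    (nat_lit 9182211)) (.leaf (nat_lit 128886793))) (.node (.leaf (nat_lit 91290627)) (.leaf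
    (nat_lit 42620160)))) (.node (.node (.leaf (nat_lit 51430411)) (.leaf (nat_lit 187657481)))
    (.leaf (nat_lit 137475331)))) (.node (.node (.node (.leaf (nat_lit 24146438)) (.leaf (nat_lit
    204103687))) (.node (.leaf (nat_lit 85832962)) (.leaf (nat_lit 18121728)))) (.node (.node
    (.leaf (nat_lit 69538827)) (.leaf (nat_lit 214113281))) (.leaf (nat_lit 108158209)))))) (.node
    (.node (.node (.node (.node (.leaf (nat_lit 4198667)) (.leaf (nat_lit 172345346))) (.node
    (.leaf (nat_lit 85543173)) (.leaf (nat_lit 54679808)))) (.node (.node (.leaf (nat_lit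
    45377034)) (.leaf (nat_lit 208623106))) (.leaf (nat_lit 117044487)))) (.node (.node (.node
    (.leaf (nat_lit 15752961)) (.leaf (nat_lit 197011720))) (.node (.leaf (nat_lit 109906691))
    (.leaf (nat_lit 33345792)))) (.node (.node (.leaf (nat_lit 66622983)) (.leaf (nat_lit
    246099716))) (.leaf (nat_lit 153188353))))) (.node (.node (.node (.node (.leaf (nat_lit
    12071948)) (.leaf (nat_lit 133349638))) (.node (.leaf (nat_lit 82145538)) (.leaf (nat_lit
    53420288)))) (.node (.node (.leaf (nat_lit 34133254)) (.leaf (nat_lit 236637704))) (.leaf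
    (nat_lit 119152389)))) (.node (.node (.node (.leaf (nat_lit 34371585)) (.leaf (nat_lit
    178986756))) (.node (.leaf (nat_lit 119877386)) (.leaf (nat_lit 7122944)))) (.node (.node
    (.leaf (nat_lit 77145860)) (.leaf (nat_lit 80130560))) (.leaf (nat_lit 148270085))))))) (.node
    (.node (.node (.node (.node (.node (.leaf (nat_lit 2099970)) (.leaf (nat_lit 169198594)))
    (.node (.leaf (nat_lit 55918855)) (.leaf (nat_lit 84307200)))) (.node (.node (.leaf (nat_lit
    42490634)) (.leaf (nat_lit 218581771))) (.leaf (nat_lit 128795399)))) (.node (.node (.node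
    (.leaf (nat_lit 22041612)) (.leaf (nat_lit 171107076))) (.node (.leaf (nat_lit 103651330))
    (.leaf (nat_lit 55134720)))) (.node (.node (.leaf (nat_lit 42529540)) (.leaf (nat_lit
    218864897))) (.leaf (nat_lit 149307141))))) (.node (.node (.node (.node (.leaf (nat_lit
    11283212)) (.leaf (nat_lit 181793034))) (.node (.leaf (nat_lit 94201867)) (.leaf (nat_lit
    171358976)))) (.node (.node (.leaf (nat_lit 46189834)) (.leaf (nat_lit 232962307))) (.leaf
    (nat_lit 136451596)))) (.node (.node (.node (.leaf (nat_lit 32275458)) (.leaf (nat_lit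
    168236035))) (.node (.leaf (nat_lit 117251586)) (.leaf (nat_lit 14063616)))) (.node (.node
    (.leaf (nat_lit 43327238)) (.leaf (nat_lit 209401088))) (.leaf (nat_lit 143287558)))))) (.node
    (.node (.node (.node (.node (.leaf (nat_lit 4200451)) (.leaf (nat_lit 123116037))) (.node
    (.leaf (nat_lit 89182216)) (.leaf (nat_lit 79136512)))) (.node (.node (.leaf (nat_lit
    32553482)) (.leaf (nat_lit 177168902))) (.leaf (nat_lit 133037836)))) (.node (.node (.node
    (.leaf (nat_lit 27539203)) (.leaf (nat_lit 200733955))) (.node (.leaf (nat_lit 112792322))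
    (.leaf (nat_lit 62717440)))) (.node (.node (.leaf (nat_lit 66914050)) (.leaf (nat_lit
    172208640))) (.leaf (nat_lit 155866117))))) (.node (.node (.node (.node (.leaf (nat_lit
    8667141)) (.leaf (nat_lit 166906885))) (.node (.leaf (nat_lit 100199943)) (.leaf (nat_lit
    43575296)))) (.node (.node (.leaf (nat_lit 58253068)) (.leaf (nat_lit 239264513))) (.leaf
    (nat_lit 145056260)))) (.node (.node (.node (.leaf (nat_lit 36983812)) (.leaf (nat_lit
    166931462))) (.node (.leaf (nat_lit 97898497)) (.leaf (nat_lit 4013056)))) (.node (.node (.leaf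
    (nat_lit 56963077)) (.leaf (nat_lit 89256448))) (.leaf (nat_lit 164999427)))))))))) (.node
    (.node (.node (.node (.node (.node (.node (.node (.node (.leaf (nat_lit 12)) (.leaf (nat_lit
    165524740))) (.node (.leaf (nat_lit 79245835)) (.leaf (nat_lit 134444544)))) (.node (.node
    (.leaf (nat_lit 33853443)) (.leaf (nat_lit 215120904))) (.node (.leaf (nat_lit 122279436))
    (.leaf (nat_lit 1080320))))) (.node (.node (.node (.leaf (nat_lit 18359560)) (.leaf (nat_lit
    188928260))) (.node (.leaf (nat_lit 100499718)) (.leaf (nat_lit 63584256)))) (.node (.node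
    (.leaf (nat_lit 36758278)) (.leaf (nat_lit 205491720))) (.leaf (nat_lit 145894663))))) (.node
    (.node (.node (.node (.leaf (nat_lit 7605506)) (.leaf (nat_lit 176543497))) (.node (.leaf
    (nat_lit 86332939)) (.leaf (nat_lit 48381952)))) (.node (.node (.leaf (nat_lit 39632132))
    (.leaf (nat_lit 226452748))) (.leaf (nat_lit 135088906)))) (.node (.node (.node (.leaf (nat_lit
    28588033)) (.leaf (nat_lit 202001418))) (.node (.leaf (nat_lit 80326662)) (.leaf (nat_lit
    39169024)))) (.node (.node (.leaf (nat_lit 40962822)) (.leaf (nat_lit 229354240))) (.leaf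
    (nat_lit 157123074)))))) (.node (.node (.node (.node (.node (.leaf (nat_lit 2625029)) (.leaf
    (nat_lit 119704071))) (.node (.leaf (nat_lit 64832260)) (.leaf (nat_lit 79770368)))) (.node
    (.node (.leaf (nat_lit 41461004)) (.leaf (nat_lit 221990924))) (.leaf (nat_lit 129844483))))
    (.node (.node (.node (.leaf (nat_lit 12604934)) (.leaf (nat_lit 194701058))) (.node (.leaf
    (nat_lit 77962503)) (.leaf (nat_lit 33261056)))) (.node (.node (.leaf (nat_lit 61404940))
    (.leaf (nat_lit 221749768))) (.leaf (nat_lit 151614979))))) (.node (.node (.node (.node (.leaf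
    (nat_lit 7351811)) (.leaf (nat_lit 183104513))) (.node (.leaf (nat_lit 94986249)) (.leaf
    (nat_lit 32698624)))) (.node (.node (.leaf (nat_lit 45666570)) (.leaf (nat_lit 192118024)))
    (.leaf (nat_lit 130685451)))) (.node (.node (.node (.leaf (nat_lit 33572356)) (.leaf (nat_lit
    208299784))) (.node (.leaf (nat_lit 88981761)) (.leaf (nat_lit 7087616)))) (.node (.node (.leaf
    (nat_lit 75822083)) (.leaf (nat_lit 161165056))) (.leaf (nat_lit 161587203))))))) (.node (.node
    (.node (.node (.node (.node (.leaf (nat_lit 1050118)) (.leaf (nat_lit 167411467))) (.node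
    (.leaf (nat_lit 82624257)) (.leaf (nat_lit 114187264)))) (.node (.node (.leaf (nat_lit
    40130817)) (.leaf (nat_lit 218793220))) (.leaf (nat_lit 113107457)))) (.node (.node (.node
    (.leaf (nat_lit 11554313)) (.leaf (nat_lit 171891716))) (.node (.leaf (nat_lit 101814274))
    (.leaf (nat_lit 54086656)))) (.node (.node (.leaf (nat_lit 62165000)) (.leaf (nat_lit
    231970568))) (.leaf (nat_lit 98449669))))) (.node (.node (.node (.node (.leaf (nat_lit
    9709067)) (.leaf (nat_lit 179744267))) (.node (.leaf (nat_lit 59597063)) (.leaf (nat_lit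
    61801472)))) (.node (.node (.leaf (nat_lit 47761414)) (.leaf (nat_lit 231125507))) (.leaf
    (nat_lit 138498049)))) (.node (.node (.node (.leaf (nat_lit 30701067)) (.leaf (nat_lit
    176623107))) (.node (.leaf (nat_lit 115415556)) (.leaf (nat_lit 28605440)))) (.node (.node
    (.leaf (nat_lit 41752069)) (.leaf (nat_lit 214899973))) (.leaf (nat_lit 122839044)))))) (.node
    (.node (.node (.node (.node (.leaf (nat_lit 5248011)) (.leaf (nat_lit 173139713))) (.node
    (.leaf (nat_lit 55397641)) (.leaf (nat_lit 80402432)))) (.node (.node (.leaf (nat_lit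
    30192387)) (.leaf (nat_lit 225352193))) (.leaf (nat_lit 96860421)))) (.node (.node (.node
    (.leaf (nat_lit 25965315)) (.leaf (nat_lit 198589441))) (.node (.leaf (nat_lit 85305094))
    (.leaf (nat_lit 26362112)))) (.node (.node (.leaf (nat_lit 61669635)) (.leaf (nat_lit
    214937605))) (.leaf (nat_lit 154499849))))) (.node (.node (.node (.node (.leaf (nat_lit
    14691335)) (.leaf (nat_lit 185517324))) (.node (.leaf (nat_lit 97350917)) (.leaf (nat_lit
    61666816)))) (.node (.node (.leaf (nat_lit 53532940)) (.leaf (nat_lit 237472268))) (.leaf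
    (nat_lit 135406091)))) (.node (.node (.node (.leaf (nat_lit 35424012)) (.leaf (nat_lit
    164046088))) (.node (.leaf (nat_lit 114936577)) (.leaf (nat_lit 1844480)))) (.node (.node
    (.leaf (nat_lit 78425090)) (.leaf (nat_lit 126578176))) (.leaf (nat_lit 129396741))))))))
    (.node (.node (.node (.node (.node (.node (.node (.leaf (nat_lit 525066)) (.leaf (nat_lit
    166838282))) (.node (.leaf (nat_lit 65352964)) (.leaf (nat_lit 72499968)))) (.node (.node
    (.leaf (nat_lit 33330179)) (.leaf (nat_lit 216716297))) (.leaf (nat_lit 123591691)))) (.node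
    (.node (.node (.leaf (nat_lit 11553285)) (.leaf (nat_lit 191236612))) (.node (.leaf (nat_lit
    102824452)) (.leaf (nat_lit 41199104)))) (.node (.node (.leaf (nat_lit 49604613)) (.leaf
    (nat_lit 206250759))) (.leaf (nat_lit 147943427))))) (.node (.node (.node (.node (.leaf
    (nat_lit 9179393)) (.leaf (nat_lit 126002953))) (.node (.leaf (nat_lit 91280641)) (.leaf
    (nat_lit 91116032)))) (.node (.node (.leaf (nat_lit 51168011)) (.leaf (nat_lit 229580545)))
    (.leaf (nat_lit 137186823)))) (.node (.node (.node (.leaf (nat_lit 23097605)) (.leaf (nat_lit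
    203579146))) (.node (.leaf (nat_lit 104707073)) (.leaf (nat_lit 18126336)))) (.node (.node
    (.leaf (nat_lit 72129540)) (.leaf (nat_lit 188193280))) (.leaf (nat_lit 158444548)))))) (.node
    (.node (.node (.node (.node (.leaf (nat_lit 2101257)) (.leaf (nat_lit 119967494))) (.node
    (.leaf (nat_lit 64309254)) (.leaf (nat_lit 55442176)))) (.node (.node (.leaf (nat_lit
    31501321)) (.leaf (nat_lit 195777802))) (.leaf (nat_lit 130937867)))) (.node (.node (.node
    (.leaf (nat_lit 24653834)) (.leaf (nat_lit 184216577))) (.node (.leaf (nat_lit 71409925))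
    (.leaf (nat_lit 33447936)))) (.node (.node (.leaf (nat_lit 66121219)) (.leaf (nat_lit
    245574920))) (.leaf (nat_lit 98977286))))) (.node (.node (.node (.node (.leaf (nat_lit
    6304520)) (.leaf (nat_lit 184416257))) (.node (.leaf (nat_lit 62222337)) (.leaf (nat_lit
    62718208)))) (.node (.node (.leaf (nat_lit 34395402)) (.leaf (nat_lit 236113160))) (.leaf
    (nat_lit 138550795)))) (.node (.node (.node (.leaf (nat_lit 34359043)) (.leaf (nat_lit
    209133067))) (.node (.leaf (nat_lit 119376136)) (.leaf (nat_lit 9200896)))) (.node (.node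
    (.leaf (nat_lit 77112835)) (.leaf (nat_lit 192355584))) (.leaf (nat_lit 162374916))))))) (.node
    (.node (.node (.node (.node (.node (.leaf (nat_lit 1837569)) (.leaf (nat_lit 118915846)))
    (.node (.leaf (nat_lit 77152262)) (.leaf (nat_lit 126756096)))) (.node (.node (.leaf (nat_lit
    40673291)) (.leaf (nat_lit 220891144))) (.leaf (nat_lit 85059849)))) (.node (.node (.node
    (.leaf (nat_lit 21517068)) (.leaf (nat_lit 167698949))) (.node (.leaf (nat_lit 76125959))
    (.leaf (nat_lit 55491584)))) (.node (.node (.leaf (nat_lit 48558596)) (.leaf (nat_lit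
    208641032))) (.leaf (nat_lit 150565897))))) (.node (.node (.node (.node (.leaf (nat_lit
    9972236)) (.leaf (nat_lit 179745548))) (.node (.leaf (nat_lit 94167303)) (.leaf (nat_lit
    48564480)))) (.node (.node (.leaf (nat_lit 33344262)) (.leaf (nat_lit 185824771))) (.leaf
    (nat_lit 136975372)))) (.node (.node (.node (.leaf (nat_lit 24934916)) (.leaf (nat_lit
    164827913))) (.node (.leaf (nat_lit 107592964)) (.leaf (nat_lit 12728576)))) (.node (.node
    (.leaf (nat_lit 71638283)) (.leaf (nat_lit 167713536))) (.leaf (nat_lit 159540236)))))) (.node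
    (.node (.node (.node (.node (.leaf (nat_lit 4462340)) (.leaf (nat_lit 174445065))) (.node
    (.leaf (nat_lit 88920071)) (.leaf (nat_lit 80031491)))) (.node (.node (.leaf (nat_lit
    33077510)) (.leaf (nat_lit 226926340))) (.leaf (nat_lit 117308935)))) (.node (.node (.node
    (.leaf (nat_lit 27276810)) (.leaf (nat_lit 153811974))) (.node (.leaf (nat_lit 112530177))
    (.leaf (nat_lit 39212288)))) (.node (.node (.leaf (nat_lit 42796551)) (.leaf (nat_lit
    221466624))) (.leaf (nat_lit 155848711))))) (.node (.node (.node (.node (.leaf (nat_lit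
    16522756)) (.leaf (nat_lit 187611651))) (.node (.leaf (nat_lit 98663436)) (.leaf (nat_lit
    28883968)))) (.node (.node (.leaf (nat_lit 35708425)) (.leaf (nat_lit 239000577))) (.leaf
    (nat_lit 92677898)))) (.node (.node (.node (.leaf (nat_lit 22055686)) (.leaf (nat_lit
    188164870))) (.node (.leaf (nat_lit 121713927)) (.leaf (nat_lit 4508416)))) (.node (.node
    (.leaf (nat_lit 55127809)) (.leaf (nat_lit 79847936))) (.leaf (nat_lit 164525068)))))))))
    (.node (.node (.node (.node (.node (.node (.node (.node (.leaf (nat_lit 524805)) (.leaf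
    (nat_lit 166098951))) (.node (.leaf (nat_lit 78984204)) (.leaf (nat_lit 113190912)))) (.node
    (.node (.leaf (nat_lit 28873221)) (.leaf (nat_lit 215908097))) (.node (.leaf (nat_lit
    122804492)) (.leaf (nat_lit 1312777))))) (.node (.node (.node (.leaf (nat_lit 18368267)) (.leaf
    (nat_lit 190449927))) (.node (.leaf (nat_lit 101534727)) (.leaf (nat_lit 39154944)))) (.node
    (.node (.leaf (nat_lit 60352011)) (.leaf (nat_lit 227748359))) (.leaf (nat_lit 103428103)))))
    (.node (.node (.node (.node (.leaf (nat_lit 8134658)) (.leaf (nat_lit 177330433))) (.node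
    (.leaf (nat_lit 90003724)) (.leaf (nat_lit 63534592)))) (.node (.node (.leaf (nat_lit
    43040772)) (.leaf (nat_lit 229026305))) (.leaf (nat_lit 135875594)))) (.node (.node (.node
    (.leaf (nat_lit 28601868)) (.leaf (nat_lit 203051268))) (.node (.leaf (nat_lit 100512257))
    (.leaf (nat_lit 23373568)))) (.node (.node (.leaf (nat_lit 70818311)) (.leaf (nat_lit
    172466688))) (.leaf (nat_lit 124672260)))))) (.node (.node (.node (.node (.node (.leaf (nat_lit
    2887429)) (.leaf (nat_lit 171296514))) (.node (.leaf (nat_lit 84231435)) (.leaf (nat_lit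
    79066624)))) (.node (.node (.leaf (nat_lit 37529867)) (.leaf (nat_lit 172184325))) (.leaf
    (nat_lit 116519175)))) (.node (.node (.node (.leaf (nat_lit 23353867)) (.leaf (nat_lit
    195696131))) (.node (.leaf (nat_lit 79273733)) (.leaf (nat_lit 48195072)))) (.node (.node
    (.leaf (nat_lit 65574151)) (.leaf (nat_lit 244545802))) (.leaf (nat_lit 148259586))))) (.node
    (.node (.node (.node (.leaf (nat_lit 12850689)) (.leaf (nat_lit 138329092))) (.node (.leaf
    (nat_lit 95776268)) (.leaf (nat_lit 33912832)))) (.node (.node (.leaf (nat_lit 54055691))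
    (.leaf (nat_lit 235326471))) (.leaf (nat_lit 90053638)))) (.node (.node (.node (.leaf (nat_lit
    18645257)) (.leaf (nat_lit 208824330))) (.node (.leaf (nat_lit 80331785)) (.leaf (nat_lit
    3155200)))) (.node (.node (.leaf (nat_lit 76346884)) (.leaf (nat_lit 161952512))) (.leaf
    (nat_lit 161849353))))))) (.node (.node (.node (.node (.node (.node (.leaf (nat_lit 1837064))
    (.leaf (nat_lit 121536778))) (.node (.leaf (nat_lit 51461382)) (.leaf (nat_lit 114756352))))
    (.node (.node (.leaf (nat_lit 30711049)) (.leaf (nat_lit 219366660))) (.leaf (nat_lit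
    127484170)))) (.node (.node (.node (.leaf (nat_lit 16797699)) (.leaf (nat_lit 139910918)))
    (.node (.leaf (nat_lit 70881793)) (.leaf (nat_lit 85583616)))) (.node (.node (.leaf (nat_lit
    53538570)) (.leaf (nat_lit 208902664))) (.leaf (nat_lit 149779209))))) (.node (.node (.node
    (.node (.leaf (nat_lit 10233868)) (.leaf (nat_lit 180742154))) (.node (.leaf (nat_lit
    93380104)) (.leaf (nat_lit 53532416)))) (.node (.node (.leaf (nat_lit 50121219)) (.leaf
    (nat_lit 231912451))) (.leaf (nat_lit 120197379)))) (.node (.node (.node (.leaf (nat_lit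
    26769419)) (.leaf (nat_lit 160632582))) (.node (.leaf (nat_lit 116202497)) (.leaf (nat_lit
    18706432)))) (.node (.node (.leaf (nat_lit 62724357)) (.leaf (nat_lit 208331785))) (.leaf
    (nat_lit 159277580)))))) (.node (.node (.node (.node (.node (.leaf (nat_lit 5510667)) (.leaf
    (nat_lit 158242311))) (.node (.leaf (nat_lit 87117836)) (.leaf (nat_lit 86953984)))) (.node
    (.node (.leaf (nat_lit 39106307)) (.leaf (nat_lit 176119046))) (.leaf (nat_lit 121502465))))
    (.node (.node (.node (.leaf (nat_lit 26498818)) (.leaf (nat_lit 199639049))) (.node (.leaf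
    (nat_lit 72198661)) (.leaf (nat_lit 29070336)))) (.node (.node (.leaf (nat_lit 41223174))
    (.leaf (nat_lit 248726275))) (.leaf (nat_lit 141971208))))) (.node (.node (.node (.node (.leaf
    (nat_lit 15735815)) (.leaf (nat_lit 186777865))) (.node (.leaf (nat_lit 98626564)) (.leaf
    (nat_lit 81171968)))) (.node (.node (.leaf (nat_lit 57465867)) (.leaf (nat_lit 235113740)))
    (.leaf (nat_lit 118367237)))) (.node (.node (.node (.leaf (nat_lit 22055169)) (.leaf (nat_lit
    180561667))) (.node (.leaf (nat_lit 120926468)) (.leaf (nat_lit 2627328)))) (.node (.node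
    (.leaf (nat_lit 67448067)) (.leaf (nat_lit 192128000))) (.leaf (nat_lit 163213836))))))))
    (.node (.node (.node (.node (.node (.node (.node (.leaf (nat_lit 787719)) (.leaf (nat_lit
    129662210))) (.node (.leaf (nat_lit 81837570)) (.leaf (nat_lit 79655424)))) (.node (.node
    (.leaf (nat_lit 23631365)) (.leaf (nat_lit 191315209))) (.leaf (nat_lit 125689867)))) (.node
    (.node (.node (.leaf (nat_lit 19680267)) (.leaf (nat_lit 191761418))) (.node (.leaf (nat_lit
    103873799)) (.leaf (nat_lit 48732160)))) (.node (.node (.leaf (nat_lit 49867014)) (.leaf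
    (nat_lit 240317443))) (.leaf (nat_lit 148730371))))) (.node (.node (.node (.node (.leaf
    (nat_lit 6824963)) (.leaf (nat_lit 129935881))) (.node (.leaf (nat_lit 91577868)) (.leaf
    (nat_lit 84496896)))) (.node (.node (.leaf (nat_lit 46449924)) (.leaf (nat_lit 230600706)))
    (.leaf (nat_lit 114167048)))) (.node (.node (.node (.leaf (nat_lit 29127430)) (.leaf (nat_lit
    204628225))) (.node (.leaf (nat_lit 114669068)) (.leaf (nat_lit 15751424)))) (.node (.node
    (.leaf (nat_lit 72654084)) (.leaf (nat_lit 214921225))) (.leaf (nat_lit 158973187)))))) (.node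
    (.node (.node (.node (.node (.leaf (nat_lit 4723211)) (.leaf (nat_lit 169251340))) (.node
    (.leaf (nat_lit 86329868)) (.leaf (nat_lit 78983936)))) (.node (.node (.leaf (nat_lit
    46163969)) (.leaf (nat_lit 209410053))) (.leaf (nat_lit 128054785)))) (.node (.node (.node
    (.leaf (nat_lit 16015362)) (.leaf (nat_lit 148828425))) (.node (.leaf (nat_lit 106537985))
    (.leaf (nat_lit 61668096)))) (.node (.node (.leaf (nat_lit 42008322)) (.leaf (nat_lit
    246624010))) (.leaf (nat_lit 141183239))))) (.node (.node (.node (.node (.leaf (nat_lit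
    14162183)) (.leaf (nat_lit 133349893))) (.node (.leaf (nat_lit 96301579)) (.leaf (nat_lit
    63768576)))) (.node (.node (.leaf (nat_lit 47765001)) (.leaf (nat_lit 236422917))) (.leaf
    (nat_lit 137502731)))) (.node (.node (.node (.leaf (nat_lit 20219146)) (.leaf (nat_lit
    209920268))) (.node (.leaf (nat_lit 120139783)) (.leaf (nat_lit 4465408)))) (.node (.node
    (.leaf (nat_lit 70592524)) (.leaf (nat_lit 173238272))) (.leaf (nat_lit 162906625))))))) (.node
    (.node (.node (.node (.node (.node (.leaf (nat_lit 2362372)) (.leaf (nat_lit 169722888)))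
    (.node (.leaf (nat_lit 55919112)) (.leaf (nat_lit 130154752)))) (.node (.node (.leaf (nat_lit
    42753033)) (.leaf (nat_lit 170871813))) (.leaf (nat_lit 129057544)))) (.node (.node (.node
    (.leaf (nat_lit 18371846)) (.leaf (nat_lit 139650053))) (.node (.leaf (nat_lit 74029314))
    (.leaf (nat_lit 55133440)))) (.node (.node (.leaf (nat_lit 56947721)) (.leaf (nat_lit
    242959623))) (.leaf (nat_lit 150852097))))) (.node (.node (.node (.node (.leaf (nat_lit
    11801609)) (.leaf (nat_lit 130987525))) (.node (.leaf (nat_lit 94692353)) (.leaf (nat_lit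
    34230016)))) (.node (.node (.leaf (nat_lit 54296072)) (.leaf (nat_lit 233225473))) (.leaf
    (nat_lit 131733515)))) (.node (.node (.node (.leaf (nat_lit 29916422)) (.leaf (nat_lit
    206988801))) (.node (.leaf (nat_lit 80855047)) (.leaf (nat_lit 23891712)))) (.node (.node
    (.leaf (nat_lit 75538945)) (.leaf (nat_lit 167481088))) (.leaf (nat_lit 160832001)))))) (.node
    (.node (.node (.node (.node (.leaf (nat_lit 6556673)) (.leaf (nat_lit 175231754))) (.node
    (.leaf (nat_lit 89444615)) (.leaf (nat_lit 48719360)))) (.node (.node (.leaf (nat_lit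
    49049346)) (.leaf (nat_lit 203121417))) (.leaf (nat_lit 114163719)))) (.node (.node (.node
    (.leaf (nat_lit 27801348)) (.leaf (nat_lit 197852675))) (.node (.leaf (nat_lit 77180679))
    (.leaf (nat_lit 43951616)))) (.node (.node (.leaf (nat_lit 69254401)) (.leaf (nat_lit
    220942080))) (.leaf (nat_lit 156598276))))) (.node (.node (.node (.node (.leaf (nat_lit
    8667654)) (.leaf (nat_lit 188352001))) (.node (.leaf (nat_lit 100462088)) (.leaf (nat_lit
    90829062)))) (.node (.node (.leaf (nat_lit 36495625)) (.leaf (nat_lit 197104138))) (.leaf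
    (nat_lit 93202949)))) (.node (.node (.node (.leaf (nat_lit 37260811)) (.leaf (nat_lit
    167718663))) (.node (.leaf (nat_lit 122238467)) (.leaf (nat_lit 1576960)))) (.node (.node
    (.leaf (nat_lit 80001031)) (.leaf (nat_lit 168461056))) (.leaf (nat_lit 165261827)))))))))))
    (.node (.node (.node (.node (.node (.node (.node (.node (.node (.node (.leaf (nat_lit 7))
    (.leaf (nat_lit 165311495))) (.node (.leaf (nat_lit 80032268)) (.leaf (nat_lit 168508672))))
    (.node (.node (.leaf (nat_lit 37770505)) (.leaf (nat_lit 214858759))) (.node (.leaf (nat_lit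
    122803467)) (.leaf (nat_lit 1362688))))) (.node (.node (.node (.leaf (nat_lit 12600581)) (.leaf
    (nat_lit 188921345))) (.node (.leaf (nat_lit 64061704)) (.leaf (nat_lit 84329216)))) (.node
    (.node (.leaf (nat_lit 59302412)) (.leaf (nat_lit 238750465))) (.leaf (nat_lit 146106371)))))
    (.node (.node (.node (.node (.leaf (nat_lit 7343361)) (.leaf (nat_lit 176281097))) (.node
    (.leaf (nat_lit 56186376)) (.leaf (nat_lit 84032000)))) (.node (.node (.leaf (nat_lit
    49574153)) (.leaf (nat_lit 227976195))) (.leaf (nat_lit 134826761)))) (.node (.node (.node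
    (.leaf (nat_lit 28325642)) (.leaf (nat_lit 201523460))) (.node (.leaf (nat_lit 113094668))
    (.leaf (nat_lit 39120640)))) (.node (.node (.leaf (nat_lit 40700421)) (.leaf (nat_lit
    206537472))) (.leaf (nat_lit 156128774)))))) (.node (.node (.node (.node (.node (.leaf (nat_lit
    3411212)) (.leaf (nat_lit 169249035))) (.node (.leaf (nat_lit 78201605)) (.leaf (nat_lit
    57036288)))) (.node (.node (.leaf (nat_lit 39625740)) (.leaf (nat_lit 219631371))) (.leaf
    (nat_lit 122547463)))) (.node (.node (.node (.leaf (nat_lit 18372098)) (.leaf (nat_lit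
    140174854))) (.node (.leaf (nat_lit 108070660)) (.leaf (nat_lit 54453504)))) (.node (.node
    (.leaf (nat_lit 56423945)) (.leaf (nat_lit 219652359))) (.leaf (nat_lit 142491656))))) (.node
    (.node (.node (.node (.leaf (nat_lit 9711109)) (.leaf (nat_lit 182579969))) (.node (.leaf
    (nat_lit 92105481)) (.leaf (nat_lit 48641792)))) (.node (.node (.leaf (nat_lit 54579458))
    (.leaf (nat_lit 208370689))) (.leaf (nat_lit 141120515)))) (.node (.node (.node (.leaf (nat_lit
    18906890)) (.leaf (nat_lit 162207752))) (.node (.leaf (nat_lit 80855304)) (.leaf (nat_lit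
    26508800)))) (.node (.node (.leaf (nat_lit 68493580)) (.leaf (nat_lit 186329856))) (.leaf
    (nat_lit 161113867))))))) (.node (.node (.node (.node (.node (.node (.leaf (nat_lit 1574401))
    (.leaf (nat_lit 167624970))) (.node (.leaf (nat_lit 82361864)) (.leaf (nat_lit 128919808))))
    (.node (.node (.leaf (nat_lit 39360517)) (.leaf (nat_lit 218531075))) (.leaf (nat_lit
    126435336)))) (.node (.node (.node (.leaf (nat_lit 17583361)) (.leaf (nat_lit 143055881)))
    (.node (.leaf (nat_lit 104660740)) (.leaf (nat_lit 55135488)))) (.node (.node (.leaf (nat_lit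
    61902855)) (.leaf (nat_lit 205755907))) (.leaf (nat_lit 146946059))))) (.node (.node (.node
    (.node (.leaf (nat_lit 9709060)) (.leaf (nat_lit 179692802))) (.node (.leaf (nat_lit 92102668))
    (.leaf (nat_lit 72985600)))) (.node (.node (.leaf (nat_lit 46974721)) (.leaf (nat_lit
    228814852))) (.leaf (nat_lit 138235658)))) (.node (.node (.node (.leaf (nat_lit 30685698))
    (.leaf (nat_lit 165088777))) (.node (.leaf (nat_lit 101037826)) (.leaf (nat_lit 18147328))))
    (.node (.node (.leaf (nat_lit 72916231)) (.leaf (nat_lit 194748416))) (.leaf (nat_lit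
    151150337)))))) (.node (.node (.node (.node (.node (.leaf (nat_lit 5245191)) (.leaf (nat_lit
    167154699))) (.node (.leaf (nat_lit 86854660)) (.leaf (nat_lit 79103744)))) (.node (.node
    (.leaf (nat_lit 46950921)) (.leaf (nat_lit 225089793))) (.leaf (nat_lit 132466696)))) (.node
    (.node (.node (.leaf (nat_lit 25702916)) (.leaf (nat_lit 148566793))) (.node (.leaf (nat_lit
    110955783)) (.leaf (nat_lit 43841792)))) (.node (.node (.leaf (nat_lit 67409666)) (.leaf
    (nat_lit 214937354))) (.leaf (nat_lit 152456204))))) (.node (.node (.node (.node (.leaf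
    (nat_lit 14694412)) (.leaf (nat_lit 185728002))) (.node (.leaf (nat_lit 97839879)) (.leaf
    (nat_lit 66403328)))) (.node (.node (.leaf (nat_lit 56918530)) (.leaf (nat_lit 237687561)))
    (.leaf (nat_lit 109191427)))) (.node (.node (.node (.leaf (nat_lit 19957511)) (.leaf (nat_lit
    210183179))) (.node (.leaf (nat_lit 120401928)) (.leaf (nat_lit 5774336)))) (.node (.node
    (.leaf (nat_lit 69544460)) (.leaf (nat_lit 215710720))) (.leaf (nat_lit 163686403))))))))
    (.node (.node (.node (.node (.node (.node (.node (.leaf (nat_lit 525068)) (.leaf (nat_lit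
    118651651))) (.node (.leaf (nat_lit 70333702)) (.leaf (nat_lit 126492160)))) (.node (.node
    (.leaf (nat_lit 38819338)) (.leaf (nat_lit 216695041))) (.leaf (nat_lit 113892102)))) (.node
    (.node (.node (.leaf (nat_lit 19146499)) (.leaf (nat_lit 189978635))) (.node (.leaf (nat_lit
    65897989)) (.leaf (nat_lit 79535872)))) (.node (.node (.leaf (nat_lit 44361737)) (.leaf
    (nat_lit 226173448))) (.leaf (nat_lit 147418889))))) (.node (.node (.node (.node (.leaf
    (nat_lit 8917000)) (.leaf (nat_lit 177886979))) (.node (.leaf (nat_lit 78732041)) (.leaf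
    (nat_lit 54887168)))) (.node (.node (.leaf (nat_lit 51147527)) (.leaf (nat_lit 216492809)))
    (.leaf (nat_lit 136924674)))) (.node (.node (.node (.leaf (nat_lit 15495173)) (.leaf (nat_lit
    201262851))) (.node (.leaf (nat_lit 114366212)) (.leaf (nat_lit 18912512)))) (.node (.node
    (.leaf (nat_lit 71867395)) (.leaf (nat_lit 233812224))) (.leaf (nat_lit 158435073)))))) (.node
    (.node (.node (.node (.node (.leaf (nat_lit 3935752)) (.leaf (nat_lit 171820810))) (.node
    (.leaf (nat_lit 54347526)) (.leaf (nat_lit 130987776)))) (.node (.node (.leaf (nat_lit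
    29403907)) (.leaf (nat_lit 223550980))) (.leaf (nat_lit 130893321)))) (.node (.node (.node
    (.leaf (nat_lit 24391689)) (.leaf (nat_lit 196220675))) (.node (.leaf (nat_lit 79536134))
    (.leaf (nat_lit 48207872)))) (.node (.node (.leaf (nat_lit 41221125)) (.leaf (nat_lit
    215459592))) (.leaf (nat_lit 108414212))))) (.node (.node (.node (.node (.leaf (nat_lit
    12595723)) (.leaf (nat_lit 183942667))) (.node (.leaf (nat_lit 96528392)) (.leaf (nat_lit
    54676992)))) (.node (.node (.leaf (nat_lit 53269516)) (.leaf (nat_lit 235851015))) (.leaf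
    (nat_lit 141935106)))) (.node (.node (.node (.leaf (nat_lit 23626244)) (.leaf (nat_lit
    208084236))) (.node (.leaf (nat_lit 118343436)) (.leaf (nat_lit 8179968)))) (.node (.node
    (.leaf (nat_lit 73737484)) (.leaf (nat_lit 113123072))) (.leaf (nat_lit 119958020))))))) (.node
    (.node (.node (.node (.node (.node (.leaf (nat_lit 2622723)) (.leaf (nat_lit 121275146)))
    (.node (.leaf (nat_lit 83443468)) (.leaf (nat_lit 127843584)))) (.node (.node (.leaf (nat_lit
    41966088)) (.leaf (nat_lit 220628996))) (.leaf (nat_lit 127002636)))) (.node (.node (.node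
    (.leaf (nat_lit 21769474)) (.leaf (nat_lit 180543748))) (.node (.leaf (nat_lit 106496772))
    (.leaf (nat_lit 55395840)))) (.node (.node (.leaf (nat_lit 38597126)) (.leaf (nat_lit
    242185737))) (.leaf (nat_lit 143539464))))) (.node (.node (.node (.node (.leaf (nat_lit
    5515521)) (.leaf (nat_lit 181047818))) (.node (.leaf (nat_lit 93904905)) (.leaf (nat_lit
    67568896)))) (.node (.node (.leaf (nat_lit 50383620)) (.leaf (nat_lit 188970498))) (.leaf
    (nat_lit 88740614)))) (.node (.node (.node (.leaf (nat_lit 31997442)) (.leaf (nat_lit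
    203887116))) (.node (.leaf (nat_lit 116727042)) (.leaf (nat_lit 18757632)))) (.node (.node
    (.leaf (nat_lit 74489604)) (.leaf (nat_lit 193933312))) (.leaf (nat_lit 113665034)))))) (.node
    (.node (.node (.node (.node (.leaf (nat_lit 3151621)) (.leaf (nat_lit 150902786))) (.node
    (.leaf (nat_lit 88429067)) (.leaf (nat_lit 57004800)))) (.node (.node (.leaf (nat_lit
    48524809)) (.leaf (nat_lit 226451460))) (.leaf (nat_lit 133777923)))) (.node (.node (.node
    (.leaf (nat_lit 16017161)) (.leaf (nat_lit 174521092))) (.node (.leaf (nat_lit 106277894))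
    (.leaf (nat_lit 41539072)))) (.node (.node (.leaf (nat_lit 62719236)) (.leaf (nat_lit
    219104256))) (.leaf (nat_lit 150360587))))) (.node (.node (.node (.node (.leaf (nat_lit
    14171403)) (.leaf (nat_lit 136760069))) (.node (.leaf (nat_lit 98401036)) (.leaf (nat_lit
    88978944)))) (.node (.node (.leaf (nat_lit 57969672)) (.leaf (nat_lit 238521867))) (.leaf
    (nat_lit 144268553)))) (.node (.node (.node (.leaf (nat_lit 36211468)) (.leaf (nat_lit
    212281858))) (.node (.leaf (nat_lit 120966924)) (.leaf (nat_lit 1095936)))) (.node (.node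
    (.leaf (nat_lit 48836360)) (.leaf (nat_lit 80331264))) (.leaf (nat_lit 164737028)))))))))
    (.node (.node (.node (.node (.node (.node (.node (.node (.leaf (nat_lit 262411)) (.leaf
    (nat_lit 148797701))) (.node (.leaf (nat_lit 80552195)) (.leaf (nat_lit 117892096)))) (.node
    (.node (.leaf (nat_lit 34115844)) (.leaf (nat_lit 213071116))) (.node (.leaf (nat_lit
    123066380)) (.leaf (nat_lit 1836297))))) (.node (.node (.node (.leaf (nat_lit 11028231)) (.leaf
    (nat_lit 190187780))) (.node (.leaf (nat_lit 98665227)) (.leaf (nat_lit 43614208)))) (.node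
    (.node (.leaf (nat_lit 59827468)) (.leaf (nat_lit 203656456))) (.leaf (nat_lit 146681612)))))
    (.node (.node (.node (.node (.leaf (nat_lit 4726534)) (.leaf (nat_lit 177068034))) (.node
    (.leaf (nat_lit 90247688)) (.leaf (nat_lit 48125440)))) (.node (.node (.leaf (nat_lit
    38584069)) (.leaf (nat_lit 228763906))) (.leaf (nat_lit 127010054)))) (.node (.node (.node
    (.leaf (nat_lit 23883269)) (.leaf (nat_lit 202788362))) (.node (.leaf (nat_lit 113841416))
    (.leaf (nat_lit 39492352)))) (.node (.node (.leaf (nat_lit 56429829)) (.leaf (nat_lit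
    239053056))) (.leaf (nat_lit 157647618)))))) (.node (.node (.node (.node (.node (.leaf (nat_lit
    3933700)) (.leaf (nat_lit 121015305))) (.node (.leaf (nat_lit 85248776)) (.leaf (nat_lit
    48567296)))) (.node (.node (.leaf (nat_lit 40151052)) (.leaf (nat_lit 223013642))) (.leaf
    (nat_lit 130369027)))) (.node (.node (.node (.leaf (nat_lit 23605002)) (.leaf (nat_lit
    191293708))) (.node (.leaf (nat_lit 108857607)) (.leaf (nat_lit 33325568)))) (.node (.node
    (.leaf (nat_lit 40433926)) (.leaf (nat_lit 223847428))) (.leaf (nat_lit 150356742))))) (.node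
    (.node (.node (.node (.leaf (nat_lit 12333068)) (.leaf (nat_lit 140950538))) (.node (.leaf
    (nat_lit 60648711)) (.leaf (nat_lit 32436992)))) (.node (.node (.leaf (nat_lit 33870600))
    (.leaf (nat_lit 235063553))) (.leaf (nat_lit 141645059)))) (.node (.node (.node (.leaf (nat_lit
    24150017)) (.leaf (nat_lit 193927940))) (.node (.leaf (nat_lit 118080260)) (.leaf (nat_lit
    7222272)))) (.node (.node (.leaf (nat_lit 67445516)) (.leaf (nat_lit 167451136))) (.leaf
    (nat_lit 159279111))))))) (.node (.node (.node (.node (.node (.node (.leaf (nat_lit 2099212))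
    (.leaf (nat_lit 118652934))) (.node (.leaf (nat_lit 83149064)) (.leaf (nat_lit 127803392))))
    (.node (.node (.leaf (nat_lit 41179649)) (.leaf (nat_lit 219317763))) (.leaf (nat_lit
    127000072)))) (.node (.node (.node (.leaf (nat_lit 20982785)) (.leaf (nat_lit 139648518)))
    (.node (.leaf (nat_lit 76386823)) (.leaf (nat_lit 85626112)))) (.node (.node (.leaf (nat_lit
    62451458)) (.leaf (nat_lit 231971079))) (.leaf (nat_lit 122567170))))) (.node (.node (.node
    (.node (.leaf (nat_lit 10490376)) (.leaf (nat_lit 180269062))) (.node (.leaf (nat_lit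
    93117959)) (.leaf (nat_lit 53672704)))) (.node (.node (.leaf (nat_lit 48548358)) (.leaf
    (nat_lit 192901897))) (.leaf (nat_lit 120983814)))) (.node (.node (.node (.leaf (nat_lit
    31472899)) (.leaf (nat_lit 176885508))) (.node (.leaf (nat_lit 75086341)) (.leaf (nat_lit
    18706176)))) (.node (.node (.leaf (nat_lit 55908353)) (.leaf (nat_lit 208850184))) (.leaf
    (nat_lit 123625990)))))) (.node (.node (.node (.node (.node (.leaf (nat_lit 5769738)) (.leaf
    (nat_lit 152475141))) (.node (.leaf (nat_lit 87890951)) (.leaf (nat_lit 90887424)))) (.node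
    (.node (.leaf (nat_lit 32290569)) (.leaf (nat_lit 176905223))) (.leaf (nat_lit 87161606))))
    (.node (.node (.node (.leaf (nat_lit 14705925)) (.leaf (nat_lit 199376649))) (.node (.leaf
    (nat_lit 111514625)) (.leaf (nat_lit 66230272)))) (.node (.node (.leaf (nat_lit 68196353))
    (.leaf (nat_lit 222016263))) (.leaf (nat_lit 155024386))))) (.node (.node (.node (.node (.leaf
    (nat_lit 15473418)) (.leaf (nat_lit 168478468))) (.node (.leaf (nat_lit 97613318)) (.leaf
    (nat_lit 54681600)))) (.node (.node (.leaf (nat_lit 57705994)) (.leaf (nat_lit 212569350)))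
    (.leaf (nat_lit 129114884)))) (.node (.node (.node (.leaf (nat_lit 20744456)) (.leaf (nat_lit
    180823556))) (.node (.leaf (nat_lit 119393291)) (.leaf (nat_lit 3003904)))) (.node (.node
    (.leaf (nat_lit 56438022)) (.leaf (nat_lit 120294912))) (.leaf (nat_lit 164210698))))))))
    (.node (.node (.node (.node (.node (.node (.node (.leaf (nat_lit 1049612)) (.leaf (nat_lit
    119438597))) (.node (.leaf (nat_lit 81344268)) (.leaf (nat_lit 80090624)))) (.node (.node
    (.leaf (nat_lit 26252810)) (.leaf (nat_lit 216743173))) (.leaf (nat_lit 125910536)))) (.node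
    (.node (.node (.leaf (nat_lit 19932938)) (.leaf (nat_lit 180279811))) (.node (.leaf (nat_lit
    73239298)) (.leaf (nat_lit 79653632)))) (.node (.node (.leaf (nat_lit 48294148)) (.leaf
    (nat_lit 226988810))) (.leaf (nat_lit 148256267))))) (.node (.node (.node (.node (.leaf
    (nat_lit 9441538)) (.leaf (nat_lit 128624899))) (.node (.leaf (nat_lit 58809607)) (.leaf
    (nat_lit 54842368)))) (.node (.node (.leaf (nat_lit 30983430)) (.leaf (nat_lit 196308489)))
    (.leaf (nat_lit 137497858)))) (.node (.node (.node (.leaf (nat_lit 22573571)) (.leaf (nat_lit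
    160631560))) (.node (.leaf (nat_lit 114890760)) (.leaf (nat_lit 18630656)))) (.node (.node
    (.leaf (nat_lit 49353738)) (.leaf (nat_lit 214920970))) (.leaf (nat_lit 108158469)))))) (.node
    (.node (.node (.node (.node (.leaf (nat_lit 4198668)) (.leaf (nat_lit 172607745))) (.node
    (.leaf (nat_lit 86560008)) (.leaf (nat_lit 61714688)))) (.node (.node (.leaf (nat_lit
    45639425)) (.leaf (nat_lit 193943297))) (.leaf (nat_lit 131680004)))) (.node (.node (.node
    (.leaf (nat_lit 25178376)) (.leaf (nat_lit 197275658))) (.node (.leaf (nat_lit 110168836))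
    (.leaf (nat_lit 33345536)))) (.node (.node (.leaf (nat_lit 41745921)) (.leaf (nat_lit
    246105096))) (.leaf (nat_lit 153450498))))) (.node (.node (.node (.node (.leaf (nat_lit
    13899778)) (.leaf (nat_lit 185203465))) (.node (.leaf (nat_lit 97052936)) (.leaf (nat_lit
    33498112)))) (.node (.node (.leaf (nat_lit 56131841)) (.leaf (nat_lit 236900103))) (.leaf
    (nat_lit 117841668)))) (.node (.node (.node (.leaf (nat_lit 32801803)) (.leaf (nat_lit
    210136584))) (.node (.leaf (nat_lit 119654667)) (.leaf (nat_lit 9207296)))) (.node (.node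
    (.leaf (nat_lit 77637380)) (.leaf (nat_lit 171922432))) (.leaf (nat_lit 129920262))))))) (.node
    (.node (.node (.node (.node (.node (.leaf (nat_lit 3147017)) (.leaf (nat_lit 169460743)))
    (.node (.leaf (nat_lit 54083841)) (.leaf (nat_lit 73520896)))) (.node (.node (.leaf (nat_lit
    24683013)) (.leaf (nat_lit 221415688))) (.leaf (nat_lit 109177601)))) (.node (.node (.node
    (.leaf (nat_lit 13653255)) (.leaf (nat_lit 187884300))) (.node (.leaf (nat_lit 107283719))
    (.leaf (nat_lit 85280512)))) (.node (.node (.leaf (nat_lit 64000769)) (.leaf (nat_lit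
    242947843))) (.leaf (nat_lit 112606983))))) (.node (.node (.node (.node (.leaf (nat_lit
    11545612)) (.leaf (nat_lit 182055433))) (.node (.leaf (nat_lit 93415178)) (.leaf (nat_lit
    130201088)))) (.node (.node (.leaf (nat_lit 54033927)) (.leaf (nat_lit 185038849))) (.leaf
    (nat_lit 140595971)))) (.node (.node (.node (.leaf (nat_lit 32785668)) (.leaf (nat_lit
    161420293))) (.node (.leaf (nat_lit 107069187)) (.leaf (nat_lit 8581120)))) (.node (.node
    (.leaf (nat_lit 73735945)) (.leaf (nat_lit 142569216))) (.leaf (nat_lit 160064775)))))) (.node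
    (.node (.node (.node (.node (.leaf (nat_lit 5773317)) (.leaf (nat_lit 174496518))) (.node
    (.leaf (nat_lit 55399430)) (.leaf (nat_lit 85911296)))) (.node (.node (.leaf (nat_lit
    33339909)) (.leaf (nat_lit 227451393))) (.leaf (nat_lit 134302465)))) (.node (.node (.node
    (.leaf (nat_lit 20998407)) (.leaf (nat_lit 200951818))) (.node (.leaf (nat_lit 102084099))
    (.leaf (nat_lit 24443904)))) (.node (.node (.leaf (nat_lit 61409285)) (.leaf (nat_lit
    213860608))) (.leaf (nat_lit 135418887))))) (.node (.node (.node (.node (.leaf (nat_lit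
    10502401)) (.leaf (nat_lit 143314186))) (.node (.leaf (nat_lit 63012357)) (.leaf (nat_lit
    79507968)))) (.node (.node (.leaf (nat_lit 37019653)) (.leaf (nat_lit 239529226))) (.leaf
    (nat_lit 95561993)))) (.node (.node (.node (.leaf (nat_lit 22056457)) (.leaf (nat_lit
    213547778))) (.node (.leaf (nat_lit 81645829)) (.leaf (nat_lit 1315072)))) (.node (.node (.leaf
    (nat_lit 62730243)) (.leaf (nat_lit 79066368))) (.leaf (nat_lit 164787463)))))))))) (.node
    (.node (.node (.node (.node (.node (.node (.node (.node (.leaf (nat_lit 265)) (.leaf (nat_lit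
    165574668))) (.node (.leaf (nat_lit 79770380)) (.leaf (nat_lit 85858304)))) (.node (.node
    (.leaf (nat_lit 38032650)) (.leaf (nat_lit 215383305))) (.node (.leaf (nat_lit 123549444))
    (.leaf (nat_lit 2886154))))) (.node (.node (.node (.leaf (nat_lit 18105868)) (.leaf (nat_lit
    189400839))) (.node (.leaf (nat_lit 101249027)) (.leaf (nat_lit 28867584)))) (.node (.node
    (.leaf (nat_lit 37282822)) (.leaf (nat_lit 202079744))) (.leaf (nat_lit 95563272))))) (.node
    (.node (.node (.node (.leaf (nat_lit 7867655)) (.leaf (nat_lit 176805642))) (.node (.leaf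
    (nat_lit 88168203)) (.leaf (nat_lit 39468800)))) (.node (.node (.leaf (nat_lit 49593867))
    (.leaf (nat_lit 205481473))) (.leaf (nat_lit 87687941)))) (.node (.node (.node (.leaf (nat_lit
    19426567)) (.leaf (nat_lit 202263810))) (.node (.leaf (nat_lit 113579271)) (.leaf (nat_lit
    39494144)))) (.node (.node (.leaf (nat_lit 61672454)) (.leaf (nat_lit 209430528))) (.leaf
    (nat_lit 132536068)))))) (.node (.node (.node (.node (.node (.leaf (nat_lit 2887179)) (.leaf
    (nat_lit 119704328))) (.node (.leaf (nat_lit 55657479)) (.leaf (nat_lit 62758144)))) (.node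
    (.node (.leaf (nat_lit 41199116)) (.leaf (nat_lit 222727169))) (.leaf (nat_lit 123596551))))
    (.node (.node (.node (.leaf (nat_lit 17848071)) (.leaf (nat_lit 195171331))) (.node (.leaf
    (nat_lit 97361153)) (.leaf (nat_lit 33082368)))) (.node (.node (.leaf (nat_lit 40171526))
    (.leaf (nat_lit 244259586))) (.leaf (nat_lit 112345607))))) (.node (.node (.node (.node (.leaf
    (nat_lit 6041351)) (.leaf (nat_lit 183366921))) (.node (.leaf (nat_lit 95479042)) (.leaf
    (nat_lit 39153664)))) (.node (.node (.leaf (nat_lit 55082759)) (.leaf (nat_lit 191856135)))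
    (.leaf (nat_lit 141382660)))) (.node (.node (.node (.leaf (nat_lit 23101446)) (.leaf (nat_lit
    208562185))) (.node (.leaf (nat_lit 79544581)) (.leaf (nat_lit 9793536)))) (.node (.node (.leaf
    (nat_lit 68231692)) (.leaf (nat_lit 117863168))) (.leaf (nat_lit 142501893))))))) (.node (.node
    (.node (.node (.node (.node (.leaf (nat_lit 1836035)) (.leaf (nat_lit 162168580))) (.node
    (.leaf (nat_lit 82654473)) (.leaf (nat_lit 55181056)))) (.node (.node (.leaf (nat_lit
    40392962)) (.leaf (nat_lit 219055367))) (.leaf (nat_lit 126697731)))) (.node (.node (.node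
    (.leaf (nat_lit 20720394)) (.leaf (nat_lit 192285962))) (.node (.leaf (nat_lit 105185288))
    (.leaf (nat_lit 85849344)))) (.node (.node (.leaf (nat_lit 62427393)) (.leaf (nat_lit
    231446535))) (.leaf (nat_lit 149303298))))) (.node (.node (.node (.node (.leaf (nat_lit
    6301186)) (.leaf (nat_lit 179964170))) (.node (.leaf (nat_lit 92855809)) (.leaf (nat_lit
    33445888)))) (.node (.node (.leaf (nat_lit 52721156)) (.leaf (nat_lit 231387652))) (.leaf
    (nat_lit 135663628)))) (.node (.node (.node (.leaf (nat_lit 16283397)) (.leaf (nat_lit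
    203623948))) (.node (.leaf (nat_lit 107853825)) (.leaf (nat_lit 9972224)))) (.node (.node
    (.leaf (nat_lit 42014470)) (.leaf (nat_lit 214899457))) (.leaf (nat_lit 159539467)))))) (.node
    (.node (.node (.node (.node (.leaf (nat_lit 5507593)) (.leaf (nat_lit 121279749))) (.node
    (.leaf (nat_lit 87379467)) (.leaf (nat_lit 80440064)))) (.node (.node (.leaf (nat_lit
    28357638)) (.leaf (nat_lit 225139467))) (.leaf (nat_lit 86899206)))) (.node (.node (.node
    (.leaf (nat_lit 24142599)) (.leaf (nat_lit 198851849))) (.node (.leaf (nat_lit 110995468))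
    (.leaf (nat_lit 66917888)))) (.node (.node (.leaf (nat_lit 43057671)) (.leaf (nat_lit
    215200005))) (.leaf (nat_lit 154762241))))) (.node (.node (.node (.node (.leaf (nat_lit
    14694660)) (.leaf (nat_lit 143836681))) (.node (.leaf (nat_lit 98102024)) (.leaf (nat_lit
    60879616)))) (.node (.node (.leaf (nat_lit 57203212)) (.leaf (nat_lit 196053767))) (.leaf
    (nat_lit 143245315)))) (.node (.node (.node (.leaf (nat_lit 20744199)) (.leaf (nat_lit
    209921291))) (.node (.leaf (nat_lit 80333573)) (.leaf (nat_lit 5846272)))) (.node (.node (.leaf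
    (nat_lit 78687490)) (.leaf (nat_lit 109277184))) (.leaf (nat_lit 163948553)))))))) (.node
    (.node (.node (.node (.node (.node (.node (.leaf (nat_lit 1048839)) (.leaf (nat_lit
    166624267))) (.node (.leaf (nat_lit 50411015)) (.leaf (nat_lit 128847872)))) (.node (.node
    (.leaf (nat_lit 39081737)) (.leaf (nat_lit 170343173))) (.leaf (nat_lit 125385219)))) (.node
    (.node (.node (.leaf (nat_lit 19670793)) (.leaf (nat_lit 181852417))) (.node (.leaf (nat_lit
    102598924)) (.leaf (nat_lit 55132416)))) (.node (.node (.leaf (nat_lit 39118852)) (.leaf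
    (nat_lit 228008962))) (.leaf (nat_lit 148205572))))) (.node (.node (.node (.node (.leaf
    (nat_lit 8135435)) (.leaf (nat_lit 146712328))) (.node (.leaf (nat_lit 62479363)) (.leaf
    (nat_lit 33381120)))) (.node (.node (.leaf (nat_lit 30458888)) (.leaf (nat_lit 230075908)))
    (.leaf (nat_lit 127798278)))) (.node (.node (.node (.leaf (nat_lit 29899010)) (.leaf (nat_lit
    175310851))) (.node (.leaf (nat_lit 76657927)) (.leaf (nat_lit 19070720)))) (.node (.node
    (.leaf (nat_lit 72391939)) (.leaf (nat_lit 213871114))) (.leaf (nat_lit 158698244)))))) (.node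
    (.node (.node (.node (.node (.leaf (nat_lit 4458250)) (.leaf (nat_lit 172083201))) (.node
    (.leaf (nat_lit 86297863)) (.leaf (nat_lit 48903936)))) (.node (.node (.leaf (nat_lit
    27044869)) (.leaf (nat_lit 224038916))) (.leaf (nat_lit 131417859)))) (.node (.node (.node
    (.leaf (nat_lit 24916231)) (.leaf (nat_lit 144633096))) (.node (.leaf (nat_lit 71672325))
    (.leaf (nat_lit 38595584)))) (.node (.node (.leaf (nat_lit 41483525)) (.leaf (nat_lit
    245837320))) (.leaf (nat_lit 152717067))))) (.node (.node (.node (.node (.leaf (nat_lit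
    12333835)) (.leaf (nat_lit 184467458))) (.node (.leaf (nat_lit 96790791)) (.leaf (nat_lit
    53553152)))) (.node (.node (.leaf (nat_lit 39900420)) (.leaf (nat_lit 236375559))) (.leaf
    (nat_lit 142432002)))) (.node (.node (.node (.leaf (nat_lit 25461505)) (.leaf (nat_lit
    209612042))) (.node (.leaf (nat_lit 80070665)) (.leaf (nat_lit 3190272)))) (.node (.node (.leaf
    (nat_lit 48571905)) (.leaf (nat_lit 119968256))) (.leaf (nat_lit 122579713))))))) (.node (.node
    (.node (.node (.node (.node (.leaf (nat_lit 2624260)) (.leaf (nat_lit 136479753))) (.node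
    (.leaf (nat_lit 64307203)) (.leaf (nat_lit 48640256)))) (.node (.node (.leaf (nat_lit
    24420614)) (.leaf (nat_lit 218319371))) (.leaf (nat_lit 85060106)))) (.node (.node (.node
    (.leaf (nat_lit 11817991)) (.leaf (nat_lit 142533386))) (.node (.leaf (nat_lit 107021320))
    (.leaf (nat_lit 54130688)))) (.node (.node (.leaf (nat_lit 63738378)) (.leaf (nat_lit
    242685187))) (.leaf (nat_lit 100023811))))) (.node (.node (.node (.node (.leaf (nat_lit
    8137226)) (.leaf (nat_lit 181529090))) (.node (.leaf (nat_lit 94429703)) (.leaf (nat_lit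
    48047616)))) (.node (.node (.leaf (nat_lit 53771778)) (.leaf (nat_lit 190281474))) (.leaf
    (nat_lit 140071425)))) (.node (.node (.node (.leaf (nat_lit 28605195)) (.leaf (nat_lit
    206726410))) (.node (.leaf (nat_lit 104709637)) (.leaf (nat_lit 22713856)))) (.node (.node
    (.leaf (nat_lit 74522124)) (.leaf (nat_lit 193671936))) (.leaf (nat_lit 143811843)))))) (.node
    (.node (.node (.node (.node (.leaf (nat_lit 6294282)) (.leaf (nat_lit 174707210))) (.node
    (.leaf (nat_lit 55137029)) (.leaf (nat_lit 79620864)))) (.node (.node (.leaf (nat_lit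
    48281868)) (.leaf (nat_lit 203645186))) (.leaf (nat_lit 134040068)))) (.node (.node (.node
    (.leaf (nat_lit 27027467)) (.leaf (nat_lit 154074373))) (.node (.leaf (nat_lit 112307468))
    (.leaf (nat_lit 23880704)))) (.node (.node (.leaf (nat_lit 68982792)) (.leaf (nat_lit
    172731648))) (.leaf (nat_lit 156073731))))) (.node (.node (.node (.node (.leaf (nat_lit
    16785159)) (.leaf (nat_lit 187827209))) (.node (.leaf (nat_lit 99702536)) (.leaf (nat_lit
    80326400)))) (.node (.node (.leaf (nat_lit 58493193)) (.leaf (nat_lit 238784265))) (.leaf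
    (nat_lit 144794115)))) (.node (.node (.node (.leaf (nat_lit 36721667)) (.leaf (nat_lit
    168504067))) (.node (.leaf (nat_lit 81383430)) (.leaf (nat_lit 8332288)))) (.node (.node (.leaf
    (nat_lit 72429570)) (.leaf (nat_lit 85596672))) (.leaf (nat_lit 130708482))))))))) (.node
    (.node (.node (.node (.node (.node (.node (.node (.leaf (nat_lit 524804)) (.leaf (nat_lit
    143292932))) (.node (.leaf (nat_lit 80818185)) (.leaf (nat_lit 161455360)))) (.node (.node
    (.leaf (nat_lit 37523980)) (.leaf (nat_lit 216170242))) (.node (.leaf (nat_lit 82172422))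
    (.leaf (nat_lit 1049609))))) (.node (.node (.node (.leaf (nat_lit 18630668)) (.leaf (nat_lit
    189715979))) (.node (.leaf (nat_lit 65635333)) (.leaf (nat_lit 39155200)))) (.node (.node
    (.leaf (nat_lit 60352258)) (.leaf (nat_lit 210199558))) (.leaf (nat_lit 147156740))))) (.node
    (.node (.node (.node (.leaf (nat_lit 7610372)) (.leaf (nat_lit 177592578))) (.node (.leaf
    (nat_lit 90755844)) (.leaf (nat_lit 33119232)))) (.node (.node (.leaf (nat_lit 50623233))
    (.leaf (nat_lit 229288705))) (.leaf (nat_lit 136137985)))) (.node (.node (.node (.leaf (nat_lit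
    29112329)) (.leaf (nat_lit 198903297))) (.node (.leaf (nat_lit 108376587)) (.leaf (nat_lit
    23552000)))) (.node (.node (.leaf (nat_lit 71080456)) (.leaf (nat_lit 207830784))) (.leaf
    (nat_lit 102652421)))))) (.node (.node (.node (.node (.node (.leaf (nat_lit 2625291)) (.leaf
    (nat_lit 171558665))) (.node (.leaf (nat_lit 56968711)) (.leaf (nat_lit 78983168)))) (.node
    (.node (.leaf (nat_lit 44590345)) (.leaf (nat_lit 223288579))) (.leaf (nat_lit 130631172))))
    (.node (.node (.node (.leaf (nat_lit 22829836)) (.leaf (nat_lit 195738625))) (.node (.leaf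
    (nat_lit 109119752)) (.leaf (nat_lit 48193024)))) (.node (.node (.leaf (nat_lit 65836296))
    (.leaf (nat_lit 214148354))) (.leaf (nat_lit 151920392))))) (.node (.node (.node (.node (.leaf
    (nat_lit 9974022)) (.leaf (nat_lit 183891465))) (.node (.leaf (nat_lit 95776267)) (.leaf
    (nat_lit 53377280)))) (.node (.node (.leaf (nat_lit 34395145)) (.leaf (nat_lit 214925569)))
    (.leaf (nat_lit 141673985)))) (.node (.node (.node (.leaf (nat_lit 33325324)) (.leaf (nat_lit
    208608267))) (.node (.leaf (nat_lit 118605067)) (.leaf (nat_lit 8411904)))) (.node (.node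
    (.leaf (nat_lit 73475084)) (.leaf (nat_lit 166664192))) (.leaf (nat_lit 161376524))))))) (.node
    (.node (.node (.node (.node (.node (.leaf (nat_lit 2360329)) (.leaf (nat_lit 168411913)))
    (.node (.leaf (nat_lit 51199497)) (.leaf (nat_lit 79892224)))) (.node (.node (.leaf (nat_lit
    41441794)) (.leaf (nat_lit 220104451))) (.leaf (nat_lit 127746563)))) (.node (.node (.node
    (.leaf (nat_lit 17846534)) (.leaf (nat_lit 140435461))) (.node (.leaf (nat_lit 67998469))
    (.leaf (nat_lit 85585408)))) (.node (.node (.leaf (nat_lit 63213832)) (.leaf (nat_lit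
    221223681))) (.leaf (nat_lit 149830667))))) (.node (.node (.node (.node (.leaf (nat_lit
    10233867)) (.leaf (nat_lit 128626950))) (.node (.leaf (nat_lit 93152267)) (.leaf (nat_lit
    67567360)))) (.node (.node (.leaf (nat_lit 53247242)) (.leaf (nat_lit 232174849))) (.leaf
    (nat_lit 88478213)))) (.node (.node (.node (.leaf (nat_lit 31482113)) (.leaf (nat_lit
    205939713))) (.node (.leaf (nat_lit 106806019)) (.leaf (nat_lit 33436160)))) (.node (.node
    (.leaf (nat_lit 73965063)) (.leaf (nat_lit 206758663))) (.leaf (nat_lit 113664777)))))) (.node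
    (.node (.node (.node (.node (.leaf (nat_lit 3413509)) (.leaf (nat_lit 173920515))) (.node
    (.leaf (nat_lit 55136521)) (.leaf (nat_lit 131471616)))) (.node (.node (.leaf (nat_lit
    32290826)) (.leaf (nat_lit 203906565))) (.leaf (nat_lit 89783305)))) (.node (.node (.node
    (.leaf (nat_lit 26502660)) (.leaf (nat_lit 151451909))) (.node (.leaf (nat_lit 112005122))
    (.leaf (nat_lit 39419904)))) (.node (.node (.leaf (nat_lit 68212740)) (.leaf (nat_lit
    248988425))) (.leaf (nat_lit 100028421))))) (.node (.node (.node (.node (.leaf (nat_lit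
    14433291)) (.leaf (nat_lit 144099594))) (.node (.leaf (nat_lit 98654472)) (.leaf (nat_lit
    41497856)))) (.node (.node (.leaf (nat_lit 57968388)) (.leaf (nat_lit 238738178))) (.leaf
    (nat_lit 108930051)))) (.node (.node (.node (.leaf (nat_lit 36196871)) (.leaf (nat_lit
    211972354))) (.node (.leaf (nat_lit 121188867)) (.leaf (nat_lit 3938304)))) (.node (.node
    (.leaf (nat_lit 79214343)) (.leaf (nat_lit 137853440))) (.leaf (nat_lit 121008901))))))))
    (.node (.node (.node (.node (.node (.node (.node (.leaf (nat_lit 1312002)) (.leaf (nat_lit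
    167362825))) (.node (.leaf (nat_lit 62732294)) (.leaf (nat_lit 80180224)))) (.node (.node
    (.leaf (nat_lit 39098118)) (.leaf (nat_lit 208092676))) (.leaf (nat_lit 91349255)))) (.node
    (.node (.node (.leaf (nat_lit 19942412)) (.leaf (nat_lit 191552267))) (.node (.leaf (nat_lit
    74025985)) (.leaf (nat_lit 79354112)))) (.node (.node (.leaf (nat_lit 46459401)) (.leaf
    (nat_lit 240318721))) (.leaf (nat_lit 120993543))))) (.node (.node (.node (.node (.leaf
    (nat_lit 6563077)) (.leaf (nat_lit 129936138))) (.node (.leaf (nat_lit 57761543)) (.leaf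
    (nat_lit 48731904)))) (.node (.node (.leaf (nat_lit 45925894)) (.leaf (nat_lit 228552451)))
    (.leaf (nat_lit 113118468)))) (.node (.node (.node (.leaf (nat_lit 30423306)) (.leaf (nat_lit
    204890376))) (.node (.leaf (nat_lit 84260357)) (.leaf (nat_lit 22568192)))) (.node (.node
    (.leaf (nat_lit 62461190)) (.leaf (nat_lit 212837383))) (.leaf (nat_lit 152461060)))))) (.node
    (.node (.node (.node (.node (.leaf (nat_lit 4985611)) (.leaf (nat_lit 168989452))) (.node
    (.leaf (nat_lit 85805574)) (.leaf (nat_lit 54594816)))) (.node (.node (.leaf (nat_lit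
    46426114)) (.leaf (nat_lit 224599041))) (.leaf (nat_lit 88995593)))) (.node (.node (.node
    (.leaf (nat_lit 22306827)) (.leaf (nat_lit 197800202))) (.node (.leaf (nat_lit 96314630))
    (.leaf (nat_lit 39100928)))) (.node (.node (.leaf (nat_lit 40173573)) (.leaf (nat_lit
    219393288))) (.leaf (nat_lit 153712897))))) (.node (.node (.node (.node (.leaf (nat_lit
    14424328)) (.leaf (nat_lit 185465610))) (.node (.leaf (nat_lit 64844551)) (.leaf (nat_lit
    73742080)))) (.node (.node (.leaf (nat_lit 54581004)) (.leaf (nat_lit 194217992))) (.leaf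
    (nat_lit 142956546)))) (.node (.node (.node (.leaf (nat_lit 35146503)) (.leaf (nat_lit
    210661122))) (.node (.leaf (nat_lit 80071174)) (.leaf (nat_lit 2104064)))) (.node (.node (.leaf
    (nat_lit 77899779)) (.leaf (nat_lit 192099584))) (.leaf (nat_lit 114978313))))))) (.node (.node
    (.node (.node (.node (.node (.leaf (nat_lit 3409162)) (.leaf (nat_lit 169510668))) (.node
    (.leaf (nat_lit 80036353)) (.leaf (nat_lit 87191040)))) (.node (.node (.leaf (nat_lit
    39887628)) (.leaf (nat_lit 221678083))) (.leaf (nat_lit 89779201)))) (.node (.node (.node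
    (.leaf (nat_lit 18109697)) (.leaf (nat_lit 194384386))) (.node (.leaf (nat_lit 75864584))
    (.leaf (nat_lit 48019712)))) (.node (.node (.leaf (nat_lit 64262914)) (.leaf (nat_lit
    208379657))) (.leaf (nat_lit 150880260))))) (.node (.node (.node (.node (.leaf (nat_lit
    11808012)) (.leaf (nat_lit 141211402))) (.node (.leaf (nat_lit 60123655)) (.leaf (nat_lit
    87474944)))) (.node (.node (.leaf (nat_lit 54054668)) (.leaf (nat_lit 233273867))) (.leaf
    (nat_lit 140646660)))) (.node (.node (.node (.leaf (nat_lit 33047817)) (.leaf (nat_lit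
    207250946))) (.node (.leaf (nat_lit 79282182)) (.leaf (nat_lit 28766720)))) (.node (.node
    (.leaf (nat_lit 70328329)) (.leaf (nat_lit 120481024))) (.leaf (nat_lit 113403401)))))) (.node
    (.node (.node (.node (.node (.leaf (nat_lit 6560268)) (.leaf (nat_lit 175494145))) (.node
    (.leaf (nat_lit 88954117)) (.leaf (nat_lit 79301120)))) (.node (.node (.leaf (nat_lit
    47495940)) (.leaf (nat_lit 227713796))) (.leaf (nat_lit 134564610)))) (.node (.node (.node
    (.leaf (nat_lit 23095809)) (.leaf (nat_lit 175046403))) (.node (.leaf (nat_lit 86617857))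
    (.leaf (nat_lit 24491776)))) (.node (.node (.leaf (nat_lit 69273860)) (.leaf (nat_lit
    169058560))) (.leaf (nat_lit 125195521))))) (.node (.node (.node (.node (.leaf (nat_lit
    17572100)) (.leaf (nat_lit 188614146))) (.node (.leaf (nat_lit 64061447)) (.leaf (nat_lit
    85807872)))) (.node (.node (.leaf (nat_lit 59279882)) (.leaf (nat_lit 239831303))) (.leaf
    (nat_lit 93727496)))) (.node (.node (.node (.leaf (nat_lit 29658883)) (.leaf (nat_lit
    167718920))) (.node (.leaf (nat_lit 122500612)) (.leaf (nat_lit 14708736)))) (.node (.node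
    (.leaf (nat_lit 54341889)) (.leaf (nat_lit 118700800))) (.leaf (nat_lit 125466118)))))))))))))

/-- Certificate data. -/
def p1_just : Trie :=
    (.node (.node (.node (.node (.node (.node (.node (.node (.node (.node (.node (.node (.leaf
    (nat_lit 1)) (.leaf (nat_lit 1124198619285352022056))) (.node (.leaf (nat_lit
    582269278697442967571)) (.leaf (nat_lit 1506215620373179990018)))) (.node (.node (.leaf
    (nat_lit 187948446159238004768)) (.leaf (nat_lit 179884487465893908))) (.node (.leaf (nat_lit
    107888474669056028)) (.leaf (nat_lit 247726601167568898))))) (.node (.node (.node (.leaf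
    (nat_lit 0)) (.leaf (nat_lit 161938267267268619))) (.node (.leaf (nat_lit
    733891617716017758229)) (.leaf (nat_lit 7602527699535524773756930)))) (.node (.node (.leaf
    (nat_lit 35366886724206608)) (.leaf (nat_lit
    39224722252849990072675695588678643512415207719978873053891554760167623169550537216358678612)))
    (.leaf (nat_lit 690107380246163685401))))) (.node (.node (.node (.node (.leaf (nat_lit 0))
    (.leaf (nat_lit 0))) (.node (.leaf (nat_lit 409913320279625629758)) (.leaf (nat_lit
    647297751760070967298)))) (.node (.node (.leaf (nat_lit 0)) (.leaf (nat_lit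
    1546256454550743613474))) (.leaf (nat_lit 116756035947069451)))) (.node (.node (.node (.leaf
    (nat_lit 0)) (.leaf (nat_lit 0))) (.node (.leaf (nat_lit 783474984058303479827)) (.leaf
    (nat_lit 242940753469374466)))) (.node (.node (.leaf (nat_lit 499564012965210554423)) (.leaf
    (nat_lit 1683760358030022213634))) (.leaf (nat_lit 56545387787481356678809845791)))))) (.node
    (.node (.node (.node (.node (.leaf (nat_lit 2709742111817744)) (.leaf (nat_lit 0))) (.node
    (.leaf (nat_lit 404147128901501648956)) (.leaf (nat_lit 14588662818075911326531586)))) (.node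
    (.node (.leaf (nat_lit 0)) (.leaf (nat_lit 0))) (.leaf (nat_lit 782045796521912500284))))
    (.node (.node (.node (.leaf (nat_lit 0)) (.leaf (nat_lit 166372047906275339))) (.node (.leaf
    (nat_lit 544817417322343104535)) (.leaf (nat_lit 1953863926280647540738)))) (.node (.node
    (.leaf (nat_lit 465241129685807726605)) (.leaf (nat_lit 0))) (.leaf (nat_lit
    727005266989849706551))))) (.node (.node (.node (.node (.leaf (nat_lit 13301324737282055))
    (.leaf (nat_lit 157293371805794311))) (.node (.leaf (nat_lit 700742766555885142035)) (.leaf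
    (nat_lit 473782566602317955074)))) (.node (.node (.leaf (nat_lit 0)) (.leaf (nat_lit 0)))
    (.leaf (nat_lit 668774918977088585762)))) (.node (.node (.node (.leaf (nat_lit
    19320064272629763)) (.leaf (nat_lit 175450715416821771))) (.node (.leaf (nat_lit
    660982844980604370962)) (.leaf (nat_lit 1841388781135268354981890)))) (.node (.node (.leaf
    (nat_lit 553177676888922062886)) (.leaf (nat_lit 1190890530016329924610))) (.leaf (nat_lit
    855563263833675071525))))))) (.node (.node (.node (.node (.node (.node (.leaf (nat_lit 0))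
    (.leaf (nat_lit 106028375872765955))) (.node (.leaf (nat_lit 600141180774843088908)) (.leaf
    (nat_lit 214017421495894018)))) (.node (.node (.leaf (nat_lit 190255169052631826477)) (.leaf
    (nat_lit 0))) (.leaf (nat_lit 622653377896937357374)))) (.node (.node (.node (.leaf (nat_lit
    0)) (.leaf (nat_lit 1167163701076181581868))) (.node (.leaf (nat_lit 0)) (.leaf (nat_lit
    123766302102408317569262223362)))) (.node (.node (.leaf (nat_lit 0)) (.leaf (nat_lit 0)))
    (.leaf (nat_lit 128330487478485053))))) (.node (.node (.node (.node (.leaf (nat_lit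
    82152519517299998773)) (.leaf (nat_lit 0))) (.node (.leaf (nat_lit 682294051882460708883))
    (.leaf (nat_lit 589073037249753579522)))) (.node (.node (.leaf (nat_lit
    2802939268738815193514017)) (.leaf (nat_lit 102509387924285105485625229327))) (.leaf (nat_lit
    0)))) (.node (.node (.node (.leaf (nat_lit 28995491719151623)) (.leaf (nat_lit
    138612402961907734))) (.node (.leaf (nat_lit 795005395639310942234)) (.leaf (nat_lit
    1225099155387187888128002)))) (.node (.node (.leaf (nat_lit 513089202521794347038)) (.leaf
    (nat_lit 203742910536089602))) (.leaf (nat_lit 1087600643863063232567)))))) (.node (.node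
    (.node (.node (.node (.leaf (nat_lit 53037873276500770829)) (.leaf (nat_lit
    66505968483662406415022358543))) (.node (.leaf (nat_lit 0)) (.leaf (nat_lit
    4738349001334427002077186)))) (.node (.node (.leaf (nat_lit 0)) (.leaf (nat_lit 0))) (.leaf
    (nat_lit 0)))) (.node (.node (.node (.leaf (nat_lit 0)) (.leaf (nat_lit
    1380750749067720720428))) (.node (.leaf (nat_lit 721215955914440507410)) (.leaf (nat_lit
    235693614632665090)))) (.node (.node (.leaf (nat_lit 483112328067176136751)) (.leaf (nat_lit
    0))) (.leaf (nat_lit 0))))) (.node (.node (.node (.node (.leaf (nat_lit 8973934733164566))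
    (.leaf (nat_lit 122918523742846992))) (.node (.leaf (nat_lit 462954184249228591125)) (.leaf
    (nat_lit 4162213938309184314671106)))) (.node (.node (.leaf (nat_lit 0)) (.leaf (nat_lit
    1600993662634685562905))) (.leaf (nat_lit 123582628766023691)))) (.node (.node (.node (.leaf
    (nat_lit 19883289103958033)) (.leaf (nat_lit 177773158852591627))) (.node (.leaf (nat_lit
    824410383335767080978)) (.leaf (nat_lit 415253552069592979079170)))) (.node (.node (.leaf
    (nat_lit 513091384519799537691)) (.leaf (nat_lit 212469025656143874))) (.leaf (nat_lit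
    0)))))))) (.node (.node (.node (.node (.node (.node (.node (.leaf (nat_lit 0)) (.leaf (nat_lit
    854418365053099245623))) (.node (.leaf (nat_lit 598725113474483159078)) (.leaf (nat_lit
    783046590280600059906)))) (.node (.node (.leaf (nat_lit 0)) (.leaf (nat_lit
    87475915737986584167825342479))) (.leaf (nat_lit 736791093787576434706)))) (.node (.node (.node
    (.leaf (nat_lit 138362123350444277783)) (.leaf (nat_lit 0))) (.node (.leaf (nat_lit 0)) (.leaf
    (nat_lit 70712612144414722)))) (.node (.node (.leaf (nat_lit 450828167898059702284)) (.leaf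
    (nat_lit 1550302233736924823644))) (.leaf (nat_lit 126960740803411996))))) (.node (.node (.node
    (.node (.leaf (nat_lit 0)) (.leaf (nat_lit 0))) (.node (.leaf (nat_lit 645686506998158524446))
    (.leaf (nat_lit 3229588061567804254715906)))) (.node (.node (.leaf (nat_lit 0)) (.leaf (nat_lit
    101310057943274830088238334023))) (.leaf (nat_lit 0)))) (.node (.node (.node (.leaf (nat_lit
    17349327118794755)) (.leaf (nat_lit 0))) (.node (.leaf (nat_lit 0)) (.leaf (nat_lit
    259070996722718277634)))) (.node (.node (.leaf (nat_lit 318821612215932747800)) (.leaf (nat_lit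
    1526675297923535929346))) (.leaf (nat_lit 6574337534940318640898081)))))) (.node (.node (.node
    (.node (.node (.leaf (nat_lit 255025662892205578387491)) (.leaf (nat_lit 106662106887225347)))
    (.node (.leaf (nat_lit 402994946423327490069)) (.leaf (nat_lit 928893826336358072322)))) (.node
    (.node (.leaf (nat_lit 30509931547459587)) (.leaf (nat_lit 0))) (.leaf (nat_lit
    113377923909681180)))) (.node (.node (.node (.leaf (nat_lit 9865521859838756978138873897))
    (.leaf (nat_lit 0))) (.node (.leaf (nat_lit 70063762845073430)) (.leaf (nat_lit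
    15368228587967645978198018)))) (.node (.node (.leaf (nat_lit 59468868799823892)) (.leaf
    (nat_lit 0))) (.leaf (nat_lit 0))))) (.node (.node (.node (.node (.leaf (nat_lit
    111264597152907853833)) (.leaf (nat_lit 121440642676162563))) (.node (.leaf (nat_lit 0)) (.leaf
    (nat_lit 889991551065130205186)))) (.node (.node (.leaf (nat_lit 356284698505240576004)) (.leaf
    (nat_lit 0))) (.leaf (nat_lit 0)))) (.node (.node (.node (.leaf (nat_lit 0)) (.leaf (nat_lit
    1348769985371213856837))) (.node (.leaf (nat_lit 0)) (.leaf (nat_lit 248783867497021442))))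
    (.node (.node (.leaf (nat_lit 0)) (.leaf (nat_lit 1143910178906441973762))) (.leaf (nat_lit
    0))))))) (.node (.node (.node (.node (.node (.node (.leaf (nat_lit 1865179742732291)) (.leaf
    (nat_lit 107013675730206723))) (.node (.leaf (nat_lit 75303756090179591)) (.leaf (nat_lit
    1226635179394924216322)))) (.node (.node (.leaf (nat_lit 317653312117066104844)) (.leaf
    (nat_lit 1500675909063025033243))) (.leaf (nat_lit 52113727686902611936022954025)))) (.node
    (.node (.node (.leaf (nat_lit 1187775775969361963253774)) (.leaf (nat_lit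
    10683292485382985035808782))) (.node (.leaf (nat_lit 0)) (.leaf (nat_lit 237381133053067266))))
    (.node (.node (.leaf (nat_lit 37337623878041622)) (.leaf (nat_lit 1506179098891872567343)))
    (.leaf (nat_lit 729310687649159381030))))) (.node (.node (.node (.node (.leaf (nat_lit 0))
    (.leaf (nat_lit 1270631192356295213095))) (.node (.leaf (nat_lit 0)) (.leaf (nat_lit
    580142677171846184962)))) (.node (.node (.leaf (nat_lit 33466243436642320)) (.leaf (nat_lit
    163806749839720506))) (.leaf (nat_lit 966804424093077798918)))) (.node (.node (.node (.leaf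
    (nat_lit 0)) (.leaf (nat_lit 93241079875374424860695789639))) (.node (.leaf (nat_lit 0)) (.leaf
    (nat_lit 16075201790561265471717378)))) (.node (.node (.leaf (nat_lit 323433861459191463998))
    (.leaf (nat_lit 201913546525769730))) (.leaf (nat_lit 891303619232815841285)))))) (.node (.node
    (.node (.node (.node (.leaf (nat_lit 0)) (.leaf (nat_lit 133613610785177670))) (.node (.leaf
    (nat_lit 649144286066092736518)) (.leaf (nat_lit 221899665736597506)))) (.node (.node (.leaf
    (nat_lit 43493231136210951)) (.leaf (nat_lit 1540187746459636138069))) (.leaf (nat_lit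
    933368292534839869477)))) (.node (.node (.node (.leaf (nat_lit 132601598039206068258)) (.leaf
    (nat_lit 0))) (.node (.leaf (nat_lit 799936872037696602179)) (.leaf (nat_lit
    309218222031073640450)))) (.node (.node (.leaf (nat_lit 0)) (.leaf (nat_lit
    184567178639572995))) (.leaf (nat_lit 0))))) (.node (.node (.node (.node (.leaf (nat_lit 0))
    (.leaf (nat_lit 0))) (.node (.leaf (nat_lit 0)) (.leaf (nat_lit 231189216141377538)))) (.node
    (.node (.leaf (nat_lit 432956195460505337885)) (.leaf (nat_lit 192271456615399435))) (.leaf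
    (nat_lit 0)))) (.node (.node (.node (.leaf (nat_lit 21783382635708433)) (.leaf (nat_lit 0)))
    (.node (.leaf (nat_lit 854387257403838234664)) (.leaf (nat_lit
    137621340566681838644766244866)))) (.node (.node (.leaf (nat_lit 44798360028315665)) (.leaf
    (nat_lit 1348556560264362917890))) (.leaf (nat_lit 1146679532965173854238))))))))) (.node
    (.node (.node (.node (.node (.node (.node (.node (.leaf (nat_lit 3458870122771578884)) (.leaf
    (nat_lit 1158787460769517862942))) (.node (.leaf (nat_lit 4619039697830921795534907)) (.leaf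
    (nat_lit 852797631870911315970)))) (.node (.node (.leaf (nat_lit 24739076049600528)) (.leaf
    (nat_lit 151138932778729475))) (.node (.leaf (nat_lit 108381124597776412)) (.leaf (nat_lit
    7982295503994882))))) (.node (.node (.node (.leaf (nat_lit 128561938640255778876)) (.leaf
    (nat_lit 0))) (.node (.leaf (nat_lit 43408580946711195931487043625)) (.leaf (nat_lit
    233159987654950914)))) (.node (.node (.leaf (nat_lit 0)) (.leaf (nat_lit
    1405609988805959548930))) (.leaf (nat_lit 701638143473323540505))))) (.node (.node (.node
    (.node (.leaf (nat_lit 4751054168260625)) (.leaf (nat_lit 109618075179024400))) (.node (.leaf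
    (nat_lit 0)) (.leaf (nat_lit 15117365248395272417181698)))) (.node (.node (.leaf (nat_lit
    314199614900150665254)) (.leaf (nat_lit 0))) (.leaf (nat_lit 0)))) (.node (.node (.node (.leaf
    (nat_lit 15146726139003866172138782786)) (.leaf (nat_lit 1097714571742336450608))) (.node
    (.leaf (nat_lit 69430925183811601)) (.leaf (nat_lit 243644397961478146)))) (.node (.node (.leaf
    (nat_lit 3723884905458899406290977)) (.leaf (nat_lit 1530998470862474248194))) (.leaf (nat_lit
    0)))))) (.node (.node (.node (.node (.node (.leaf (nat_lit 325882489112656609542177)) (.leaf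
    (nat_lit 148918460456501268))) (.node (.leaf (nat_lit 409912369829132828690)) (.leaf (nat_lit
    588211082706955730946)))) (.node (.node (.leaf (nat_lit 0)) (.leaf (nat_lit
    1230893191984855580719))) (.leaf (nat_lit 113131032009637949)))) (.node (.node (.node (.leaf
    (nat_lit 0)) (.leaf (nat_lit 1338662710387692208155))) (.node (.leaf (nat_lit 0)) (.leaf
    (nat_lit 238860594667716610)))) (.node (.node (.leaf (nat_lit 26367059570292521867166416967))
    (.leaf (nat_lit 186466791134986251))) (.leaf (nat_lit 1074332824745608937532))))) (.node (.node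
    (.node (.node (.leaf (nat_lit 73794366718079074322)) (.leaf (nat_lit 121722048933396483)))
    (.node (.leaf (nat_lit 450847065694032560195)) (.leaf (nat_lit 455922064617956900866)))) (.node
    (.node (.leaf (nat_lit 32622024664940561)) (.leaf (nat_lit 0))) (.leaf (nat_lit
    121823204003151900)))) (.node (.node (.node (.leaf (nat_lit 234353641783153590306)) (.leaf
    (nat_lit 143045977442484227))) (.node (.leaf (nat_lit 783480684527877292057)) (.leaf (nat_lit
    248079887997468674)))) (.node (.node (.leaf (nat_lit 3282439053065424015196174)) (.leaf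
    (nat_lit 1444245135077224415234))) (.leaf (nat_lit 857869529115483373632))))))) (.node (.node
    (.node (.node (.node (.node (.leaf (nat_lit 22483904819601014811)) (.leaf (nat_lit
    1190495335670104653863))) (.node (.leaf (nat_lit 612563830519778967590)) (.leaf (nat_lit
    5352231868749763896934402)))) (.node (.node (.leaf (nat_lit 0)) (.leaf (nat_lit
    150716995191570449))) (.leaf (nat_lit 52075034953490011925455896617)))) (.node (.node (.node
    (.leaf (nat_lit 13267046603292688)) (.leaf (nat_lit 124045042124980240))) (.node (.leaf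
    (nat_lit 518875416633725354044)) (.leaf (nat_lit 236958903408132098)))) (.node (.node (.leaf
    (nat_lit 460052349390220886025)) (.leaf (nat_lit 110149374067647785773333544975))) (.leaf
    (nat_lit 0))))) (.node (.node (.node (.node (.leaf (nat_lit 0)) (.leaf (nat_lit 0))) (.node
    (.leaf (nat_lit 686618140920743395337)) (.leaf (nat_lit 226896490818306050)))) (.node (.node
    (.leaf (nat_lit 385699220264589656098)) (.leaf (nat_lit 12003174603942762276716586))) (.leaf
    (nat_lit 7435993584514357220606011)))) (.node (.node (.node (.leaf (nat_lit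
    219648368386710372392)) (.leaf (nat_lit 0))) (.node (.leaf (nat_lit 0)) (.leaf (nat_lit
    1218020828607144175861762)))) (.node (.node (.leaf (nat_lit 0)) (.leaf (nat_lit
    203883699564052482))) (.leaf (nat_lit 886691651670692266022)))))) (.node (.node (.node (.node
    (.node (.leaf (nat_lit 5595204220485635)) (.leaf (nat_lit 7863700972026580554743841))) (.node
    (.leaf (nat_lit 0)) (.leaf (nat_lit 1144780076686311096322)))) (.node (.node (.leaf (nat_lit
    0)) (.leaf (nat_lit 12574555853642077646880827))) (.leaf (nat_lit
    56313226808456342652634595369)))) (.node (.node (.node (.leaf (nat_lit 0)) (.leaf (nat_lit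
    134249059786555395))) (.node (.leaf (nat_lit 631576660843698520088)) (.leaf (nat_lit
    233160064964362242)))) (.node (.node (.leaf (nat_lit 318244623345860673599)) (.leaf (nat_lit
    0))) (.leaf (nat_lit 998807637953008042065))))) (.node (.node (.node (.node (.leaf (nat_lit
    132595158130882707485)) (.leaf (nat_lit 1145256292060112289796))) (.node (.leaf (nat_lit
    58733501679271958)) (.leaf (nat_lit 232455638788210690)))) (.node (.node (.leaf (nat_lit
    19537712424151040945857822761)) (.leaf (nat_lit 0))) (.leaf (nat_lit 0)))) (.node (.node (.node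
    (.leaf (nat_lit 178723525803852890130)) (.leaf (nat_lit 0))) (.node (.leaf (nat_lit
    812304637220190617625)) (.leaf (nat_lit 533316198590576993763330)))) (.node (.node (.leaf
    (nat_lit 349954047217812832304)) (.leaf (nat_lit 14239105375405648183033858))) (.leaf (nat_lit
    100961345255636995)))))))) (.node (.node (.node (.node (.node (.node (.node (.leaf (nat_lit
    739073677459473)) (.leaf (nat_lit 856724208122442481710))) (.node (.leaf (nat_lit
    462943310560266223679)) (.leaf (nat_lit 783911485776484040706)))) (.node (.node (.leaf (nat_lit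
    25442900930330627)) (.leaf (nat_lit 0))) (.leaf (nat_lit 897047534848958464027)))) (.node
    (.node (.node (.leaf (nat_lit 12352115490029571)) (.leaf (nat_lit 0))) (.node (.leaf (nat_lit
    0)) (.leaf (nat_lit 128606083138789972563676430338)))) (.node (.node (.leaf (nat_lit 0)) (.leaf
    (nat_lit 1461239611899108327520))) (.leaf (nat_lit 127594128220487708))))) (.node (.node (.node
    (.node (.leaf (nat_lit 80710910162394873906)) (.leaf (nat_lit 0))) (.node (.leaf (nat_lit
    38572391235963837438329421895)) (.leaf (nat_lit 3272093398376014036598786)))) (.node (.node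
    (.leaf (nat_lit 46378693244878868)) (.leaf (nat_lit 1562364388064750665758))) (.leaf (nat_lit
    958733691879694729266)))) (.node (.node (.node (.leaf (nat_lit 28432473046253579)) (.leaf
    (nat_lit 0))) (.node (.leaf (nat_lit 625814235164050653246)) (.leaf (nat_lit
    244701904809099266)))) (.node (.node (.leaf (nat_lit 507058988122321911840)) (.leaf (nat_lit
    204235448795660290))) (.leaf (nat_lit 758137948290924347447)))))) (.node (.node (.node (.node
    (.node (.leaf (nat_lit 3132160735313936)) (.leaf (nat_lit 1218743320354532556850))) (.node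
    (.leaf (nat_lit 51906496543457297)) (.leaf (nat_lit 113707038663639042)))) (.node (.node (.leaf
    (nat_lit 237527730770764038181)) (.leaf (nat_lit 1521753776009506914359))) (.leaf (nat_lit
    650325640743825375296)))) (.node (.node (.node (.leaf (nat_lit 153353129393398153234)) (.leaf
    (nat_lit 0))) (.node (.leaf (nat_lit 6276528081013382387597347)) (.leaf (nat_lit
    239492994242314242)))) (.node (.node (.leaf (nat_lit 3490189739294599338524686)) (.leaf
    (nat_lit 1474766456658778587160))) (.leaf (nat_lit 729311567602058985516))))) (.node (.node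
    (.node (.node (.leaf (nat_lit 0)) (.leaf (nat_lit 0))) (.node (.leaf (nat_lit
    57888939310186513)) (.leaf (nat_lit 3328799272628870654984194)))) (.node (.node (.leaf (nat_lit
    358590541565993877548)) (.leaf (nat_lit 166762580692566033))) (.leaf (nat_lit
    123019610093125643)))) (.node (.node (.node (.leaf (nat_lit 17525821312767553422697496617))
    (.leaf (nat_lit 144734964741701648))) (.node (.leaf (nat_lit 856691903929652543494)) (.leaf
    (nat_lit 248079845047795714)))) (.node (.node (.leaf (nat_lit 0)) (.leaf (nat_lit
    1233551120805084200962))) (.leaf (nat_lit 0))))))) (.node (.node (.node (.node (.node (.node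
    (.leaf (nat_lit 23637002374917324834)) (.leaf (nat_lit 148035118827700296))) (.node (.leaf
    (nat_lit 0)) (.leaf (nat_lit 591375775083511611394)))) (.node (.node (.leaf (nat_lit
    310159463134739496966)) (.leaf (nat_lit 0))) (.leaf (nat_lit 910884422757877219367)))) (.node
    (.node (.node (.leaf (nat_lit 179581072992945504275)) (.leaf (nat_lit 165809020643442695)))
    (.node (.leaf (nat_lit 538476067511899193367)) (.leaf (nat_lit 237100027443544066)))) (.node
    (.node (.leaf (nat_lit 364360146120268251174)) (.leaf (nat_lit 1583424980515329081397))) (.leaf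
    (nat_lit 0))))) (.node (.node (.node (.node (.leaf (nat_lit 0)) (.leaf (nat_lit
    82755631593881496323516334095))) (.node (.leaf (nat_lit 54299858479218705)) (.leaf (nat_lit
    1225198669596423553026)))) (.node (.node (.leaf (nat_lit 48841882758938635)) (.leaf (nat_lit
    1578507189351627292684))) (.leaf (nat_lit 989286815722685792265)))) (.node (.node (.node (.leaf
    (nat_lit 0)) (.leaf (nat_lit 143468052468596752))) (.node (.leaf (nat_lit
    6203325063085442507997243)) (.leaf (nat_lit 1043300726948421221744642)))) (.node (.node (.leaf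
    (nat_lit 0)) (.leaf (nat_lit 1361234615921797169154))) (.leaf (nat_lit
    853833881508045324320)))))) (.node (.node (.node (.node (.node (.leaf (nat_lit
    5032391706017808)) (.leaf (nat_lit 152366949828001799))) (.node (.leaf (nat_lit
    637038751065338740755)) (.leaf (nat_lit 851649498331421540354)))) (.node (.node (.leaf (nat_lit
    0)) (.leaf (nat_lit 0))) (.leaf (nat_lit 652632258084102930466)))) (.node (.node (.node (.leaf
    (nat_lit 135483901860852727846)) (.leaf (nat_lit 1395167264253711417353))) (.node (.leaf
    (nat_lit 6269445685512670581882939)) (.leaf (nat_lit 239563019389108226)))) (.node (.node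
    (.leaf (nat_lit 324585973242203930647)) (.leaf (nat_lit 12284565034333083982364674))) (.leaf
    (nat_lit 0))))) (.node (.node (.node (.node (.leaf (nat_lit 11014834472747025)) (.leaf (nat_lit
    124255736040652803))) (.node (.leaf (nat_lit 0)) (.leaf (nat_lit 589652581775690629122))))
    (.node (.node (.leaf (nat_lit 34803868051308547)) (.leaf (nat_lit 197584331160551496))) (.leaf
    (nat_lit 705960261980610822218)))) (.node (.node (.node (.leaf (nat_lit 289981823334953975835))
    (.leaf (nat_lit 0))) (.node (.leaf (nat_lit 792130481369026592786)) (.leaf (nat_lit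
    422351065838135684628482)))) (.node (.node (.leaf (nat_lit 541636149133688635440)) (.leaf
    (nat_lit 848185453314224357378))) (.leaf (nat_lit 7448075944406271068995626)))))))))) (.node
    (.node (.node (.node (.node (.node (.node (.node (.node (.leaf (nat_lit 1)) (.leaf (nat_lit
    1182175742361417744407))) (.node (.leaf (nat_lit 403854816631381491772)) (.leaf (nat_lit
    1313970322273407795202)))) (.node (.node (.leaf (nat_lit 24739041689862147)) (.leaf (nat_lit
    1474732360081646747667))) (.node (.leaf (nat_lit 0)) (.leaf (nat_lit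
    16859245201290633366732802))))) (.node (.node (.node (.leaf (nat_lit 127409017101289193535))
    (.leaf (nat_lit 0))) (.node (.leaf (nat_lit 469872558011037450264)) (.leaf (nat_lit
    2922604301834878365990914)))) (.node (.node (.leaf (nat_lit 0)) (.leaf (nat_lit
    1412790099296420823105))) (.leaf (nat_lit 1033391095291941421109))))) (.node (.node (.node
    (.node (.leaf (nat_lit 72062169135876079625)) (.leaf (nat_lit 891316744833261043716))) (.node
    (.leaf (nat_lit 411642702579485573144)) (.leaf (nat_lit 906413828253369434114)))) (.node (.node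
    (.leaf (nat_lit 296905862674022334509)) (.leaf (nat_lit 1548850739076701290528))) (.leaf
    (nat_lit 648020748090615201796)))) (.node (.node (.node (.leaf (nat_lit 135484113087344345134))
    (.leaf (nat_lit 11394104633592795736834083))) (.node (.leaf (nat_lit 641377338289715085372))
    (.leaf (nat_lit 16198024805651245533757442)))) (.node (.node (.leaf (nat_lit 0)) (.leaf
    (nat_lit 1558092057015927111682))) (.leaf (nat_lit 66140173987125212372684570665)))))) (.node
    (.node (.node (.node (.node (.leaf (nat_lit 0)) (.leaf (nat_lit 0))) (.node (.leaf (nat_lit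
    620320262901956018188)) (.leaf (nat_lit 14687981529382616394104834)))) (.node (.node (.leaf
    (nat_lit 0)) (.leaf (nat_lit 0))) (.leaf (nat_lit 0)))) (.node (.node (.node (.leaf (nat_lit
    149028758759879671832)) (.leaf (nat_lit 0))) (.node (.leaf (nat_lit 0)) (.leaf (nat_lit
    404914373849145081858)))) (.node (.node (.leaf (nat_lit 0)) (.leaf (nat_lit 0))) (.leaf
    (nat_lit 0))))) (.node (.node (.node (.node (.leaf (nat_lit 72064984418219130927)) (.leaf
    (nat_lit 0))) (.node (.leaf (nat_lit 85824854007349320)) (.leaf (nat_lit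
    394230984493842497538)))) (.node (.node (.leaf (nat_lit 400672035592036614156)) (.leaf (nat_lit
    0))) (.leaf (nat_lit 671081043504228663360)))) (.node (.node (.node (.leaf (nat_lit
    31458698413080583)) (.leaf (nat_lit 0))) (.node (.leaf (nat_lit 103313982311497748)) (.leaf
    (nat_lit 246320411694989314)))) (.node (.node (.leaf (nat_lit 36348565099151889548932612167))
    (.leaf (nat_lit 1472491610729187835906))) (.leaf (nat_lit 856716185364051722278))))))) (.node
    (.node (.node (.node (.node (.node (.leaf (nat_lit 17006823925147172888)) (.leaf (nat_lit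
    106028410232504336))) (.node (.leaf (nat_lit 74388863631622164)) (.leaf (nat_lit
    1197523375443222396930)))) (.node (.node (.leaf (nat_lit 190831629830705053765)) (.leaf
    (nat_lit 11743308394202005009334305))) (.leaf (nat_lit 82661589119008790)))) (.node (.node
    (.node (.leaf (nat_lit 0)) (.leaf (nat_lit 1153905490844245491716))) (.node (.leaf (nat_lit 0))
    (.leaf (nat_lit 15873452034000291830693890)))) (.node (.node (.leaf (nat_lit
    37618995775537169)) (.leaf (nat_lit 0))) (.leaf (nat_lit 0))))) (.node (.node (.node (.node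
    (.leaf (nat_lit 88497317370438811703)) (.leaf (nat_lit 0))) (.node (.leaf (nat_lit 0)) (.leaf
    (nat_lit 579561924072176812034)))) (.node (.node (.leaf (nat_lit 0)) (.leaf (nat_lit
    102722194307903426287645294607))) (.leaf (nat_lit 655515301095391035436)))) (.node (.node
    (.node (.leaf (nat_lit 0)) (.leaf (nat_lit 1133459888507308933165))) (.node (.leaf (nat_lit
    716607014852561666072)) (.leaf (nat_lit 245124185993641986)))) (.node (.node (.leaf (nat_lit
    41068163751870481)) (.leaf (nat_lit 182456391192150018))) (.leaf (nat_lit 0)))))) (.node (.node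
    (.node (.node (.node (.leaf (nat_lit 3484107535417361)) (.leaf (nat_lit
    75385280708527013822325915689))) (.node (.leaf (nat_lit 0)) (.leaf (nat_lit
    217184315631599618)))) (.node (.node (.leaf (nat_lit 29876784648552451)) (.leaf (nat_lit
    1253954577804766150703))) (.leaf (nat_lit 734777281796844486679)))) (.node (.node (.node (.leaf
    (nat_lit 192552742128086876190)) (.leaf (nat_lit 0))) (.node (.leaf (nat_lit
    69641722178699281)) (.leaf (nat_lit 241042206125850626)))) (.node (.node (.leaf (nat_lit
    317668162567787446339)) (.leaf (nat_lit 0))) (.leaf (nat_lit 1090507501183812436019))))) (.node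
    (.node (.node (.node (.leaf (nat_lit 7196001111350951466951311401)) (.leaf (nat_lit 0))) (.node
    (.leaf (nat_lit 58733467319533585)) (.leaf (nat_lit 231189250501115906)))) (.node (.node (.leaf
    (nat_lit 423154990377756459020)) (.leaf (nat_lit 163244246562897923))) (.leaf (nat_lit 0))))
    (.node (.node (.node (.leaf (nat_lit 277009450718529257491)) (.leaf (nat_lit 0))) (.node (.leaf
    (nat_lit 72598308945788950)) (.leaf (nat_lit 136576720030839144279657742338)))) (.node (.node
    (.leaf (nat_lit 2996671021980533855092778)) (.leaf (nat_lit 213031984199499778))) (.leaf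
    (nat_lit 123760784009461830)))))))) (.node (.node (.node (.node (.node (.node (.node (.leaf
    (nat_lit 75562764275769334300686)) (.leaf (nat_lit 1142648670861836615717))) (.node (.leaf
    (nat_lit 461213928260406280259)) (.leaf (nat_lit 810140379143624392706)))) (.node (.node (.leaf
    (nat_lit 24387335407927312)) (.leaf (nat_lit 89935463609210645350208307271))) (.leaf (nat_lit
    0)))) (.node (.node (.node (.leaf (nat_lit 0)) (.leaf (nat_lit 10741974132244415785467937)))
    (.node (.leaf (nat_lit 0)) (.leaf (nat_lit 1914658614648343035906)))) (.node (.node (.leaf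
    (nat_lit 296913217436149547012)) (.leaf (nat_lit 1457780565721332514910))) (.leaf (nat_lit
    0))))) (.node (.node (.node (.node (.leaf (nat_lit 57940358585508888599)) (.leaf (nat_lit 0)))
    (.node (.leaf (nat_lit 675394182115368304678)) (.leaf (nat_lit 663147632304515645442)))) (.node
    (.node (.leaf (nat_lit 29454984500346897)) (.leaf (nat_lit 1489441926933557477450))) (.leaf
    (nat_lit 968533383905594769420)))) (.node (.node (.node (.leaf (nat_lit 0)) (.leaf (nat_lit
    1251057283688262991909))) (.node (.leaf (nat_lit 547703521726190256183)) (.leaf (nat_lit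
    243644947717292034)))) (.node (.node (.leaf (nat_lit 526347659001385386011)) (.leaf (nat_lit
    1650902660267638980610))) (.leaf (nat_lit 1116164231823962079279)))))) (.node (.node (.node
    (.node (.node (.leaf (nat_lit 0)) (.leaf (nat_lit 106662141246963728))) (.node (.leaf (nat_lit
    0)) (.leaf (nat_lit 107162736865181698)))) (.node (.node (.leaf (nat_lit 0)) (.leaf (nat_lit
    0))) (.leaf (nat_lit 0)))) (.node (.node (.node (.leaf (nat_lit 190822796783784230918)) (.leaf
    (nat_lit 1356001182028054855744))) (.node (.leaf (nat_lit 0)) (.leaf (nat_lit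
    239211218617892866)))) (.node (.node (.leaf (nat_lit 26018881890758053039154987079)) (.leaf
    (nat_lit 1478801505960092434455))) (.leaf (nat_lit 0))))) (.node (.node (.node (.node (.leaf
    (nat_lit 0)) (.leaf (nat_lit 940898492282113818693))) (.node (.leaf (nat_lit
    58170379927158806)) (.leaf (nat_lit 228443967535054850)))) (.node (.node (.leaf (nat_lit 0))
    (.leaf (nat_lit 1473595554806162980882))) (.leaf (nat_lit 0)))) (.node (.node (.node (.leaf
    (nat_lit 257696467249373839399)) (.leaf (nat_lit 0))) (.node (.leaf (nat_lit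
    50295304853699846117697847327)) (.leaf (nat_lit 247938463314345986)))) (.node (.node (.leaf
    (nat_lit 3875250845166098553503779)) (.leaf (nat_lit 9434668746696909855653890))) (.leaf
    (nat_lit 1142641000110375501863))))))) (.node (.node (.node (.node (.node (.node (.leaf
    (nat_lit 22484080844540674080)) (.leaf (nat_lit 1206060268692355350572))) (.node (.leaf
    (nat_lit 0)) (.leaf (nat_lit 1022280119934909612034)))) (.node (.node (.leaf (nat_lit
    39481705911943188)) (.leaf (nat_lit 10775570328574855278231587))) (.leaf (nat_lit 0)))) (.node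
    (.node (.node (.leaf (nat_lit 21465108379205643)) (.leaf (nat_lit 0))) (.node (.leaf (nat_lit
    0)) (.leaf (nat_lit 237804986195640322)))) (.node (.node (.leaf (nat_lit
    326313806794036805637)) (.leaf (nat_lit 0))) (.leaf (nat_lit 129739988370849835))))) (.node
    (.node (.node (.node (.leaf (nat_lit 0)) (.leaf (nat_lit 0))) (.node (.leaf (nat_lit
    440469681265237491757)) (.leaf (nat_lit 580142184788205436930)))) (.node (.node (.leaf (nat_lit
    364354445083758755884)) (.leaf (nat_lit 1293735366573143818307))) (.leaf (nat_lit 0)))) (.node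
    (.node (.node (.leaf (nat_lit 248772971366724075587)) (.leaf (nat_lit 0))) (.node (.leaf
    (nat_lit 803653081186206679052)) (.leaf (nat_lit 781209363821882857750530)))) (.node (.node
    (.leaf (nat_lit 0)) (.leaf (nat_lit 1475085650038282715138))) (.leaf (nat_lit
    892456540771782426670)))))) (.node (.node (.node (.node (.node (.leaf (nat_lit
    62551446168963055621)) (.leaf (nat_lit 1244442302619492483139))) (.node (.leaf (nat_lit
    647991364587255693351)) (.leaf (nat_lit 221899545477513218)))) (.node (.node (.leaf (nat_lit
    31143559482703875)) (.leaf (nat_lit 11483686617262467007643690))) (.leaf (nat_lit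
    650326415040529498144)))) (.node (.node (.node (.leaf (nat_lit 134330980330476077093)) (.leaf
    (nat_lit 0))) (.node (.leaf (nat_lit 6260021704922882212364302)) (.leaf (nat_lit
    16260182853211247077490690)))) (.node (.node (.leaf (nat_lit 0)) (.leaf (nat_lit
    1502174801229980565506))) (.leaf (nat_lit 64863855357866769430014656553))))) (.node (.node
    (.node (.node (.leaf (nat_lit 0)) (.leaf (nat_lit 1319059736748255019017))) (.node (.leaf
    (nat_lit 0)) (.leaf (nat_lit 530277152781251051522)))) (.node (.node (.leaf (nat_lit 0)) (.leaf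
    (nat_lit 12855745378876377281069105))) (.leaf (nat_lit 0)))) (.node (.node (.node (.leaf
    (nat_lit 286234476558311161880)) (.leaf (nat_lit 0))) (.node (.leaf (nat_lit
    853810796677304614942)) (.leaf (nat_lit 249769141584658434)))) (.node (.node (.leaf (nat_lit
    70870005515943956)) (.leaf (nat_lit 870090891034794065922))) (.leaf (nat_lit
    877472713526145646647))))))))) (.node (.node (.node (.node (.node (.node (.node (.node (.leaf
    (nat_lit 0)) (.leaf (nat_lit 79428351276326550570549968937))) (.node (.leaf (nat_lit 0)) (.leaf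
    (nat_lit 1199250833713697849346)))) (.node (.node (.leaf (nat_lit 0)) (.leaf (nat_lit 0)))
    (.node (.leaf (nat_lit 0)) (.leaf (nat_lit 5976923733884930))))) (.node (.node (.node (.leaf
    (nat_lit 136632741059174268946)) (.leaf (nat_lit 10586511357817659538538531))) (.node (.leaf
    (nat_lit 43795439573629988794922237993)) (.leaf (nat_lit 233722310543147010)))) (.node (.node
    (.leaf (nat_lit 0)) (.leaf (nat_lit 198921285760319531))) (.leaf (nat_lit 0))))) (.node (.node
    (.node (.node (.leaf (nat_lit 0)) (.leaf (nat_lit 1255063937002277896205))) (.node (.leaf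
    (nat_lit 0)) (.leaf (nat_lit 359072370865777868802)))) (.node (.node (.leaf (nat_lit 0)) (.leaf
    (nat_lit 97342488312256261429704065039))) (.leaf (nat_lit 7417119105858519158751246)))) (.node
    (.node (.node (.leaf (nat_lit 166901435245653065796)) (.leaf (nat_lit 1400933138594529476647)))
    (.node (.leaf (nat_lit 69430959543549974)) (.leaf (nat_lit 243433935974039554)))) (.node (.node
    (.leaf (nat_lit 3407501339086218835787818)) (.leaf (nat_lit 1666466748693160853506))) (.leaf
    (nat_lit 932516305412840161358)))))) (.node (.node (.node (.node (.node (.leaf (nat_lit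
    4785723144273948)) (.leaf (nat_lit 861337126049159512068))) (.node (.leaf (nat_lit
    50921231045754902)) (.leaf (nat_lit 4792652174187636038303746)))) (.node (.node (.leaf (nat_lit
    0)) (.leaf (nat_lit 0))) (.leaf (nat_lit 645713743516086239264)))) (.node (.node (.node (.leaf
    (nat_lit 15167311933734928)) (.leaf (nat_lit 10624316233581605008179235))) (.node (.leaf
    (nat_lit 70063728485335057)) (.leaf (nat_lit 3314701385484703726043138)))) (.node (.node (.leaf
    (nat_lit 3466483649319512563777585)) (.leaf (nat_lit 106396138740428283745015234575))) (.leaf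
    (nat_lit 731040773825439662114))))) (.node (.node (.node (.node (.leaf (nat_lit
    74659057872304013335)) (.leaf (nat_lit 158137899815141383))) (.node (.leaf (nat_lit 0)) (.leaf
    (nat_lit 126666243474859058792984018946)))) (.node (.node (.leaf (nat_lit 50038314618716180))
    (.leaf (nat_lit 106473609037472118896991731783))) (.leaf (nat_lit 993322885585538580512))))
    (.node (.node (.node (.leaf (nat_lit 0)) (.leaf (nat_lit 1433798157390661746694))) (.node
    (.leaf (nat_lit 0)) (.leaf (nat_lit 246883662296121346)))) (.node (.node (.leaf (nat_lit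
    35149289442362779881185804359)) (.leaf (nat_lit 1484597357111052271618))) (.leaf (nat_lit
    1150464910332897984535))))))) (.node (.node (.node (.node (.node (.node (.leaf (nat_lit
    22483834468036706334)) (.leaf (nat_lit 0))) (.node (.leaf (nat_lit 47050675238076438)) (.leaf
    (nat_lit 867788151298365521922)))) (.node (.node (.leaf (nat_lit 316500390578099519497)) (.leaf
    (nat_lit 0))) (.leaf (nat_lit 0)))) (.node (.node (.node (.leaf (nat_lit
    167770453244421275656)) (.leaf (nat_lit 0))) (.node (.leaf (nat_lit 501581910749741252670))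
    (.leaf (nat_lit 237241014040002562)))) (.node (.node (.leaf (nat_lit 461205270920597536780))
    (.leaf (nat_lit 0))) (.leaf (nat_lit 67707369258674043337209872415))))) (.node (.node (.node
    (.node (.leaf (nat_lit 6792056987058198)) (.leaf (nat_lit 915531263349910339629))) (.node
    (.leaf (nat_lit 53596067958226961)) (.leaf (nat_lit 14857390089804939702566914)))) (.node
    (.node (.leaf (nat_lit 257709170680303648813)) (.leaf (nat_lit
    105680877136043034612796293174))) (.leaf (nat_lit 963922120288611008525)))) (.node (.node
    (.node (.leaf (nat_lit 140673456470323560512)) (.leaf (nat_lit 1404972938078133092396))) (.node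
    (.leaf (nat_lit 6361539904385125387075619)) (.leaf (nat_lit 1260527790581354712006658))))
    (.node (.node (.leaf (nat_lit 0)) (.leaf (nat_lit 1588647114861216727042))) (.leaf (nat_lit
    1094518595197658660898)))))) (.node (.node (.node (.node (.node (.leaf (nat_lit
    5595238580224016)) (.leaf (nat_lit 883821804851931840576))) (.node (.leaf (nat_lit 0)) (.leaf
    (nat_lit 121209929124257430619942092802)))) (.node (.node (.leaf (nat_lit
    265199571104539279364)) (.leaf (nat_lit 0))) (.leaf (nat_lit 931062449491266437154)))) (.node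
    (.node (.node (.leaf (nat_lit 11780953867024440111206301737)) (.leaf (nat_lit
    1081570574212578607109))) (.node (.leaf (nat_lit 0)) (.leaf (nat_lit
    16194387048540823512940546)))) (.node (.node (.leaf (nat_lit 490030138681463078920)) (.leaf
    (nat_lit 205745606541574205))) (.leaf (nat_lit 1077536646370175418416))))) (.node (.node (.node
    (.node (.leaf (nat_lit 16397940323123207)) (.leaf (nat_lit 1143526909837561757740))) (.node
    (.leaf (nat_lit 0)) (.leaf (nat_lit 232174713567313922)))) (.node (.node (.leaf (nat_lit
    34100077530316816)) (.leaf (nat_lit 1573052099196535111747))) (.leaf (nat_lit 0)))) (.node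
    (.node (.node (.leaf (nat_lit 34203423033393172)) (.leaf (nat_lit 0))) (.node (.leaf (nat_lit
    50875660084918728437793095721)) (.leaf (nat_lit 248431980826460162)))) (.node (.node (.leaf
    (nat_lit 523765302750659936323)) (.leaf (nat_lit 1617472155945487499266))) (.leaf (nat_lit
    100961379615375376)))))))) (.node (.node (.node (.node (.node (.node (.node (.leaf (nat_lit 0))
    (.leaf (nat_lit 1188765953327295037469))) (.node (.leaf (nat_lit 464096232090642874428)) (.leaf
    (nat_lit 872975030800340942850)))) (.node (.node (.leaf (nat_lit 37651903814959111)) (.leaf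
    (nat_lit 1217632975814213697583))) (.leaf (nat_lit 75695014725943318)))) (.node (.node (.node
    (.leaf (nat_lit 12352149849767952)) (.leaf (nat_lit 1317908082207460884486))) (.node (.leaf
    (nat_lit 495816106820617043993)) (.leaf (nat_lit 15113134901722975056429058)))) (.node (.node
    (.leaf (nat_lit 299219060496902848556)) (.leaf (nat_lit 200116532209123401))) (.leaf (nat_lit
    58884364002529376471659905065))))) (.node (.node (.node (.node (.leaf (nat_lit
    79557988709327634445)) (.leaf (nat_lit 0))) (.node (.leaf (nat_lit 0)) (.leaf (nat_lit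
    1014500715486358208514)))) (.node (.node (.leaf (nat_lit 377611212619000250381)) (.leaf
    (nat_lit 1565547270486798565414))) (.leaf (nat_lit 937727742167719542851)))) (.node (.node
    (.node (.leaf (nat_lit 0)) (.leaf (nat_lit 172917122798845972))) (.node (.leaf (nat_lit
    68657040796549142)) (.leaf (nat_lit 245124220353380354)))) (.node (.node (.leaf (nat_lit
    35690498573376834544700031030)) (.leaf (nat_lit 204974346379329538))) (.leaf (nat_lit
    6354456957127084803883067)))))) (.node (.node (.node (.node (.node (.leaf (nat_lit 0)) (.leaf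
    (nat_lit 1230849207293496721417))) (.node (.leaf (nat_lit 51906530903195670)) (.leaf (nat_lit
    221758704909942786)))) (.node (.node (.leaf (nat_lit 0)) (.leaf (nat_lit 0))) (.leaf (nat_lit
    652631483787398807607)))) (.node (.node (.node (.leaf (nat_lit 155658972436971585559)) (.leaf
    (nat_lit 0))) (.node (.leaf (nat_lit 528677923881838903351)) (.leaf (nat_lit
    239563345806622722)))) (.node (.node (.leaf (nat_lit 0)) (.leaf (nat_lit 0))) (.leaf (nat_lit
    1057934588117118025776))))) (.node (.node (.node (.node (.leaf (nat_lit 11788650140532747))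
    (.leaf (nat_lit 122918489383108611))) (.node (.leaf (nat_lit 57888973669924886)) (.leaf
    (nat_lit 15471113554705278726045698)))) (.node (.node (.leaf (nat_lit 407013878138308591666))
    (.leaf (nat_lit 166551508819771409))) (.leaf (nat_lit 0)))) (.node (.node (.node (.leaf
    (nat_lit 0)) (.leaf (nat_lit 142835043008643094))) (.node (.leaf (nat_lit
    855538982450815500327)) (.leaf (nat_lit 249627132785983490)))) (.node (.node (.leaf (nat_lit
    553758009511293157431)) (.leaf (nat_lit 1480274216504627757058))) (.leaf (nat_lit
    77687240686175056290937897001))))))) (.node (.node (.node (.node (.node (.node (.leaf (nat_lit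
    2709707752079363)) (.leaf (nat_lit 105606403925868561))) (.node (.leaf (nat_lit 0)) (.leaf
    (nat_lit 828012982477514801154)))) (.node (.node (.leaf (nat_lit 308430080903599030311)) (.leaf
    (nat_lit 150365323269373974))) (.leaf (nat_lit 905696698225381277715)))) (.node (.node (.node
    (.leaf (nat_lit 114152848009610854421)) (.leaf (nat_lit 0))) (.node (.leaf (nat_lit
    509653276221692379198)) (.leaf (nat_lit 238367515242266626)))) (.node (.node (.leaf (nat_lit
    466970511908358258738)) (.leaf (nat_lit 100940759442772435828558069801))) (.leaf (nat_lit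
    130299751458537533))))) (.node (.node (.node (.node (.leaf (nat_lit 106075922453386952734))
    (.leaf (nat_lit 122003420830892035))) (.node (.leaf (nat_lit 85262037197914185)) (.leaf
    (nat_lit 223658970240385026)))) (.node (.node (.leaf (nat_lit 32973765306613777)) (.leaf
    (nat_lit 193357967377170490))) (.leaf (nat_lit 667621997446711935008)))) (.node (.node (.node
    (.leaf (nat_lit 28045754190921756)) (.leaf (nat_lit 1314181284512867221573))) (.node (.leaf
    (nat_lit 0)) (.leaf (nat_lit 245826103908892674)))) (.node (.node (.leaf (nat_lit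
    550874507986476400686)) (.leaf (nat_lit 1359793464225722204162))) (.leaf (nat_lit
    139311812616257597)))))) (.node (.node (.node (.node (.node (.leaf (nat_lit
    62551516597836775463)) (.leaf (nat_lit 886128246141499932717))) (.node (.leaf (nat_lit
    635309368842788208666)) (.leaf (nat_lit 811297387910908805122)))) (.node (.node (.leaf (nat_lit
    356280686748088074279)) (.leaf (nat_lit 1262026365549311885359))) (.leaf (nat_lit
    930809368448860356655)))) (.node (.node (.node (.leaf (nat_lit 218788004192992821271)) (.leaf
    (nat_lit 135867712701333520))) (.node (.leaf (nat_lit 0)) (.leaf (nat_lit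
    132347529155306138314280861698)))) (.node (.node (.leaf (nat_lit 384826262621169844277)) (.leaf
    (nat_lit 1677995609812449296386))) (.leaf (nat_lit 134806001080729661))))) (.node (.node (.node
    (.node (.leaf (nat_lit 0)) (.leaf (nat_lit 1191373891287998726213))) (.node (.leaf (nat_lit
    720056348511553388563)) (.leaf (nat_lit 4757299527246932542226434)))) (.node (.node (.leaf
    (nat_lit 0)) (.leaf (nat_lit 0))) (.leaf (nat_lit 0)))) (.node (.node (.node (.leaf (nat_lit
    292575896746089185286)) (.leaf (nat_lit 0))) (.node (.leaf (nat_lit 779448274492556771353))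
    (.leaf (nat_lit 2061672645236541816834)))) (.node (.node (.leaf (nat_lit
    4156101643164556999262257)) (.leaf (nat_lit 847032531938466529282))) (.leaf (nat_lit
    143816030718918717))))))))))) (.node (.node (.node (.node (.node (.node (.node (.node (.node
    (.node (.leaf (nat_lit 1)) (.leaf (nat_lit 78538459096171766681576996905))) (.node (.leaf
    (nat_lit 44446670926250006)) (.leaf (nat_lit 1314546783008531349506)))) (.node (.node (.leaf
    (nat_lit 1865564502795317328216097)) (.leaf (nat_lit 0))) (.node (.leaf (nat_lit 0)) (.leaf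
    (nat_lit 138071927578935627363236773890))))) (.node (.node (.node (.leaf (nat_lit
    12492663999823889)) (.leaf (nat_lit 1322562094827942641696))) (.node (.leaf (nat_lit 0)) (.leaf
    (nat_lit 115642969402507266)))) (.node (.node (.leaf (nat_lit 441315932037506596910)) (.leaf
    (nat_lit 1418579933245443604482))) (.leaf (nat_lit 1031661853755339636793))))) (.node (.node
    (.node (.node (.leaf (nat_lit 9008307356434452)) (.leaf (nat_lit 1253910452461818281993)))
    (.node (.leaf (nat_lit 0)) (.leaf (nat_lit 643547649912231624706)))) (.node (.node (.leaf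
    (nat_lit 2914051803884727614832654)) (.leaf (nat_lit 11663142308993204415103018))) (.leaf
    (nat_lit 6794053265594210949791793)))) (.node (.node (.node (.leaf (nat_lit
    134331191556967694341)) (.leaf (nat_lit 0))) (.node (.leaf (nat_lit 69149398667493398)) (.leaf
    (nat_lit 2922750178318828186107906)))) (.node (.node (.leaf (nat_lit 0)) (.leaf (nat_lit
    182667325625991170))) (.leaf (nat_lit 743724740444499935264)))))) (.node (.node (.node (.node
    (.node (.leaf (nat_lit 27960458094502412326)) (.leaf (nat_lit 0))) (.node (.leaf (nat_lit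
    407030066024666038320)) (.leaf (nat_lit 588205382933166620674)))) (.node (.node (.leaf (nat_lit
    196596870938724859973)) (.leaf (nat_lit 1512205757582409924635))) (.leaf (nat_lit
    913767571038813749288)))) (.node (.node (.node (.leaf (nat_lit 128564542790596493335)) (.leaf
    (nat_lit 0))) (.node (.leaf (nat_lit 0)) (.leaf (nat_lit 3369002824242418870910978)))) (.node
    (.node (.leaf (nat_lit 461206185911840342066)) (.leaf (nat_lit 0))) (.leaf (nat_lit
    8534108964958372502962218))))) (.node (.node (.node (.node (.leaf (nat_lit 12632851732365370))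
    (.leaf (nat_lit 1287350595012704534572))) (.node (.leaf (nat_lit 85438113677180948)) (.leaf
    (nat_lit 228654919148765186)))) (.node (.node (.leaf (nat_lit 0)) (.leaf (nat_lit 0))) (.leaf
    (nat_lit 7036910382894536005517347)))) (.node (.node (.node (.leaf (nat_lit 0)) (.leaf (nat_lit
    0))) (.node (.leaf (nat_lit 0)) (.leaf (nat_lit 16600501940899110759694338)))) (.node (.node
    (.leaf (nat_lit 334387636254365909000)) (.leaf (nat_lit 1192331681914268352514))) (.leaf
    (nat_lit 99553643954569232))))))) (.node (.node (.node (.node (.node (.node (.leaf (nat_lit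
    1970604009979924)) (.leaf (nat_lit 1192801178644958609414))) (.node (.leaf (nat_lit
    604752866827630215187)) (.leaf (nat_lit 217747085196394498)))) (.node (.node (.leaf (nat_lit
    25231880597143568)) (.leaf (nat_lit 150857681140318225))) (.leaf (nat_lit
    640523766771459751999)))) (.node (.node (.node (.leaf (nat_lit 158539023891868876830)) (.leaf
    (nat_lit 0))) (.node (.leaf (nat_lit 0)) (.leaf (nat_lit 4759720759690863170551810)))) (.node
    (.node (.leaf (nat_lit 27236813213390040642424733711)) (.leaf (nat_lit 0))) (.leaf (nat_lit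
    128157164073254940))))) (.node (.node (.node (.node (.leaf (nat_lit 0)) (.leaf (nat_lit
    155497907972341832))) (.node (.leaf (nat_lit 52821925872926742)) (.leaf (nat_lit
    15221106271388035855941634)))) (.node (.node (.leaf (nat_lit 368403356950366191650)) (.leaf
    (nat_lit 0))) (.leaf (nat_lit 653785918812710961156)))) (.node (.node (.node (.leaf (nat_lit
    237518194251149803559)) (.leaf (nat_lit 0))) (.node (.leaf (nat_lit 68938567312867350)) (.leaf
    (nat_lit 148971780229082316802)))) (.node (.node (.leaf (nat_lit 3062959417286129568972835))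
    (.leaf (nat_lit 1531864429525972746242))) (.leaf (nat_lit 8534027970358726784974883))))))
    (.node (.node (.node (.node (.node (.leaf (nat_lit 6721052587720720)) (.leaf (nat_lit 0)))
    (.node (.leaf (nat_lit 0)) (.leaf (nat_lit 14919139126714283204018178)))) (.node (.node (.leaf
    (nat_lit 223116880569327353900)) (.leaf (nat_lit 1367227567494247153720))) (.leaf (nat_lit
    655513787591865597998)))) (.node (.node (.node (.leaf (nat_lit 12689827581960903235142484009))
    (.leaf (nat_lit 0))) (.node (.leaf (nat_lit 711992654272099713048)) (.leaf (nat_lit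
    235482207752421378)))) (.node (.node (.leaf (nat_lit 498974462239215648806)) (.leaf (nat_lit
    0))) (.leaf (nat_lit 1074942150686445600815))))) (.node (.node (.node (.node (.leaf (nat_lit
    0)) (.leaf (nat_lit 950699380722693767237))) (.node (.leaf (nat_lit 464107105779605241881))
    (.leaf (nat_lit 508659219213697875970)))) (.node (.node (.leaf (nat_lit
    23832166383046925949885284423)) (.leaf (nat_lit 163384966871384080))) (.leaf (nat_lit
    974300384618766073868)))) (.node (.node (.node (.leaf (nat_lit 0)) (.leaf (nat_lit
    142623988315717649))) (.node (.leaf (nat_lit 849774797174606069779)) (.leaf (nat_lit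
    16596420596371512076009474)))) (.node (.node (.leaf (nat_lit 69743959580213276)) (.leaf
    (nat_lit 14225489660349605935841282))) (.leaf (nat_lit 141739972377051143)))))))) (.node (.node
    (.node (.node (.node (.node (.node (.leaf (nat_lit 9224181419146936332)) (.leaf (nat_lit
    106520836822925315))) (.node (.leaf (nat_lit 62848234967662603)) (.leaf (nat_lit
    811293299720518303746)))) (.node (.node (.leaf (nat_lit 299205723352138448902)) (.leaf (nat_lit
    1213597046783338545200))) (.leaf (nat_lit 739096936822559932439)))) (.node (.node (.node (.leaf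
    (nat_lit 148162026508346654746)) (.leaf (nat_lit 0))) (.node (.leaf (nat_lit 0)) (.leaf
    (nat_lit 4665232091492937309093890)))) (.node (.node (.leaf (nat_lit 0)) (.leaf (nat_lit
    1633579842713623396420))) (.leaf (nat_lit 127345037297188907))))) (.node (.node (.node (.node
    (.leaf (nat_lit 57075667431283949586)) (.leaf (nat_lit 7733590901411549970432059))) (.node
    (.leaf (nat_lit 627816645906397331506)) (.leaf (nat_lit 362243256872937390082)))) (.node (.node
    (.leaf (nat_lit 2852654697905965630750734)) (.leaf (nat_lit 0))) (.leaf (nat_lit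
    967956923136111476745)))) (.node (.node (.node (.leaf (nat_lit 0)) (.leaf (nat_lit
    1127694506773469921325))) (.node (.leaf (nat_lit 6205685092173593283133475)) (.leaf (nat_lit
    243433781355216898)))) (.node (.node (.leaf (nat_lit 0)) (.leaf (nat_lit
    1665314108680710586370))) (.leaf (nat_lit 751796246645349482530)))))) (.node (.node (.node
    (.node (.node (.leaf (nat_lit 1973099172810024456615690271)) (.leaf (nat_lit
    1209519596405237415942))) (.node (.leaf (nat_lit 52187919980560406)) (.leaf (nat_lit
    934081977402056179714)))) (.node (.node (.leaf (nat_lit 0)) (.leaf (nat_lit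
    1489724773533843914802))) (.leaf (nat_lit 7447796616411521873084451)))) (.node (.node (.node
    (.leaf (nat_lit 189093414509694091293)) (.leaf (nat_lit 1369215341443315597342))) (.node (.leaf
    (nat_lit 663281157597888184343)) (.leaf (nat_lit 234637645383335938)))) (.node (.node (.leaf
    (nat_lit 0)) (.leaf (nat_lit 0))) (.leaf (nat_lit 1068600237848738857027))))) (.node (.node
    (.node (.node (.leaf (nat_lit 8762708241547281)) (.leaf (nat_lit 121440659856031760))) (.node
    (.leaf (nat_lit 603033478435631726655)) (.leaf (nat_lit 228444319722373122)))) (.node (.node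
    (.leaf (nat_lit 370696358050314518565)) (.leaf (nat_lit 11783496657467421130752049))) (.leaf
    (nat_lit 946629986904376016936)))) (.node (.node (.node (.leaf (nat_lit 32373612346474503))
    (.leaf (nat_lit 0))) (.node (.leaf (nat_lit 0)) (.leaf (nat_lit 667892089121038280163330))))
    (.node (.node (.leaf (nat_lit 556640594653297705015)) (.leaf (nat_lit 1143333718330232209410)))
    (.leaf (nat_lit 140543566287077383))))))) (.node (.node (.node (.node (.node (.node (.leaf
    (nat_lit 3307743293341703)) (.leaf (nat_lit 0))) (.node (.leaf (nat_lit 46839620545150979))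
    (.leaf (nat_lit 14678090038891138196439042)))) (.node (.node (.leaf (nat_lit
    23965380640899089)) (.leaf (nat_lit 1501252369832508325917))) (.leaf (nat_lit
    111407341374668828)))) (.node (.node (.node (.leaf (nat_lit 175834078060023578633)) (.leaf
    (nat_lit 1268333583624021671981))) (.node (.leaf (nat_lit 93461112586108956)) (.leaf (nat_lit
    236888929800945666)))) (.node (.node (.leaf (nat_lit 0)) (.leaf (nat_lit
    106086556948033260542289576007))) (.leaf (nat_lit 731040210669327810615))))) (.node (.node
    (.node (.node (.leaf (nat_lit 80423207783752728629)) (.leaf (nat_lit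
    82600867844086152794128842767))) (.node (.leaf (nat_lit 30177178259270117684523892751)) (.leaf
    (nat_lit 125006728359120731690104061954)))) (.node (.node (.leaf (nat_lit
    332072783692255395878)) (.leaf (nat_lit 0))) (.leaf (nat_lit 120345271396859911)))) (.node
    (.node (.node (.leaf (nat_lit 1700253719693969712218154)) (.leaf (nat_lit 174465432739250187)))
    (.node (.leaf (nat_lit 6193928176150986629578766)) (.leaf (nat_lit 2017858318454172614658))))
    (.node (.node (.leaf (nat_lit 324586782980978180120)) (.leaf (nat_lit 197726657786806274)))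
    (.leaf (nat_lit 0)))))) (.node (.node (.node (.node (.node (.leaf (nat_lit
    59379328734550228996)) (.leaf (nat_lit 0))) (.node (.leaf (nat_lit 50217870021492752)) (.leaf
    (nat_lit 14744530312842663222837250)))) (.node (.node (.leaf (nat_lit 267505414148112711724))
    (.leaf (nat_lit 0))) (.leaf (nat_lit 649173212043766071342)))) (.node (.node (.node (.leaf
    (nat_lit 0)) (.leaf (nat_lit 0))) (.node (.leaf (nat_lit 0)) (.leaf (nat_lit
    4049047196743660636209154)))) (.node (.node (.leaf (nat_lit 492335981733626445891)) (.leaf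
    (nat_lit
    5063094834758947862489730101788076762364401221697683860404664866372414709177893520670818)))
    (.leaf (nat_lit 741994724731453112352))))) (.node (.node (.node (.node (.leaf (nat_lit
    78696148245156134937)) (.leaf (nat_lit 0))) (.node (.leaf (nat_lit 0)) (.leaf (nat_lit
    660278664635495940098)))) (.node (.node (.leaf (nat_lit 19460334091028530503639957535)) (.leaf
    (nat_lit 1466104098541527040067))) (.leaf (nat_lit 958736437033811771404)))) (.node (.node
    (.node (.leaf (nat_lit 0)) (.leaf (nat_lit 0))) (.node (.leaf (nat_lit 0)) (.leaf (nat_lit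
    2047260422260478115842)))) (.node (.node (.leaf (nat_lit 0)) (.leaf (nat_lit
    1138721638270030249986))) (.leaf (nat_lit 7683935426237005213990954))))))))) (.node (.node
    (.node (.node (.node (.node (.node (.node (.leaf (nat_lit 4323842726203424774)) (.leaf (nat_lit
    0))) (.node (.leaf (nat_lit 72734845956128840)) (.leaf (nat_lit 14319450167317320998060034))))
    (.node (.node (.leaf (nat_lit 190830749998064533542)) (.leaf (nat_lit 1226278057348207673381)))
    (.node (.leaf (nat_lit 0)) (.leaf (nat_lit 8474893893107714))))) (.node (.node (.node (.leaf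
    (nat_lit 0)) (.leaf (nat_lit 0))) (.node (.leaf (nat_lit 0)) (.leaf (nat_lit
    128520339022974967144432074754)))) (.node (.node (.leaf (nat_lit 292589269126765281324)) (.leaf
    (nat_lit 1616018055365396725849))) (.leaf (nat_lit 86674583222091779))))) (.node (.node (.node
    (.node (.leaf (nat_lit 0)) (.leaf (nat_lit 1251028570964305838119))) (.node (.leaf (nat_lit
    35322583758534530091029168159)) (.leaf (nat_lit 221477006594932738)))) (.node (.node (.leaf
    (nat_lit 0)) (.leaf (nat_lit 189841308284747849))) (.leaf (nat_lit 0)))) (.node (.node (.node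
    (.leaf (nat_lit 27376821624504331)) (.leaf (nat_lit 0))) (.node (.leaf (nat_lit
    779440251467878039571)) (.leaf (nat_lit 133865727489416355622185926658)))) (.node (.node (.leaf
    (nat_lit 63480385434157084)) (.leaf (nat_lit 1570774263961116409858))) (.leaf (nat_lit
    1084413537697162002441)))))) (.node (.node (.node (.node (.node (.leaf (nat_lit
    42373841519189884951)) (.leaf (nat_lit 0))) (.node (.leaf (nat_lit 624931948963333079059))
    (.leaf (nat_lit 4804458090254416260366338)))) (.node (.node (.leaf (nat_lit 0)) (.leaf (nat_lit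
    91966482605491738018067054607))) (.leaf (nat_lit 112955659905007644)))) (.node (.node (.node
    (.leaf (nat_lit 0)) (.leaf (nat_lit 0))) (.node (.leaf (nat_lit 604770215257100714009)) (.leaf
    (nat_lit 239281183635144706)))) (.node (.node (.leaf (nat_lit 0)) (.leaf (nat_lit
    186853836407832587))) (.leaf (nat_lit 130972257437745180))))) (.node (.node (.node (.node
    (.leaf (nat_lit 8340427057004566)) (.leaf (nat_lit 0))) (.node (.leaf (nat_lit 0)) (.leaf
    (nat_lit 357635508003785605122)))) (.node (.node (.leaf (nat_lit 0)) (.leaf (nat_lit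
    194100708956569620))) (.leaf (nat_lit 6999395205012336176005162)))) (.node (.node (.node (.leaf
    (nat_lit 1728569469595494448889891)) (.leaf (nat_lit 1223389912431167995909))) (.node (.leaf
    (nat_lit 0)) (.leaf (nat_lit 764695451238829715095554)))) (.node (.node (.leaf (nat_lit
    336693760807275790383)) (.leaf (nat_lit 1203284506722806464514))) (.leaf (nat_lit
    8217920241300757570388001))))))) (.node (.node (.node (.node (.node (.node (.leaf (nat_lit
    2744737505345564)) (.leaf (nat_lit 107295099167309827))) (.node (.leaf (nat_lit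
    4666269118119505186521147)) (.leaf (nat_lit 1015362027931545305090)))) (.node (.node (.leaf
    (nat_lit 38848301314998292)) (.leaf (nat_lit 1214750988823714529342))) (.leaf (nat_lit
    60199826370210597417324445727)))) (.node (.node (.node (.leaf (nat_lit 168339595612970483751))
    (.leaf (nat_lit 0))) (.node (.leaf (nat_lit 0)) (.leaf (nat_lit 234074910178279426)))) (.node
    (.node (.leaf (nat_lit 0)) (.leaf (nat_lit 189703495669121082))) (.leaf (nat_lit
    727004844588406079522))))) (.node (.node (.node (.node (.leaf (nat_lit 57076125034279534613))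
    (.leaf (nat_lit 112784960724795395))) (.node (.leaf (nat_lit 83991830684893256)) (.leaf
    (nat_lit 789682145290690428930)))) (.node (.node (.leaf (nat_lit 0)) (.leaf (nat_lit
    1562365514119276331035))) (.leaf (nat_lit 119711883979784203)))) (.node (.node (.node (.leaf
    (nat_lit 245312869189634162748)) (.leaf (nat_lit 1408431843329441988646))) (.node (.leaf
    (nat_lit 0)) (.leaf (nat_lit 245475643167473666)))) (.node (.node (.leaf (nat_lit
    521736395375811690536)) (.leaf (nat_lit 204024454232276994))) (.leaf (nat_lit
    133154513140973596)))))) (.node (.node (.node (.node (.node (.leaf (nat_lit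
    48426363257243238437)) (.leaf (nat_lit 132769134315438150))) (.node (.leaf (nat_lit
    36754003877871162399176065065)) (.leaf (nat_lit 120900977741272470552389681154)))) (.node
    (.node (.leaf (nat_lit 0)) (.leaf (nat_lit 0))) (.leaf (nat_lit 0)))) (.node (.node (.node
    (.leaf (nat_lit 0)) (.leaf (nat_lit 0))) (.node (.leaf (nat_lit 526372714311581892672)) (.leaf
    (nat_lit 241041433031737346)))) (.node (.node (.leaf (nat_lit 318821084123933900860)) (.leaf
    (nat_lit 0))) (.leaf (nat_lit 7232911082735695208644667))))) (.node (.node (.node (.node (.leaf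
    (nat_lit 9677708074287107)) (.leaf (nat_lit 0))) (.node (.leaf (nat_lit 464107246568633204760))
    (.leaf (nat_lit 232384600029134850)))) (.node (.node (.leaf (nat_lit 34100060350447619)) (.leaf
    (nat_lit 0))) (.leaf (nat_lit 1007735389804650758157)))) (.node (.node (.node (.leaf (nat_lit
    0)) (.leaf (nat_lit 1345889792903950303277))) (.node (.leaf (nat_lit 0)) (.leaf (nat_lit
    16577517293903212383043586)))) (.node (.node (.leaf (nat_lit 63164550719078411)) (.leaf
    (nat_lit 8329649960128254560174082))) (.leaf (nat_lit 1162242213998632304646)))))))) (.node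
    (.node (.node (.node (.node (.node (.node (.leaf (nat_lit 14124097873855578131)) (.leaf
    (nat_lit 123550141633396764))) (.node (.leaf (nat_lit 46065358200766486)) (.leaf (nat_lit
    1351437242826049650690)))) (.node (.node (.leaf (nat_lit 0)) (.leaf (nat_lit 0))) (.leaf
    (nat_lit 75694997546074129)))) (.node (.node (.node (.leaf (nat_lit 161709452399112028166))
    (.leaf (nat_lit 1169469544042445602820))) (.node (.leaf (nat_lit 0)) (.leaf (nat_lit
    15348272365139033028034562)))) (.node (.node (.leaf (nat_lit 310171920343784161318)) (.leaf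
    (nat_lit 0))) (.leaf (nat_lit 0))))) (.node (.node (.node (.node (.leaf (nat_lit
    76103622207658459188)) (.leaf (nat_lit 0))) (.node (.leaf (nat_lit 0)) (.leaf (nat_lit
    455918195234675294210)))) (.node (.node (.leaf (nat_lit 0)) (.leaf (nat_lit 0))) (.leaf
    (nat_lit 0)))) (.node (.node (.node (.leaf (nat_lit 232906508164002938893)) (.leaf (nat_lit
    0))) (.node (.leaf (nat_lit 796734777853271539731)) (.leaf (nat_lit 244561150140874754))))
    (.node (.node (.leaf (nat_lit 368109393634687909941)) (.leaf (nat_lit 205115075277750274)))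
    (.leaf (nat_lit 0)))))) (.node (.node (.node (.node (.node (.leaf (nat_lit
    27961126803730530348)) (.leaf (nat_lit 1217590398867105579021))) (.node (.leaf (nat_lit
    402995016869381079102)) (.leaf (nat_lit 795731602311880048642)))) (.node (.node (.leaf (nat_lit
    215045655920763928645)) (.leaf (nat_lit 0))) (.leaf (nat_lit 937139950548659929111)))) (.node
    (.node (.node (.leaf (nat_lit 184482080386527199251)) (.leaf (nat_lit 1379019818646898933786)))
    (.node (.leaf (nat_lit 527525002360052187200)) (.leaf (nat_lit 307782206733632602114)))) (.node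
    (.node (.leaf (nat_lit 40011996934045713)) (.leaf (nat_lit 100863395332670007798770499615)))
    (.leaf (nat_lit 1071194733515288805384))))) (.node (.node (.node (.node (.leaf (nat_lit
    628138737529802539139086)) (.leaf (nat_lit 961075427913421225989))) (.node (.leaf (nat_lit
    711984842156085018643)) (.leaf (nat_lit 231400056085938178)))) (.node (.node (.leaf (nat_lit
    393178397810431819815)) (.leaf (nat_lit 166762597872435222))) (.leaf (nat_lit
    982947155097109594124)))) (.node (.node (.node (.leaf (nat_lit 0)) (.leaf (nat_lit 0))) (.node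
    (.leaf (nat_lit 72105641837199376)) (.leaf (nat_lit 249206131501694978)))) (.node (.node (.leaf
    (nat_lit 533267229315313106973)) (.leaf (nat_lit 863463283410713378818))) (.leaf (nat_lit
    0))))))) (.node (.node (.node (.node (.node (.node (.leaf (nat_lit 33149730666355818532))
    (.leaf (nat_lit 147933186368864267))) (.node (.leaf (nat_lit 591785033373162078226)) (.leaf
    (nat_lit 925723119012722966530)))) (.node (.node (.leaf (nat_lit 25091349267218448)) (.leaf
    (nat_lit 11757538904966866407784490))) (.leaf (nat_lit 82380303120859153)))) (.node (.node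
    (.node (.leaf (nat_lit 0)) (.leaf (nat_lit 1199446875610433126469))) (.node (.leaf (nat_lit
    511382306600522022937)) (.leaf (nat_lit 1949828069284963876866)))) (.node (.node (.leaf
    (nat_lit 453135242712483823655)) (.leaf (nat_lit 202226907339685946))) (.leaf (nat_lit
    726428806186006675520))))) (.node (.node (.node (.node (.leaf (nat_lit 0)) (.leaf (nat_lit
    962226449195647303718))) (.node (.leaf (nat_lit
    2347897258723977612533574276822664666605975230232127898008197897781693362301768807219275))
    (.leaf (nat_lit 861163778407428980738)))) (.node (.node (.leaf (nat_lit 49087408859381833))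
    (.leaf (nat_lit 1580271791190768287808))) (.leaf (nat_lit 0)))) (.node (.node (.node (.leaf
    (nat_lit 226566390150179520524)) (.leaf (nat_lit 1323981258039513776174))) (.node (.leaf
    (nat_lit 837123165165294125104)) (.leaf (nat_lit 776487021053331540017154)))) (.node (.node
    (.leaf (nat_lit 492337460095729467442)) (.leaf (nat_lit 1725557811536474603522))) (.leaf
    (nat_lit 8354887621061243780202529)))))) (.node (.node (.node (.node (.node (.leaf (nat_lit
    60245603219878903854)) (.leaf (nat_lit 0))) (.node (.leaf (nat_lit 51766051112878102)) (.leaf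
    (nat_lit 850208350015485837314)))) (.node (.node (.leaf (nat_lit 328033969147731968038)) (.leaf
    (nat_lit 11703159060968777755918385))) (.leaf (nat_lit 7164420040779710970724387)))) (.node
    (.node (.node (.leaf (nat_lit 130295966230714187840)) (.leaf (nat_lit 1387135270257336451124)))
    (.node (.leaf (nat_lit 801378235110587039792)) (.leaf (nat_lit 241042360744673282)))) (.node
    (.node (.leaf (nat_lit 0)) (.leaf (nat_lit 1510245357306754826242))) (.leaf (nat_lit
    741995147004047720512))))) (.node (.node (.node (.node (.leaf (nat_lit 0)) (.leaf (nat_lit 0)))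
    (.node (.leaf (nat_lit 58592918809739281)) (.leaf (nat_lit 358211185903810052098)))) (.node
    (.node (.leaf (nat_lit 0)) (.leaf (nat_lit 186606858608443450))) (.leaf (nat_lit
    1027913451421764354078)))) (.node (.node (.node (.leaf (nat_lit 0)) (.leaf (nat_lit 0))) (.node
    (.leaf (nat_lit 0)) (.leaf (nat_lit 250543292259893250)))) (.node (.node (.leaf (nat_lit
    577081131866582614028)) (.leaf (nat_lit 849338374853190942722))) (.leaf (nat_lit
    1130539335682609053736)))))))))) (.node (.node (.node (.node (.node (.node (.node (.node (.node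
    (.leaf (nat_lit 0)) (.leaf (nat_lit 0))) (.node (.leaf (nat_lit 0)) (.leaf (nat_lit
    866632619222441852930)))) (.node (.node (.leaf (nat_lit 190254289211401371685)) (.leaf (nat_lit
    146564947227312150))) (.node (.leaf (nat_lit 51417313175463542106024640553)) (.leaf (nat_lit
    16863933268499345302618114))))) (.node (.node (.node (.leaf (nat_lit 12492698359562262)) (.leaf
    (nat_lit 10704563024984766920523811))) (.node (.leaf (nat_lit 721209551568446357530)) (.leaf
    (nat_lit 2972251959920197076516866)))) (.node (.node (.leaf (nat_lit 0)) (.leaf (nat_lit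
    1615441596515763814468))) (.leaf (nat_lit 0))))) (.node (.node (.node (.node (.leaf (nat_lit
    75521109588736933901)) (.leaf (nat_lit 891316955956673445933))) (.node (.leaf (nat_lit 0))
    (.leaf (nat_lit 458800076208201728002)))) (.node (.node (.leaf (nat_lit 0)) (.leaf (nat_lit
    0))) (.leaf (nat_lit 117319037440098311)))) (.node (.node (.node (.leaf (nat_lit
    210721987351189585967)) (.leaf (nat_lit 1394015187302883721255))) (.node (.leaf (nat_lit
    781169141092039458842)) (.leaf (nat_lit 2554434317422822995263490)))) (.node (.node (.leaf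
    (nat_lit 0)) (.leaf (nat_lit 186678352634052610))) (.leaf (nat_lit 954997993226157359182))))))
    (.node (.node (.node (.node (.node (.leaf (nat_lit 29401891493187354651)) (.leaf (nat_lit 0)))
    (.node (.leaf (nat_lit 0)) (.leaf (nat_lit 221054527841894402)))) (.node (.node (.leaf (nat_lit
    0)) (.leaf (nat_lit 1500676612930855436318))) (.leaf (nat_lit 909156096160978632744)))) (.node
    (.node (.node (.leaf (nat_lit 0)) (.leaf (nat_lit 1364603233109343928332))) (.node (.leaf
    (nat_lit 603040832965830705173)) (.leaf (nat_lit 16038759937928780239339522)))) (.node (.node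
    (.leaf (nat_lit 0)) (.leaf (nat_lit 203071568493019179))) (.leaf (nat_lit
    729887852286473076768))))) (.node (.node (.node (.node (.leaf (nat_lit 0)) (.leaf (nat_lit
    1293115554439589199881))) (.node (.leaf (nat_lit 85965866373611592)) (.leaf (nat_lit
    361949185744990044162)))) (.node (.node (.leaf (nat_lit 49931829494546505)) (.leaf (nat_lit
    0))) (.leaf (nat_lit 999408619725871317071)))) (.node (.node (.node (.leaf (nat_lit
    27588443253112860)) (.leaf (nat_lit 1439562342684051046426))) (.node (.leaf (nat_lit
    796739422568344387644)) (.leaf (nat_lit 247727683499327490)))) (.node (.node (.leaf (nat_lit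
    0)) (.leaf (nat_lit 1201555124427241488386))) (.leaf (nat_lit 124112370032312390))))))) (.node
    (.node (.node (.node (.node (.node (.leaf (nat_lit 16141921690459504666)) (.leaf (nat_lit
    863065839467992645670))) (.node (.leaf (nat_lit 40739015301724249387807604807)) (.leaf (nat_lit
    850205887478806806530)))) (.node (.node (.leaf (nat_lit 16249072887059502525481025607)) (.leaf
    (nat_lit 12050327355653559414947882))) (.leaf (nat_lit 624959220949100724248)))) (.node (.node
    (.node (.leaf (nat_lit 108964067731203883012)) (.leaf (nat_lit 1315602661496611602438))) (.node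
    (.leaf (nat_lit 517722495103348703295)) (.leaf (nat_lit 130146056290682857868495224834))))
    (.node (.node (.leaf (nat_lit 56513020767109140)) (.leaf (nat_lit 0))) (.leaf (nat_lit
    54301397082385247588093067305))))) (.node (.node (.node (.node (.leaf (nat_lit
    82152554736031825976)) (.leaf (nat_lit 64958475000599843698588844047))) (.node (.leaf (nat_lit
    680276685591542956044)) (.leaf (nat_lit 410658989347388456962)))) (.node (.node (.leaf (nat_lit
    2906840554804404526776353)) (.leaf (nat_lit 1522877846999015817269))) (.leaf (nat_lit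
    939169175617944092680)))) (.node (.node (.node (.leaf (nat_lit 0)) (.leaf (nat_lit
    1407855382525598957605))) (.node (.leaf (nat_lit 545974772942596407351)) (.leaf (nat_lit
    245124246123184130)))) (.node (.node (.leaf (nat_lit 0)) (.leaf (nat_lit
    1594698862551674060802))) (.leaf (nat_lit 0)))))) (.node (.node (.node (.node (.node (.leaf
    (nat_lit 6967364667179028)) (.leaf (nat_lit 0))) (.node (.leaf (nat_lit 0)) (.leaf (nat_lit
    855979218621585096706)))) (.node (.node (.leaf (nat_lit 0)) (.leaf (nat_lit
    1255107710432785399816))) (.leaf (nat_lit 0)))) (.node (.node (.node (.leaf (nat_lit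
    189094259106422915112)) (.leaf (nat_lit 1385941077321060646921))) (.node (.leaf (nat_lit 0))
    (.leaf (nat_lit 2556649107041472187990018)))) (.node (.node (.leaf (nat_lit 0)) (.leaf (nat_lit
    0))) (.leaf (nat_lit 733347215209497034756))))) (.node (.node (.node (.node (.leaf (nat_lit 0))
    (.leaf (nat_lit 0))) (.node (.leaf (nat_lit 462954325029666619454)) (.leaf (nat_lit
    4752525252907878953779202)))) (.node (.node (.leaf (nat_lit 0)) (.leaf (nat_lit 0))) (.leaf
    (nat_lit 1009464772027201290290)))) (.node (.node (.node (.leaf (nat_lit 0)) (.leaf (nat_lit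
    177984308034797588))) (.node (.leaf (nat_lit 636196018128983097404)) (.leaf (nat_lit
    1126760428830364355402113223098370)))) (.node (.node (.leaf (nat_lit 387711945001530490928))
    (.leaf (nat_lit 8008527309629378208727042))) (.leaf (nat_lit 8279320525378692359389217))))))))
    (.node (.node (.node (.node (.node (.node (.node (.leaf (nat_lit 1302006451011600)) (.leaf
    (nat_lit 106520871182663696))) (.node (.leaf (nat_lit 0)) (.leaf (nat_lit
    983366936499016892418)))) (.node (.node (.leaf (nat_lit 296899880368694558759)) (.leaf (nat_lit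
    0))) (.leaf (nat_lit 0)))) (.node (.node (.node (.leaf (nat_lit 1209011436001407860473891))
    (.leaf (nat_lit 163416199873560604))) (.node (.leaf (nat_lit 0)) (.leaf (nat_lit
    233862592764968962)))) (.node (.node (.leaf (nat_lit 356288850845262610437)) (.leaf (nat_lit
    1458047123950206648382))) (.leaf (nat_lit 50333997681091102952015593513))))) (.node (.node
    (.node (.node (.leaf (nat_lit 53040723683086368776)) (.leaf (nat_lit
    4269385930699563983029863849812808208602196619971084614595936024695022016214833537744980)))
    (.node (.leaf (nat_lit 620323148742021808178)) (.leaf (nat_lit 475518282948147347458)))) (.node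
    (.node (.leaf (nat_lit 0)) (.leaf (nat_lit 0))) (.leaf (nat_lit 0)))) (.node (.node (.node
    (.leaf (nat_lit 1494744588432549708300347)) (.leaf (nat_lit 144171447852597264))) (.node (.leaf
    (nat_lit 0)) (.leaf (nat_lit 242519133709795330)))) (.node (.node (.leaf (nat_lit
    526924119770868678685)) (.leaf (nat_lit 204763188607188994))) (.leaf (nat_lit
    1118715550910134812755)))))) (.node (.node (.node (.node (.node (.leaf (nat_lit
    27096435649505591300)) (.leaf (nat_lit 1207790214182686883879))) (.node (.leaf (nat_lit
    3870284617631002433683489)) (.leaf (nat_lit 580999833411540680706)))) (.node (.node (.leaf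
    (nat_lit 340714135064332664836)) (.leaf (nat_lit 186180978241306697))) (.leaf (nat_lit
    649172508107216191526)))) (.node (.node (.node (.leaf (nat_lit 190246336048660676647)) (.leaf
    (nat_lit 0))) (.node (.leaf (nat_lit 0)) (.leaf (nat_lit 239563354396557314)))) (.node (.node
    (.leaf (nat_lit 0)) (.leaf (nat_lit 1474766386272854540313))) (.leaf (nat_lit 0))))) (.node
    (.node (.node (.node (.leaf (nat_lit 78694705445382324284)) (.leaf (nat_lit 0))) (.node (.leaf
    (nat_lit 604762860718311800892)) (.leaf (nat_lit 615026355748426940418)))) (.node (.node (.leaf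
    (nat_lit 372425740358764396582)) (.leaf (nat_lit 1474748476327949697047))) (.leaf (nat_lit
    1008638043388826026036)))) (.node (.node (.node (.leaf (nat_lit 261155654018609119272)) (.leaf
    (nat_lit 1438410617576944238642))) (.node (.leaf (nat_lit 0)) (.leaf (nat_lit
    248642803591151618)))) (.node (.node (.leaf (nat_lit 529808464775722762267)) (.leaf (nat_lit
    117190635614642649921153728514))) (.leaf (nat_lit 1041761353662644551735))))))) (.node (.node
    (.node (.node (.node (.node (.leaf (nat_lit 0)) (.leaf (nat_lit 0))) (.node (.leaf (nat_lit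
    400688364318961631299)) (.leaf (nat_lit 592816926367269715970)))) (.node (.node (.leaf (nat_lit
    0)) (.leaf (nat_lit 150506009218121750))) (.leaf (nat_lit 0)))) (.node (.node (.node (.leaf
    (nat_lit 0)) (.leaf (nat_lit 0))) (.node (.leaf (nat_lit 509652924317841948693)) (.leaf
    (nat_lit 130192859685087208432734633986)))) (.node (.node (.leaf (nat_lit
    456594007183354691590)) (.leaf (nat_lit 1441903654692836278332))) (.leaf (nat_lit
    89841554667208707))))) (.node (.node (.node (.node (.leaf (nat_lit 86764276093450125369))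
    (.leaf (nat_lit 66467268738188112329995255879))) (.node (.leaf (nat_lit 53947997578461201))
    (.leaf (nat_lit 228655812501962754)))) (.node (.node (.leaf (nat_lit 0)) (.leaf (nat_lit 0)))
    (.leaf (nat_lit 0)))) (.node (.node (.node (.leaf (nat_lit 0)) (.leaf (nat_lit
    1142684175492456841220))) (.node (.leaf (nat_lit 0)) (.leaf (nat_lit
    790654097104298676846594)))) (.node (.node (.leaf (nat_lit 0)) (.leaf (nat_lit
    1362387534076329525250))) (.leaf (nat_lit 0)))))) (.node (.node (.node (.node (.node (.leaf
    (nat_lit 60245673528493539334)) (.leaf (nat_lit 886128105361061904388))) (.node (.leaf (nat_lit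
    51766016753139729)) (.leaf (nat_lit 114551601032724482)))) (.node (.node (.leaf (nat_lit
    326304586847872024613)) (.leaf (nat_lit 1539303494774509731870))) (.leaf (nat_lit
    953281063303503872060)))) (.node (.node (.node (.leaf (nat_lit 17137997547962384)) (.leaf
    (nat_lit 0))) (.node (.leaf (nat_lit 791577206018418081800)) (.leaf (nat_lit
    2122195954980726134538242)))) (.node (.node (.leaf (nat_lit 323433051711827279890)) (.leaf
    (nat_lit 1498716001377169113090))) (.leaf (nat_lit 1100293262161165353020))))) (.node (.node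
    (.node (.node (.leaf (nat_lit 130289772647355187230)) (.leaf (nat_lit 1294892260080685875252)))
    (.node (.leaf (nat_lit 45033448080311102591243452447)) (.leaf (nat_lit
    473783966409469132802)))) (.node (.node (.leaf (nat_lit 53205273178931207)) (.leaf (nat_lit
    1530680122934397435912))) (.leaf (nat_lit 1025606799129042944039)))) (.node (.node (.node
    (.leaf (nat_lit 285369644692367671322)) (.leaf (nat_lit 1190536610932884439085))) (.node (.leaf
    (nat_lit 777142431440393404437)) (.leaf (nat_lit 251386445879705602)))) (.node (.node (.leaf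
    (nat_lit 0)) (.leaf (nat_lit 869514430295375544322))) (.leaf (nat_lit
    1138033043936037240862))))))))) (.node (.node (.node (.node (.node (.node (.node (.node (.leaf
    (nat_lit 6918338375573504009)) (.leaf (nat_lit 0))) (.node (.leaf (nat_lit
    38727237614195683553739866183)) (.leaf (nat_lit 1191757125327125676034)))) (.node (.node (.leaf
    (nat_lit 192560765616622075968)) (.leaf (nat_lit 98387108795048275351037083719))) (.node (.leaf
    (nat_lit 0)) (.leaf (nat_lit 4534424607784962))))) (.node (.node (.node (.leaf (nat_lit 0))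
    (.leaf (nat_lit 971454712581776932885))) (.node (.leaf (nat_lit 0)) (.leaf (nat_lit
    129254586732283927798674161666)))) (.node (.node (.leaf (nat_lit 0)) (.leaf (nat_lit
    1468444667572509671515))) (.leaf (nat_lit 127061981772513341))))) (.node (.node (.node (.node
    (.leaf (nat_lit 54193363635407093808)) (.leaf (nat_lit 1254487617004642697266))) (.node (.leaf
    (nat_lit 646839428476995567656)) (.leaf (nat_lit 363396173653080211458)))) (.node (.node (.leaf
    (nat_lit 370693120521146662951)) (.leaf (nat_lit 100458967118456797548549308487))) (.leaf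
    (nat_lit 649173810418609750085)))) (.node (.node (.node (.leaf (nat_lit
    1230385461392671217287217)) (.leaf (nat_lit 1407312452299507564578))) (.node (.leaf (nat_lit
    610537391814823051289)) (.leaf (nat_lit 259923514131445121026)))) (.node (.node (.leaf (nat_lit
    318245151446449455166)) (.leaf (nat_lit 1657819976097398456322))) (.leaf (nat_lit 0))))))
    (.node (.node (.node (.node (.node (.leaf (nat_lit 31131273810227167261)) (.leaf (nat_lit
    121791369705553931))) (.node (.leaf (nat_lit 0)) (.leaf (nat_lit 221055008878231554)))) (.node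
    (.node (.leaf (nat_lit 1676597499697481036070954)) (.leaf (nat_lit 1493183256538328006706)))
    (.leaf (nat_lit 930221999351503454268)))) (.node (.node (.node (.leaf (nat_lit 0)) (.leaf
    (nat_lit 1370944723674456064040))) (.node (.leaf (nat_lit 666163461325045563410)) (.leaf
    (nat_lit 235693451423907842)))) (.node (.node (.leaf (nat_lit 40293368831541265)) (.leaf
    (nat_lit 0))) (.leaf (nat_lit 68364434558582555869993828383))))) (.node (.node (.node (.node
    (.leaf (nat_lit 75524171247583952904)) (.leaf (nat_lit 940898210747007565868))) (.node (.leaf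
    (nat_lit 707660717916250374168)) (.leaf (nat_lit 225840813626753026)))) (.node (.node (.leaf
    (nat_lit 0)) (.leaf (nat_lit 166340282328154129))) (.leaf (nat_lit 954123695166394138664))))
    (.node (.node (.node (.leaf (nat_lit 190250699933001908229)) (.leaf (nat_lit
    143046028982091792))) (.node (.leaf (nat_lit 0)) (.leaf (nat_lit 247586593823653890)))) (.node
    (.node (.leaf (nat_lit 0)) (.leaf (nat_lit 14267988938125736172322818))) (.leaf (nat_lit
    99131534568718339))))))) (.node (.node (.node (.node (.node (.node (.leaf (nat_lit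
    3061431213883414)) (.leaf (nat_lit 856724947191824842796))) (.node (.leaf (nat_lit 0)) (.leaf
    (nat_lit 866058769226138845186)))) (.node (.node (.leaf (nat_lit 39234191241642056)) (.leaf
    (nat_lit 0))) (.leaf (nat_lit 111196200782397447)))) (.node (.node (.node (.leaf (nat_lit 0))
    (.leaf (nat_lit 0))) (.node (.leaf (nat_lit 0)) (.leaf (nat_lit 237241005450067970)))) (.node
    (.node (.leaf (nat_lit 0)) (.leaf (nat_lit 0))) (.leaf (nat_lit 0))))) (.node (.node (.node
    (.node (.leaf (nat_lit 57940816188504473625)) (.leaf (nat_lit 112784995084533776))) (.node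
    (.leaf (nat_lit 53596085138096150)) (.leaf (nat_lit 122522121347103292237023608834)))) (.node
    (.node (.leaf (nat_lit 330343401392395452453)) (.leaf (nat_lit 11984172728586848532955169)))
    (.leaf (nat_lit 0)))) (.node (.node (.node (.leaf (nat_lit 15727197094146078595485073449))
    (.leaf (nat_lit 0))) (.node (.leaf (nat_lit 834240509456976904200)) (.leaf (nat_lit
    16530287285753830894206978)))) (.node (.node (.leaf (nat_lit 3752232363516696627249194)) (.leaf
    (nat_lit 202757945686097922))) (.leaf (nat_lit 0)))))) (.node (.node (.node (.node (.node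
    (.leaf (nat_lit 50155745548513247270)) (.leaf (nat_lit 1243850498410056712215))) (.node (.leaf
    (nat_lit 0)) (.leaf (nat_lit 627117680493399834626)))) (.node (.node (.leaf (nat_lit 0)) (.leaf
    (nat_lit 0))) (.leaf (nat_lit 0)))) (.node (.node (.node (.leaf (nat_lit 0)) (.leaf (nat_lit
    1389977428555810930692))) (.node (.leaf (nat_lit 6158455661259320931385379)) (.leaf (nat_lit
    234707404242157570)))) (.node (.node (.leaf (nat_lit 26135033211871291234209562695)) (.leaf
    (nat_lit 1500710462848015466560))) (.leaf (nat_lit 0))))) (.node (.node (.node (.node (.leaf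
    (nat_lit 77831457090931195925)) (.leaf (nat_lit 0))) (.node (.leaf (nat_lit
    44801313081519187299905372191)) (.leaf (nat_lit 231893187050995714)))) (.node (.node (.leaf
    (nat_lit 429497149437348347943)) (.leaf (nat_lit 12831949352650110744657934))) (.leaf (nat_lit
    956430593990238339081)))) (.node (.node (.node (.leaf (nat_lit 283351398671888613402)) (.leaf
    (nat_lit 1343007489176792924229))) (.node (.leaf (nat_lit 857845670056758018078)) (.leaf
    (nat_lit 16577517293904037016764418)))) (.node (.node (.leaf (nat_lit
    3778191548372257402519601)) (.leaf (nat_lit 14362066183888347179778050))) (.leaf (nat_lit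
    0)))))))) (.node (.node (.node (.node (.node (.node (.node (.leaf (nat_lit
    13259477157094293525)) (.leaf (nat_lit 75133729682068701693373382687))) (.node (.leaf (nat_lit
    65487165953540107)) (.leaf (nat_lit 584168260017347297282)))) (.node (.node (.leaf (nat_lit 0))
    (.leaf (nat_lit 0))) (.leaf (nat_lit 0)))) (.node (.node (.node (.leaf (nat_lit
    109827738435559030822)) (.leaf (nat_lit 123693112504746000))) (.node (.leaf (nat_lit
    67178214837059601)) (.leaf (nat_lit 15848894818156186712670210)))) (.node (.node (.leaf
    (nat_lit 0)) (.leaf (nat_lit 1404141429016603328576))) (.leaf (nat_lit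
    1041752204145353490472))))) (.node (.node (.node (.node (.leaf (nat_lit 0)) (.leaf (nat_lit
    0))) (.node (.leaf (nat_lit 0)) (.leaf (nat_lit 583020058578719539202)))) (.node (.node (.leaf
    (nat_lit 0)) (.leaf (nat_lit 191004114845564939))) (.leaf (nat_lit 956427848904840773645))))
    (.node (.node (.node (.leaf (nat_lit 134331578825578840109)) (.leaf (nat_lit
    1415925481171176325129))) (.node (.leaf (nat_lit 636190388010973593623)) (.leaf (nat_lit
    154160210038157934594)))) (.node (.node (.leaf (nat_lit 64676825883869212)) (.leaf (nat_lit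
    204376220643753986))) (.leaf (nat_lit 0)))))) (.node (.node (.node (.node (.node (.leaf
    (nat_lit 0)) (.leaf (nat_lit 0))) (.node (.leaf (nat_lit 404147938408347664408)) (.leaf
    (nat_lit 580141125559075930114)))) (.node (.node (.leaf (nat_lit 347632227119236579337)) (.leaf
    (nat_lit 1526042223244503875624))) (.leaf (nat_lit 0)))) (.node (.node (.node (.leaf (nat_lit
    122224143250256756761)) (.leaf (nat_lit 1044097634512379510829))) (.node (.leaf (nat_lit 0))
    (.leaf (nat_lit 2537836844981373710368770)))) (.node (.node (.leaf (nat_lit 0)) (.leaf (nat_lit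
    0))) (.leaf (nat_lit 7223582794349236921303054))))) (.node (.node (.node (.node (.leaf (nat_lit
    73795809474903212053)) (.leaf (nat_lit 1288505487091256459301))) (.node (.leaf (nat_lit 0))
    (.leaf (nat_lit 14843178027846208762150914)))) (.node (.node (.leaf (nat_lit 0)) (.leaf
    (nat_lit 0))) (.leaf (nat_lit 6538748566425940340768827)))) (.node (.node (.node (.leaf
    (nat_lit 163157783583993823276)) (.leaf (nat_lit 0))) (.node (.leaf (nat_lit
    72598257406181393)) (.leaf (nat_lit 249769132994723842)))) (.node (.node (.leaf (nat_lit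
    3261353003422196974223395)) (.leaf (nat_lit 11054438692509942836101122))) (.leaf (nat_lit
    0))))))) (.node (.node (.node (.node (.node (.node (.leaf (nat_lit 34878303747132555270))
    (.leaf (nat_lit 105606421105737750))) (.node (.leaf (nat_lit 76007559496073236)) (.leaf
    (nat_lit 219014057599041538)))) (.node (.node (.leaf (nat_lit 195443949408348209197)) (.leaf
    (nat_lit 1498370347631867265050))) (.leaf (nat_lit 82380337480597526)))) (.node (.node (.node
    (.leaf (nat_lit 127411621234450038802)) (.leaf (nat_lit 1327709604155716993074))) (.node (.leaf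
    (nat_lit 0)) (.leaf (nat_lit 236466390918365186)))) (.node (.node (.leaf (nat_lit
    58377234142068808)) (.leaf (nat_lit 0))) (.leaf (nat_lit 0))))) (.node (.node (.node (.node
    (.leaf (nat_lit 7144055326769155)) (.leaf (nat_lit 0))) (.node (.leaf (nat_lit 0)) (.leaf
    (nat_lit 649314799269926076418)))) (.node (.node (.leaf (nat_lit 32973782486482966)) (.leaf
    (nat_lit 0))) (.leaf (nat_lit 0)))) (.node (.node (.node (.leaf (nat_lit
    194285502840631918626)) (.leaf (nat_lit 88017580549698760741482725447))) (.node (.leaf (nat_lit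
    781174841467123990549)) (.leaf (nat_lit 136059774404902594027532386306)))) (.node (.node (.leaf
    (nat_lit 336693268122987331592)) (.leaf (nat_lit 1726422502725059280898))) (.leaf (nat_lit
    0)))))) (.node (.node (.node (.node (.node (.leaf (nat_lit 0)) (.leaf (nat_lit
    886704706919573160005))) (.node (.leaf (nat_lit 51554979240083473)) (.leaf (nat_lit
    14866819832542553400672258)))) (.node (.node (.leaf (nat_lit 241565278557633183792)) (.leaf
    (nat_lit 1548257528746512416814))) (.leaf (nat_lit 64282893164760940892723150914)))) (.node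
    (.node (.node (.leaf (nat_lit 132601809274287620151)) (.leaf (nat_lit 0))) (.node (.leaf
    (nat_lit 588631496070350962709)) (.leaf (nat_lit 242731365223759874)))) (.node (.node (.leaf
    (nat_lit 0)) (.leaf (nat_lit 1495545818825523134466))) (.leaf (nat_lit 134561510067404828)))))
    (.node (.node (.node (.node (.leaf (nat_lit 99449474302972461074)) (.leaf (nat_lit
    969148623144519663663))) (.node (.leaf (nat_lit 0)) (.leaf (nat_lit
    5205865545565321604366338)))) (.node (.node (.leaf (nat_lit 441315861642992615430)) (.leaf
    (nat_lit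
    5417682068940662824902778568769292086074126433706327158180425485095013952713406742265944)))
    (.leaf (nat_lit 0)))) (.node (.node (.node (.leaf (nat_lit 0)) (.leaf (nat_lit 0))) (.node
    (.leaf (nat_lit 51494691506856670308512104489)) (.leaf (nat_lit 248148684783616002)))) (.node
    (.node (.leaf (nat_lit 44446636566511633)) (.leaf (nat_lit 1211932263050763239426))) (.leaf
    (nat_lit 1114696340730949074976)))))))))))) (.node (.node (.node (.node (.node (.node (.node
    (.node (.node (.node (.node (.leaf (nat_lit 1)) (.leaf (nat_lit 9084573646308970598760481)))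
    (.node (.leaf (nat_lit 0)) (.leaf (nat_lit 215143123834241026)))) (.node (.node (.leaf (nat_lit
    225994926180008132672)) (.leaf (nat_lit 0))) (.node (.leaf (nat_lit 0)) (.leaf (nat_lit
    247727984147038210))))) (.node (.node (.node (.leaf (nat_lit 0)) (.leaf (nat_lit 0))) (.node
    (.leaf (nat_lit 469296097224374288446)) (.leaf (nat_lit 7441967815789823962382338)))) (.node
    (.node (.leaf (nat_lit 53768313326665735)) (.leaf (nat_lit 1421173936111740977154))) (.leaf
    (nat_lit 0))))) (.node (.node (.node (.node (.leaf (nat_lit 4399150317830161)) (.leaf (nat_lit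
    0))) (.node (.leaf (nat_lit 642803569763324985363)) (.leaf (nat_lit 643259419454475534338))))
    (.node (.node (.leaf (nat_lit 242141880073194766403)) (.leaf (nat_lit 1543339423813974818845)))
    (.leaf (nat_lit 946375708751505326147)))) (.node (.node (.node (.leaf (nat_lit
    16856617060532227)) (.leaf (nat_lit 1398664203897147686944))) (.node (.leaf (nat_lit 0)) (.leaf
    (nat_lit 236607489183973378)))) (.node (.node (.leaf (nat_lit 2935434190526535354810403))
    (.leaf (nat_lit 1684913349637085265922))) (.leaf (nat_lit 0)))))) (.node (.node (.node (.node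
    (.node (.leaf (nat_lit 4152301367459847)) (.leaf (nat_lit 1211825157810625380361))) (.node
    (.leaf (nat_lit 0)) (.leaf (nat_lit 587628922167978295298)))) (.node (.node (.leaf (nat_lit
    24880303164227600)) (.leaf (nat_lit 0))) (.leaf (nat_lit 0)))) (.node (.node (.node (.leaf
    (nat_lit 22098538745954324)) (.leaf (nat_lit 1326556682676879949837))) (.node (.leaf (nat_lit
    511382658504372453400)) (.leaf (nat_lit 1953863855937673166850)))) (.node (.node (.leaf
    (nat_lit 0)) (.leaf (nat_lit 176122525611327504))) (.leaf (nat_lit 1056164286186360340514)))))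
    (.node (.node (.node (.node (.leaf (nat_lit 0)) (.leaf (nat_lit 966838487100745252902))) (.node
    (.leaf (nat_lit 0)) (.leaf (nat_lit 363390332549097259010)))) (.node (.node (.leaf (nat_lit
    400095574822553321481)) (.leaf (nat_lit 1509637897645172392003))) (.leaf (nat_lit
    935676317662317838366)))) (.node (.node (.node (.leaf (nat_lit 195438424379598503973)) (.leaf
    (nat_lit 0))) (.node (.leaf (nat_lit 795010040259894509631)) (.leaf (nat_lit
    247728207485337602)))) (.node (.node (.leaf (nat_lit 0)) (.leaf (nat_lit
    1191755221153374994434))) (.leaf (nat_lit 0))))))) (.node (.node (.node (.node (.node (.node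
    (.leaf (nat_lit 1372469684469782)) (.leaf (nat_lit 861336457176722636837))) (.node (.leaf
    (nat_lit 0)) (.leaf (nat_lit 10048624218332149739421698)))) (.node (.node (.leaf (nat_lit 0))
    (.leaf (nat_lit 0))) (.leaf (nat_lit 813173691717590908946)))) (.node (.node (.node (.leaf
    (nat_lit 107233946568120008759)) (.leaf (nat_lit 1317331621498107133991))) (.node (.leaf
    (nat_lit 495816388347133362200)) (.leaf (nat_lit 581885291187908313090)))) (.node (.node (.leaf
    (nat_lit 56161134096547851)) (.leaf (nat_lit 172040863571116049))) (.leaf (nat_lit 0)))))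
    (.node (.node (.node (.node (.leaf (nat_lit 6209704190139743498349641782)) (.leaf (nat_lit
    81440258908493494829520846919))) (.node (.leaf (nat_lit 0)) (.leaf (nat_lit
    861162641542470631426)))) (.node (.node (.leaf (nat_lit 0)) (.leaf (nat_lit
    191460966221873225))) (.leaf (nat_lit 81747869186523139)))) (.node (.node (.node (.leaf
    (nat_lit 135484500355955490885)) (.leaf (nat_lit 1416501941940659617818))) (.node (.leaf
    (nat_lit 0)) (.leaf (nat_lit 244701870449360898)))) (.node (.node (.leaf (nat_lit
    384826861056143065144)) (.leaf (nat_lit 1663009178347752325122))) (.leaf (nat_lit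
    884962269345062518818)))))) (.node (.node (.node (.node (.node (.leaf (nat_lit
    3559299578873290858866999311)) (.leaf (nat_lit 150920550871597129))) (.node (.leaf (nat_lit
    36637944627628447031540121641)) (.leaf (nat_lit 4731265451750301676863490)))) (.node (.node
    (.leaf (nat_lit 231763827038250795054)) (.leaf (nat_lit 1363768908533542879289))) (.leaf
    (nat_lit 80551050779688976)))) (.node (.node (.node (.leaf (nat_lit 194282124359227342888))
    (.leaf (nat_lit 1044674095290452738117))) (.node (.leaf (nat_lit 0)) (.leaf (nat_lit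
    2554365129888110219624450)))) (.node (.node (.leaf (nat_lit 26251097149604191564279906375))
    (.leaf (nat_lit 180485662628249603))) (.leaf (nat_lit 0))))) (.node (.node (.node (.node (.leaf
    (nat_lit 74660500620538216473)) (.leaf (nat_lit 1290234869382526468134))) (.node (.leaf
    (nat_lit 0)) (.leaf (nat_lit 14848210530285346034548738)))) (.node (.node (.leaf (nat_lit
    400673161749641494578)) (.leaf (nat_lit 0))) (.leaf (nat_lit 790121350179682713668)))) (.node
    (.node (.node (.leaf (nat_lit 33710751629836308)) (.leaf (nat_lit 0))) (.node (.leaf (nat_lit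
    637925400334353760319)) (.leaf (nat_lit 2046108836525060063234)))) (.node (.node (.leaf
    (nat_lit 0)) (.leaf (nat_lit 1481718039331058417666))) (.leaf (nat_lit
    101383497591160848)))))))) (.node (.node (.node (.node (.node (.node (.node (.leaf (nat_lit
    844566664183819)) (.leaf (nat_lit 0))) (.node (.leaf (nat_lit 0)) (.leaf (nat_lit
    814175541290908975106)))) (.node (.node (.leaf (nat_lit 257700760292524490789)) (.leaf (nat_lit
    0))) (.leaf (nat_lit 0)))) (.node (.node (.node (.leaf (nat_lit 121356742263725817881)) (.leaf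
    (nat_lit 1332319178733861928986))) (.node (.leaf (nat_lit 518873727586296594455)) (.leaf
    (nat_lit 15707251192455515796144130)))) (.node (.node (.leaf (nat_lit 449675176024708677645))
    (.leaf (nat_lit 1461815579941353488477))) (.leaf (nat_lit 57568988975558045514842046495)))))
    (.node (.node (.node (.node (.leaf (nat_lit 6439981337935889)) (.leaf (nat_lit
    135091637880750138))) (.node (.leaf (nat_lit 0)) (.leaf (nat_lit 223095513480822786)))) (.node
    (.node (.leaf (nat_lit 241566193514516250691)) (.leaf (nat_lit 190334752782417992))) (.leaf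
    (nat_lit 0)))) (.node (.node (.node (.leaf (nat_lit 134331297238932979716)) (.leaf (nat_lit
    1394019409522023661572))) (.node (.leaf (nat_lit 545973998706021826594)) (.leaf (nat_lit
    16198024818239575635001346)))) (.node (.node (.leaf (nat_lit 0)) (.leaf (nat_lit
    1527251757387349164034))) (.leaf (nat_lit 0)))))) (.node (.node (.node (.node (.node (.leaf
    (nat_lit 193638357309045266972714)) (.leaf (nat_lit 861337266829597540397))) (.node (.leaf
    (nat_lit 0)) (.leaf (nat_lit 5208174879320191648661506)))) (.node (.node (.leaf (nat_lit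
    213315992102977601540)) (.leaf (nat_lit 1233199668390076284975))) (.leaf (nat_lit
    646866665055052824610)))) (.node (.node (.node (.leaf (nat_lit 0)) (.leaf (nat_lit
    1334051305921550942237))) (.node (.leaf (nat_lit 95361326376943636)) (.leaf (nat_lit
    356780746045149872130)))) (.node (.node (.leaf (nat_lit 318820591319386357783)) (.leaf (nat_lit
    1477648584438305718290))) (.leaf (nat_lit 0))))) (.node (.node (.node (.node (.leaf (nat_lit
    0)) (.leaf (nat_lit 0))) (.node (.leaf (nat_lit 58170354157355025)) (.leaf (nat_lit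
    551320828025665421314)))) (.node (.node (.leaf (nat_lit 312473751698924568581)) (.leaf (nat_lit
    1498112693754961002563))) (.leaf (nat_lit 671081676934595412000)))) (.node (.node (.node (.leaf
    (nat_lit 18968366580629520)) (.leaf (nat_lit 1432068775185291083815))) (.node (.leaf (nat_lit
    853809600116595818523)) (.leaf (nat_lit 2038036346003605618690)))) (.node (.node (.leaf
    (nat_lit 68547544900304924)) (.leaf (nat_lit 1143045487945490563074))) (.leaf (nat_lit
    99131560338522128))))))) (.node (.node (.node (.node (.node (.node (.leaf (nat_lit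
    27960282035203014662)) (.leaf (nat_lit 855572096081731977261))) (.node (.leaf (nat_lit 0))
    (.leaf (nat_lit 14664174852720023759486978)))) (.node (.node (.leaf (nat_lit 0)) (.leaf
    (nat_lit 0))) (.leaf (nat_lit 0)))) (.node (.node (.node (.leaf (nat_lit 0)) (.leaf (nat_lit
    0))) (.node (.leaf (nat_lit 0)) (.leaf (nat_lit 237521879131357186)))) (.node (.node (.leaf
    (nat_lit 462934653220457480218)) (.leaf (nat_lit 12220610141877790465851451))) (.leaf (nat_lit
    0))))) (.node (.node (.node (.node (.leaf (nat_lit 91087555779505618971)) (.leaf (nat_lit 0)))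
    (.node (.leaf (nat_lit 686618316919913250829)) (.leaf (nat_lit 4731278177727447558258690))))
    (.node (.node (.leaf (nat_lit 47997389109329927)) (.leaf (nat_lit 1335529158117465194543)))
    (.leaf (nat_lit 0)))) (.node (.node (.node (.leaf (nat_lit 208695895653821382686)) (.leaf
    (nat_lit 0))) (.node (.leaf (nat_lit 822133355940747083824)) (.leaf (nat_lit
    16448158350684951735959554)))) (.node (.node (.leaf (nat_lit 0)) (.leaf (nat_lit
    201983915269947394))) (.leaf (nat_lit 1128805378813082140678)))))) (.node (.node (.node (.node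
    (.node (.leaf (nat_lit 5032331576475651)) (.leaf (nat_lit 1090771566824121368640))) (.node
    (.leaf (nat_lit 0)) (.leaf (nat_lit 14749251526404045441073154)))) (.node (.node (.leaf
    (nat_lit 310163333896705605678)) (.leaf (nat_lit 0))) (.leaf (nat_lit 0)))) (.node (.node
    (.node (.leaf (nat_lit 1591555406575925905850403)) (.leaf (nat_lit 1079265821961849339949)))
    (.node (.leaf (nat_lit 6227226884460618304454705)) (.leaf (nat_lit 241462949712101378))))
    (.node (.node (.leaf (nat_lit 322280130172860694576)) (.leaf (nat_lit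
    5689727580517710108263169140186336547679462468876109681085907780201819229600949776679000)))
    (.leaf (nat_lit 0))))) (.node (.node (.node (.node (.leaf (nat_lit 9466661971296278)) (.leaf
    (nat_lit 967994997840801890351))) (.node (.leaf (nat_lit 0)) (.leaf (nat_lit
    4603839597938833638031362)))) (.node (.node (.leaf (nat_lit 427767943136658259998)) (.leaf
    (nat_lit 1576510582278328614960))) (.leaf (nat_lit 124708674701754379)))) (.node (.node (.node
    (.leaf (nat_lit 178724335121720344597)) (.leaf (nat_lit 87514594255296349164007653447))) (.node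
    (.leaf (nat_lit 50836967378023956463550267433)) (.leaf (nat_lit 188590358787436291817474))))
    (.node (.node (.leaf (nat_lit 412501305548848955410)) (.leaf (nat_lit
    116496471372212227356877979650))) (.leaf (nat_lit 7485577875372413812998179))))))))) (.node
    (.node (.node (.node (.node (.node (.node (.node (.leaf (nat_lit 3458940491515756549)) (.leaf
    (nat_lit 7188065618739863211999267))) (.node (.leaf (nat_lit 39230162533977534026637180999))
    (.leaf (nat_lit 851644710392074272770)))) (.node (.node (.leaf (nat_lit 36244365722648583))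
    (.leaf (nat_lit 1360305111890009456644))) (.node (.leaf (nat_lit 884941225594450018333)) (.leaf
    (nat_lit 8439709521018882))))) (.node (.node (.node (.leaf (nat_lit 115015286882985771033))
    (.leaf (nat_lit 162642032018456596))) (.node (.leaf (nat_lit 90679859268943933)) (.leaf
    (nat_lit 234637559483990018)))) (.node (.node (.leaf (nat_lit 54472078077853703)) (.leaf
    (nat_lit 194312364944916482))) (.leaf (nat_lit 0))))) (.node (.node (.node (.node (.leaf
    (nat_lit 74656242555601223699)) (.leaf (nat_lit 892469877478460162117))) (.node (.leaf (nat_lit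
    650297911481479659550)) (.leaf (nat_lit 2958049105724990541791234)))) (.node (.node (.leaf
    (nat_lit 299211705709005832261)) (.leaf (nat_lit 97265095821833783220908654607))) (.leaf
    (nat_lit 7138449907744494816854075)))) (.node (.node (.node (.leaf (nat_lit 0)) (.leaf (nat_lit
    11381968368255082158096433))) (.node (.leaf (nat_lit 733899781667163406354)) (.leaf (nat_lit
    243433832894824450)))) (.node (.node (.leaf (nat_lit 0)) (.leaf (nat_lit
    1568756651345234296834))) (.leaf (nat_lit 954998169173787607105)))))) (.node (.node (.node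
    (.node (.node (.leaf (nat_lit 2089163137925092047614967849)) (.leaf (nat_lit
    1214707461623682105370))) (.node (.leaf (nat_lit 583138755527567409215)) (.leaf (nat_lit
    585905239706331971586)))) (.node (.node (.leaf (nat_lit 317653945650512068658)) (.leaf (nat_lit
    0))) (.leaf (nat_lit 0)))) (.node (.node (.node (.leaf (nat_lit 22943032395563036)) (.leaf
    (nat_lit 1370122569554208161878))) (.node (.leaf (nat_lit 94868685038157844)) (.leaf (nat_lit
    239211235797762050)))) (.node (.node (.leaf (nat_lit 484563155104798277678)) (.leaf (nat_lit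
    0))) (.leaf (nat_lit 0))))) (.node (.node (.node (.node (.leaf (nat_lit 0)) (.leaf (nat_lit
    977791734053028954117))) (.node (.leaf (nat_lit 699301720305552261133)) (.leaf (nat_lit
    126162803868986218018622472194)))) (.node (.node (.leaf (nat_lit 404130800148806828051)) (.leaf
    (nat_lit 164510652029861910))) (.leaf (nat_lit 672810425795498672183)))) (.node (.node (.node
    (.leaf (nat_lit 255390624145670864925)) (.leaf (nat_lit 1151332142471379615748))) (.node (.leaf
    (nat_lit 0)) (.leaf (nat_lit 16459447170632575999016962)))) (.node (.node (.leaf (nat_lit 0))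
    (.leaf (nat_lit 1202708045961913106434))) (.leaf (nat_lit 1138029313997458833435))))))) (.node
    (.node (.node (.node (.node (.node (.leaf (nat_lit 0)) (.leaf (nat_lit 0))) (.node (.leaf
    (nat_lit 0)) (.leaf (nat_lit 653060389112887050242)))) (.node (.node (.leaf (nat_lit 0)) (.leaf
    (nat_lit 1494910949627550433301))) (.leaf (nat_lit 0)))) (.node (.node (.node (.leaf (nat_lit
    20550211625680903)) (.leaf (nat_lit 1152176108630284894252))) (.node (.leaf (nat_lit
    503310941137160831001)) (.leaf (nat_lit 645584828981775106050)))) (.node (.node (.leaf (nat_lit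
    23367872801881339999157551175)) (.leaf (nat_lit 0))) (.leaf (nat_lit 128649805412040732)))))
    (.node (.node (.node (.node (.leaf (nat_lit 6792031217254417)) (.leaf (nat_lit 0))) (.node
    (.leaf (nat_lit 30254556592392628126741758023)) (.leaf (nat_lit 404606300049775984642))))
    (.node (.node (.leaf (nat_lit 2812401872058321943658538)) (.leaf (nat_lit 0))) (.leaf (nat_lit
    0)))) (.node (.node (.node (.leaf (nat_lit 15920646463827670044915335209)) (.leaf (nat_lit
    173550561755529223))) (.node (.leaf (nat_lit 546551374458157989920)) (.leaf (nat_lit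
    2010361515324620341250)))) (.node (.node (.leaf (nat_lit 493510612476848439360)) (.leaf
    (nat_lit 205431820525895682))) (.leaf (nat_lit 0)))))) (.node (.node (.node (.node (.node
    (.leaf (nat_lit 34014809265285562372)) (.leaf (nat_lit 0))) (.node (.leaf (nat_lit
    645685521500732588059)) (.leaf (nat_lit 14753881370627731605422082)))) (.node (.node (.leaf
    (nat_lit 0)) (.leaf (nat_lit 1419433892569180995636))) (.leaf (nat_lit
    945786229029909757975)))) (.node (.node (.node (.leaf (nat_lit 187941337627585871902)) (.leaf
    (nat_lit 1096557990788154458117))) (.node (.leaf (nat_lit 0)) (.leaf (nat_lit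
    1974611447002968555522)))) (.node (.node (.leaf (nat_lit 0)) (.leaf (nat_lit
    101675828893129667119950397481))) (.leaf (nat_lit 1085564910805929099314))))) (.node (.node
    (.node (.node (.leaf (nat_lit 0)) (.leaf (nat_lit 1210396181148538699781))) (.node (.leaf
    (nat_lit 88042083629269012)) (.leaf (nat_lit 542958980364863995906)))) (.node (.node (.leaf
    (nat_lit 0)) (.leaf (nat_lit 167466414163230742))) (.leaf (nat_lit 999993103910875365443))))
    (.node (.node (.node (.leaf (nat_lit 281045555628315181075)) (.leaf (nat_lit
    1166322233377061797892))) (.node (.leaf (nat_lit 846316032712325136410)) (.leaf (nat_lit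
    249769150174593026)))) (.node (.node (.leaf (nat_lit 0)) (.leaf (nat_lit
    785353981582574288898))) (.leaf (nat_lit 917534695014573211685)))))))) (.node (.node (.node
    (.node (.node (.node (.node (.leaf (nat_lit 13259160454795821074)) (.leaf (nat_lit 0))) (.node
    (.leaf (nat_lit 0)) (.leaf (nat_lit 784199716217060261890)))) (.node (.node (.leaf (nat_lit
    190255028255013928964)) (.leaf (nat_lit 11783621171827253843329038))) (.leaf (nat_lit 0))))
    (.node (.node (.node (.leaf (nat_lit 108963047272744157221)) (.leaf (nat_lit
    123693069555073027))) (.node (.leaf (nat_lit 750035122647386488861)) (.leaf (nat_lit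
    235551468395036674)))) (.node (.node (.leaf (nat_lit 55316640446939143)) (.leaf (nat_lit
    1637615067923912786014))) (.leaf (nat_lit 57298168321715706078567923743))))) (.node (.node
    (.node (.node (.leaf (nat_lit 87920363796407975987)) (.leaf (nat_lit 112362602230841347)))
    (.node (.leaf (nat_lit 678276345594663600166)) (.leaf (nat_lit 365702509685884780546)))) (.node
    (.node (.leaf (nat_lit 382511023426103345178)) (.leaf (nat_lit 1321115739147628380217))) (.leaf
    (nat_lit 973471262124533809203)))) (.node (.node (.node (.leaf (nat_lit 212739951982591279152))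
    (.leaf (nat_lit 0))) (.node (.leaf (nat_lit 637919770224934191122)) (.leaf (nat_lit
    16435236981327336256569346)))) (.node (.node (.leaf (nat_lit 515395045479468433448)) (.leaf
    (nat_lit 195228258130853890))) (.leaf (nat_lit 6361799051046883959242794)))))) (.node (.node
    (.node (.node (.node (.leaf (nat_lit 5911726130331655)) (.leaf (nat_lit 0))) (.node (.leaf
    (nat_lit 635308735232032833557)) (.leaf (nat_lit 660551488560229974018)))) (.node (.node (.leaf
    (nat_lit 0)) (.leaf (nat_lit 11838128731050913086832675))) (.leaf (nat_lit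
    56661295849061982742652452905)))) (.node (.node (.node (.leaf (nat_lit 136635697207854694463))
    (.leaf (nat_lit 0))) (.node (.leaf (nat_lit 0)) (.leaf (nat_lit 239492951292641282)))) (.node
    (.node (.leaf (nat_lit 0)) (.leaf (nat_lit 0))) (.leaf (nat_lit 0))))) (.node (.node (.node
    (.node (.leaf (nat_lit 111265230566094733325)) (.leaf (nat_lit 948969716930677243908))) (.node
    (.leaf (nat_lit 609375109721052348434)) (.leaf (nat_lit 15301210394804683150721026)))) (.node
    (.node (.leaf (nat_lit 267509707517680877637)) (.leaf (nat_lit 0))) (.leaf (nat_lit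
    1005181883854274887747)))) (.node (.node (.node (.leaf (nat_lit 272409832488756772887)) (.leaf
    (nat_lit 1271525722392082186286))) (.node (.leaf (nat_lit 0)) (.leaf (nat_lit
    16736172844879154814124034)))) (.node (.node (.leaf (nat_lit 69040194829025308)) (.leaf
    (nat_lit 863751513748210384898))) (.leaf (nat_lit 1046373250813074276386))))))) (.node (.node
    (.node (.node (.node (.node (.leaf (nat_lit 193631439427993516376099)) (.leaf (nat_lit 0)))
    (.node (.leaf (nat_lit 51413649046241297)) (.leaf (nat_lit 624234039652728897538)))) (.node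
    (.node (.leaf (nat_lit 0)) (.leaf (nat_lit 1496064504596883767326))) (.leaf (nat_lit 0))))
    (.node (.node (.node (.leaf (nat_lit 21816982164865044)) (.leaf (nat_lit
    1224234547221991981102))) (.node (.leaf (nat_lit 752919397000028553276)) (.leaf (nat_lit
    129640652123326068321499283458)))) (.node (.node (.leaf (nat_lit 328043189093896749102)) (.leaf
    (nat_lit 13077830051280540068479009))) (.leaf (nat_lit 1053858443125607039008))))) (.node
    (.node (.node (.node (.leaf (nat_lit 106075992804951261211)) (.leaf (nat_lit 0))) (.node (.leaf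
    (nat_lit 695554021590699278355)) (.leaf (nat_lit 1225198739943692894210)))) (.node (.node
    (.leaf (nat_lit 23406572550815911302666715151)) (.leaf (nat_lit 0))) (.leaf (nat_lit
    968534299008506724402)))) (.node (.node (.node (.leaf (nat_lit 30825293816135691)) (.leaf
    (nat_lit 1206094963824719495206))) (.node (.leaf (nat_lit 0)) (.leaf (nat_lit
    247165068553355266)))) (.node (.node (.leaf (nat_lit 334387143595847254063)) (.leaf (nat_lit
    1711434554853438980098))) (.leaf (nat_lit 1018709643519288606784)))))) (.node (.node (.node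
    (.node (.node (.leaf (nat_lit 49291335998114037798)) (.leaf (nat_lit 886704566130545197100)))
    (.node (.leaf (nat_lit 0)) (.leaf (nat_lit 14829081252791051838816258)))) (.node (.node (.leaf
    (nat_lit 31143602432376848)) (.leaf (nat_lit 1260873092175214346288))) (.leaf (nat_lit
    946627171390104731677)))) (.node (.node (.node (.leaf (nat_lit 0)) (.leaf (nat_lit
    11445743658634086413762619))) (.node (.leaf (nat_lit 0)) (.leaf (nat_lit
    6039528345688264245772290)))) (.node (.node (.leaf (nat_lit 495794746307576528956)) (.leaf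
    (nat_lit 1510533587652841766914))) (.leaf (nat_lit 1098247821558819258400))))) (.node (.node
    (.node (.node (.leaf (nat_lit 83020096528770596885)) (.leaf (nat_lit 1193679734271442616365)))
    (.node (.leaf (nat_lit 0)) (.leaf (nat_lit 566025320618529062914)))) (.node (.node (.leaf
    (nat_lit 436703647816034222086)) (.leaf (nat_lit 0))) (.leaf (nat_lit 0)))) (.node (.node
    (.node (.leaf (nat_lit 0)) (.leaf (nat_lit 1192842453976457871429))) (.node (.leaf (nat_lit
    721225879204449681471)) (.leaf (nat_lit 251035907828875266)))) (.node (.node (.leaf (nat_lit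
    426048555500574015555)) (.leaf (nat_lit 848761914092297584642))) (.leaf (nat_lit 0))))))))))
    (.node (.node (.node (.node (.node (.node (.node (.node (.node (.leaf (nat_lit 1)) (.leaf
    (nat_lit 0))) (.node (.leaf (nat_lit 580539896474892435482)) (.leaf (nat_lit
    1313682091901551050754)))) (.node (.node (.leaf (nat_lit 265194257379590602757)) (.leaf
    (nat_lit 0))) (.node (.leaf (nat_lit 883788304064073367579)) (.leaf (nat_lit
    252373111536746498))))) (.node (.node (.node (.leaf (nat_lit 0)) (.leaf (nat_lit
    162219785193652252))) (.node (.leaf (nat_lit 736197460759591190553)) (.leaf (nat_lit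
    473792418389711585282)))) (.node (.node (.leaf (nat_lit 289995019785179693120)) (.leaf (nat_lit
    1428354574792985346129))) (.leaf (nat_lit 69369025805330310710350381097))))) (.node (.node
    (.node (.node (.leaf (nat_lit 0)) (.leaf (nat_lit 0))) (.node (.leaf (nat_lit
    640497726797060964378)) (.leaf (nat_lit 221547366749175810)))) (.node (.node (.leaf (nat_lit
    312470232617470591013)) (.leaf (nat_lit 1541033721576609218587))) (.leaf (nat_lit 0)))) (.node
    (.node (.node (.leaf (nat_lit 0)) (.leaf (nat_lit 0))) (.node (.leaf (nat_lit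
    590937339122514329625)) (.leaf (nat_lit 1994220825417896624130)))) (.node (.node (.leaf
    (nat_lit 318821471383955111961)) (.leaf (nat_lit 1559533208888095735810))) (.leaf (nat_lit
    0)))))) (.node (.node (.node (.node (.node (.leaf (nat_lit 29402032230675709984)) (.leaf
    (nat_lit 105325006258569233))) (.node (.leaf (nat_lit 3948205970265275724202033)) (.leaf
    (nat_lit 14730486286492901186994178)))) (.node (.node (.leaf (nat_lit 322265490897091362866))
    (.leaf (nat_lit 1512782218360483151901))) (.leaf (nat_lit 0)))) (.node (.node (.node (.leaf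
    (nat_lit 115882230318060732441)) (.leaf (nat_lit 166794303321014283))) (.node (.leaf (nat_lit
    69852562123259921)) (.leaf (nat_lit 404626143490173239298)))) (.node (.node (.leaf (nat_lit
    460053264433003298829)) (.leaf (nat_lit 101482391268831294347842748447))) (.leaf (nat_lit
    0))))) (.node (.node (.node (.node (.leaf (nat_lit 774564668988465952849979)) (.leaf (nat_lit
    0))) (.node (.leaf (nat_lit 702215021185347027021)) (.leaf (nat_lit 362237416095371952130))))
    (.node (.node (.leaf (nat_lit 23329180040794049110790701071)) (.leaf (nat_lit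
    164862461391011862))) (.leaf (nat_lit 931064913161816834088)))) (.node (.node (.node (.leaf
    (nat_lit 0)) (.leaf (nat_lit 0))) (.node (.leaf (nat_lit 658677002022930284567)) (.leaf
    (nat_lit 1071645897634789827280898)))) (.node (.node (.leaf (nat_lit 556062373415374487590))
    (.leaf (nat_lit 211835672598806530))) (.leaf (nat_lit 0))))))) (.node (.node (.node (.node
    (.node (.node (.leaf (nat_lit 14124168319909167129)) (.leaf (nat_lit 146314516274216967)))
    (.node (.leaf (nat_lit 0)) (.leaf (nat_lit 976162414698640375810)))) (.node (.node (.leaf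
    (nat_lit 0)) (.leaf (nat_lit 0))) (.leaf (nat_lit 810291387999023464471)))) (.node (.node
    (.node (.leaf (nat_lit 13267020833488899)) (.leaf (nat_lit 1229421638289761435685))) (.node
    (.leaf (nat_lit 746001023384248582162)) (.leaf (nat_lit 15859038209471519482183682)))) (.node
    (.node (.leaf (nat_lit 0)) (.leaf (nat_lit 1614865066747630911566))) (.leaf (nat_lit
    726428383801742917664))))) (.node (.node (.node (.node (.leaf (nat_lit 91087379737386090526))
    (.leaf (nat_lit 1274666065701388877836))) (.node (.leaf (nat_lit 445945565702061752388)) (.leaf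
    (nat_lit 580138384833070170114)))) (.node (.node (.leaf (nat_lit 370132950339278798912)) (.leaf
    (nat_lit 0))) (.leaf (nat_lit 0)))) (.node (.node (.node (.leaf (nat_lit
    241553665850828062732)) (.leaf (nat_lit 1257399055805661249541))) (.node (.leaf (nat_lit 0))
    (.leaf (nat_lit 243363764798357506)))) (.node (.node (.leaf (nat_lit 323433579881135538197))
    (.leaf (nat_lit 205291057267736578))) (.leaf (nat_lit 886115190901208973349)))))) (.node (.node
    (.node (.node (.node (.leaf (nat_lit 57937860082773721107)) (.leaf (nat_lit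
    1238662983059647954967))) (.node (.leaf (nat_lit 50499233329053699)) (.leaf (nat_lit
    856267448993441841154)))) (.node (.node (.leaf (nat_lit 237528716062031544325)) (.leaf (nat_lit
    0))) (.leaf (nat_lit 715177686587272265752)))) (.node (.node (.node (.leaf (nat_lit 0)) (.leaf
    (nat_lit 0))) (.node (.leaf (nat_lit 634458964579445833790)) (.leaf (nat_lit
    309218081190506070018)))) (.node (.node (.leaf (nat_lit 3778264472450675710885902)) (.leaf
    (nat_lit 1477649182744429920277))) (.leaf (nat_lit 0))))) (.node (.node (.node (.node (.leaf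
    (nat_lit 16080864362496061)) (.leaf (nat_lit 1309258989045163425798))) (.node (.leaf (nat_lit
    718326473484455313429)) (.leaf (nat_lit 580140483607494066178)))) (.node (.node (.leaf (nat_lit
    400096701023107874829)) (.leaf (nat_lit 1605605982014760222726))) (.leaf (nat_lit
    963924442963975012361)))) (.node (.node (.node (.leaf (nat_lit 33921883632173076)) (.leaf
    (nat_lit 142624014085521430))) (.node (.leaf (nat_lit 827292687148823805975)) (.leaf (nat_lit
    249980127558107138)))) (.node (.node (.leaf (nat_lit 0)) (.leaf (nat_lit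
    907275219558451052546))) (.leaf (nat_lit 923011072127095996448)))))))) (.node (.node (.node
    (.node (.node (.node (.node (.leaf (nat_lit 464255848931407543901945871)) (.leaf (nat_lit 0)))
    (.node (.leaf (nat_lit 3976688614596383223316529)) (.leaf (nat_lit 809852148874846863362))))
    (.node (.node (.leaf (nat_lit 259430142575204565030)) (.leaf (nat_lit 181606503063617608)))
    (.leaf (nat_lit 889553404305755799592)))) (.node (.node (.node (.leaf (nat_lit
    107233664990064082978)) (.leaf (nat_lit 0))) (.node (.leaf (nat_lit 0)) (.leaf (nat_lit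
    128284513537121610079750389762)))) (.node (.node (.leaf (nat_lit 370700228915359842349)) (.leaf
    (nat_lit 174785141514829841))) (.leaf (nat_lit 0))))) (.node (.node (.node (.node (.leaf
    (nat_lit 0)) (.leaf (nat_lit 110181136801595395))) (.node (.leaf (nat_lit 0)) (.leaf (nat_lit
    919096246837367209986)))) (.node (.node (.leaf (nat_lit 380781641143423270931)) (.leaf (nat_lit
    104753503755073799615974539318))) (.leaf (nat_lit 0)))) (.node (.node (.node (.leaf (nat_lit
    220811387651487891464)) (.leaf (nat_lit 0))) (.node (.leaf (nat_lit 6210666027656991478120490))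
    (.leaf (nat_lit 2115219602890514472632322)))) (.node (.node (.leaf (nat_lit 0)) (.leaf (nat_lit
    1597868411453909958658))) (.leaf (nat_lit 1118715692257508524114)))))) (.node (.node (.node
    (.node (.node (.leaf (nat_lit 3132134965510147)) (.leaf (nat_lit 863066649120867549253)))
    (.node (.leaf (nat_lit 622077053947932246080)) (.leaf (nat_lit 581864523036757262338)))) (.node
    (.node (.leaf (nat_lit 30228499520421891)) (.leaf (nat_lit 92198480706384688907964186639)))
    (.leaf (nat_lit 113940916812775431)))) (.node (.node (.node (.leaf (nat_lit 0)) (.leaf (nat_lit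
    10675851780857143266377761))) (.node (.leaf (nat_lit 526371940075007311904)) (.leaf (nat_lit
    1961935081488179724290)))) (.node (.node (.leaf (nat_lit 491480050899641106470)) (.leaf
    (nat_lit 0))) (.leaf (nat_lit 728735106832575692804))))) (.node (.node (.node (.node (.leaf
    (nat_lit 8762734011351062)) (.leaf (nat_lit 0))) (.node (.leaf (nat_lit 464106366787532292119))
    (.leaf (nat_lit 3843483044230016442564610)))) (.node (.node (.leaf (nat_lit 33114717543333904))
    (.leaf (nat_lit 0))) (.leaf (nat_lit 980641312062126096393)))) (.node (.node (.node (.leaf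
    (nat_lit 0)) (.leaf (nat_lit 1449363231133220929545))) (.node (.leaf (nat_lit
    105036543370068011)) (.leaf (nat_lit 717478666643820979159042)))) (.node (.node (.leaf (nat_lit
    0)) (.leaf (nat_lit 1352301304110435729410))) (.leaf (nat_lit 0))))))) (.node (.node (.node
    (.node (.node (.node (.leaf (nat_lit 245592458824646849200161)) (.leaf (nat_lit
    856725017612108628037))) (.node (.leaf (nat_lit 566997220989755129904)) (.leaf (nat_lit
    1240758777025348698114)))) (.node (.node (.leaf (nat_lit 318229772903729266714)) (.leaf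
    (nat_lit 0))) (.leaf (nat_lit 77313710590394371)))) (.node (.node (.node (.leaf (nat_lit
    175834007708459270157)) (.leaf (nat_lit 1201752718602466951213))) (.node (.leaf (nat_lit
    68093206079864849)) (.leaf (nat_lit 237804969015771138)))) (.node (.node (.leaf (nat_lit
    361477842315801460773)) (.leaf (nat_lit 176544634997178390))) (.leaf (nat_lit 0))))) (.node
    (.node (.node (.node (.leaf (nat_lit 93393398823079051293)) (.leaf (nat_lit
    1274666769526269607986))) (.node (.leaf (nat_lit 0)) (.leaf (nat_lit 228725648670195714))))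
    (.node (.node (.leaf (nat_lit 259438552980163592261)) (.leaf (nat_lit
    10744691897771176520581134))) (.leaf (nat_lit 970263399764670480434)))) (.node (.node (.node
    (.leaf (nat_lit 1631821204304214693773361)) (.leaf (nat_lit 143468026698792963))) (.node (.leaf
    (nat_lit 6350056841629981194059825)) (.leaf (nat_lit 246179227530035202)))) (.node (.node
    (.leaf (nat_lit 526924894093342605352)) (.leaf (nat_lit 1475373880423024361474))) (.leaf
    (nat_lit 1127652457342835032103)))))) (.node (.node (.node (.node (.node (.leaf (nat_lit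
    51020718194894766117)) (.leaf (nat_lit 0))) (.node (.leaf (nat_lit 0)) (.leaf (nat_lit
    106811030583246850)))) (.node (.node (.leaf (nat_lit 257705968429997162500)) (.leaf (nat_lit
    0))) (.leaf (nat_lit 56777461355145164000051134505)))) (.node (.node (.node (.leaf (nat_lit 0))
    (.leaf (nat_lit 1087913542521318473775))) (.node (.leaf (nat_lit 0)) (.leaf (nat_lit
    240899913859334146)))) (.node (.node (.leaf (nat_lit 40504810071523345)) (.leaf (nat_lit
    1511974596296441004034))) (.leaf (nat_lit 134313376921813053))))) (.node (.node (.node (.node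
    (.leaf (nat_lit 0)) (.leaf (nat_lit 10822271940177805816627259))) (.node (.leaf (nat_lit
    726973736758756442141)) (.leaf (nat_lit 361950580441130139650)))) (.node (.node (.leaf (nat_lit
    34451998560616451)) (.leaf (nat_lit 0))) (.leaf (nat_lit 83789284322181136)))) (.node (.node
    (.node (.leaf (nat_lit 179589026275945283609)) (.leaf (nat_lit 1325716692532409335812))) (.node
    (.leaf (nat_lit 0)) (.leaf (nat_lit 251385793044676610)))) (.node (.node (.leaf (nat_lit
    410771923317708488727)) (.leaf (nat_lit 869226199914928865282))) (.leaf (nat_lit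
    1170314634958796423197))))))))) (.node (.node (.node (.node (.node (.node (.node (.node (.leaf
    (nat_lit 6918127269340971016)) (.leaf (nat_lit 145012449693794365))) (.node (.leaf (nat_lit
    577081976480491307058)) (.leaf (nat_lit 1151981259561931833346)))) (.node (.node (.leaf
    (nat_lit 229742413771448713248)) (.leaf (nat_lit 0))) (.node (.leaf (nat_lit
    886094147142006538279)) (.leaf (nat_lit 4499240235696130))))) (.node (.node (.node (.leaf
    (nat_lit 150467869483200610323)) (.leaf (nat_lit 0))) (.node (.leaf (nat_lit
    90961338540621885)) (.leaf (nat_lit 234918407395475458)))) (.node (.node (.leaf (nat_lit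
    449675246376272986121)) (.leaf (nat_lit 1551166575340941410394))) (.leaf (nat_lit
    50450056901357436841379561513))))) (.node (.node (.node (.node (.leaf (nat_lit
    9712093582458891)) (.leaf (nat_lit 0))) (.node (.leaf (nat_lit 667591945191174635547)) (.leaf
    (nat_lit 473788407706300907522)))) (.node (.node (.leaf (nat_lit 332070179748073111598)) (.leaf
    (nat_lit 0))) (.leaf (nat_lit 0)))) (.node (.node (.node (.leaf (nat_lit
    224259244915471613965)) (.leaf (nat_lit 0))) (.node (.leaf (nat_lit 736205624710736838679))
    (.leaf (nat_lit 132384715431924230809551437826)))) (.node (.node (.leaf (nat_lit 0)) (.leaf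
    (nat_lit 1507075385792621903874))) (.leaf (nat_lit 7342026502256916653408305)))))) (.node
    (.node (.node (.node (.node (.leaf (nat_lit 31131414547715522594)) (.leaf (nat_lit 0))) (.node
    (.leaf (nat_lit 622626105997069058074)) (.leaf (nat_lit 220984210637324290)))) (.node (.node
    (.leaf (nat_lit 294019688159129042974)) (.leaf (nat_lit 1230893543871526141960))) (.leaf
    (nat_lit 56429175065503848097147846697)))) (.node (.node (.node (.leaf (nat_lit
    23224533142077447)) (.leaf (nat_lit 0))) (.node (.leaf (nat_lit 580559109976731353109)) (.leaf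
    (nat_lit 238647873527480322)))) (.node (.node (.leaf (nat_lit 0)) (.leaf (nat_lit
    203565227739054153))) (.leaf (nat_lit 8571808625129286248169507))))) (.node (.node (.node
    (.node (.leaf (nat_lit 0)) (.leaf (nat_lit 979521116335709028398))) (.node (.leaf (nat_lit
    86282633096593428)) (.leaf (nat_lit 230555502306787330)))) (.node (.node (.leaf (nat_lit
    402977878669969784858)) (.leaf (nat_lit 0))) (.leaf (nat_lit 667622630902848487488)))) (.node
    (.node (.node (.leaf (nat_lit 18968332220891139)) (.leaf (nat_lit 0))) (.node (.leaf (nat_lit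
    72457373888937987)) (.leaf (nat_lit 611220886920997875482626)))) (.node (.node (.leaf (nat_lit
    560671948423016153134)) (.leaf (nat_lit 212257893653807106))) (.leaf (nat_lit 0))))))) (.node
    (.node (.node (.node (.node (.node (.leaf (nat_lit 1508848042497999188946911263)) (.leaf
    (nat_lit 107295124937113616))) (.node (.leaf (nat_lit 381663153906430181401)) (.leaf (nat_lit
    867211690717860790274)))) (.node (.node (.leaf (nat_lit 16210384907719149093971624007)) (.leaf
    (nat_lit 183192213579235356))) (.leaf (nat_lit 0)))) (.node (.node (.node (.leaf (nat_lit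
    1178314902102532407164987)) (.leaf (nat_lit 990479078758356811824))) (.node (.leaf (nat_lit
    524063915273946857535)) (.leaf (nat_lit 130458551822656627336947236866)))) (.node (.node (.leaf
    (nat_lit 26849935683747070952819982351)) (.leaf (nat_lit 176896409998589974))) (.leaf (nat_lit
    0))))) (.node (.node (.node (.node (.leaf (nat_lit 11823422195761172)) (.leaf (nat_lit 0)))
    (.node (.leaf (nat_lit 0)) (.leaf (nat_lit 15316046479511742671224834)))) (.node (.node (.leaf
    (nat_lit 374730808951014883333)) (.leaf (nat_lit 0))) (.leaf (nat_lit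
    7110161249950679825645582)))) (.node (.node (.node (.leaf (nat_lit 211001738620085403688))
    (.leaf (nat_lit 1135765731568062234693))) (.node (.leaf (nat_lit 0)) (.leaf (nat_lit
    245755752344584194)))) (.node (.node (.leaf (nat_lit 509076882410749231138)) (.leaf (nat_lit
    202617199607808002))) (.leaf (nat_lit 1124193692751705079837)))))) (.node (.node (.node (.node
    (.node (.leaf (nat_lit 7248904068399111)) (.leaf (nat_lit 74940188237196791739220033577)))
    (.node (.leaf (nat_lit 646838443039699173405)) (.leaf (nat_lit 956853166605491961858)))) (.node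
    (.node (.leaf (nat_lit 308433951605435596805)) (.leaf (nat_lit 1255108062336635830319))) (.leaf
    (nat_lit 7188256425380564871413802)))) (.node (.node (.node (.leaf (nat_lit
    210141303937364590652)) (.leaf (nat_lit 0))) (.node (.leaf (nat_lit 528678698084053745698))
    (.leaf (nat_lit 227639815649838170114)))) (.node (.node (.leaf (nat_lit 319974287120697327663))
    (.leaf (nat_lit 0))) (.leaf (nat_lit 1006301627767312285774))))) (.node (.node (.node (.node
    (.leaf (nat_lit 0)) (.leaf (nat_lit 0))) (.node (.leaf (nat_lit 0)) (.leaf (nat_lit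
    602345913360486432770)))) (.node (.node (.leaf (nat_lit 52431135388598279)) (.leaf (nat_lit
    1592925182530353823757))) (.leaf (nat_lit 1002011068422017974280)))) (.node (.node (.node
    (.leaf (nat_lit 179588216966667763735)) (.leaf (nat_lit 1279020416039857094694))) (.node (.leaf
    (nat_lit 0)) (.leaf (nat_lit 261784194616772440358914)))) (.node (.node (.leaf (nat_lit
    4094605090774452265025550)) (.leaf (nat_lit 1759572373939924697090))) (.leaf (nat_lit
    1161089292528385196071)))))))) (.node (.node (.node (.node (.node (.node (.node (.leaf (nat_lit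
    1372435324731409)) (.leaf (nat_lit 7575308608291747798450211))) (.node (.leaf (nat_lit 0))
    (.leaf (nat_lit 14545763471651581689331714)))) (.node (.node (.leaf (nat_lit
    190831489033087156268)) (.leaf (nat_lit 90051341019809209279498747975))) (.leaf (nat_lit
    899930718254137540634)))) (.node (.node (.node (.leaf (nat_lit 19635314872156167)) (.leaf
    (nat_lit 0))) (.node (.leaf (nat_lit 0)) (.leaf (nat_lit 228726164066271234)))) (.node (.node
    (.leaf (nat_lit 372429611223809720389)) (.leaf (nat_lit 0))) (.leaf (nat_lit 0))))) (.node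
    (.node (.node (.node (.leaf (nat_lit 595084478097753366593550)) (.leaf (nat_lit
    113066324032356355))) (.node (.leaf (nat_lit 679123095515146944525)) (.leaf (nat_lit
    627119155634277384194)))) (.node (.node (.leaf (nat_lit 2866693521924608397410353)) (.leaf
    (nat_lit 0))) (.leaf (nat_lit 821824439163851833422)))) (.node (.node (.node (.leaf (nat_lit
    230024098892319227908)) (.leaf (nat_lit 0))) (.node (.leaf (nat_lit 100639635025297428)) (.leaf
    (nat_lit 1267602795006669422329858)))) (.node (.node (.leaf (nat_lit 0)) (.leaf (nat_lit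
    205009530751418370))) (.leaf (nat_lit 137126047924748358)))))) (.node (.node (.node (.node
    (.node (.leaf (nat_lit 53037943628065079305)) (.leaf (nat_lit 1213555455093138194482))) (.node
    (.leaf (nat_lit 78189256853553172)) (.leaf (nat_lit 221758893888503810)))) (.node (.node (.leaf
    (nat_lit 0)) (.leaf (nat_lit 1524059900536646991904))) (.leaf (nat_lit
    7485776468033261063634986)))) (.node (.node (.node (.leaf (nat_lit 138365079499124703292))
    (.leaf (nat_lit 128267622042173443))) (.node (.leaf (nat_lit 6286231386286998384017450)) (.leaf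
    (nat_lit 721675775946373922818)))) (.node (.node (.leaf (nat_lit 324585480429066453052)) (.leaf
    (nat_lit 0))) (.leaf (nat_lit 998807180453091672132))))) (.node (.node (.node (.node (.leaf
    (nat_lit 0)) (.leaf (nat_lit 948969998431423758381))) (.node (.leaf (nat_lit
    710255459933534486554)) (.leaf (nat_lit 15216201745405804730908674)))) (.node (.node (.leaf
    (nat_lit 23870859090518158676431536199)) (.leaf (nat_lit 1599840741104308912149))) (.leaf
    (nat_lit 971994541583782576137)))) (.node (.node (.node (.leaf (nat_lit 20446213287575568))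
    (.leaf (nat_lit 177491649516142612))) (.node (.leaf (nat_lit 0)) (.leaf (nat_lit
    708037968058991602040834)))) (.node (.node (.leaf (nat_lit 521738155032502796317)) (.leaf
    (nat_lit 1480562446893664370690))) (.leaf (nat_lit 1160268685614271102999))))))) (.node (.node
    (.node (.node (.node (.node (.leaf (nat_lit 27095766931687538725)) (.leaf (nat_lit 0))) (.node
    (.leaf (nat_lit 51413683405979670)) (.leaf (nat_lit 928605419437050494978)))) (.node (.node
    (.leaf (nat_lit 0)) (.leaf (nat_lit 1221092690589548478488))) (.leaf (nat_lit 0)))) (.node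
    (.node (.node (.leaf (nat_lit 151334601717553758270)) (.leaf (nat_lit 989327072184863227912)))
    (.node (.leaf (nat_lit 543664495791966453778)) (.leaf (nat_lit
    130105070895585621758911512578)))) (.node (.node (.leaf (nat_lit
    28590869146528822222305689671)) (.leaf (nat_lit 202438116651434045))) (.leaf (nat_lit
    1067415506755480911895))))) (.node (.node (.node (.node (.leaf (nat_lit 0)) (.leaf (nat_lit
    933403657888260620333))) (.node (.leaf (nat_lit 0)) (.leaf (nat_lit 403742515636161675266))))
    (.node (.node (.leaf (nat_lit 0)) (.leaf (nat_lit 0))) (.leaf (nat_lit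
    937982160645761728552)))) (.node (.node (.node (.leaf (nat_lit 237236438039980605495)) (.leaf
    (nat_lit 0))) (.node (.leaf (nat_lit 73020186403405841)) (.leaf (nat_lit 242590576195796994))))
    (.node (.node (.leaf (nat_lit 0)) (.leaf (nat_lit 1361811076875964055554))) (.leaf (nat_lit
    1141242314873374965783)))))) (.node (.node (.node (.node (.node (.leaf (nat_lit 0)) (.leaf
    (nat_lit 0))) (.node (.leaf (nat_lit 0)) (.leaf (nat_lit 14862097177829200229564418)))) (.node
    (.node (.leaf (nat_lit 0)) (.leaf (nat_lit 94694445113085493791397576775))) (.leaf (nat_lit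
    821823700025749995585)))) (.node (.node (.node (.leaf (nat_lit 0)) (.leaf (nat_lit
    1383061799604521730086))) (.node (.leaf (nat_lit 69149355717820433)) (.leaf (nat_lit
    16184035559186875048787970)))) (.node (.node (.leaf (nat_lit 34530066743531082303884558390))
    (.leaf (nat_lit 1507939722848268124162))) (.leaf (nat_lit 0))))) (.node (.node (.node (.node
    (.leaf (nat_lit 83020237309208625214)) (.leaf (nat_lit 0))) (.node (.leaf (nat_lit 0)) (.leaf
    (nat_lit 122257588405534722)))) (.node (.node (.leaf (nat_lit 35366860954402819)) (.leaf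
    (nat_lit 168522117124587536))) (.leaf (nat_lit 688954458724376969237)))) (.node (.node (.node
    (.leaf (nat_lit 35610939650867207)) (.leaf (nat_lit 146987082382966801))) (.node (.leaf
    (nat_lit 0)) (.leaf (nat_lit 358600744646669485998082)))) (.node (.node (.leaf (nat_lit 0))
    (.leaf (nat_lit 1209338185546524196866))) (.leaf (nat_lit 0))))))))))) (.node (.node (.node
    (.node (.node (.node (.node (.node (.node (.node (.leaf (nat_lit 1)) (.leaf (nat_lit
    144308607633195069))) (.node (.leaf (nat_lit 71855296783450132)) (.leaf (nat_lit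
    14494257859170710585606146)))) (.node (.node (.leaf (nat_lit 0)) (.leaf (nat_lit 0))) (.node
    (.leaf (nat_lit 108169975415570439)) (.leaf (nat_lit 251880427248287746))))) (.node (.node
    (.node (.leaf (nat_lit 116744669105536303125)) (.leaf (nat_lit 1329764581496720654421))) (.node
    (.leaf (nat_lit 58311521142439958)) (.leaf (nat_lit 234285578324148226)))) (.node (.node (.leaf
    (nat_lit 443045243925672689703)) (.leaf (nat_lit 197091878800326658))) (.leaf (nat_lit 0)))))
    (.node (.node (.node (.node (.leaf (nat_lit 0)) (.leaf (nat_lit 0))) (.node (.leaf (nat_lit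
    51555022189756438)) (.leaf (nat_lit 906125597804203278338)))) (.node (.node (.leaf (nat_lit 0))
    (.leaf (nat_lit 0))) (.leaf (nat_lit 0)))) (.node (.node (.node (.leaf (nat_lit 0)) (.leaf
    (nat_lit 171157698035974172))) (.node (.leaf (nat_lit 98809824338378772)) (.leaf (nat_lit
    2934582503247335135641602)))) (.node (.node (.leaf (nat_lit 318245010614471819285)) (.leaf
    (nat_lit 1496698985714496503810))) (.leaf (nat_lit 1101706937993670099008)))))) (.node (.node
    (.node (.node (.node (.leaf (nat_lit 37184146790705987623)) (.leaf (nat_lit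
    1213554540084715520012))) (.node (.leaf (nat_lit 574491844200066383939)) (.leaf (nat_lit
    586476000693436219394)))) (.node (.node (.leaf (nat_lit 312465517336085069863)) (.leaf (nat_lit
    1501253073657389056040))) (.leaf (nat_lit 59387383336772803203877371945)))) (.node (.node
    (.node (.leaf (nat_lit 150469981009382408252)) (.leaf (nat_lit 991056735968289816623))) (.node
    (.leaf (nat_lit 0)) (.leaf (nat_lit 238860654797258754)))) (.node (.node (.leaf (nat_lit
    28397429221580196520755789895)) (.leaf (nat_lit 100747328961403713632793329705))) (.leaf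
    (nat_lit 67919585294024182673111842847))))) (.node (.node (.node (.node (.leaf (nat_lit
    92818240004212064264)) (.leaf (nat_lit 0))) (.node (.leaf (nat_lit
    2299326148882289631625208896092972708887727958910912466817241442981148889735802117161036))
    (.leaf (nat_lit 228725554180915202)))) (.node (.node (.leaf (nat_lit 49545664689995787)) (.leaf
    (nat_lit 1441888805908562247703))) (.leaf (nat_lit 0)))) (.node (.node (.node (.leaf (nat_lit
    19320090042433552)) (.leaf (nat_lit 141075609655836694))) (.node (.leaf (nat_lit
    73020237943013398)) (.leaf (nat_lit 1718610103852618957979650)))) (.node (.node (.leaf (nat_lit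
    507325932314137133106)) (.leaf (nat_lit 1436751076586393108482))) (.leaf (nat_lit
    139487906275393543))))))) (.node (.node (.node (.node (.node (.node (.leaf (nat_lit
    18447694330929020951)) (.leaf (nat_lit 0))) (.node (.leaf (nat_lit 0)) (.leaf (nat_lit
    14616707056130009405325314)))) (.node (.node (.leaf (nat_lit 310159040741885804588)) (.leaf
    (nat_lit 0))) (.leaf (nat_lit 0)))) (.node (.node (.node (.leaf (nat_lit
    1204349315613415885242410)) (.leaf (nat_lit 124044999175307267))) (.node (.leaf (nat_lit 0))
    (.leaf (nat_lit 235834257631739906)))) (.node (.node (.leaf (nat_lit 0)) (.leaf (nat_lit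
    11703447023558133788442638))) (.leaf (nat_lit 1040022821922802958366))))) (.node (.node (.node
    (.node (.leaf (nat_lit 11119657444573212)) (.leaf (nat_lit 0))) (.node (.leaf (nat_lit
    83186038985588756)) (.leaf (nat_lit 821387134754938355714)))) (.node (.node (.leaf (nat_lit
    2897410809747830611378218)) (.leaf (nat_lit 12746937524985977429557297))) (.leaf (nat_lit 0))))
    (.node (.node (.node (.leaf (nat_lit 0)) (.leaf (nat_lit 143749347056680963))) (.node (.leaf
    (nat_lit 739088913823651004476)) (.leaf (nat_lit 244701569801650178)))) (.node (.node (.leaf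
    (nat_lit 0)) (.leaf (nat_lit 1532440890295456038914))) (.leaf (nat_lit
    8755990147878262619242538)))))) (.node (.node (.node (.node (.node (.leaf (nat_lit 0)) (.leaf
    (nat_lit 1195109133292023250984))) (.node (.leaf (nat_lit 78822635680694300)) (.leaf (nat_lit
    221758971197915138)))) (.node (.node (.leaf (nat_lit 0)) (.leaf (nat_lit 0))) (.leaf (nat_lit
    0)))) (.node (.node (.node (.leaf (nat_lit 0)) (.leaf (nat_lit 128056567349248003))) (.node
    (.leaf (nat_lit 0)) (.leaf (nat_lit 16179709502176448278167554)))) (.node (.node (.leaf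
    (nat_lit 0)) (.leaf (nat_lit 180485679808118800))) (.leaf (nat_lit 1079800162493866901554)))))
    (.node (.node (.node (.node (.leaf (nat_lit 130289315087309275163)) (.leaf (nat_lit 0))) (.node
    (.leaf (nat_lit 0)) (.leaf (nat_lit 15575610335024369839112194)))) (.node (.node (.leaf
    (nat_lit 0)) (.leaf (nat_lit 0))) (.leaf (nat_lit 6434888785604962907586574)))) (.node (.node
    (.node (.leaf (nat_lit 20235158594650129)) (.leaf (nat_lit 1454552503915527733267))) (.node
    (.leaf (nat_lit 0)) (.leaf (nat_lit 523869806259438300168194)))) (.node (.node (.leaf (nat_lit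
    515397227546193100829)) (.leaf (nat_lit 12147679237984041837002754))) (.leaf (nat_lit 0))))))))
    (.node (.node (.node (.node (.node (.node (.node (.leaf (nat_lit 6918268041189064717)) (.leaf
    (nat_lit 855571286583475896325))) (.node (.leaf (nat_lit 521464315528391884848)) (.leaf
    (nat_lit 907274014991923216386)))) (.node (.node (.leaf (nat_lit 0)) (.leaf (nat_lit 0)))
    (.leaf (nat_lit 818071989519384772633)))) (.node (.node (.node (.leaf (nat_lit 0)) (.leaf
    (nat_lit 1334048701745440423976))) (.node (.leaf (nat_lit 488321554021999640600)) (.leaf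
    (nat_lit 582448370024708243458)))) (.node (.node (.leaf (nat_lit 41489130676420611)) (.leaf
    (nat_lit 1633579737014478241873))) (.leaf (nat_lit 0))))) (.node (.node (.node (.node (.leaf
    (nat_lit 0)) (.leaf (nat_lit 154440761901973574))) (.node (.leaf (nat_lit
    38649779007766264657368907847)) (.leaf (nat_lit 662859401949838770178)))) (.node (.node (.leaf
    (nat_lit 0)) (.leaf (nat_lit 1486559517618924093493))) (.leaf (nat_lit 0)))) (.node (.node
    (.node (.leaf (nat_lit 135484218769309630508)) (.leaf (nat_lit 1400937008918408921093))) (.node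
    (.leaf (nat_lit 0)) (.leaf (nat_lit 2117580785815272766570498)))) (.node (.node (.leaf (nat_lit
    0)) (.leaf (nat_lit 1587491977677471154178))) (.leaf (nat_lit 0)))))) (.node (.node (.node
    (.node (.node (.leaf (nat_lit 5806022690209835)) (.leaf (nat_lit 0))) (.node (.leaf (nat_lit
    404147867953704140825)) (.leaf (nat_lit 933505516675522560002)))) (.node (.node (.leaf (nat_lit
    231762771386829045798)) (.leaf (nat_lit 1523479497979323416663))) (.leaf (nat_lit 0)))) (.node
    (.node (.node (.leaf (nat_lit 0)) (.leaf (nat_lit 0))) (.node (.leaf (nat_lit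
    582288492268001361945)) (.leaf (nat_lit 238649247917015042)))) (.node (.node (.leaf (nat_lit
    319973794324739719176)) (.leaf (nat_lit 180978123578408982))) (.leaf (nat_lit
    6383332488839623031914545))))) (.node (.node (.node (.node (.leaf (nat_lit
    115876283205694980115)) (.leaf (nat_lit 158700909898104839))) (.node (.leaf (nat_lit 0)) (.leaf
    (nat_lit 228443907405512706)))) (.node (.node (.leaf (nat_lit 396060701520409329670)) (.leaf
    (nat_lit 0))) (.leaf (nat_lit 1006904508761828950096)))) (.node (.node (.node (.leaf (nat_lit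
    190827160719665070126)) (.leaf (nat_lit 1441292569477560598578))) (.node (.leaf (nat_lit
    854386060886079111197)) (.leaf (nat_lit 248994990909423618)))) (.node (.node (.leaf (nat_lit
    541913999793656627229)) (.leaf (nat_lit 9437029929797598599970818))) (.leaf (nat_lit
    863057675980703465518))))))) (.node (.node (.node (.node (.node (.node (.leaf (nat_lit 0))
    (.leaf (nat_lit 107013701500010512))) (.node (.leaf (nat_lit 617724430160547217414)) (.leaf
    (nat_lit 14711186380133494803398658)))) (.node (.node (.leaf (nat_lit 0)) (.leaf (nat_lit 0)))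
    (.leaf (nat_lit 909155040458017275933)))) (.node (.node (.node (.leaf (nat_lit 0)) (.leaf
    (nat_lit 1278133275675691515941))) (.node (.leaf (nat_lit 0)) (.leaf (nat_lit
    130687763690538088227846553602)))) (.node (.node (.leaf (nat_lit 304408192653390446596)) (.leaf
    (nat_lit 201735580260892744))) (.leaf (nat_lit 68539136240836909047444996127))))) (.node (.node
    (.node (.node (.leaf (nat_lit 498245122930376679096353)) (.leaf (nat_lit 156694391371726921)))
    (.node (.leaf (nat_lit 0)) (.leaf (nat_lit 579565724027312078850)))) (.node (.node (.leaf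
    (nat_lit 375883730498571403310)) (.leaf (nat_lit 162364216353882123))) (.leaf (nat_lit
    655515582690626830405)))) (.node (.node (.node (.leaf (nat_lit 0)) (.leaf (nat_lit
    1415926466505393504269))) (.node (.leaf (nat_lit 0)) (.leaf (nat_lit 2013236148016848764930))))
    (.node (.node (.leaf (nat_lit 0)) (.leaf (nat_lit
    47628539017750398317553469848427032447787600032606852139114366152399695130861729316523540579)))
    (.leaf (nat_lit 99834990082261008)))))) (.node (.node (.node (.node (.node (.leaf (nat_lit
    34015020448827506733)) (.leaf (nat_lit 130411858694897675))) (.node (.leaf (nat_lit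
    79807926948200455)) (.leaf (nat_lit 221406972858204162)))) (.node (.node (.leaf (nat_lit 0))
    (.leaf (nat_lit 188118626967093276))) (.leaf (nat_lit 0)))) (.node (.node (.node (.leaf
    (nat_lit 17137971778158595)) (.leaf (nat_lit 1248169420538257801253))) (.node (.leaf (nat_lit
    788694550387410272304)) (.leaf (nat_lit 231963564385107970)))) (.node (.node (.leaf (nat_lit
    3825418090437126408896561)) (.leaf (nat_lit 13826417380238822767591477))) (.leaf (nat_lit
    1061354051876293902376))))) (.node (.node (.node (.node (.leaf (nat_lit 127407116999167508506))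
    (.leaf (nat_lit 969148130468821139464))) (.node (.leaf (nat_lit 726397275989273149467)) (.leaf
    (nat_lit 657972821669231919106)))) (.node (.node (.leaf (nat_lit 52958961099472918)) (.leaf
    (nat_lit 1610795677000942157836))) (.leaf (nat_lit 0)))) (.node (.node (.node (.leaf (nat_lit
    34836810450468884)) (.leaf (nat_lit 179039959456546827))) (.node (.leaf (nat_lit
    874563243022739505181)) (.leaf (nat_lit 251175176438415362)))) (.node (.node (.leaf (nat_lit
    44798385798119446)) (.leaf (nat_lit 871243812522221043714))) (.leaf (nat_lit 0))))))))) (.node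
    (.node (.node (.node (.node (.node (.node (.node (.leaf (nat_lit 422272594739207)) (.leaf
    (nat_lit 1049836660093507272736))) (.node (.leaf (nat_lit 595843725614741913638)) (.leaf
    (nat_lit 1198962603328956203010)))) (.node (.node (.leaf (nat_lit 267500100423164035118))
    (.leaf (nat_lit 1471273947445906833414))) (.node (.leaf (nat_lit 886670607877130092550)) (.leaf
    (nat_lit 6188012786548738))))) (.node (.node (.node (.leaf (nat_lit 12774216285945873)) (.leaf
    (nat_lit 0))) (.node (.leaf (nat_lit 726974511003920957480)) (.leaf (nat_lit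
    233722980558045186)))) (.node (.node (.leaf (nat_lit 446216129984371818535)) (.leaf (nat_lit
    173905446313263126))) (.leaf (nat_lit 1039157039872654639110))))) (.node (.node (.node (.node
    (.leaf (nat_lit 53040442113620377647)) (.leaf (nat_lit 0))) (.node (.leaf (nat_lit
    81811533486751787)) (.leaf (nat_lit 223025153326579714)))) (.node (.node (.leaf (nat_lit
    304400204357817270317)) (.leaf (nat_lit 0))) (.leaf (nat_lit 932827333054492246064)))) (.node
    (.node (.node (.leaf (nat_lit 219369954201263341635)) (.leaf (nat_lit 0))) (.node (.leaf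
    (nat_lit 0)) (.leaf (nat_lit 243644492450758658)))) (.node (.node (.leaf (nat_lit
    486592238757989253154)) (.leaf (nat_lit 1618044045576982691842))) (.leaf (nat_lit 0))))))
    (.node (.node (.node (.node (.node (.leaf (nat_lit 0)) (.leaf (nat_lit 106873170170085379)))
    (.node (.leaf (nat_lit 0)) (.leaf (nat_lit 14767966617385883129872386)))) (.node (.node (.leaf
    (nat_lit 316501024163085090829)) (.leaf (nat_lit 185406952120123465))) (.leaf (nat_lit 0))))
    (.node (.node (.node (.leaf (nat_lit 0)) (.leaf (nat_lit 1340392092670372282397))) (.node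
    (.leaf (nat_lit 0)) (.leaf (nat_lit 15542767068493392705224706)))) (.node (.node (.leaf
    (nat_lit 317667669771829837872)) (.leaf (nat_lit 12487286652119590249955377))) (.leaf (nat_lit
    1061352855264045498423))))) (.node (.node (.node (.node (.leaf (nat_lit 13934742219128852))
    (.leaf (nat_lit 121722074703200272))) (.node (.leaf (nat_lit 55285184106463249)) (.leaf
    (nat_lit 357059050631621443586)))) (.node (.node (.leaf (nat_lit 32622050434744342)) (.leaf
    (nat_lit 0))) (.leaf (nat_lit 0)))) (.node (.node (.node (.leaf (nat_lit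
    1591624877239753326723114)) (.leaf (nat_lit 1360299270734486896677))) (.node (.leaf (nat_lit
    104228844705284124)) (.leaf (nat_lit 248079939537076226)))) (.node (.node (.leaf (nat_lit
    499832224077888815154)) (.leaf (nat_lit 9847861946379571539738626))) (.leaf (nat_lit
    75443344550619199459241033769))))))) (.node (.node (.node (.node (.node (.node (.leaf (nat_lit
    23636826341387730973)) (.leaf (nat_lit 855572025661448192004))) (.node (.leaf (nat_lit 0))
    (.leaf (nat_lit 1239317062052902797314)))) (.node (.node (.leaf (nat_lit 0)) (.leaf (nat_lit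
    0))) (.leaf (nat_lit 111090462982537259)))) (.node (.node (.node (.leaf (nat_lit 0)) (.leaf
    (nat_lit 989326157236570095663))) (.node (.leaf (nat_lit 68374595157229585)) (.leaf (nat_lit
    15915201640779323919302658)))) (.node (.node (.leaf (nat_lit 56794538693492747)) (.leaf
    (nat_lit 1614865137159324762177))) (.leaf (nat_lit 7249437058139629331677219))))) (.node (.node
    (.node (.node (.leaf (nat_lit 0)) (.leaf (nat_lit 1277548650980832378884))) (.node (.leaf
    (nat_lit 0)) (.leaf (nat_lit 637496654944857686018)))) (.node (.node (.leaf (nat_lit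
    361472141279291965444)) (.leaf (nat_lit 1354551483282636341301))) (.leaf (nat_lit
    955888507793940086832)))) (.node (.node (.node (.leaf (nat_lit 0)) (.leaf (nat_lit
    1258551977361807704110))) (.node (.leaf (nat_lit 547704295979944706082)) (.leaf (nat_lit
    2013236147424143278082)))) (.node (.node (.leaf (nat_lit 3445235884034464875282465)) (.leaf
    (nat_lit 201350450543460354))) (.leaf (nat_lit 889574236932955897911)))))) (.node (.node (.node
    (.node (.node (.leaf (nat_lit 0)) (.leaf (nat_lit 1081259542147110207520))) (.node (.leaf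
    (nat_lit 79560038615744573)) (.leaf (nat_lit 1021993161281394376706)))) (.node (.node (.leaf
    (nat_lit 30932375940759555)) (.leaf (nat_lit 153884164205182993))) (.leaf (nat_lit
    646867368974422835255)))) (.node (.node (.node (.leaf (nat_lit 130295754995632635936)) (.leaf
    (nat_lit 0))) (.node (.leaf (nat_lit 6548087498538572765724705)) (.leaf (nat_lit
    490217330600516452354)))) (.node (.node (.leaf (nat_lit 0)) (.leaf (nat_lit
    101521084032224075860536524841))) (.leaf (nat_lit 0))))) (.node (.node (.node (.node (.leaf
    (nat_lit 0)) (.leaf (nat_lit 1208666798925988167726))) (.node (.leaf (nat_lit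
    720055855775725322265)) (.leaf (nat_lit 228444809348644866)))) (.node (.node (.leaf (nat_lit
    0)) (.leaf (nat_lit 1467833058543022571568))) (.leaf (nat_lit 7554430947976225103282225))))
    (.node (.node (.node (.leaf (nat_lit 21009283500081174)) (.leaf (nat_lit
    1281326259014711050277))) (.node (.leaf (nat_lit 858998591535595061288)) (.leaf (nat_lit
    9243415168620823543139686841955319810)))) (.node (.node (.leaf (nat_lit 423165829414922682416))
    (.leaf (nat_lit 14234359374243091869597698))) (.leaf (nat_lit 0)))))))) (.node (.node (.node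
    (.node (.node (.node (.node (.leaf (nat_lit 1618687274647572)) (.leaf (nat_lit
    859030614115969335330))) (.node (.leaf (nat_lit 73614721546321940)) (.leaf (nat_lit
    863751583403989991426)))) (.node (.node (.leaf (nat_lit 25442926700134416)) (.leaf (nat_lit
    1486840076771168288776))) (.leaf (nat_lit 0)))) (.node (.node (.node (.leaf (nat_lit 0)) (.leaf
    (nat_lit 1277555759177477062661))) (.node (.leaf (nat_lit 538474237675442470972)) (.leaf
    (nat_lit 233862609944838146)))) (.node (.node (.leaf (nat_lit 358594693906015911982)) (.leaf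
    (nat_lit 103669727708635129523491635215))) (.leaf (nat_lit 1046363679031778541608))))) (.node
    (.node (.node (.node (.leaf (nat_lit 0)) (.leaf (nat_lit 916683375485110124582))) (.node (.leaf
    (nat_lit 440180148852570128449)) (.leaf (nat_lit 15202405891918721802567682)))) (.node (.node
    (.leaf (nat_lit 242142865458951553072)) (.leaf (nat_lit 92449963191663703890000674887))) (.leaf
    (nat_lit 118656223968100363)))) (.node (.node (.node (.leaf (nat_lit
    1523093198848600934973454)) (.leaf (nat_lit 138893834988945430))) (.node (.leaf (nat_lit 0))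
    (.leaf (nat_lit 1281766995826062680915970)))) (.node (.node (.leaf (nat_lit
    369838881444714446922)) (.leaf (nat_lit 205150259649839106))) (.leaf (nat_lit
    1121353011973520031752)))))) (.node (.node (.node (.node (.node (.leaf (nat_lit
    48425553879246241831)) (.leaf (nat_lit 0))) (.node (.leaf (nat_lit 0)) (.leaf (nat_lit
    580135355287693623298)))) (.node (.node (.leaf (nat_lit 0)) (.leaf (nat_lit
    11157790869271414695002145))) (.leaf (nat_lit 0)))) (.node (.node (.node (.leaf (nat_lit 0))
    (.leaf (nat_lit 0))) (.node (.leaf (nat_lit 0)) (.leaf (nat_lit 239494025034465282)))) (.node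
    (.node (.leaf (nat_lit 323432558898689802303)) (.leaf (nat_lit 204549161796894763))) (.leaf
    (nat_lit 0))))) (.node (.node (.node (.node (.leaf (nat_lit 0)) (.leaf (nat_lit 0))) (.node
    (.leaf (nat_lit 0)) (.leaf (nat_lit 15537226973695804140945410)))) (.node (.node (.leaf
    (nat_lit 0)) (.leaf (nat_lit 0))) (.leaf (nat_lit 6978290129912440358699057)))) (.node (.node
    (.node (.leaf (nat_lit 255391398382245445672)) (.leaf (nat_lit 0))) (.node (.leaf (nat_lit
    105143767228612615)) (.leaf (nat_lit 249205985472806914)))) (.node (.node (.leaf (nat_lit 0))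
    (.leaf (nat_lit 1230092325388973965314))) (.leaf (nat_lit 925316703952767746112))))))) (.node
    (.node (.node (.node (.node (.node (.leaf (nat_lit 0)) (.leaf (nat_lit 0))) (.node (.leaf
    (nat_lit 402994207362535063615)) (.leaf (nat_lit 827724752097068122114)))) (.node (.node (.leaf
    (nat_lit 196596659772362784812)) (.leaf (nat_lit 0))) (.leaf (nat_lit 784351639496766455871))))
    (.node (.node (.node (.leaf (nat_lit 15307903393202193)) (.leaf (nat_lit
    1323097636610773286951))) (.node (.leaf (nat_lit 0)) (.leaf (nat_lit
    15716684988079842305245186)))) (.node (.node (.leaf (nat_lit 0)) (.leaf (nat_lit 0))) (.leaf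
    (nat_lit 54185481891126212732844834857))))) (.node (.node (.node (.node (.leaf (nat_lit
    107228914326737977373)) (.leaf (nat_lit 0))) (.node (.leaf (nat_lit 85191754353082441)) (.leaf
    (nat_lit 223799699138805762)))) (.node (.node (.leaf (nat_lit 0)) (.leaf (nat_lit
    10699471720457583397699617))) (.leaf (nat_lit 0)))) (.node (.node (.node (.leaf (nat_lit 0))
    (.leaf (nat_lit 1144413557775136915500))) (.node (.leaf (nat_lit 6311982150287140571054094))
    (.leaf (nat_lit 95938936801666990082)))) (.node (.node (.leaf (nat_lit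
    36464943130460577803748573255)) (.leaf (nat_lit 1360081694584694046722))) (.leaf (nat_lit
    75868898187969824836613898281)))))) (.node (.node (.node (.node (.node (.leaf (nat_lit
    61685171803893465132)) (.leaf (nat_lit 1248145633772421971972))) (.node (.leaf (nat_lit
    411642561764687806489)) (.leaf (nat_lit 867790469807611248642)))) (.node (.node (.leaf (nat_lit
    259435350729857105964)) (.leaf (nat_lit 0))) (.leaf (nat_lit 0)))) (.node (.node (.node (.leaf
    (nat_lit 11664889906521269713586421801)) (.leaf (nat_lit 0))) (.node (.leaf (nat_lit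
    6127790255466927777644558)) (.leaf (nat_lit 242520276171096066)))) (.node (.node (.leaf
    (nat_lit 485150805273404964896)) (.leaf (nat_lit 1675113235192561729538))) (.leaf (nat_lit
    64747512686084025960223801385))))) (.node (.node (.node (.node (.leaf (nat_lit
    98584572051104923671)) (.leaf (nat_lit 124255761810456592))) (.node (.leaf (nat_lit
    469295886075192082453)) (.leaf (nat_lit 4771466626343689167044610)))) (.node (.node (.leaf
    (nat_lit 291147659728910483490)) (.leaf (nat_lit 0))) (.leaf (nat_lit 705960156444674424889))))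
    (.node (.node (.node (.leaf (nat_lit 21994583357521923)) (.leaf (nat_lit 0))) (.node (.leaf
    (nat_lit 604780631360247365656)) (.leaf (nat_lit 259431617191249799544834)))) (.node (.node
    (.leaf (nat_lit 3825575769870296630427662)) (.leaf (nat_lit 846744301489300373506))) (.leaf
    (nat_lit 78731903721581296313677709353)))))))))) (.node (.node (.node (.node (.node (.node
    (.node (.node (.node (.leaf (nat_lit 316715183505411)) (.leaf (nat_lit
    1183575062012332539933))) (.node (.leaf (nat_lit 584575614365175316530)) (.leaf (nat_lit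
    867785540744228569090)))) (.node (.node (.leaf (nat_lit 0)) (.leaf (nat_lit 0))) (.node (.leaf
    (nat_lit 0)) (.leaf (nat_lit 7947111131906050))))) (.node (.node (.node (.leaf (nat_lit
    18087013521686548)) (.leaf (nat_lit 0))) (.node (.leaf (nat_lit 0)) (.leaf (nat_lit
    2965168433980442241400834)))) (.node (.node (.leaf (nat_lit 291724577981130276868)) (.leaf
    (nat_lit 11694205804353304089853977))) (.leaf (nat_lit 86252344987222038))))) (.node (.node
    (.node (.node (.leaf (nat_lit 0)) (.leaf (nat_lit 0))) (.node (.leaf (nat_lit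
    652603754473513484328)) (.leaf (nat_lit 360513517953352925186)))) (.node (.node (.leaf (nat_lit
    45252655899082759)) (.leaf (nat_lit 11700800184379712964132897))) (.leaf (nat_lit
    649173669612401917996)))) (.node (.node (.node (.leaf (nat_lit 159983906183652245569)) (.leaf
    (nat_lit 0))) (.node (.leaf (nat_lit 0)) (.leaf (nat_lit 243644526810497026)))) (.node (.node
    (.leaf (nat_lit 501005516758409478208)) (.leaf (nat_lit 1529557320081227317250))) (.leaf
    (nat_lit 7729251329354239259705393)))))) (.node (.node (.node (.node (.node (.leaf (nat_lit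
    31131555225074335784)) (.leaf (nat_lit 105325023438438422))) (.node (.leaf (nat_lit
    50921188096081937)) (.leaf (nat_lit 587634621941767405570)))) (.node (.node (.leaf (nat_lit
    319959647905057538061)) (.leaf (nat_lit 0))) (.leaf (nat_lit 59696875448014542960928817193))))
    (.node (.node (.node (.leaf (nat_lit 9904214563274834781535535145)) (.leaf (nat_lit 0))) (.node
    (.leaf (nat_lit 718332807504654958655)) (.leaf (nat_lit 131428221205251475046236749826))))
    (.node (.node (.leaf (nat_lit 316514748232863252527)) (.leaf (nat_lit 0))) (.leaf (nat_lit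
    54030727639963337658791690281))))) (.node (.node (.node (.node (.leaf (nat_lit
    8340401287200785)) (.leaf (nat_lit 0))) (.node (.leaf (nat_lit 0)) (.leaf (nat_lit
    358211967089641717762)))) (.node (.node (.leaf (nat_lit 0)) (.leaf (nat_lit
    164510634849992721))) (.leaf (nat_lit 0)))) (.node (.node (.node (.leaf (nat_lit
    189097778368265519159)) (.leaf (nat_lit 0))) (.node (.leaf (nat_lit 582295846789610405912))
    (.leaf (nat_lit 246883627936382978)))) (.node (.node (.leaf (nat_lit 504443628595569688589))
    (.leaf (nat_lit 1201266894063974678530))) (.leaf (nat_lit 1012081048684090032160))))))) (.node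
    (.node (.node (.node (.node (.node (.leaf (nat_lit 0)) (.leaf (nat_lit
    1153025668245358837806))) (.node (.leaf (nat_lit 74775865954795592)) (.leaf (nat_lit
    14650062520728738683158530)))) (.node (.node (.leaf (nat_lit 0)) (.leaf (nat_lit 0))) (.leaf
    (nat_lit 0)))) (.node (.node (.node (.leaf (nat_lit 0)) (.leaf (nat_lit 0))) (.node (.leaf
    (nat_lit 0)) (.leaf (nat_lit 128722147087721917955342401538)))) (.node (.node (.leaf (nat_lit
    0)) (.leaf (nat_lit 1611983255584502906948))) (.leaf (nat_lit 1055310114759958003772)))))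
    (.node (.node (.node (.node (.leaf (nat_lit 573847377300691595034659)) (.leaf (nat_lit
    155846032251551817))) (.node (.leaf (nat_lit 0)) (.leaf (nat_lit 410370758997006548994))))
    (.node (.node (.leaf (nat_lit 0)) (.leaf (nat_lit 0))) (.leaf (nat_lit
    965075041758858117170)))) (.node (.node (.node (.leaf (nat_lit 140673174952397176864)) (.leaf
    (nat_lit 1414196521169680793606))) (.node (.leaf (nat_lit 6357077837762716110159914)) (.leaf
    (nat_lit 1260525022063809580498946)))) (.node (.node (.leaf (nat_lit 324586501411512188953))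
    (.leaf (nat_lit 194735754231021570))) (.leaf (nat_lit 137658086998540295)))))) (.node (.node
    (.node (.node (.node (.leaf (nat_lit 0)) (.leaf (nat_lit 875750228394007265312))) (.node (.leaf
    (nat_lit 79104145017143303)) (.leaf (nat_lit 856260342845496557570)))) (.node (.node (.leaf
    (nat_lit 223117162095843672133)) (.leaf (nat_lit 1532961722674291343369))) (.leaf (nat_lit
    645714447435456249920)))) (.node (.node (.node (.leaf (nat_lit 13038005304730421213148807209))
    (.leaf (nat_lit 0))) (.node (.leaf (nat_lit 97050373805703188)) (.leaf (nat_lit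
    4063084015251238913572866)))) (.node (.node (.leaf (nat_lit 40786164789149713)) (.leaf (nat_lit
    1478802174634960814104))) (.leaf (nat_lit 0))))) (.node (.node (.node (.node (.leaf (nat_lit
    15905316164206620)) (.leaf (nat_lit 124888908709363715))) (.node (.leaf (nat_lit 0)) (.leaf
    (nat_lit 124805886096199467696193339394)))) (.node (.node (.leaf (nat_lit
    427767767137488404507)) (.leaf (nat_lit 167888609448427537))) (.leaf (nat_lit
    1018441463957440102451)))) (.node (.node (.node (.leaf (nat_lit 21009249140342801)) (.leaf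
    (nat_lit 1453976043188994113562))) (.node (.leaf (nat_lit 590943673151303909400)) (.leaf
    (nat_lit 137543997659956586624219152386)))) (.node (.node (.leaf (nat_lit 0)) (.leaf (nat_lit
    213102361533612034))) (.leaf (nat_lit 0)))))))) (.node (.node (.node (.node (.node (.node
    (.node (.leaf (nat_lit 0)) (.leaf (nat_lit 145329233596645383))) (.node (.leaf (nat_lit
    46065332430962705)) (.leaf (nat_lit 919956221516205719554)))) (.node (.node (.leaf (nat_lit 0))
    (.leaf (nat_lit 1218785404703251562563))) (.leaf (nat_lit 0)))) (.node (.node (.node (.leaf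
    (nat_lit 0)) (.leaf (nat_lit 10553091578605454118617130))) (.node (.leaf (nat_lit
    749458661877903196187)) (.leaf (nat_lit 4785688554267930278494210)))) (.node (.node (.leaf
    (nat_lit 308442538035334283301)) (.leaf (nat_lit 1552295255182546239583))) (.leaf (nat_lit
    0))))) (.node (.node (.node (.node (.leaf (nat_lit 79557847920299671561)) (.leaf (nat_lit
    126928915095748630))) (.node (.leaf (nat_lit 4378170177447968010141755)) (.leaf (nat_lit
    3000557325540649282568194)))) (.node (.node (.leaf (nat_lit 29455010270150678)) (.leaf (nat_lit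
    0))) (.leaf (nat_lit 953870613522692636719)))) (.node (.node (.node (.leaf (nat_lit 0)) (.leaf
    (nat_lit 1252786665988122935334))) (.node (.leaf (nat_lit 68656997846876177)) (.leaf (nat_lit
    244561175910678530)))) (.node (.node (.leaf (nat_lit 0)) (.leaf (nat_lit 204692828452945922)))
    (.leaf (nat_lit 0)))))) (.node (.node (.node (.node (.node (.leaf (nat_lit 0)) (.leaf (nat_lit
    0))) (.node (.leaf (nat_lit 0)) (.leaf (nat_lit 581288063826347098114)))) (.node (.node (.leaf
    (nat_lit 213316273620903985197)) (.leaf (nat_lit 0))) (.leaf (nat_lit 0)))) (.node (.node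
    (.node (.leaf (nat_lit 0)) (.leaf (nat_lit 125452820735459350))) (.node (.leaf (nat_lit
    526948400844490604578)) (.leaf (nat_lit 305476218069192998914)))) (.node (.node (.leaf (nat_lit
    322279637368313151555)) (.leaf (nat_lit 0))) (.leaf (nat_lit 132027900269559815))))) (.node
    (.node (.node (.node (.leaf (nat_lit 114146900974554513434)) (.leaf (nat_lit
    159123165312843787))) (.node (.leaf (nat_lit 0)) (.leaf (nat_lit 228373787769438210)))) (.node
    (.node (.leaf (nat_lit 314203134007374446638)) (.leaf (nat_lit 0))) (.leaf (nat_lit 0))))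
    (.node (.node (.node (.leaf (nat_lit 2059204012356363404705825)) (.leaf (nat_lit 0))) (.node
    (.leaf (nat_lit 72105616067395587)) (.leaf (nat_lit 16726725229609649711611906)))) (.node
    (.node (.leaf (nat_lit 2972988861072826555432993)) (.leaf (nat_lit 212328270987919362))) (.leaf
    (nat_lit 7249712914349525320335402))))))) (.node (.node (.node (.node (.node (.node (.leaf
    (nat_lit 3589274104627228)) (.leaf (nat_lit 64997167667712313753115885639))) (.node (.leaf
    (nat_lit 3924661871426261527822350)) (.leaf (nat_lit 591664005403828748290)))) (.node (.node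
    (.leaf (nat_lit 195443738241986134020)) (.leaf (nat_lit 1494911442329018761242))) (.leaf
    (nat_lit 77313727770263568)))) (.node (.node (.node (.leaf (nat_lit 13478281684844561)) (.leaf
    (nat_lit 123482221020577808))) (.node (.leaf (nat_lit 0)) (.leaf (nat_lit
    238016126787911682)))) (.node (.node (.leaf (nat_lit 0)) (.leaf (nat_lit 0))) (.leaf (nat_lit
    733346053712901242885))))) (.node (.node (.node (.node (.leaf (nat_lit 80423102264996200504))
    (.leaf (nat_lit 0))) (.node (.leaf (nat_lit 0)) (.leaf (nat_lit 228655090947457026)))) (.node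
    (.node (.leaf (nat_lit 0)) (.leaf (nat_lit 163032753783308299))) (.leaf (nat_lit 0)))) (.node
    (.node (.node (.leaf (nat_lit 224260547123785957385)) (.leaf (nat_lit 0))) (.node (.leaf
    (nat_lit 823862949355429494792)) (.leaf (nat_lit 2010363414198381379586)))) (.node (.node
    (.leaf (nat_lit 545948028567791271965)) (.leaf (nat_lit 1360658151849484025858))) (.leaf
    (nat_lit 124956666113425478)))))) (.node (.node (.node (.node (.node (.leaf (nat_lit 0)) (.leaf
    (nat_lit 0))) (.node (.leaf (nat_lit 409913179473417797653)) (.leaf (nat_lit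
    863466875678410080258)))) (.node (.node (.leaf (nat_lit 358586529714352095238)) (.leaf (nat_lit
    11597309372076297640214563))) (.leaf (nat_lit 0)))) (.node (.node (.node (.leaf (nat_lit
    26039643686436871)) (.leaf (nat_lit 1088490214397034299400))) (.node (.leaf (nat_lit
    803650899222561226802)) (.leaf (nat_lit 1867316802945921749090306)))) (.node (.node (.leaf
    (nat_lit 0)) (.leaf (nat_lit 1499004231783385595906))) (.leaf (nat_lit 0))))) (.node (.node
    (.node (.node (.leaf (nat_lit 0)) (.leaf (nat_lit 0))) (.node (.leaf (nat_lit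
    89413501046620203)) (.leaf (nat_lit 591958424741954650114)))) (.node (.node (.leaf (nat_lit 0))
    (.leaf (nat_lit 108292086067207354354776735815))) (.leaf (nat_lit 0)))) (.node (.node (.node
    (.leaf (nat_lit 0)) (.leaf (nat_lit 1207830539055103410181))) (.node (.leaf (nat_lit
    603051249060387422270)) (.leaf (nat_lit 16709770652737708860112898)))) (.node (.node (.leaf
    (nat_lit 65029434108936203)) (.leaf (nat_lit 870667351808572325890))) (.leaf (nat_lit
    7627492432020665570426915))))))))) (.node (.node (.node (.node (.node (.node (.node (.node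
    (.leaf (nat_lit 56673875051303596720138)) (.leaf (nat_lit 124359287702159388))) (.node (.leaf
    (nat_lit 73086685382049864)) (.leaf (nat_lit 216339907881336834)))) (.node (.node (.leaf
    (nat_lit 294017576547047899163)) (.leaf (nat_lit 0))) (.node (.leaf (nat_lit
    609393161975403577406)) (.leaf (nat_lit 3408541880811522))))) (.node (.node (.node (.leaf
    (nat_lit 18720409528696852)) (.leaf (nat_lit 1332895639460395548691))) (.node (.leaf (nat_lit
    487168351008056344597)) (.leaf (nat_lit 235199942501728258)))) (.node (.node (.leaf (nat_lit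
    54894342082527243)) (.leaf (nat_lit 1455454387502261141566))) (.leaf (nat_lit 0))))) (.node
    (.node (.node (.node (.leaf (nat_lit 628113082914609876434993)) (.leaf (nat_lit 0))) (.node
    (.leaf (nat_lit 0)) (.leaf (nat_lit 2972219088181057026260994)))) (.node (.node (.leaf (nat_lit
    0)) (.leaf (nat_lit 0))) (.leaf (nat_lit 0)))) (.node (.node (.node (.leaf (nat_lit 0)) (.leaf
    (nat_lit 11379639467554699680677930))) (.node (.leaf (nat_lit 777134408493024083994)) (.leaf
    (nat_lit 16160243568436348539109378)))) (.node (.node (.leaf (nat_lit 0)) (.leaf (nat_lit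
    1661855271182510784514))) (.leaf (nat_lit 749490122135389274144)))))) (.node (.node (.node
    (.node (.node (.leaf (nat_lit 29402173028293607454)) (.leaf (nat_lit 0))) (.node (.leaf
    (nat_lit 52187894210756625)) (.leaf (nat_lit 121477774705065649705918464002)))) (.node (.node
    (.leaf (nat_lit 0)) (.leaf (nat_lit 1521174077156804984883))) (.leaf (nat_lit 0)))) (.node
    (.node (.node (.leaf (nat_lit 187940492979317440539)) (.leaf (nat_lit 1373585274502954287183)))
    (.node (.leaf (nat_lit 0)) (.leaf (nat_lit 228655520444186626)))) (.node (.node (.leaf (nat_lit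
    0)) (.leaf (nat_lit 1474766069553376198716))) (.leaf (nat_lit 131639910103908395))))) (.node
    (.node (.node (.node (.leaf (nat_lit 96565868315961131055)) (.leaf (nat_lit 0))) (.node (.leaf
    (nat_lit 706795886050306883610)) (.leaf (nat_lit 634038869035040571394)))) (.node (.node (.leaf
    (nat_lit 33114666003726339)) (.leaf (nat_lit 1477630568914514804799))) (.leaf (nat_lit
    1004599580494749958223)))) (.node (.node (.node (.leaf (nat_lit 259425849471924371462)) (.leaf
    (nat_lit 176154523117682695))) (.node (.leaf (nat_lit 104439985297555463)) (.leaf (nat_lit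
    136252572110372666168639291394)))) (.node (.node (.leaf (nat_lit 539608156767263064091)) (.leaf
    (nat_lit 1473933990936233312258))) (.leaf (nat_lit 1144370382341515968518))))))) (.node (.node
    (.node (.node (.node (.node (.leaf (nat_lit 0)) (.leaf (nat_lit 0))) (.node (.leaf (nat_lit
    46558119798636547)) (.leaf (nat_lit 865770538858577068034)))) (.node (.node (.leaf (nat_lit 0))
    (.leaf (nat_lit 0))) (.leaf (nat_lit 0)))) (.node (.node (.node (.leaf (nat_lit
    160275619065316442160)) (.leaf (nat_lit 992785062522238730307))) (.node (.leaf (nat_lit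
    503311293041011261464)) (.leaf (nat_lit 130535937242211271484165652482)))) (.node (.node (.leaf
    (nat_lit 0)) (.leaf (nat_lit 184285145317113914))) (.leaf (nat_lit 129283175649247239)))))
    (.node (.node (.node (.node (.leaf (nat_lit 96851987337729736730)) (.leaf (nat_lit
    916684184888876924997))) (.node (.leaf (nat_lit 688923983981496696858)) (.leaf (nat_lit
    579566216410952826882)))) (.node (.node (.leaf (nat_lit 0)) (.leaf (nat_lit 0))) (.leaf
    (nat_lit 653786200407946756141)))) (.node (.node (.node (.leaf (nat_lit 248194891433224896535))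
    (.leaf (nat_lit 0))) (.node (.leaf (nat_lit 6302509170533329101127739)) (.leaf (nat_lit
    16070481729921396450263042)))) (.node (.node (.leaf (nat_lit 0)) (.leaf (nat_lit
    201878362153680898))) (.leaf (nat_lit 99834955722522627)))))) (.node (.node (.node (.node
    (.node (.leaf (nat_lit 36320652308858994732)) (.leaf (nat_lit 0))) (.node (.leaf (nat_lit
    50217844251688963)) (.leaf (nat_lit 935812481186596585474)))) (.node (.node (.leaf (nat_lit
    30932410300497936)) (.leaf (nat_lit 1536455143871928795168))) (.leaf (nat_lit
    81465964713082883)))) (.node (.node (.node (.leaf (nat_lit 25476633603473436)) (.leaf (nat_lit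
    1072347518852252500013))) (.node (.leaf (nat_lit 0)) (.leaf (nat_lit 1974613770245268242434))))
    (.node (.node (.leaf (nat_lit 506468240955877294126)) (.leaf (nat_lit 0))) (.leaf (nat_lit
    733347356024294801453))))) (.node (.node (.node (.node (.leaf (nat_lit 128560038478004551699))
    (.leaf (nat_lit 125170452405551120))) (.node (.leaf (nat_lit 88850546798231595)) (.leaf
    (nat_lit 127512340464354429732882022402)))) (.node (.node (.leaf (nat_lit 0)) (.leaf (nat_lit
    0))) (.leaf (nat_lit 6411194519795728170352699)))) (.node (.node (.node (.leaf (nat_lit 0))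
    (.leaf (nat_lit 0))) (.node (.leaf (nat_lit 0)) (.leaf (nat_lit 372759807069779399016450))))
    (.node (.node (.leaf (nat_lit 0)) (.leaf (nat_lit 1348268329883916238850))) (.leaf (nat_lit
    874589917140469612578)))))))) (.node (.node (.node (.node (.node (.node (.node (.leaf (nat_lit
    16141851287355588626)) (.leaf (nat_lit 0))) (.node (.leaf (nat_lit 466978887730240618544))
    (.leaf (nat_lit 14536302021394445883408386)))) (.node (.node (.leaf (nat_lit
    308429658459205730308)) (.leaf (nat_lit 11807062647247052134940721))) (.leaf (nat_lit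
    82661546169335825)))) (.node (.node (.node (.leaf (nat_lit 164015295442685460519)) (.leaf
    (nat_lit 163838481058103303))) (.node (.leaf (nat_lit 543662665946919796799)) (.leaf (nat_lit
    235903320705859586)))) (.node (.node (.leaf (nat_lit 23483936746243468646332825671)) (.leaf
    (nat_lit 1641067005612986138721))) (.leaf (nat_lit 58690924080463124874601496617))))) (.node
    (.node (.node (.node (.leaf (nat_lit 88784773656044830752)) (.leaf (nat_lit
    113066341212225552))) (.node (.leaf (nat_lit 52821900103122961)) (.leaf (nat_lit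
    589361267574365683714)))) (.node (.node (.leaf (nat_lit 379357448224500809792)) (.leaf (nat_lit
    12732857192204405813018638))) (.leaf (nat_lit 6647682965870325780447281)))) (.node (.node
    (.node (.leaf (nat_lit 0)) (.leaf (nat_lit 0))) (.node (.leaf (nat_lit 623508392197786632216))
    (.leaf (nat_lit 1534414159944772315512834)))) (.node (.node (.leaf (nat_lit
    492069179026623889463)) (.leaf (nat_lit 203707726164000770))) (.leaf (nat_lit
    131993334372761628)))))) (.node (.node (.node (.node (.node (.leaf (nat_lit
    54190865149851795468)) (.leaf (nat_lit 1211826072861997727757))) (.node (.leaf (nat_lit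
    637038117523302842393)) (.leaf (nat_lit 14928580112685149702062082)))) (.node (.node (.leaf
    (nat_lit 0)) (.leaf (nat_lit 1530401530546462326863))) (.leaf (nat_lit 80551033599819779))))
    (.node (.node (.node (.leaf (nat_lit 181023315907066396698)) (.leaf (nat_lit 0))) (.node (.leaf
    (nat_lit 710263271989419638846)) (.leaf (nat_lit 15787596286771317616934914)))) (.node (.node
    (.leaf (nat_lit 316515241020230926344)) (.leaf (nat_lit 100708636288523996522950754335)))
    (.leaf (nat_lit 0))))) (.node (.node (.node (.node (.leaf (nat_lit 0)) (.leaf (nat_lit 0)))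
    (.node (.leaf (nat_lit 58944530602393617)) (.leaf (nat_lit 542958556679225147394)))) (.node
    (.node (.leaf (nat_lit 405860956659471548429)) (.leaf (nat_lit 166551534589575190))) (.leaf
    (nat_lit 0)))) (.node (.node (.node (.leaf (nat_lit 0)) (.leaf (nat_lit 0))) (.node (.leaf
    (nat_lit 588637830090550607934)) (.leaf (nat_lit 417614735275860609466370)))) (.node (.node
    (.leaf (nat_lit 0)) (.leaf (nat_lit 213806023205584898))) (.leaf (nat_lit
    101383480411291651))))))) (.node (.node (.node (.node (.node (.node (.leaf (nat_lit 0)) (.leaf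
    (nat_lit 148285064449490964))) (.node (.leaf (nat_lit 589479190398308122647)) (.leaf (nat_lit
    14801168156883523574431746)))) (.node (.node (.leaf (nat_lit 314194899567225536518)) (.leaf
    (nat_lit 0))) (.leaf (nat_lit 665312423811725066263)))) (.node (.node (.node (.leaf (nat_lit
    148164137948629106751)) (.leaf (nat_lit 0))) (.node (.leaf (nat_lit 67811817002500118)) (.leaf
    (nat_lit 4759738629869456094134274)))) (.node (.node (.leaf (nat_lit 0)) (.leaf (nat_lit
    176122508431458307))) (.leaf (nat_lit 130057369274155036))))) (.node (.node (.node (.node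
    (.leaf (nat_lit 109822987737873186822)) (.leaf (nat_lit 122003446600695824))) (.node (.leaf
    (nat_lit 54862868562182161)) (.leaf (nat_lit 648161877799678967810)))) (.node (.node (.leaf
    (nat_lit 49193778019434516)) (.leaf (nat_lit 1584849594701823803401))) (.leaf (nat_lit
    121260176740319260)))) (.node (.node (.node (.leaf (nat_lit 0)) (.leaf (nat_lit 0))) (.node
    (.leaf (nat_lit 580566464481160527934)) (.leaf (nat_lit 243363206452609026)))) (.node (.node
    (.leaf (nat_lit 34994868126971279322516881479)) (.leaf (nat_lit 1191178760379596734466)))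
    (.leaf (nat_lit 99553618184765443)))))) (.node (.node (.node (.node (.node (.leaf (nat_lit
    72061993171065962509)) (.leaf (nat_lit 0))) (.node (.leaf (nat_lit 657791478954469818389))
    (.leaf (nat_lit 855973162812187017218)))) (.node (.node (.leaf (nat_lit
    2909200583751809223622705)) (.leaf (nat_lit 0))) (.leaf (nat_lit 0)))) (.node (.node (.node
    (.leaf (nat_lit 1549088987096413932617770)) (.leaf (nat_lit 1251052428090295910405))) (.node
    (.leaf (nat_lit 643683181255979106367)) (.leaf (nat_lit 16297376966807166231248898)))) (.node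
    (.node (.leaf (nat_lit 62635866014744604)) (.leaf (nat_lit 1495257588496616062978))) (.leaf
    (nat_lit 7358341180201676388433962))))) (.node (.node (.node (.node (.leaf (nat_lit 0)) (.leaf
    (nat_lit 0))) (.node (.leaf (nat_lit 58311486782701585)) (.leaf (nat_lit
    5220032645365782850830338)))) (.node (.node (.leaf (nat_lit 0)) (.leaf (nat_lit
    198076792110710845))) (.leaf (nat_lit 84563426407481366)))) (.node (.node (.node (.leaf
    (nat_lit 28609279669960774)) (.leaf (nat_lit 146987099562835990))) (.node (.leaf (nat_lit 0))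
    (.leaf (nat_lit 16622954515000136386740226)))) (.node (.node (.leaf (nat_lit
    405007738101628600383)) (.leaf (nat_lit 14281649905843140569595906))) (.leaf (nat_lit
    898802394765969260608)))))))))))))

/-- Certificate data. -/
def p1_rel : Trie :=
    (.node (.node (.node (.node (.node (.node (.node (.leaf (nat_lit 0)) (.leaf (nat_lit
    8813407373316))) (.node (.leaf (nat_lit 50660358)) (.leaf (nat_lit
    11743550994317852678179469143526885332200418904325)))) (.node (.node (.leaf (nat_lit
    134612737)) (.leaf (nat_lit 100926723))) (.leaf (nat_lit 34341388)))) (.node (.node (.node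
    (.leaf (nat_lit 21508653315)) (.leaf (nat_lit 67765769))) (.leaf (nat_lit 12902073346))) (.node
    (.node (.leaf (nat_lit 118163211)) (.leaf (nat_lit 84345352))) (.leaf (nat_lit 131586)))))
    (.node (.node (.node (.node (.leaf (nat_lit 168561164)) (.leaf (nat_lit 263172))) (.leaf
    (nat_lit 151325188))) (.node (.node (.leaf (nat_lit 461831)) (.leaf (nat_lit 201460738)))
    (.leaf (nat_lit 11003874118146)))) (.node (.node (.node (.leaf (nat_lit 4345627140)) (.leaf
    (nat_lit 17303047))) (.leaf (nat_lit 151390723))) (.node (.node (.leaf (nat_lit 51053323))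
    (.leaf (nat_lit 101122312))) (.leaf (nat_lit 134285061)))))) (.node (.node (.node (.node (.node
    (.leaf (nat_lit 168036613)) (.leaf (nat_lit 17237256))) (.leaf (nat_lit 84410631))) (.node
    (.node (.leaf (nat_lit 460556)) (.leaf (nat_lit
    13182238882199712469704423505051716383911629490695))) (.leaf (nat_lit 184814340)))) (.node
    (.node (.node (.leaf (nat_lit 17498635)) (.leaf (nat_lit
    10264989113364763416563232833686222965307041449994))) (.leaf (nat_lit 151259654))) (.node
    (.node (.leaf (nat_lit 197379)) (.leaf (nat_lit 201657349))) (.leaf (nat_lit 117770241)))))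
    (.node (.node (.node (.node (.leaf (nat_lit 33882374)) (.leaf (nat_lit 723466))) (.leaf
    (nat_lit 67830795))) (.node (.node (.leaf (nat_lit 117508102)) (.leaf (nat_lit
    13199410281437732011617133821226612591961687067144))) (.leaf (nat_lit 50988297)))) (.node
    (.node (.node (.leaf (nat_lit 592649)) (.leaf (nat_lit 184683265))) (.leaf (nat_lit 17170949)))
    (.node (.node (.leaf (nat_lit 67437318)) (.leaf (nat_lit 201395201))) (.leaf (nat_lit
    67502853))))))) (.node (.node (.node (.node (.node (.node (.leaf (nat_lit 658186)) (.leaf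
    (nat_lit 17105414))) (.node (.leaf (nat_lit 12968920065)) (.leaf (nat_lit
    8826278924401405219184385196093907895171494185479)))) (.node (.node (.leaf (nat_lit 134940683))
    (.leaf (nat_lit 100861188))) (.leaf (nat_lit 201526276)))) (.node (.node (.node (.leaf (nat_lit
    65793)) (.leaf (nat_lit 11749259637659071432696403655696746254923310172169))) (.leaf (nat_lit
    788231))) (.node (.node (.leaf (nat_lit 67896076)) (.leaf (nat_lit 101188103))) (.leaf (nat_lit
    8640333316))))) (.node (.node (.node (.node (.leaf (nat_lit 592139)) (.leaf (nat_lit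
    2242007138826))) (.leaf (nat_lit 151783692))) (.node (.node (.leaf (nat_lit 117835778)) (.leaf
    (nat_lit 201591811))) (.leaf (nat_lit 50725893)))) (.node (.node (.node (.leaf (nat_lit
    1138183700745)) (.leaf (nat_lit 184617730))) (.leaf (nat_lit 33947909))) (.node (.node (.leaf
    (nat_lit 3328650445575)) (.leaf (nat_lit 84018689))) (.leaf (nat_lit 134547202)))))) (.node
    (.node (.node (.node (.node (.leaf (nat_lit 168167684)) (.leaf (nat_lit 151194117))) (.leaf
    (nat_lit 168102147))) (.node (.node (.leaf (nat_lit 134350598)) (.leaf (nat_lit 83953154)))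
    (.leaf (nat_lit 67699978)))) (.node (.node (.node (.leaf (nat_lit 17563916)) (.leaf (nat_lit
    201985034))) (.leaf (nat_lit 167971078))) (.node (.node (.leaf (nat_lit 51119116)) (.leaf
    (nat_lit 184879877))) (.leaf (nat_lit 788488))))) (.node (.node (.node (.node (.leaf (nat_lit
    34275595)) (.leaf (nat_lit 723209))) (.leaf (nat_lit 4432473883656))) (.node (.node (.leaf
    (nat_lit 117573637)) (.leaf (nat_lit 185010951))) (.leaf (nat_lit 50923018)))) (.node (.node
    (.node (.leaf (nat_lit 527368)) (.leaf (nat_lit 34080007))) (.leaf (nat_lit 4395893251)))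
    (.node (.node (.leaf (nat_lit 17196844290)) (.leaf (nat_lit 100730114))) (.leaf (nat_lit
    34014728))))))))

/-- Certificate data. -/
def p1_rc : Trie :=
    (.node (.node (.node (.node (.node (.node (.node (.leaf (nat_lit 52)) (.leaf (nat_lit 21)))
    (.node (.leaf (nat_lit 262154)) (.leaf (nat_lit 786482)))) (.node (.node (.leaf (nat_lit 25))
    (.leaf (nat_lit 11))) (.leaf (nat_lit 131109)))) (.node (.node (.node (.leaf (nat_lit 131079))
    (.leaf (nat_lit 131119))) (.leaf (nat_lit 262150))) (.node (.node (.leaf (nat_lit 28)) (.leaf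
    (nat_lit 262168))) (.leaf (nat_lit 1))))) (.node (.node (.node (.node (.leaf (nat_lit 131121))
    (.leaf (nat_lit 3))) (.leaf (nat_lit 262189))) (.node (.node (.leaf (nat_lit 131090)) (.leaf
    (nat_lit 37))) (.leaf (nat_lit 43)))) (.node (.node (.node (.leaf (nat_lit 393223)) (.leaf
    (nat_lit 131097))) (.leaf (nat_lit 131116))) (.node (.node (.leaf (nat_lit 32)) (.leaf (nat_lit
    393241))) (.leaf (nat_lit 393238)))))) (.node (.node (.node (.node (.node (.leaf (nat_lit 45))
    (.leaf (nat_lit 262166))) (.leaf (nat_lit 22))) (.node (.node (.leaf (nat_lit 262162)) (.leaf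
    (nat_lit 131122))) (.leaf (nat_lit 33)))) (.node (.node (.node (.leaf (nat_lit 262174)) (.leaf
    (nat_lit 262195))) (.leaf (nat_lit 262191))) (.node (.node (.leaf (nat_lit 2)) (.leaf (nat_lit
    131110))) (.leaf (nat_lit 131094))))) (.node (.node (.node (.node (.leaf (nat_lit 393225))
    (.leaf (nat_lit 131113))) (.leaf (nat_lit 131105))) (.node (.node (.leaf (nat_lit 262169))
    (.leaf (nat_lit 655411))) (.leaf (nat_lit 46)))) (.node (.node (.node (.leaf (nat_lit 131112))
    (.leaf (nat_lit 131102))) (.leaf (nat_lit 131081))) (.node (.node (.leaf (nat_lit 393227))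
    (.leaf (nat_lit 131108))) (.leaf (nat_lit 10))))))) (.node (.node (.node (.node (.node (.node
    (.leaf (nat_lit 262185)) (.leaf (nat_lit 262152))) (.node (.leaf (nat_lit 262151)) (.leaf
    (nat_lit 131123)))) (.node (.node (.leaf (nat_lit 131101)) (.leaf (nat_lit 393226))) (.leaf
    (nat_lit 393242)))) (.node (.node (.node (.leaf (nat_lit 0)) (.leaf (nat_lit 524339))) (.leaf
    (nat_lit 18))) (.node (.node (.leaf (nat_lit 26)) (.leaf (nat_lit 131095))) (.leaf (nat_lit
    393222))))) (.node (.node (.node (.node (.leaf (nat_lit 262184)) (.leaf (nat_lit 131115)))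
    (.leaf (nat_lit 48))) (.node (.node (.leaf (nat_lit 262167)) (.leaf (nat_lit 131098))) (.leaf
    (nat_lit 131083)))) (.node (.node (.node (.leaf (nat_lit 42)) (.leaf (nat_lit 393246))) (.leaf
    (nat_lit 8))) (.node (.node (.leaf (nat_lit 20)) (.leaf (nat_lit 131080))) (.leaf (nat_lit
    393240)))))) (.node (.node (.node (.node (.node (.leaf (nat_lit 47)) (.leaf (nat_lit 131118)))
    (.leaf (nat_lit 393262))) (.node (.node (.leaf (nat_lit 23)) (.leaf (nat_lit 262153))) (.leaf
    (nat_lit 393261)))) (.node (.node (.node (.leaf (nat_lit 36)) (.leaf (nat_lit 49))) (.leaf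
    (nat_lit 393260))) (.node (.node (.leaf (nat_lit 262170)) (.leaf (nat_lit 131106))) (.leaf
    (nat_lit 131091))))) (.node (.node (.node (.node (.leaf (nat_lit 30)) (.leaf (nat_lit 40)))
    (.leaf (nat_lit 131093))) (.node (.node (.leaf (nat_lit 131096)) (.leaf (nat_lit 131100)))
    (.leaf (nat_lit 262188)))) (.node (.node (.node (.leaf (nat_lit 262163)) (.leaf (nat_lit 24)))
    (.leaf (nat_lit 131078))) (.node (.node (.leaf (nat_lit 524295)) (.leaf (nat_lit 393224)))
    (.leaf (nat_lit 393239))))))))

/-- Certificate data. -/
def p1_lv : Trie :=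
    (.node (.node (.node (.node (.leaf (nat_lit 0)) (.leaf (nat_lit 8))) (.node (.leaf (nat_lit 4))
    (.leaf (nat_lit 15)))) (.node (.node (.leaf (nat_lit 2)) (.leaf (nat_lit 11))) (.leaf (nat_lit
    6)))) (.node (.node (.node (.leaf (nat_lit 1)) (.leaf (nat_lit 10))) (.leaf (nat_lit 5)))
    (.node (.node (.leaf (nat_lit 3)) (.leaf (nat_lit 14))) (.leaf (nat_lit 7)))))

/-- Certificate data. -/
def p1_tb : Trie :=
    (.node (.node (.node (.node (.node (.node (.leaf (nat_lit 0)) (.leaf (nat_lit 16449))) (.node
    (.leaf (nat_lit 24616)) (.leaf (nat_lit 97296)))) (.node (.node (.leaf (nat_lit 82035)) (.leaf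
    (nat_lit 14))) (.leaf (nat_lit 98457)))) (.node (.node (.node (.leaf (nat_lit 32819)) (.leaf
    (nat_lit 73845))) (.leaf (nat_lit 65621))) (.node (.node (.leaf (nat_lit 65698)) (.leaf
    (nat_lit 64534))) (.leaf (nat_lit 41016))))) (.node (.node (.node (.node (.leaf (nat_lit
    24611)) (.leaf (nat_lit 57437))) (.node (.leaf (nat_lit 73830)) (.leaf (nat_lit 105493))))
    (.node (.node (.leaf (nat_lit 98465)) (.leaf (nat_lit 16429))) (.leaf (nat_lit 6)))) (.node
    (.node (.node (.leaf (nat_lit 49222)) (.leaf (nat_lit 90279))) (.leaf (nat_lit 82031))) (.node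
    (.node (.leaf (nat_lit 8210)) (.leaf (nat_lit 56345))) (.leaf (nat_lit 8240)))))) (.node (.node
    (.node (.node (.node (.leaf (nat_lit 16408)) (.leaf (nat_lit 65627))) (.node (.leaf (nat_lit
    57422)) (.leaf (nat_lit 80911)))) (.node (.node (.leaf (nat_lit 57450)) (.leaf (nat_lit
    24619))) (.leaf (nat_lit 49303)))) (.node (.node (.node (.leaf (nat_lit 41023)) (.leaf (nat_lit
    82066))) (.leaf (nat_lit 32851))) (.node (.node (.leaf (nat_lit 2)) (.leaf (nat_lit 72733)))
    (.leaf (nat_lit 49219))))) (.node (.node (.node (.node (.leaf (nat_lit 8225)) (.leaf (nat_lit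
    98469))) (.node (.leaf (nat_lit 90248)) (.leaf (nat_lit 89106)))) (.node (.node (.leaf (nat_lit
    73872)) (.leaf (nat_lit 39966))) (.leaf (nat_lit 32814)))) (.node (.node (.node (.leaf (nat_lit
    90260)) (.leaf (nat_lit 8204))) (.leaf (nat_lit 41069))) (.node (.node (.leaf (nat_lit 16415))
    (.leaf (nat_lit 48154))) (.leaf (nat_lit 24634)))))))

/-- Certificate data. -/
def p1_C : TC.Cert := ⟨10, 1023, 13, 8191, 954153212964953290490700169728, 6654, p1_par, p1_fact, p1_just, p1_rel, 98⟩

/-- Certificate data. -/
def p1_rs : List (List ℕ) := [[1, 1, 1], [3, 3, 3], [5, 5, 5], [1, 3, 2, 4, 6], [5, 1, 6, 2], [5, 3, 6, 4], [12, 12], [11, 11], [12, 11, 12, 11], [7, 7, 12], [7, 3, 7, 3, 7, 3], [7, 1, 8, 5], [7, 5, 8, 2], [12, 3, 12, 4], [11, 7, 11, 7], [11, 1, 11, 2], [11, 3, 11, 3], [11, 5, 11, 5], [12, 1, 12, 1], [12, 5, 12, 5], [9, 9, 11], [9, 1, 9, 1, 9, 1], [9, 3, 10, 6], [9, 5, 10, 3], [12, 9, 12, 9], [9, 7, 10, 7, 9, 8, 5, 9, 7, 10, 7, 9, 8, 5, 9, 7, 10, 7, 9, 8, 5]]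

/-- Certificate data. -/
def p1_gl : List ℕ := [1, 3331, 6663, 9993]

theorem p1_h1_0 : allR p1_C.factChk 0 810 = true := by decide +kernel

theorem p1_h1_1 : allR p1_C.factChk 810 805 = true := by decide +kernel

theorem p1_h1_2 : allR p1_C.factChk 1615 814 = true := by decide +kernel

theorem p1_h1_3 : allR p1_C.factChk 2429 729 = true := by decide +kernel

theorem p1_h1_4 : allR p1_C.factChk 3158 442 = true := by decide +kernel

theorem p1_h1 : allB p1_C.factChk 3600 = true :=
  allB_of_allR (a := 3600)
    (allR_append (allR_append (allR_append (allR_append (p1_h1_0) p1_h1_1) p1_h1_2) p1_h1_3)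
    p1_h1_4)

theorem p1_h2 : p1_C.finChk 3600 13 p1_lv p1_tb p1_gl = true := by decide +kernel

theorem p1_h3 : TC.relChk p1_C.ivc p1_rs p1_C.rel p1_rc p1_C.nrel = true := by decide +kernel

theorem p1_bound {G : Type*} [Group G] {x y z u v r s : G}
    (r0 : x * x * x = 1)
    (r1 : y * y * y = 1)
    (r2 : z * z * z = 1)
    (r3 : x * y * x⁻¹ * y⁻¹ * z⁻¹ = 1)
    (r4 : z * x * z⁻¹ * x⁻¹ = 1)
    (r5 : z * y * z⁻¹ * y⁻¹ = 1)
    (r6 : s * s = 1)
    (r7 : r * r = 1)
    (r8 : s * r * s * r = 1)
    (r9 : u * u * s = 1)
    (r10 : u * y * u * y * u * y = 1)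
    (r11 : u * x * u⁻¹ * z = 1)
    (r12 : u * z * u⁻¹ * x⁻¹ = 1)
    (r13 : s * y * s * y⁻¹ = 1)
    (r14 : r * u * r * u = 1)
    (r15 : r * x * r * x⁻¹ = 1)
    (r16 : r * y * r * y = 1)
    (r17 : r * z * r * z = 1)
    (r18 : s * x * s * x = 1)
    (r19 : s * z * s * z = 1)
    (r20 : v * v * r = 1)
    (r21 : v * x * v * x * v * x = 1)
    (r22 : v * y * v⁻¹ * z⁻¹ = 1)
    (r23 : v * z * v⁻¹ * y = 1)
    (r24 : s * v * s * v = 1)
    (r25 : v * u * v⁻¹ * u * v * u⁻¹ * z * v * u * v⁻¹ * u * v * u⁻¹ * z * v * u * v⁻¹ * u * v *
    u⁻¹ * z = 1)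
    (H : Subgroup G) [Finite H] (m1 : x ∈ H) (m3 : y ∈ H) (m5 : z ∈ H) (m7 : u ∈ H) (m11 : r ∈ H) (m12 : s ∈ H) :
    Finite (Subgroup.closure ({x, y, u, v} : Set G)) ∧
      Nat.card (Subgroup.closure ({x, y, u, v} : Set G)) ≤ 13 * Nat.card H := by
  have hL : TC.Lett (TC.lett [x, x⁻¹, y, y⁻¹, z, z⁻¹, u, u⁻¹, v, v⁻¹, r, s]) p1_C.ivc :=
    TC.lett_ok (show Nat.shiftRight p1_C.ivc (8 * 13) = 0 by decide +kernel) (by
      intro a ha
      change a < 13 at ha
      interval_cases a
      · exact inv_one.symm
      · rfl
      · exact (inv_inv _).symm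
      · rfl
      · exact (inv_inv _).symm
      · rfl
      · exact (inv_inv _).symm
      · rfl
      · exact (inv_inv _).symm
      · rfl
      · exact (inv_inv _).symm
      · exact (inv_eq_of_mul_eq_one_right r7).symm
      · exact (inv_eq_of_mul_eq_one_right r6).symm)
  have h := TC.card_le p1_h1 p1_h2 p1_h3 (by decide) hL (by
    simp only [p1_rs, List.forall_mem_cons]
    refine ⟨?_, ?_, ?_, ?_, ?_, ?_, ?_, ?_, ?_, ?_, ?_, ?_, ?_, ?_, ?_, ?_, ?_, ?_, ?_, ?_, ?_, ?_,
    ?_, ?_, ?_, ?_, List.forall_mem_nil _⟩
    · show x * (x * (x * 1)) = 1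
      simp only [mul_assoc, mul_one] at r0 ⊢
      exact r0
    · show y * (y * (y * 1)) = 1
      simp only [mul_assoc, mul_one] at r1 ⊢
      exact r1
    · show z * (z * (z * 1)) = 1
      simp only [mul_assoc, mul_one] at r2 ⊢
      exact r2
    · show x * (y * (x⁻¹ * (y⁻¹ * (z⁻¹ * 1)))) = 1
      simp only [mul_assoc, mul_one] at r3 ⊢
      exact r3
    · show z * (x * (z⁻¹ * (x⁻¹ * 1))) = 1
      simp only [mul_assoc, mul_one] at r4 ⊢
      exact r4
    · show z * (y * (z⁻¹ * (y⁻¹ * 1))) = 1
      simp only [mul_assoc, mul_one] at r5 ⊢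
      exact r5
    · show s * (s * 1) = 1
      simp only [mul_one] at r6 ⊢
      exact r6
    · show r * (r * 1) = 1
      simp only [mul_one] at r7 ⊢
      exact r7
    · show s * (r * (s * (r * 1))) = 1
      simp only [mul_assoc, mul_one] at r8 ⊢
      exact r8
    · show u * (u * (s * 1)) = 1
      simp only [mul_assoc, mul_one] at r9 ⊢
      exact r9
    · show u * (y * (u * (y * (u * (y * 1))))) = 1
      simp only [mul_assoc, mul_one] at r10 ⊢
      exact r10
    · show u * (x * (u⁻¹ * (z * 1))) = 1
      simp only [mul_assoc, mul_one] at r11 ⊢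
      exact r11
    · show u * (z * (u⁻¹ * (x⁻¹ * 1))) = 1
      simp only [mul_assoc, mul_one] at r12 ⊢
      exact r12
    · show s * (y * (s * (y⁻¹ * 1))) = 1
      simp only [mul_assoc, mul_one] at r13 ⊢
      exact r13
    · show r * (u * (r * (u * 1))) = 1
      simp only [mul_assoc, mul_one] at r14 ⊢
      exact r14
    · show r * (x * (r * (x⁻¹ * 1))) = 1
      simp only [mul_assoc, mul_one] at r15 ⊢
      exact r15
    · show r * (y * (r * (y * 1))) = 1
      simp only [mul_assoc, mul_one] at r16 ⊢
      exact r16
    · show r * (z * (r * (z * 1))) = 1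
      simp only [mul_assoc, mul_one] at r17 ⊢
      exact r17
    · show s * (x * (s * (x * 1))) = 1
      simp only [mul_assoc, mul_one] at r18 ⊢
      exact r18
    · show s * (z * (s * (z * 1))) = 1
      simp only [mul_assoc, mul_one] at r19 ⊢
      exact r19
    · show v * (v * (r * 1)) = 1
      simp only [mul_assoc, mul_one] at r20 ⊢
      exact r20
    · show v * (x * (v * (x * (v * (x * 1))))) = 1
      simp only [mul_assoc, mul_one] at r21 ⊢
      exact r21
    · show v * (y * (v⁻¹ * (z⁻¹ * 1))) = 1
      simp only [mul_assoc, mul_one] at r22 ⊢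
      exact r22
    · show v * (z * (v⁻¹ * (y * 1))) = 1
      simp only [mul_assoc, mul_one] at r23 ⊢
      exact r23
    · show s * (v * (s * (v * 1))) = 1
      simp only [mul_assoc, mul_one] at r24 ⊢
      exact r24
    · show v * (u * (v⁻¹ * (u * (v * (u⁻¹ * (z * (v * (u * (v⁻¹ * (u * (v * (u⁻¹ * (z * (v * (u *
    (v⁻¹ * (u * (v * (u⁻¹ * (z * 1)))))))))))))))))))) = 1
      simp only [mul_assoc, mul_one] at r25 ⊢
      exact r25) H
    (TC.forall_subs (K := 13) (by decide +kernel) (by
      intro a ha hb
      interval_cases a
      · exact absurd hb (by decide +kernel)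
      · exact m1
      · exact H.inv_mem m1
      · exact m3
      · exact H.inv_mem m3
      · exact m5
      · exact H.inv_mem m5
      · exact m7
      · exact H.inv_mem m7
      · exact absurd hb (by decide +kernel)
      · exact absurd hb (by decide +kernel)
      · exact m11
      · exact m12))
  have e : {g₀ | ∃ ak ∈ p1_gl, TC.lett [x, x⁻¹, y, y⁻¹, z, z⁻¹, u, u⁻¹, v, v⁻¹, r, s] (ak % 256) = g₀} =
      {x, y, u, v} := by
    ext g₀
    simp only [p1_gl, List.mem_cons, List.not_mem_nil, or_false, exists_eq_or_imp,
      exists_eq_left, Set.mem_ofPred_eq, Set.mem_insert_iff, Set.mem_singleton_iff]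
    exact or_congr eq_comm (or_congr eq_comm (or_congr eq_comm (eq_comm)))
  rw [e] at h
  exact h

theorem p1_card {G : Type*} [Group G] {x y z u v r s : G}
    (e0 : x ^ 3 = 1)
    (e1 : y ^ 3 = 1)
    (e2 : z ^ 3 = 1)
    (e3 : x * y = z * y * x)
    (e4 : z * x = x * z)
    (e5 : z * y = y * z)
    (e6 : s * s = 1)
    (e7 : r * r = 1)
    (e8 : s * r = r * s)
    (e9 : u * u = s)
    (e10 : (u * y) ^ 3 = 1)
    (e11 : u * x * u⁻¹ = z⁻¹)
    (e12 : u * z * u⁻¹ = x)
    (e13 : s * y = y * s)
    (e14 : r * u * r = u⁻¹)
    (e15 : r * x = x * r)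
    (e16 : r * y * r = y⁻¹)
    (e17 : r * z * r = z⁻¹)
    (e18 : s * x * s = x⁻¹)
    (e19 : s * z * s = z⁻¹)
    (e20 : v * v = r)
    (e21 : (v * x) ^ 3 = 1)
    (e22 : v * y * v⁻¹ = z)
    (e23 : v * z * v⁻¹ = y⁻¹)
    (e24 : s * v * s = v⁻¹)
    (e25 : (v * u * v⁻¹ * (u * v * u⁻¹) * z) ^ 3 = 1)
    (H : Subgroup G) [Finite H] (mx : x ∈ H) (my : y ∈ H) (mz : z ∈ H) (mu : u ∈ H) (mr : r ∈ H) (ms : s ∈ H) :
    Finite (Subgroup.closure ({x, y, u, v} : Set G)) ∧
      Nat.card (Subgroup.closure ({x, y, u, v} : Set G)) ≤ 13 * Nat.card H := by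
  have ir : r⁻¹ = r := inv_eq_of_mul_eq_one_right e7
  have is : s⁻¹ = s := inv_eq_of_mul_eq_one_right e6
  refine p1_bound ?_ ?_ ?_ ?_ ?_ ?_ ?_ ?_ ?_ ?_ ?_ ?_ ?_ ?_ ?_ ?_ ?_ ?_ ?_ ?_ ?_ ?_ ?_ ?_ ?_ ?_ H mx my mz mu mr ms
  · have h := mul_inv_eq_one.mpr e0
    simp only [pow_succ, pow_zero, mul_inv_rev, inv_inv, inv_one, one_mul, mul_one, mul_assoc,
      mul_inv_cancel_left, inv_mul_cancel_left, mul_inv_cancel, inv_mul_cancel, ir, is] at h ⊢
    exact h
  · have h := mul_inv_eq_one.mpr e1
    simp only [pow_succ, pow_zero, mul_inv_rev, inv_inv, inv_one, one_mul, mul_one, mul_assoc,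
      mul_inv_cancel_left, inv_mul_cancel_left, mul_inv_cancel, inv_mul_cancel, ir, is] at h ⊢
    exact h
  · have h := mul_inv_eq_one.mpr e2
    simp only [pow_succ, pow_zero, mul_inv_rev, inv_inv, inv_one, one_mul, mul_one, mul_assoc,
      mul_inv_cancel_left, inv_mul_cancel_left, mul_inv_cancel, inv_mul_cancel, ir, is] at h ⊢
    exact h
  · have h := mul_inv_eq_one.mpr e3
    simp only [pow_succ, pow_zero, mul_inv_rev, inv_inv, inv_one, one_mul, mul_one, mul_assoc,
      mul_inv_cancel_left, inv_mul_cancel_left, mul_inv_cancel, inv_mul_cancel, ir, is] at h ⊢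
    exact h
  · have h := mul_inv_eq_one.mpr e4
    simp only [pow_succ, pow_zero, mul_inv_rev, inv_inv, inv_one, one_mul, mul_one, mul_assoc,
      mul_inv_cancel_left, inv_mul_cancel_left, mul_inv_cancel, inv_mul_cancel, ir, is] at h ⊢
    exact h
  · have h := mul_inv_eq_one.mpr e5
    simp only [pow_succ, pow_zero, mul_inv_rev, inv_inv, inv_one, one_mul, mul_one, mul_assoc,
      mul_inv_cancel_left, inv_mul_cancel_left, mul_inv_cancel, inv_mul_cancel, ir, is] at h ⊢
    exact h
  · have h := mul_inv_eq_one.mpr e6
    simp only [pow_succ, pow_zero, mul_inv_rev, inv_inv, inv_one, one_mul, mul_one, mul_assoc,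
      mul_inv_cancel_left, inv_mul_cancel_left, mul_inv_cancel, inv_mul_cancel, ir, is] at h ⊢
    exact h
  · have h := mul_inv_eq_one.mpr e7
    simp only [pow_succ, pow_zero, mul_inv_rev, inv_inv, inv_one, one_mul, mul_one, mul_assoc,
      mul_inv_cancel_left, inv_mul_cancel_left, mul_inv_cancel, inv_mul_cancel, ir, is] at h ⊢
    exact h
  · have h := mul_inv_eq_one.mpr e8
    simp only [pow_succ, pow_zero, mul_inv_rev, inv_inv, inv_one, one_mul, mul_one, mul_assoc,
      mul_inv_cancel_left, inv_mul_cancel_left, mul_inv_cancel, inv_mul_cancel, ir, is] at h ⊢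
    exact h
  · have h := mul_inv_eq_one.mpr e9
    simp only [pow_succ, pow_zero, mul_inv_rev, inv_inv, inv_one, one_mul, mul_one, mul_assoc,
      mul_inv_cancel_left, inv_mul_cancel_left, mul_inv_cancel, inv_mul_cancel, ir, is] at h ⊢
    exact h
  · have h := mul_inv_eq_one.mpr e10
    simp only [pow_succ, pow_zero, mul_inv_rev, inv_inv, inv_one, one_mul, mul_one, mul_assoc,
      mul_inv_cancel_left, inv_mul_cancel_left, mul_inv_cancel, inv_mul_cancel, ir, is] at h ⊢
    exact h
  · have h := mul_inv_eq_one.mpr e11
    simp only [pow_succ, pow_zero, mul_inv_rev, inv_inv, inv_one, one_mul, mul_one, mul_assoc,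
      mul_inv_cancel_left, inv_mul_cancel_left, mul_inv_cancel, inv_mul_cancel, ir, is] at h ⊢
    exact h
  · have h := mul_inv_eq_one.mpr e12
    simp only [pow_succ, pow_zero, mul_inv_rev, inv_inv, inv_one, one_mul, mul_one, mul_assoc,
      mul_inv_cancel_left, inv_mul_cancel_left, mul_inv_cancel, inv_mul_cancel, ir, is] at h ⊢
    exact h
  · have h := mul_inv_eq_one.mpr e13
    simp only [pow_succ, pow_zero, mul_inv_rev, inv_inv, inv_one, one_mul, mul_one, mul_assoc,
      mul_inv_cancel_left, inv_mul_cancel_left, mul_inv_cancel, inv_mul_cancel, ir, is] at h ⊢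
    exact h
  · have h := mul_inv_eq_one.mpr e14
    simp only [pow_succ, pow_zero, mul_inv_rev, inv_inv, inv_one, one_mul, mul_one, mul_assoc,
      mul_inv_cancel_left, inv_mul_cancel_left, mul_inv_cancel, inv_mul_cancel, ir, is] at h ⊢
    exact h
  · have h := mul_inv_eq_one.mpr e15
    simp only [pow_succ, pow_zero, mul_inv_rev, inv_inv, inv_one, one_mul, mul_one, mul_assoc,
      mul_inv_cancel_left, inv_mul_cancel_left, mul_inv_cancel, inv_mul_cancel, ir, is] at h ⊢
    exact h
  · have h := mul_inv_eq_one.mpr e16
    simp only [pow_succ, pow_zero, mul_inv_rev, inv_inv, inv_one, one_mul, mul_one, mul_assoc,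
      mul_inv_cancel_left, inv_mul_cancel_left, mul_inv_cancel, inv_mul_cancel, ir, is] at h ⊢
    exact h
  · have h := mul_inv_eq_one.mpr e17
    simp only [pow_succ, pow_zero, mul_inv_rev, inv_inv, inv_one, one_mul, mul_one, mul_assoc,
      mul_inv_cancel_left, inv_mul_cancel_left, mul_inv_cancel, inv_mul_cancel, ir, is] at h ⊢
    exact h
  · have h := mul_inv_eq_one.mpr e18
    simp only [pow_succ, pow_zero, mul_inv_rev, inv_inv, inv_one, one_mul, mul_one, mul_assoc,
      mul_inv_cancel_left, inv_mul_cancel_left, mul_inv_cancel, inv_mul_cancel, ir, is] at h ⊢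
    exact h
  · have h := mul_inv_eq_one.mpr e19
    simp only [pow_succ, pow_zero, mul_inv_rev, inv_inv, inv_one, one_mul, mul_one, mul_assoc,
      mul_inv_cancel_left, inv_mul_cancel_left, mul_inv_cancel, inv_mul_cancel, ir, is] at h ⊢
    exact h
  · have h := mul_inv_eq_one.mpr e20
    simp only [pow_succ, pow_zero, mul_inv_rev, inv_inv, inv_one, one_mul, mul_one, mul_assoc,
      mul_inv_cancel_left, inv_mul_cancel_left, mul_inv_cancel, inv_mul_cancel, ir, is] at h ⊢
    exact h
  · have h := mul_inv_eq_one.mpr e21
    simp only [pow_succ, pow_zero, mul_inv_rev, inv_inv, inv_one, one_mul, mul_one, mul_assoc,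
      mul_inv_cancel_left, inv_mul_cancel_left, mul_inv_cancel, inv_mul_cancel, ir, is] at h ⊢
    exact h
  · have h := mul_inv_eq_one.mpr e22
    simp only [pow_succ, pow_zero, mul_inv_rev, inv_inv, inv_one, one_mul, mul_one, mul_assoc,
      mul_inv_cancel_left, inv_mul_cancel_left, mul_inv_cancel, inv_mul_cancel, ir, is] at h ⊢
    exact h
  · have h := mul_inv_eq_one.mpr e23
    simp only [pow_succ, pow_zero, mul_inv_rev, inv_inv, inv_one, one_mul, mul_one, mul_assoc,
      mul_inv_cancel_left, inv_mul_cancel_left, mul_inv_cancel, inv_mul_cancel, ir, is] at h ⊢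
    exact h
  · have h := mul_inv_eq_one.mpr e24
    simp only [pow_succ, pow_zero, mul_inv_rev, inv_inv, inv_one, one_mul, mul_one, mul_assoc,
      mul_inv_cancel_left, inv_mul_cancel_left, mul_inv_cancel, inv_mul_cancel, ir, is] at h ⊢
    exact h
  · have h := mul_inv_eq_one.mpr e25
    simp only [pow_succ, pow_zero, mul_inv_rev, inv_inv, inv_one, one_mul, mul_one, mul_assoc,
      mul_inv_cancel_left, inv_mul_cancel_left, mul_inv_cancel, inv_mul_cancel, ir, is] at h ⊢
    exact h

/-- Certificate data. -/
def p2_par : Trie :=
    (.node (.node (.node (.node (.node (.node (.node (.node (.node (.node (.node (.node (.leaf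
    (nat_lit 0)) (.leaf (nat_lit 323844))) (.node (.leaf (nat_lit 146697)) (.leaf (nat_lit
    602883)))) (.node (.node (.leaf (nat_lit 65544)) (.leaf (nat_lit 433409))) (.leaf (nat_lit
    219908)))) (.node (.node (.node (.leaf (nat_lit 31489)) (.leaf (nat_lit 369412))) (.leaf
    (nat_lit 186378))) (.node (.node (.leaf (nat_lit 107521)) (.leaf (nat_lit 512008))) (.leaf
    (nat_lit 280329))))) (.node (.node (.node (.node (.leaf (nat_lit 14856)) (.leaf (nat_lit
    343048))) (.leaf (nat_lit 165636))) (.node (.node (.leaf (nat_lit 87304)) (.leaf (nat_lit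
    469514))) (.leaf (nat_lit 247300)))) (.node (.node (.node (.leaf (nat_lit 50178)) (.leaf
    (nat_lit 391177))) (.leaf (nat_lit 204554))) (.node (.node (.leaf (nat_lit 124932)) (.leaf
    (nat_lit 556296))) (.leaf (nat_lit 307466)))))) (.node (.node (.node (.node (.node (.leaf
    (nat_lit 7943)) (.leaf (nat_lit 332035))) (.node (.leaf (nat_lit 156931)) (.leaf (nat_lit
    623108)))) (.node (.node (.leaf (nat_lit 76548)) (.leaf (nat_lit 453889))) (.leaf (nat_lit
    233986)))) (.node (.node (.node (.leaf (nat_lit 39426)) (.leaf (nat_lit 379652))) (.leaf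
    (nat_lit 193032))) (.node (.node (.leaf (nat_lit 118537)) (.leaf (nat_lit 537860))) (.leaf
    (nat_lit 288265))))) (.node (.node (.node (.node (.leaf (nat_lit 23556)) (.leaf (nat_lit
    359945))) (.leaf (nat_lit 176641))) (.node (.node (.leaf (nat_lit 102151)) (.leaf (nat_lit
    489731))) (.leaf (nat_lit 264449)))) (.node (.node (.node (.leaf (nat_lit 56067)) (.leaf
    (nat_lit 407043))) (.leaf (nat_lit 214274))) (.node (.node (.leaf (nat_lit 134657)) (.leaf
    (nat_lit 589575))) (.leaf (nat_lit 314369))))))) (.node (.node (.node (.node (.node (.node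
    (.leaf (nat_lit 4098)) (.leaf (nat_lit 328194))) (.node (.leaf (nat_lit 153096)) (.leaf
    (nat_lit 612103)))) (.node (.node (.leaf (nat_lit 69378)) (.leaf (nat_lit 445441))) (.leaf
    (nat_lit 228361)))) (.node (.node (.node (.leaf (nat_lit 36103)) (.leaf (nat_lit 373764)))
    (.leaf (nat_lit 189954))) (.node (.node (.leaf (nat_lit 115208)) (.leaf (nat_lit 531720)))
    (.leaf (nat_lit 284425))))) (.node (.node (.node (.node (.leaf (nat_lit 19204)) (.leaf (nat_lit
    347657))) (.leaf (nat_lit 172802))) (.node (.node (.leaf (nat_lit 97539)) (.leaf (nat_lit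
    480771))) (.leaf (nat_lit 254466)))) (.node (.node (.node (.leaf (nat_lit 52740)) (.leaf
    (nat_lit 401161))) (.leaf (nat_lit 209671))) (.node (.node (.leaf (nat_lit 129033)) (.leaf
    (nat_lit 565764))) (.leaf (nat_lit 311041)))))) (.node (.node (.node (.node (.node (.leaf
    (nat_lit 12036)) (.leaf (nat_lit 337156))) (.leaf (nat_lit 159239))) (.node (.node (.leaf
    (nat_lit 83202)) (.leaf (nat_lit 459779))) (.leaf (nat_lit 238594)))) (.node (.node (.node
    (.leaf (nat_lit 44802)) (.leaf (nat_lit 386820))) (.leaf (nat_lit 195332))) (.node (.node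
    (.leaf (nat_lit 120841)) (.leaf (nat_lit 546817))) (.leaf (nat_lit 299522))))) (.node (.node
    (.node (.node (.leaf (nat_lit 28169)) (.leaf (nat_lit 364546))) (.leaf (nat_lit 181257)))
    (.node (.node (.leaf (nat_lit 105223)) (.leaf (nat_lit 497415))) (.leaf (nat_lit 273160))))
    (.node (.node (.node (.leaf (nat_lit 59143)) (.leaf (nat_lit 420100))) (.leaf (nat_lit
    217609))) (.node (.node (.leaf (nat_lit 140035)) (.leaf (nat_lit 596483))) (.leaf (nat_lit
    320007)))))))) (.node (.node (.node (.node (.node (.node (.node (.leaf (nat_lit 1801)) (.leaf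
    (nat_lit 326154))) (.node (.leaf (nat_lit 150530)) (.leaf (nat_lit 605700)))) (.node (.node
    (.leaf (nat_lit 67843)) (.leaf (nat_lit 440074))) (.leaf (nat_lit 222465)))) (.node (.node
    (.node (.leaf (nat_lit 32521)) (.leaf (nat_lit 372482))) (.leaf (nat_lit 187906))) (.node
    (.node (.leaf (nat_lit 109320)) (.leaf (nat_lit 517380))) (.leaf (nat_lit 282377))))) (.node
    (.node (.node (.node (.leaf (nat_lit 16650)) (.leaf (nat_lit 345091))) (.leaf (nat_lit
    171012))) (.node (.node (.leaf (nat_lit 94727)) (.leaf (nat_lit 472580))) (.leaf (nat_lit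
    250634)))) (.node (.node (.node (.leaf (nat_lit 51714)) (.leaf (nat_lit 394242))) (.leaf
    (nat_lit 206345))) (.node (.node (.leaf (nat_lit 126980)) (.leaf (nat_lit 561668))) (.leaf
    (nat_lit 309769)))))) (.node (.node (.node (.node (.node (.leaf (nat_lit 9993)) (.leaf (nat_lit
    335623))) (.leaf (nat_lit 158212))) (.node (.node (.leaf (nat_lit 79369)) (.leaf (nat_lit
    456712))) (.leaf (nat_lit 236553)))) (.node (.node (.node (.leaf (nat_lit 40970)) (.leaf
    (nat_lit 384263))) (.leaf (nat_lit 194058))) (.node (.node (.leaf (nat_lit 119817)) (.leaf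
    (nat_lit 544516))) (.leaf (nat_lit 295175))))) (.node (.node (.node (.node (.leaf (nat_lit
    25089)) (.leaf (nat_lit 362241))) (.leaf (nat_lit 177921))) (.node (.node (.leaf (nat_lit
    103683)) (.leaf (nat_lit 493063))) (.leaf (nat_lit 269059)))) (.node (.node (.node (.leaf
    (nat_lit 57864)) (.leaf (nat_lit 415233))) (.leaf (nat_lit 215818))) (.node (.node (.leaf
    (nat_lit 138250)) (.leaf (nat_lit 594180))) (.leaf (nat_lit 318465))))))) (.node (.node (.node
    (.node (.node (.node (.leaf (nat_lit 5384)) (.leaf (nat_lit 329226))) (.node (.leaf (nat_lit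
    155140)) (.leaf (nat_lit 618497)))) (.node (.node (.leaf (nat_lit 71943)) (.leaf (nat_lit
    451586))) (.leaf (nat_lit 231169)))) (.node (.node (.node (.leaf (nat_lit 38147)) (.leaf
    (nat_lit 376068))) (.leaf (nat_lit 191754))) (.node (.node (.leaf (nat_lit 116744)) (.leaf
    (nat_lit 534786))) (.leaf (nat_lit 285956))))) (.node (.node (.node (.node (.leaf (nat_lit
    21514)) (.leaf (nat_lit 349703))) (.leaf (nat_lit 175114))) (.node (.node (.leaf (nat_lit
    100611)) (.leaf (nat_lit 484871))) (.leaf (nat_lit 259082)))) (.node (.node (.node (.leaf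
    (nat_lit 53764)) (.leaf (nat_lit 403457))) (.leaf (nat_lit 212746))) (.node (.node (.leaf
    (nat_lit 132360)) (.leaf (nat_lit 576007))) (.leaf (nat_lit 312324)))))) (.node (.node (.node
    (.node (.node (.leaf (nat_lit 13834)) (.leaf (nat_lit 340996))) (.leaf (nat_lit 160772)))
    (.node (.node (.leaf (nat_lit 84484)) (.leaf (nat_lit 466440))) (.leaf (nat_lit 243466))))
    (.node (.node (.node (.leaf (nat_lit 47624)) (.leaf (nat_lit 388873))) (.leaf (nat_lit
    197635))) (.node (.node (.leaf (nat_lit 123139)) (.leaf (nat_lit 550916))) (.leaf (nat_lit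
    302858))))) (.node (.node (.node (.node (.leaf (nat_lit 29697)) (.leaf (nat_lit 367624)))
    (.leaf (nat_lit 182785))) (.node (.node (.leaf (nat_lit 106497)) (.leaf (nat_lit 502536)))
    (.leaf (nat_lit 276746)))) (.node (.node (.node (.leaf (nat_lit 63240)) (.leaf (nat_lit
    426248))) (.leaf (nat_lit 218883))) (.node (.node (.leaf (nat_lit 143620)) (.leaf (nat_lit
    598791))) (.leaf (nat_lit 321543))))))))) (.node (.node (.node (.node (.node (.node (.node
    (.node (.leaf (nat_lit 1028)) (.leaf (nat_lit 324871))) (.node (.leaf (nat_lit 149001)) (.leaf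
    (nat_lit 604163)))) (.node (.node (.leaf (nat_lit 67079)) (.leaf (nat_lit 436488))) (.leaf
    (nat_lit 221186)))) (.node (.node (.node (.leaf (nat_lit 32007)) (.leaf (nat_lit 371459)))
    (.leaf (nat_lit 187138))) (.node (.node (.leaf (nat_lit 108295)) (.leaf (nat_lit 514824)))
    (.leaf (nat_lit 281857))))) (.node (.node (.node (.node (.leaf (nat_lit 15874)) (.leaf (nat_lit
    344067))) (.leaf (nat_lit 169993))) (.node (.node (.leaf (nat_lit 90633)) (.leaf (nat_lit
    471041))) (.leaf (nat_lit 249608)))) (.node (.node (.node (.leaf (nat_lit 51202)) (.leaf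
    (nat_lit 392967))) (.leaf (nat_lit 205322))) (.node (.node (.leaf (nat_lit 125700)) (.leaf
    (nat_lit 558593))) (.leaf (nat_lit 308488)))))) (.node (.node (.node (.node (.node (.leaf
    (nat_lit 8708)) (.leaf (nat_lit 333064))) (.node (.leaf (nat_lit 157449)) (.leaf (nat_lit
    627976)))) (.node (.node (.leaf (nat_lit 78088)) (.leaf (nat_lit 455937))) (.leaf (nat_lit
    234756)))) (.node (.node (.node (.leaf (nat_lit 40450)) (.leaf (nat_lit 382984))) (.leaf
    (nat_lit 193544))) (.node (.node (.leaf (nat_lit 119305)) (.leaf (nat_lit 541706))) (.leaf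
    (nat_lit 289284))))) (.node (.node (.node (.node (.leaf (nat_lit 24329)) (.leaf (nat_lit
    360961))) (.leaf (nat_lit 177154))) (.node (.node (.leaf (nat_lit 102915)) (.leaf (nat_lit
    490503))) (.leaf (nat_lit 267015)))) (.node (.node (.node (.leaf (nat_lit 57346)) (.leaf
    (nat_lit 410884))) (.leaf (nat_lit 215048))) (.node (.node (.leaf (nat_lit 135434)) (.leaf
    (nat_lit 592905))) (.leaf (nat_lit 317442))))))) (.node (.node (.node (.node (.node (.node
    (.leaf (nat_lit 4616)) (.leaf (nat_lit 328712))) (.node (.leaf (nat_lit 154120)) (.leaf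
    (nat_lit 617481)))) (.node (.node (.leaf (nat_lit 69898)) (.leaf (nat_lit 449802))) (.leaf
    (nat_lit 229130)))) (.node (.node (.node (.leaf (nat_lit 37633)) (.leaf (nat_lit 374531)))
    (.leaf (nat_lit 190474))) (.node (.node (.leaf (nat_lit 115722)) (.leaf (nat_lit 533508)))
    (.leaf (nat_lit 285187))))) (.node (.node (.node (.node (.leaf (nat_lit 20234)) (.leaf (nat_lit
    348425))) (.leaf (nat_lit 174083))) (.node (.node (.leaf (nat_lit 98311)) (.leaf (nat_lit
    482568))) (.leaf (nat_lit 258058)))) (.node (.node (.node (.leaf (nat_lit 53252)) (.leaf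
    (nat_lit 402185))) (.leaf (nat_lit 210442))) (.node (.node (.leaf (nat_lit 129796)) (.leaf
    (nat_lit 567050))) (.leaf (nat_lit 311811)))))) (.node (.node (.node (.node (.node (.leaf
    (nat_lit 12552)) (.leaf (nat_lit 339464))) (.leaf (nat_lit 159754))) (.node (.node (.leaf
    (nat_lit 83971)) (.leaf (nat_lit 465161))) (.leaf (nat_lit 242433)))) (.node (.node (.node
    (.leaf (nat_lit 45832)) (.leaf (nat_lit 387844))) (.leaf (nat_lit 196617))) (.node (.node
    (.leaf (nat_lit 121601)) (.leaf (nat_lit 548610))) (.leaf (nat_lit 301322))))) (.node (.node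
    (.node (.node (.leaf (nat_lit 28679)) (.leaf (nat_lit 366338))) (.leaf (nat_lit 182017)))
    (.node (.node (.leaf (nat_lit 105987)) (.leaf (nat_lit 500995))) (.leaf (nat_lit 275722))))
    (.node (.node (.node (.leaf (nat_lit 61960)) (.leaf (nat_lit 423426))) (.leaf (nat_lit
    218369))) (.node (.node (.leaf (nat_lit 140810)) (.leaf (nat_lit 597249))) (.leaf (nat_lit
    320520)))))))) (.node (.node (.node (.node (.node (.node (.node (.leaf (nat_lit 2826)) (.leaf
    (nat_lit 327425))) (.node (.leaf (nat_lit 151815)) (.leaf (nat_lit 608513)))) (.node (.node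
    (.leaf (nat_lit 68612)) (.leaf (nat_lit 444164))) (.leaf (nat_lit 227593)))) (.node (.node
    (.node (.leaf (nat_lit 35593)) (.leaf (nat_lit 373000))) (.leaf (nat_lit 188931))) (.node
    (.node (.leaf (nat_lit 110338)) (.leaf (nat_lit 528643))) (.leaf (nat_lit 283649))))) (.node
    (.node (.node (.node (.leaf (nat_lit 17928)) (.leaf (nat_lit 346883))) (.leaf (nat_lit
    172033))) (.node (.node (.leaf (nat_lit 96519)) (.leaf (nat_lit 474882))) (.leaf (nat_lit
    252675)))) (.node (.node (.node (.leaf (nat_lit 52228)) (.leaf (nat_lit 399617))) (.leaf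
    (nat_lit 208905))) (.node (.node (.leaf (nat_lit 128009)) (.leaf (nat_lit 562947))) (.leaf
    (nat_lit 310279)))))) (.node (.node (.node (.node (.node (.leaf (nat_lit 11265)) (.leaf
    (nat_lit 336388))) (.leaf (nat_lit 158729))) (.node (.node (.leaf (nat_lit 80137)) (.leaf
    (nat_lit 457988))) (.leaf (nat_lit 237569)))) (.node (.node (.node (.leaf (nat_lit 42497))
    (.leaf (nat_lit 385799))) (.leaf (nat_lit 194568))) (.node (.node (.leaf (nat_lit 120327))
    (.leaf (nat_lit 546050))) (.leaf (nat_lit 297738))))) (.node (.node (.node (.node (.leaf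
    (nat_lit 25857)) (.leaf (nat_lit 363267))) (.leaf (nat_lit 180233))) (.node (.node (.leaf
    (nat_lit 104707)) (.leaf (nat_lit 495624))) (.leaf (nat_lit 269576)))) (.node (.node (.node
    (.leaf (nat_lit 58627)) (.leaf (nat_lit 416769))) (.leaf (nat_lit 217089))) (.node (.node
    (.leaf (nat_lit 138760)) (.leaf (nat_lit 595463))) (.leaf (nat_lit 319234))))))) (.node (.node
    (.node (.node (.node (.node (.leaf (nat_lit 6915)) (.leaf (nat_lit 329988))) (.node (.leaf
    (nat_lit 156163)) (.leaf (nat_lit 619529)))) (.node (.node (.leaf (nat_lit 73224)) (.leaf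
    (nat_lit 452616))) (.leaf (nat_lit 232194)))) (.node (.node (.node (.leaf (nat_lit 38659))
    (.leaf (nat_lit 378119))) (.leaf (nat_lit 192264))) (.node (.node (.leaf (nat_lit 117258))
    (.leaf (nat_lit 535810))) (.leaf (nat_lit 286723))))) (.node (.node (.node (.node (.leaf
    (nat_lit 22274)) (.leaf (nat_lit 351235))) (.leaf (nat_lit 175881))) (.node (.node (.leaf
    (nat_lit 101127)) (.leaf (nat_lit 486920))) (.leaf (nat_lit 262401)))) (.node (.node (.node
    (.leaf (nat_lit 54786)) (.leaf (nat_lit 404484))) (.leaf (nat_lit 213256))) (.node (.node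
    (.leaf (nat_lit 133641)) (.leaf (nat_lit 582919))) (.leaf (nat_lit 313092)))))) (.node (.node
    (.node (.node (.node (.leaf (nat_lit 14346)) (.leaf (nat_lit 341764))) (.leaf (nat_lit
    162305))) (.node (.node (.leaf (nat_lit 85251)) (.leaf (nat_lit 467464))) (.leaf (nat_lit
    244482)))) (.node (.node (.node (.leaf (nat_lit 49410)) (.leaf (nat_lit 390146))) (.leaf
    (nat_lit 198660))) (.node (.node (.leaf (nat_lit 124162)) (.leaf (nat_lit 553218))) (.leaf
    (nat_lit 306946))))) (.node (.node (.node (.node (.leaf (nat_lit 30471)) (.leaf (nat_lit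
    368136))) (.leaf (nat_lit 185609))) (.node (.node (.leaf (nat_lit 107009)) (.leaf (nat_lit
    504584))) (.leaf (nat_lit 279553)))) (.node (.node (.node (.leaf (nat_lit 64519)) (.leaf
    (nat_lit 430082))) (.leaf (nat_lit 219396))) (.node (.node (.leaf (nat_lit 144393)) (.leaf
    (nat_lit 599812))) (.leaf (nat_lit 322817)))))))))) (.node (.node (.node (.node (.node (.node
    (.node (.node (.node (.leaf (nat_lit 263)) (.leaf (nat_lit 324617))) (.node (.leaf (nat_lit
    146954)) (.leaf (nat_lit 603651)))) (.node (.node (.leaf (nat_lit 66052)) (.leaf (nat_lit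
    434947))) (.leaf (nat_lit 220681)))) (.node (.node (.node (.leaf (nat_lit 31745)) (.leaf
    (nat_lit 370689))) (.leaf (nat_lit 186882))) (.node (.node (.leaf (nat_lit 107777)) (.leaf
    (nat_lit 512776))) (.leaf (nat_lit 280834))))) (.node (.node (.node (.node (.leaf (nat_lit
    15364)) (.leaf (nat_lit 343811))) (.leaf (nat_lit 168456))) (.node (.node (.leaf (nat_lit
    89346)) (.leaf (nat_lit 470024))) (.leaf (nat_lit 249346)))) (.node (.node (.node (.leaf
    (nat_lit 50442)) (.leaf (nat_lit 392199))) (.leaf (nat_lit 205057))) (.node (.node (.leaf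
    (nat_lit 125192)) (.leaf (nat_lit 557321))) (.leaf (nat_lit 308233)))))) (.node (.node (.node
    (.node (.node (.leaf (nat_lit 8451)) (.leaf (nat_lit 332807))) (.node (.leaf (nat_lit 157193))
    (.leaf (nat_lit 624644)))) (.node (.node (.leaf (nat_lit 77315)) (.leaf (nat_lit 455427)))
    (.leaf (nat_lit 234500)))) (.node (.node (.node (.leaf (nat_lit 39940)) (.leaf (nat_lit
    382721))) (.leaf (nat_lit 193288))) (.node (.node (.leaf (nat_lit 118793)) (.leaf (nat_lit
    538626))) (.leaf (nat_lit 288770))))) (.node (.node (.node (.node (.leaf (nat_lit 23818))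
    (.leaf (nat_lit 360449))) (.leaf (nat_lit 176897))) (.node (.node (.leaf (nat_lit 102659))
    (.leaf (nat_lit 489994))) (.leaf (nat_lit 265992)))) (.node (.node (.node (.leaf (nat_lit
    56840)) (.leaf (nat_lit 407812))) (.leaf (nat_lit 214794))) (.node (.node (.leaf (nat_lit
    134913)) (.leaf (nat_lit 592392))) (.leaf (nat_lit 314884))))))) (.node (.node (.node (.node
    (.node (.node (.leaf (nat_lit 4354)) (.leaf (nat_lit 328455))) (.node (.leaf (nat_lit 153858))
    (.leaf (nat_lit 614154)))) (.node (.node (.leaf (nat_lit 69640)) (.leaf (nat_lit 447497)))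
    (.leaf (nat_lit 228616)))) (.node (.node (.node (.leaf (nat_lit 36609)) (.leaf (nat_lit
    374024))) (.leaf (nat_lit 190210))) (.node (.node (.leaf (nat_lit 115466)) (.leaf (nat_lit
    532234))) (.leaf (nat_lit 284680))))) (.node (.node (.node (.node (.leaf (nat_lit 19715))
    (.leaf (nat_lit 348162))) (.leaf (nat_lit 173314))) (.node (.node (.leaf (nat_lit 97796))
    (.leaf (nat_lit 481800))) (.leaf (nat_lit 257031)))) (.node (.node (.node (.leaf (nat_lit
    52996)) (.leaf (nat_lit 401924))) (.leaf (nat_lit 209927))) (.node (.node (.leaf (nat_lit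
    129290)) (.leaf (nat_lit 566532))) (.leaf (nat_lit 311303)))))) (.node (.node (.node (.node
    (.node (.leaf (nat_lit 12292)) (.leaf (nat_lit 339207))) (.leaf (nat_lit 159498))) (.node
    (.node (.leaf (nat_lit 83463)) (.leaf (nat_lit 461572))) (.leaf (nat_lit 241929)))) (.node
    (.node (.node (.leaf (nat_lit 45063)) (.leaf (nat_lit 387336))) (.leaf (nat_lit 195850)))
    (.node (.node (.leaf (nat_lit 121097)) (.leaf (nat_lit 547587))) (.leaf (nat_lit 300290)))))
    (.node (.node (.node (.node (.leaf (nat_lit 28423)) (.leaf (nat_lit 366081))) (.leaf (nat_lit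
    181761))) (.node (.node (.leaf (nat_lit 105731)) (.leaf (nat_lit 498951))) (.leaf (nat_lit
    275210)))) (.node (.node (.node (.leaf (nat_lit 59651)) (.leaf (nat_lit 421889))) (.leaf
    (nat_lit 218113))) (.node (.node (.leaf (nat_lit 140292)) (.leaf (nat_lit 596746))) (.leaf
    (nat_lit 320263)))))))) (.node (.node (.node (.node (.node (.node (.node (.leaf (nat_lit 2311))
    (.leaf (nat_lit 326658))) (.node (.leaf (nat_lit 151305)) (.leaf (nat_lit 606466)))) (.node
    (.node (.leaf (nat_lit 68104)) (.leaf (nat_lit 442371))) (.leaf (nat_lit 222980)))) (.node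
    (.node (.node (.leaf (nat_lit 33027)) (.leaf (nat_lit 372743))) (.leaf (nat_lit 188425)))
    (.node (.node (.leaf (nat_lit 109828)) (.leaf (nat_lit 519688))) (.leaf (nat_lit 282881)))))
    (.node (.node (.node (.node (.leaf (nat_lit 17418)) (.leaf (nat_lit 345860))) (.leaf (nat_lit
    171268))) (.node (.node (.leaf (nat_lit 95745)) (.leaf (nat_lit 473345))) (.leaf (nat_lit
    251399)))) (.node (.node (.node (.leaf (nat_lit 51970)) (.leaf (nat_lit 399113))) (.leaf
    (nat_lit 207364))) (.node (.node (.leaf (nat_lit 127745)) (.leaf (nat_lit 561929))) (.leaf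
    (nat_lit 310023)))))) (.node (.node (.node (.node (.node (.leaf (nat_lit 11009)) (.leaf
    (nat_lit 336132))) (.leaf (nat_lit 158473))) (.node (.node (.leaf (nat_lit 79874)) (.leaf
    (nat_lit 457220))) (.leaf (nat_lit 237065)))) (.node (.node (.node (.leaf (nat_lit 41474))
    (.leaf (nat_lit 385537))) (.leaf (nat_lit 194314))) (.node (.node (.leaf (nat_lit 120073))
    (.leaf (nat_lit 545028))) (.leaf (nat_lit 296713))))) (.node (.node (.node (.node (.leaf
    (nat_lit 25353)) (.leaf (nat_lit 362755))) (.leaf (nat_lit 178691))) (.node (.node (.leaf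
    (nat_lit 104199)) (.leaf (nat_lit 494083))) (.leaf (nat_lit 269315)))) (.node (.node (.node
    (.leaf (nat_lit 58371)) (.leaf (nat_lit 415748))) (.leaf (nat_lit 216585))) (.node (.node
    (.leaf (nat_lit 138504)) (.leaf (nat_lit 594695))) (.leaf (nat_lit 318727))))))) (.node (.node
    (.node (.node (.node (.node (.leaf (nat_lit 5890)) (.leaf (nat_lit 329732))) (.node (.leaf
    (nat_lit 155907)) (.leaf (nat_lit 619017)))) (.node (.node (.leaf (nat_lit 72708)) (.leaf
    (nat_lit 452359))) (.leaf (nat_lit 231938)))) (.node (.node (.node (.leaf (nat_lit 38403))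
    (.leaf (nat_lit 377352))) (.leaf (nat_lit 192008))) (.node (.node (.leaf (nat_lit 117002))
    (.leaf (nat_lit 535050))) (.leaf (nat_lit 286216))))) (.node (.node (.node (.node (.leaf
    (nat_lit 22018)) (.leaf (nat_lit 350211))) (.leaf (nat_lit 175620))) (.node (.node (.leaf
    (nat_lit 100867)) (.leaf (nat_lit 486152))) (.leaf (nat_lit 261898)))) (.node (.node (.node
    (.leaf (nat_lit 54274)) (.leaf (nat_lit 403969))) (.leaf (nat_lit 213000))) (.node (.node
    (.leaf (nat_lit 133380)) (.leaf (nat_lit 579847))) (.leaf (nat_lit 312584)))))) (.node (.node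
    (.node (.node (.node (.leaf (nat_lit 14090)) (.leaf (nat_lit 341256))) (.leaf (nat_lit
    161793))) (.node (.node (.leaf (nat_lit 84744)) (.leaf (nat_lit 466952))) (.leaf (nat_lit
    243970)))) (.node (.node (.node (.leaf (nat_lit 48132)) (.leaf (nat_lit 389383))) (.leaf
    (nat_lit 198147))) (.node (.node (.leaf (nat_lit 123649)) (.leaf (nat_lit 551939))) (.leaf
    (nat_lit 304132))))) (.node (.node (.node (.node (.leaf (nat_lit 30217)) (.leaf (nat_lit
    367880))) (.leaf (nat_lit 185348))) (.node (.node (.leaf (nat_lit 106753)) (.leaf (nat_lit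
    503815))) (.leaf (nat_lit 279049)))) (.node (.node (.node (.leaf (nat_lit 63747)) (.leaf
    (nat_lit 428035))) (.leaf (nat_lit 219139))) (.node (.node (.leaf (nat_lit 143876)) (.leaf
    (nat_lit 599303))) (.leaf (nat_lit 322052))))))))) (.node (.node (.node (.node (.node (.node
    (.node (.node (.leaf (nat_lit 1289)) (.leaf (nat_lit 325127))) (.node (.leaf (nat_lit 150273))
    (.leaf (nat_lit 604930)))) (.node (.node (.leaf (nat_lit 67587)) (.leaf (nat_lit 439297)))
    (.leaf (nat_lit 221706)))) (.node (.node (.node (.leaf (nat_lit 32263)) (.leaf (nat_lit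
    371976))) (.leaf (nat_lit 187402))) (.node (.node (.leaf (nat_lit 108804)) (.leaf (nat_lit
    516355))) (.leaf (nat_lit 282113))))) (.node (.node (.node (.node (.leaf (nat_lit 16393))
    (.leaf (nat_lit 344328))) (.leaf (nat_lit 170250))) (.node (.node (.leaf (nat_lit 92935))
    (.leaf (nat_lit 471811))) (.leaf (nat_lit 250120)))) (.node (.node (.node (.leaf (nat_lit
    51458)) (.leaf (nat_lit 393475))) (.leaf (nat_lit 205826))) (.node (.node (.leaf (nat_lit
    126467)) (.leaf (nat_lit 559113))) (.leaf (nat_lit 309001)))))) (.node (.node (.node (.node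
    (.node (.leaf (nat_lit 9735)) (.leaf (nat_lit 334089))) (.node (.leaf (nat_lit 157956)) (.leaf
    (nat_lit 628744)))) (.node (.node (.leaf (nat_lit 78346)) (.leaf (nat_lit 456199))) (.leaf
    (nat_lit 235267)))) (.node (.node (.node (.leaf (nat_lit 40706)) (.leaf (nat_lit 383747)))
    (.leaf (nat_lit 193800))) (.node (.node (.leaf (nat_lit 119561)) (.leaf (nat_lit 542216)))
    (.leaf (nat_lit 293895))))) (.node (.node (.node (.node (.leaf (nat_lit 24833)) (.leaf (nat_lit
    361729))) (.leaf (nat_lit 177417))) (.node (.node (.leaf (nat_lit 103175)) (.leaf (nat_lit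
    491266))) (.leaf (nat_lit 268292)))) (.node (.node (.node (.leaf (nat_lit 57607)) (.leaf
    (nat_lit 413697))) (.leaf (nat_lit 215304))) (.node (.node (.leaf (nat_lit 136707)) (.leaf
    (nat_lit 593667))) (.leaf (nat_lit 317953))))))) (.node (.node (.node (.node (.node (.node
    (.leaf (nat_lit 5124)) (.leaf (nat_lit 328970))) (.node (.leaf (nat_lit 154884)) (.leaf
    (nat_lit 617985)))) (.node (.node (.leaf (nat_lit 71681)) (.leaf (nat_lit 451073))) (.leaf
    (nat_lit 229889)))) (.node (.node (.node (.leaf (nat_lit 37889)) (.leaf (nat_lit 375042)))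
    (.leaf (nat_lit 191234))) (.node (.node (.leaf (nat_lit 116228)) (.leaf (nat_lit 534276)))
    (.leaf (nat_lit 285443))))) (.node (.node (.node (.node (.leaf (nat_lit 20737)) (.leaf (nat_lit
    348682))) (.leaf (nat_lit 174849))) (.node (.node (.leaf (nat_lit 100103)) (.leaf (nat_lit
    483336))) (.leaf (nat_lit 258567)))) (.node (.node (.node (.leaf (nat_lit 53508)) (.leaf
    (nat_lit 402947))) (.leaf (nat_lit 210946))) (.node (.node (.leaf (nat_lit 131081)) (.leaf
    (nat_lit 569347))) (.leaf (nat_lit 312067)))))) (.node (.node (.node (.node (.node (.leaf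
    (nat_lit 13060)) (.leaf (nat_lit 339976))) (.leaf (nat_lit 160258))) (.node (.node (.leaf
    (nat_lit 84228)) (.leaf (nat_lit 465672))) (.leaf (nat_lit 242946)))) (.node (.node (.node
    (.leaf (nat_lit 46601)) (.leaf (nat_lit 388612))) (.leaf (nat_lit 197121))) (.node (.node
    (.leaf (nat_lit 122371)) (.leaf (nat_lit 550147))) (.leaf (nat_lit 302090))))) (.node (.node
    (.node (.node (.leaf (nat_lit 29193)) (.leaf (nat_lit 367362))) (.leaf (nat_lit 182281)))
    (.node (.node (.leaf (nat_lit 106241)) (.leaf (nat_lit 501761))) (.leaf (nat_lit 276226))))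
    (.node (.node (.node (.leaf (nat_lit 62721)) (.leaf (nat_lit 424962))) (.leaf (nat_lit
    218627))) (.node (.node (.leaf (nat_lit 142602)) (.leaf (nat_lit 598017))) (.leaf (nat_lit
    321027)))))))) (.node (.node (.node (.node (.node (.node (.node (.leaf (nat_lit 3329)) (.leaf
    (nat_lit 327688))) (.node (.leaf (nat_lit 152840)) (.leaf (nat_lit 609796)))) (.node (.node
    (.leaf (nat_lit 69122)) (.leaf (nat_lit 444675))) (.leaf (nat_lit 227850)))) (.node (.node
    (.node (.leaf (nat_lit 35847)) (.leaf (nat_lit 373508))) (.leaf (nat_lit 189450))) (.node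
    (.node (.leaf (nat_lit 110850)) (.leaf (nat_lit 530439))) (.leaf (nat_lit 283911))))) (.node
    (.node (.node (.node (.leaf (nat_lit 18690)) (.leaf (nat_lit 347145))) (.leaf (nat_lit
    172290))) (.node (.node (.leaf (nat_lit 97031)) (.leaf (nat_lit 478474))) (.leaf (nat_lit
    253962)))) (.node (.node (.node (.leaf (nat_lit 52484)) (.leaf (nat_lit 399882))) (.leaf
    (nat_lit 209417))) (.node (.node (.leaf (nat_lit 128775)) (.leaf (nat_lit 564482))) (.leaf
    (nat_lit 310785)))))) (.node (.node (.node (.node (.node (.leaf (nat_lit 11527)) (.leaf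
    (nat_lit 336648))) (.leaf (nat_lit 158983))) (.node (.node (.leaf (nat_lit 80391)) (.leaf
    (nat_lit 458753))) (.leaf (nat_lit 238090)))) (.node (.node (.node (.leaf (nat_lit 43010))
    (.leaf (nat_lit 386563))) (.leaf (nat_lit 194824))) (.node (.node (.leaf (nat_lit 120583))
    (.leaf (nat_lit 546311))) (.leaf (nat_lit 299017))))) (.node (.node (.node (.node (.leaf
    (nat_lit 26372)) (.leaf (nat_lit 363785))) (.leaf (nat_lit 180745))) (.node (.node (.leaf
    (nat_lit 104963)) (.leaf (nat_lit 496391))) (.leaf (nat_lit 271879)))) (.node (.node (.node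
    (.leaf (nat_lit 58884)) (.leaf (nat_lit 417795))) (.leaf (nat_lit 217345))) (.node (.node
    (.leaf (nat_lit 139528)) (.leaf (nat_lit 595722))) (.leaf (nat_lit 319751))))))) (.node (.node
    (.node (.node (.node (.node (.leaf (nat_lit 7175)) (.leaf (nat_lit 330754))) (.node (.leaf
    (nat_lit 156423)) (.leaf (nat_lit 622345)))) (.node (.node (.leaf (nat_lit 74498)) (.leaf
    (nat_lit 453379))) (.leaf (nat_lit 232458)))) (.node (.node (.node (.leaf (nat_lit 38916))
    (.leaf (nat_lit 378883))) (.leaf (nat_lit 192778))) (.node (.node (.leaf (nat_lit 118019))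
    (.leaf (nat_lit 537348))) (.leaf (nat_lit 287489))))) (.node (.node (.node (.node (.leaf
    (nat_lit 23048)) (.leaf (nat_lit 351746))) (.leaf (nat_lit 176138))) (.node (.node (.leaf
    (nat_lit 101635)) (.leaf (nat_lit 488705))) (.leaf (nat_lit 263170)))) (.node (.node (.node
    (.leaf (nat_lit 55555)) (.leaf (nat_lit 406536))) (.leaf (nat_lit 213770))) (.node (.node
    (.leaf (nat_lit 133898)) (.leaf (nat_lit 583687))) (.leaf (nat_lit 313602)))))) (.node (.node
    (.node (.node (.node (.leaf (nat_lit 14602)) (.leaf (nat_lit 342280))) (.leaf (nat_lit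
    164617))) (.node (.node (.leaf (nat_lit 85761)) (.leaf (nat_lit 468999))) (.leaf (nat_lit
    246275)))) (.node (.node (.node (.leaf (nat_lit 49922)) (.leaf (nat_lit 390658))) (.leaf
    (nat_lit 200708))) (.node (.node (.leaf (nat_lit 124676)) (.leaf (nat_lit 555521))) (.leaf
    (nat_lit 307202))))) (.node (.node (.node (.node (.leaf (nat_lit 30985)) (.leaf (nat_lit
    369156))) (.leaf (nat_lit 185866))) (.node (.node (.leaf (nat_lit 107265)) (.leaf (nat_lit
    507649))) (.leaf (nat_lit 279809)))) (.node (.node (.node (.leaf (nat_lit 64776)) (.leaf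
    (nat_lit 432898))) (.leaf (nat_lit 219652))) (.node (.node (.leaf (nat_lit 145155)) (.leaf
    (nat_lit 600834))) (.leaf (nat_lit 323329))))))))))) (.node (.node (.node (.node (.node (.node
    (.node (.node (.node (.node (.leaf (nat_lit 257)) (.leaf (nat_lit 324355))) (.node (.leaf
    (nat_lit 146947)) (.leaf (nat_lit 603140)))) (.node (.node (.leaf (nat_lit 65800)) (.leaf
    (nat_lit 433928))) (.leaf (nat_lit 220163)))) (.node (.node (.node (.leaf (nat_lit 31495))
    (.leaf (nat_lit 369922))) (.leaf (nat_lit 186634))) (.node (.node (.leaf (nat_lit 107529))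
    (.leaf (nat_lit 512516))) (.leaf (nat_lit 280577))))) (.node (.node (.node (.node (.leaf
    (nat_lit 15106)) (.leaf (nat_lit 343304))) (.leaf (nat_lit 166660))) (.node (.node (.leaf
    (nat_lit 88072)) (.leaf (nat_lit 469764))) (.leaf (nat_lit 249095)))) (.node (.node (.node
    (.leaf (nat_lit 50184)) (.leaf (nat_lit 391943))) (.leaf (nat_lit 204809))) (.node (.node
    (.leaf (nat_lit 124938)) (.leaf (nat_lit 556804))) (.leaf (nat_lit 307714)))))) (.node (.node
    (.node (.node (.node (.leaf (nat_lit 8199)) (.leaf (nat_lit 332554))) (.node (.leaf (nat_lit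
    157187)) (.leaf (nat_lit 623619)))) (.node (.node (.leaf (nat_lit 76807)) (.leaf (nat_lit
    455171))) (.leaf (nat_lit 233992)))) (.node (.node (.node (.leaf (nat_lit 39684)) (.leaf
    (nat_lit 381954))) (.leaf (nat_lit 193282))) (.node (.node (.leaf (nat_lit 118787)) (.leaf
    (nat_lit 538116))) (.leaf (nat_lit 288514))))) (.node (.node (.node (.node (.leaf (nat_lit
    23811)) (.leaf (nat_lit 360193))) (.leaf (nat_lit 176647))) (.node (.node (.leaf (nat_lit
    102407)) (.leaf (nat_lit 489738))) (.leaf (nat_lit 265475)))) (.node (.node (.node (.leaf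
    (nat_lit 56833)) (.leaf (nat_lit 407559))) (.leaf (nat_lit 214538))) (.node (.node (.leaf
    (nat_lit 134663)) (.leaf (nat_lit 589832))) (.leaf (nat_lit 314625))))))) (.node (.node (.node
    (.node (.node (.node (.leaf (nat_lit 4104)) (.leaf (nat_lit 328200))) (.node (.leaf (nat_lit
    153602)) (.leaf (nat_lit 613889)))) (.node (.node (.leaf (nat_lit 69634)) (.leaf (nat_lit
    446473))) (.leaf (nat_lit 228610)))) (.node (.node (.node (.leaf (nat_lit 36361)) (.leaf
    (nat_lit 373770))) (.leaf (nat_lit 189960))) (.node (.node (.leaf (nat_lit 115460)) (.leaf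
    (nat_lit 531978))) (.leaf (nat_lit 284673))))) (.node (.node (.node (.node (.leaf (nat_lit
    19210)) (.leaf (nat_lit 347911))) (.leaf (nat_lit 173057))) (.node (.node (.leaf (nat_lit
    97546)) (.leaf (nat_lit 481540))) (.leaf (nat_lit 256775)))) (.node (.node (.node (.leaf
    (nat_lit 52746)) (.leaf (nat_lit 401665))) (.leaf (nat_lit 209921))) (.node (.node (.leaf
    (nat_lit 129284)) (.leaf (nat_lit 566275))) (.leaf (nat_lit 311299)))))) (.node (.node (.node
    (.node (.node (.leaf (nat_lit 12042)) (.leaf (nat_lit 337412))) (.leaf (nat_lit 159490)))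
    (.node (.node (.leaf (nat_lit 83208)) (.leaf (nat_lit 460040))) (.leaf (nat_lit 241159))))
    (.node (.node (.node (.leaf (nat_lit 44808)) (.leaf (nat_lit 387080))) (.leaf (nat_lit
    195594))) (.node (.node (.leaf (nat_lit 121089)) (.leaf (nat_lit 547073))) (.leaf (nat_lit
    300041))))) (.node (.node (.node (.node (.leaf (nat_lit 28417)) (.leaf (nat_lit 365059)))
    (.leaf (nat_lit 181513))) (.node (.node (.leaf (nat_lit 105479)) (.leaf (nat_lit 497668)))
    (.leaf (nat_lit 274954)))) (.node (.node (.node (.leaf (nat_lit 59395)) (.leaf (nat_lit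
    421123))) (.leaf (nat_lit 217865))) (.node (.node (.leaf (nat_lit 140042)) (.leaf (nat_lit
    596489))) (.leaf (nat_lit 320257)))))))) (.node (.node (.node (.node (.node (.node (.node
    (.leaf (nat_lit 2305)) (.leaf (nat_lit 326402))) (.node (.leaf (nat_lit 151049)) (.leaf
    (nat_lit 606210)))) (.node (.node (.leaf (nat_lit 67850)) (.leaf (nat_lit 441090))) (.leaf
    (nat_lit 222724)))) (.node (.node (.node (.leaf (nat_lit 32772)) (.leaf (nat_lit 372488)))
    (.leaf (nat_lit 188162))) (.node (.node (.leaf (nat_lit 109576)) (.leaf (nat_lit 517896)))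
    (.leaf (nat_lit 282633))))) (.node (.node (.node (.node (.leaf (nat_lit 17156)) (.leaf (nat_lit
    345351))) (.leaf (nat_lit 171018))) (.node (.node (.leaf (nat_lit 95489)) (.leaf (nat_lit
    473089))) (.leaf (nat_lit 251143)))) (.node (.node (.node (.leaf (nat_lit 51720)) (.leaf
    (nat_lit 396034))) (.leaf (nat_lit 206850))) (.node (.node (.leaf (nat_lit 127242)) (.leaf
    (nat_lit 561674))) (.leaf (nat_lit 310017)))))) (.node (.node (.node (.node (.node (.leaf
    (nat_lit 10243)) (.leaf (nat_lit 335879))) (.leaf (nat_lit 158218))) (.node (.node (.leaf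
    (nat_lit 79619)) (.leaf (nat_lit 456967))) (.leaf (nat_lit 236803)))) (.node (.node (.node
    (.leaf (nat_lit 41218)) (.leaf (nat_lit 384772))) (.leaf (nat_lit 194308))) (.node (.node
    (.leaf (nat_lit 120065)) (.leaf (nat_lit 544778))) (.leaf (nat_lit 296457))))) (.node (.node
    (.node (.node (.leaf (nat_lit 25095)) (.leaf (nat_lit 362497))) (.leaf (nat_lit 178180)))
    (.node (.node (.leaf (nat_lit 103939)) (.leaf (nat_lit 493572))) (.leaf (nat_lit 269065))))
    (.node (.node (.node (.leaf (nat_lit 58119)) (.leaf (nat_lit 415489))) (.leaf (nat_lit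
    216321))) (.node (.node (.leaf (nat_lit 138498)) (.leaf (nat_lit 594186))) (.leaf (nat_lit
    318472))))))) (.node (.node (.node (.node (.node (.node (.leaf (nat_lit 5639)) (.leaf (nat_lit
    329479))) (.node (.leaf (nat_lit 155655)) (.leaf (nat_lit 618753)))) (.node (.node (.leaf
    (nat_lit 72200)) (.leaf (nat_lit 451842))) (.leaf (nat_lit 231690)))) (.node (.node (.node
    (.leaf (nat_lit 38151)) (.leaf (nat_lit 377096))) (.leaf (nat_lit 192002))) (.node (.node
    (.leaf (nat_lit 116996)) (.leaf (nat_lit 534794))) (.leaf (nat_lit 286212))))) (.node (.node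
    (.node (.node (.leaf (nat_lit 21770)) (.leaf (nat_lit 349955))) (.leaf (nat_lit 175369)))
    (.node (.node (.leaf (nat_lit 100617)) (.leaf (nat_lit 485377))) (.leaf (nat_lit 259586))))
    (.node (.node (.node (.leaf (nat_lit 54020)) (.leaf (nat_lit 403721))) (.leaf (nat_lit
    212994))) (.node (.node (.leaf (nat_lit 133129)) (.leaf (nat_lit 576263))) (.leaf (nat_lit
    312328)))))) (.node (.node (.node (.node (.node (.leaf (nat_lit 14084)) (.leaf (nat_lit
    341002))) (.leaf (nat_lit 161283))) (.node (.node (.leaf (nat_lit 84490)) (.leaf (nat_lit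
    466695))) (.leaf (nat_lit 243714)))) (.node (.node (.node (.leaf (nat_lit 47881)) (.leaf
    (nat_lit 389127))) (.leaf (nat_lit 197891))) (.node (.node (.leaf (nat_lit 123393)) (.leaf
    (nat_lit 551428))) (.leaf (nat_lit 303114))))) (.node (.node (.node (.node (.leaf (nat_lit
    29961)) (.leaf (nat_lit 367874))) (.leaf (nat_lit 183041))) (.node (.node (.leaf (nat_lit
    106505)) (.leaf (nat_lit 503559))) (.leaf (nat_lit 276994)))) (.node (.node (.node (.leaf
    (nat_lit 63492)) (.leaf (nat_lit 427016))) (.leaf (nat_lit 218887))) (.node (.node (.leaf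
    (nat_lit 143626)) (.leaf (nat_lit 599043))) (.leaf (nat_lit 321799))))))))) (.node (.node
    (.node (.node (.node (.node (.node (.node (.leaf (nat_lit 1283)) (.leaf (nat_lit 325121)))
    (.node (.leaf (nat_lit 150025)) (.leaf (nat_lit 604675)))) (.node (.node (.leaf (nat_lit
    67335)) (.leaf (nat_lit 437506))) (.leaf (nat_lit 221442)))) (.node (.node (.node (.leaf
    (nat_lit 32259)) (.leaf (nat_lit 371969))) (.leaf (nat_lit 187144))) (.node (.node (.leaf
    (nat_lit 108551)) (.leaf (nat_lit 515848))) (.leaf (nat_lit 281863))))) (.node (.node (.node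
    (.node (.leaf (nat_lit 16130)) (.leaf (nat_lit 344073))) (.leaf (nat_lit 170243))) (.node
    (.node (.leaf (nat_lit 90888)) (.leaf (nat_lit 471304))) (.leaf (nat_lit 249864)))) (.node
    (.node (.node (.leaf (nat_lit 51208)) (.leaf (nat_lit 393223))) (.leaf (nat_lit 205570)))
    (.node (.node (.leaf (nat_lit 126217)) (.leaf (nat_lit 558849))) (.leaf (nat_lit 308743))))))
    (.node (.node (.node (.node (.node (.leaf (nat_lit 9479)) (.leaf (nat_lit 333833))) (.node
    (.leaf (nat_lit 157704)) (.leaf (nat_lit 628484)))) (.node (.node (.leaf (nat_lit 78340))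
    (.leaf (nat_lit 455944))) (.leaf (nat_lit 235012)))) (.node (.node (.node (.leaf (nat_lit
    40456)) (.leaf (nat_lit 383497))) (.leaf (nat_lit 193796))) (.node (.node (.leaf (nat_lit
    119555)) (.leaf (nat_lit 541962))) (.leaf (nat_lit 289540))))) (.node (.node (.node (.node
    (.leaf (nat_lit 24585)) (.leaf (nat_lit 361481))) (.leaf (nat_lit 177162))) (.node (.node
    (.leaf (nat_lit 102921)) (.leaf (nat_lit 490756))) (.leaf (nat_lit 267779)))) (.node (.node
    (.node (.leaf (nat_lit 57352)) (.leaf (nat_lit 412169))) (.leaf (nat_lit 215298))) (.node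
    (.node (.leaf (nat_lit 136196)) (.leaf (nat_lit 593160))) (.leaf (nat_lit 317448))))))) (.node
    (.node (.node (.node (.node (.node (.leaf (nat_lit 4868)) (.leaf (nat_lit 328964))) (.node
    (.leaf (nat_lit 154628)) (.leaf (nat_lit 617729)))) (.node (.node (.leaf (nat_lit 70146))
    (.leaf (nat_lit 450823))) (.leaf (nat_lit 229386)))) (.node (.node (.node (.leaf (nat_lit
    37639)) (.leaf (nat_lit 374787))) (.leaf (nat_lit 190730))) (.node (.node (.leaf (nat_lit
    115976)) (.leaf (nat_lit 533764))) (.leaf (nat_lit 285191))))) (.node (.node (.node (.node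
    (.leaf (nat_lit 20482)) (.leaf (nat_lit 348673))) (.leaf (nat_lit 174593))) (.node (.node
    (.leaf (nat_lit 98564)) (.leaf (nat_lit 483079))) (.leaf (nat_lit 258312)))) (.node (.node
    (.node (.leaf (nat_lit 53256)) (.leaf (nat_lit 402435))) (.leaf (nat_lit 210690))) (.node
    (.node (.leaf (nat_lit 130825)) (.leaf (nat_lit 568579))) (.leaf (nat_lit 311817)))))) (.node
    (.node (.node (.node (.node (.leaf (nat_lit 12804)) (.leaf (nat_lit 339720))) (.leaf (nat_lit
    160002))) (.node (.node (.leaf (nat_lit 83976)) (.leaf (nat_lit 465416))) (.leaf (nat_lit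
    242697)))) (.node (.node (.node (.leaf (nat_lit 46088)) (.leaf (nat_lit 388104))) (.leaf
    (nat_lit 196873))) (.node (.node (.leaf (nat_lit 122115)) (.leaf (nat_lit 549377))) (.leaf
    (nat_lit 301576))))) (.node (.node (.node (.node (.leaf (nat_lit 28937)) (.leaf (nat_lit
    367106))) (.leaf (nat_lit 182023))) (.node (.node (.leaf (nat_lit 105993)) (.leaf (nat_lit
    501255))) (.leaf (nat_lit 275970)))) (.node (.node (.node (.leaf (nat_lit 62215)) (.leaf
    (nat_lit 424195))) (.leaf (nat_lit 218375))) (.node (.node (.leaf (nat_lit 142084)) (.leaf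
    (nat_lit 597762))) (.leaf (nat_lit 320775)))))))) (.node (.node (.node (.node (.node (.node
    (.node (.leaf (nat_lit 3074)) (.leaf (nat_lit 327432))) (.node (.leaf (nat_lit 152834)) (.leaf
    (nat_lit 609026)))) (.node (.node (.leaf (nat_lit 68868)) (.leaf (nat_lit 444419))) (.leaf
    (nat_lit 227844)))) (.node (.node (.node (.leaf (nat_lit 35841)) (.leaf (nat_lit 373255)))
    (.leaf (nat_lit 189193))) (.node (.node (.leaf (nat_lit 110594)) (.leaf (nat_lit 529922)))
    (.leaf (nat_lit 283905))))) (.node (.node (.node (.node (.leaf (nat_lit 18186)) (.leaf (nat_lit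
    347139))) (.leaf (nat_lit 172041))) (.node (.node (.leaf (nat_lit 96775)) (.leaf (nat_lit
    478217))) (.leaf (nat_lit 252932)))) (.node (.node (.node (.leaf (nat_lit 52232)) (.leaf
    (nat_lit 399624))) (.leaf (nat_lit 209161))) (.node (.node (.leaf (nat_lit 128258)) (.leaf
    (nat_lit 563458))) (.leaf (nat_lit 310537)))))) (.node (.node (.node (.node (.node (.leaf
    (nat_lit 11521)) (.leaf (nat_lit 336394))) (.leaf (nat_lit 158977))) (.node (.node (.leaf
    (nat_lit 80385)) (.leaf (nat_lit 457992))) (.leaf (nat_lit 237825)))) (.node (.node (.node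
    (.leaf (nat_lit 42504)) (.leaf (nat_lit 386056))) (.leaf (nat_lit 194820))) (.node (.node
    (.leaf (nat_lit 120577)) (.leaf (nat_lit 546056))) (.leaf (nat_lit 298761))))) (.node (.node
    (.node (.node (.leaf (nat_lit 26113)) (.leaf (nat_lit 363523))) (.leaf (nat_lit 180489)))
    (.node (.node (.leaf (nat_lit 104713)) (.leaf (nat_lit 495879))) (.leaf (nat_lit 270084))))
    (.node (.node (.node (.leaf (nat_lit 58633)) (.leaf (nat_lit 417284))) (.leaf (nat_lit
    217095))) (.node (.node (.leaf (nat_lit 139524)) (.leaf (nat_lit 595716))) (.leaf (nat_lit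
    319495))))))) (.node (.node (.node (.node (.node (.node (.leaf (nat_lit 6921)) (.leaf (nat_lit
    330244))) (.node (.leaf (nat_lit 156169)) (.leaf (nat_lit 621058)))) (.node (.node (.leaf
    (nat_lit 73987)) (.leaf (nat_lit 452868))) (.leaf (nat_lit 232200)))) (.node (.node (.node
    (.leaf (nat_lit 38665)) (.leaf (nat_lit 378376))) (.leaf (nat_lit 192522))) (.node (.node
    (.leaf (nat_lit 117512)) (.leaf (nat_lit 537092))) (.leaf (nat_lit 286980))))) (.node (.node
    (.node (.node (.leaf (nat_lit 23044)) (.leaf (nat_lit 351489))) (.leaf (nat_lit 176129)))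
    (.node (.node (.leaf (nat_lit 101383)) (.leaf (nat_lit 487426))) (.leaf (nat_lit 262408))))
    (.node (.node (.node (.leaf (nat_lit 55299)) (.leaf (nat_lit 406280))) (.leaf (nat_lit
    213514))) (.node (.node (.leaf (nat_lit 133891)) (.leaf (nat_lit 583431))) (.leaf (nat_lit
    313354)))))) (.node (.node (.node (.node (.node (.leaf (nat_lit 14594)) (.leaf (nat_lit
    342020))) (.leaf (nat_lit 162561))) (.node (.node (.leaf (nat_lit 85507)) (.leaf (nat_lit
    468231))) (.leaf (nat_lit 245767)))) (.node (.node (.node (.leaf (nat_lit 49674)) (.leaf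
    (nat_lit 390409))) (.leaf (nat_lit 199171))) (.node (.node (.leaf (nat_lit 124424)) (.leaf
    (nat_lit 553988))) (.leaf (nat_lit 306952))))) (.node (.node (.node (.node (.leaf (nat_lit
    30721)) (.leaf (nat_lit 368388))) (.leaf (nat_lit 185859))) (.node (.node (.leaf (nat_lit
    107015)) (.leaf (nat_lit 505857))) (.leaf (nat_lit 279559)))) (.node (.node (.node (.leaf
    (nat_lit 64770)) (.leaf (nat_lit 431625))) (.leaf (nat_lit 219402))) (.node (.node (.leaf
    (nat_lit 144641)) (.leaf (nat_lit 600322))) (.leaf (nat_lit 323073)))))))))) (.node (.node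
    (.node (.node (.node (.node (.node (.node (.node (.leaf (nat_lit 520)) (.leaf (nat_lit
    324865))) (.node (.leaf (nat_lit 147458)) (.leaf (nat_lit 603907)))) (.node (.node (.leaf
    (nat_lit 66307)) (.leaf (nat_lit 435460))) (.leaf (nat_lit 220938)))) (.node (.node (.node
    (.leaf (nat_lit 32003)) (.leaf (nat_lit 371203))) (.leaf (nat_lit 186888))) (.node (.node
    (.leaf (nat_lit 108033)) (.leaf (nat_lit 514311))) (.leaf (nat_lit 281354))))) (.node (.node
    (.node (.node (.leaf (nat_lit 15620)) (.leaf (nat_lit 343817))) (.leaf (nat_lit 169987)))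
    (.node (.node (.leaf (nat_lit 90119)) (.leaf (nat_lit 470529))) (.leaf (nat_lit 249352))))
    (.node (.node (.node (.leaf (nat_lit 50946)) (.leaf (nat_lit 392451))) (.leaf (nat_lit
    205066))) (.node (.node (.leaf (nat_lit 125444)) (.leaf (nat_lit 558089))) (.leaf (nat_lit
    308482)))))) (.node (.node (.node (.node (.node (.leaf (nat_lit 8457)) (.leaf (nat_lit
    333057))) (.node (.leaf (nat_lit 157443)) (.leaf (nat_lit 625411)))) (.node (.node (.leaf
    (nat_lit 77832)) (.leaf (nat_lit 455681))) (.leaf (nat_lit 234504)))) (.node (.node (.node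
    (.leaf (nat_lit 40202)) (.leaf (nat_lit 382728))) (.leaf (nat_lit 193540))) (.node (.node
    (.leaf (nat_lit 119299)) (.leaf (nat_lit 539138))) (.leaf (nat_lit 289028))))) (.node (.node
    (.node (.node (.leaf (nat_lit 24073)) (.leaf (nat_lit 360713))) (.leaf (nat_lit 176903)))
    (.node (.node (.leaf (nat_lit 102665)) (.leaf (nat_lit 490247))) (.leaf (nat_lit 266759))))
    (.node (.node (.node (.leaf (nat_lit 57095)) (.leaf (nat_lit 410632))) (.leaf (nat_lit
    215042))) (.node (.node (.leaf (nat_lit 134920)) (.leaf (nat_lit 592650))) (.leaf (nat_lit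
    315651))))))) (.node (.node (.node (.node (.node (.node (.leaf (nat_lit 4612)) (.leaf (nat_lit
    328707))) (.node (.leaf (nat_lit 154116)) (.leaf (nat_lit 616964)))) (.node (.node (.leaf
    (nat_lit 69890)) (.leaf (nat_lit 449545))) (.leaf (nat_lit 228866)))) (.node (.node (.node
    (.leaf (nat_lit 36865)) (.leaf (nat_lit 374279))) (.leaf (nat_lit 190216))) (.node (.node
    (.leaf (nat_lit 115716)) (.leaf (nat_lit 532995))) (.leaf (nat_lit 284930))))) (.node (.node
    (.node (.node (.leaf (nat_lit 19978)) (.leaf (nat_lit 348168))) (.leaf (nat_lit 173572)))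
    (.node (.node (.leaf (nat_lit 98055)) (.leaf (nat_lit 482311))) (.leaf (nat_lit 257802))))
    (.node (.node (.node (.leaf (nat_lit 53002)) (.leaf (nat_lit 401928))) (.leaf (nat_lit
    210186))) (.node (.node (.leaf (nat_lit 129544)) (.leaf (nat_lit 566788))) (.leaf (nat_lit
    311555)))))) (.node (.node (.node (.node (.node (.leaf (nat_lit 12298)) (.leaf (nat_lit
    339458))) (.leaf (nat_lit 159746))) (.node (.node (.leaf (nat_lit 83719)) (.leaf (nat_lit
    462088))) (.leaf (nat_lit 242177)))) (.node (.node (.node (.leaf (nat_lit 45313)) (.leaf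
    (nat_lit 387588))) (.leaf (nat_lit 196098))) (.node (.node (.leaf (nat_lit 121345)) (.leaf
    (nat_lit 548355))) (.leaf (nat_lit 301066))))) (.node (.node (.node (.node (.leaf (nat_lit
    28673)) (.leaf (nat_lit 366087))) (.leaf (nat_lit 181767))) (.node (.node (.leaf (nat_lit
    105737)) (.leaf (nat_lit 500739))) (.leaf (nat_lit 275466)))) (.node (.node (.node (.leaf
    (nat_lit 61954)) (.leaf (nat_lit 422660))) (.leaf (nat_lit 218119))) (.node (.node (.leaf
    (nat_lit 140554)) (.leaf (nat_lit 597001))) (.leaf (nat_lit 320515)))))))) (.node (.node (.node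
    (.node (.node (.node (.node (.leaf (nat_lit 2570)) (.leaf (nat_lit 326922))) (.node (.leaf
    (nat_lit 151559)) (.leaf (nat_lit 608265)))) (.node (.node (.leaf (nat_lit 68360)) (.leaf
    (nat_lit 443144))) (.leaf (nat_lit 223491)))) (.node (.node (.node (.leaf (nat_lit 33283))
    (.leaf (nat_lit 372995))) (.leaf (nat_lit 188676))) (.node (.node (.leaf (nat_lit 110084))
    (.leaf (nat_lit 525832))) (.leaf (nat_lit 283137))))) (.node (.node (.node (.node (.leaf
    (nat_lit 17922)) (.leaf (nat_lit 346376))) (.leaf (nat_lit 171523))) (.node (.node (.leaf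
    (nat_lit 96007)) (.leaf (nat_lit 473602))) (.leaf (nat_lit 252167)))) (.node (.node (.node
    (.leaf (nat_lit 51976)) (.leaf (nat_lit 399367))) (.leaf (nat_lit 208649))) (.node (.node
    (.leaf (nat_lit 127751)) (.leaf (nat_lit 562436))) (.leaf (nat_lit 310273)))))) (.node (.node
    (.node (.node (.node (.leaf (nat_lit 11017)) (.leaf (nat_lit 336138))) (.leaf (nat_lit
    158721))) (.node (.node (.leaf (nat_lit 79882)) (.leaf (nat_lit 457732))) (.leaf (nat_lit
    237321)))) (.node (.node (.node (.leaf (nat_lit 42247)) (.leaf (nat_lit 385544))) (.leaf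
    (nat_lit 194564))) (.node (.node (.leaf (nat_lit 120321)) (.leaf (nat_lit 545546))) (.leaf
    (nat_lit 297218))))) (.node (.node (.node (.node (.leaf (nat_lit 25609)) (.leaf (nat_lit
    363011))) (.leaf (nat_lit 179202))) (.node (.node (.leaf (nat_lit 104455)) (.leaf (nat_lit
    495618))) (.leaf (nat_lit 269322)))) (.node (.node (.node (.leaf (nat_lit 58377)) (.leaf
    (nat_lit 416260))) (.leaf (nat_lit 216841))) (.node (.node (.leaf (nat_lit 138754)) (.leaf
    (nat_lit 595203))) (.leaf (nat_lit 318978))))))) (.node (.node (.node (.node (.node (.node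
    (.leaf (nat_lit 6407)) (.leaf (nat_lit 329736))) (.node (.leaf (nat_lit 155913)) (.leaf
    (nat_lit 619273)))) (.node (.node (.leaf (nat_lit 72964)) (.leaf (nat_lit 452609))) (.leaf
    (nat_lit 231944)))) (.node (.node (.node (.leaf (nat_lit 38407)) (.leaf (nat_lit 377863)))
    (.leaf (nat_lit 192258))) (.node (.node (.leaf (nat_lit 117252)) (.leaf (nat_lit 535554)))
    (.leaf (nat_lit 286471))))) (.node (.node (.node (.node (.leaf (nat_lit 22024)) (.leaf (nat_lit
    350979))) (.leaf (nat_lit 175626))) (.node (.node (.leaf (nat_lit 100873)) (.leaf (nat_lit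
    486408))) (.leaf (nat_lit 262151)))) (.node (.node (.node (.leaf (nat_lit 54530)) (.leaf
    (nat_lit 404227))) (.leaf (nat_lit 213250))) (.node (.node (.leaf (nat_lit 133386)) (.leaf
    (nat_lit 582663))) (.leaf (nat_lit 312836)))))) (.node (.node (.node (.node (.node (.leaf
    (nat_lit 14338)) (.leaf (nat_lit 341512))) (.leaf (nat_lit 162049))) (.node (.node (.leaf
    (nat_lit 84999)) (.leaf (nat_lit 467207))) (.leaf (nat_lit 244234)))) (.node (.node (.node
    (.leaf (nat_lit 48906)) (.leaf (nat_lit 389635))) (.leaf (nat_lit 198403))) (.node (.node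
    (.leaf (nat_lit 123906)) (.leaf (nat_lit 552969))) (.leaf (nat_lit 306698))))) (.node (.node
    (.node (.node (.leaf (nat_lit 30465)) (.leaf (nat_lit 368132))) (.leaf (nat_lit 185354)))
    (.node (.node (.leaf (nat_lit 106759)) (.leaf (nat_lit 504067))) (.leaf (nat_lit 279305))))
    (.node (.node (.node (.leaf (nat_lit 63753)) (.leaf (nat_lit 428548))) (.leaf (nat_lit
    219145))) (.node (.node (.leaf (nat_lit 143882)) (.leaf (nat_lit 599555))) (.leaf (nat_lit
    322561))))))))) (.node (.node (.node (.node (.node (.node (.node (.node (.leaf (nat_lit 1539))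
    (.leaf (nat_lit 325633))) (.node (.leaf (nat_lit 150279)) (.leaf (nat_lit 605186)))) (.node
    (.node (.leaf (nat_lit 67593)) (.leaf (nat_lit 439817))) (.leaf (nat_lit 221962)))) (.node
    (.node (.node (.leaf (nat_lit 32515)) (.leaf (nat_lit 372231))) (.leaf (nat_lit 187658)))
    (.node (.node (.leaf (nat_lit 109060)) (.leaf (nat_lit 516872))) (.leaf (nat_lit 282119)))))
    (.node (.node (.node (.node (.leaf (nat_lit 16643)) (.leaf (nat_lit 344584))) (.leaf (nat_lit
    170500))) (.node (.node (.leaf (nat_lit 93186)) (.leaf (nat_lit 472067))) (.leaf (nat_lit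
    250376)))) (.node (.node (.node (.leaf (nat_lit 51464)) (.leaf (nat_lit 393730))) (.leaf
    (nat_lit 206089))) (.node (.node (.leaf (nat_lit 126474)) (.leaf (nat_lit 559369))) (.leaf
    (nat_lit 309249)))))) (.node (.node (.node (.node (.node (.leaf (nat_lit 9987)) (.leaf (nat_lit
    334856))) (.node (.leaf (nat_lit 157962)) (.leaf (nat_lit 632074)))) (.node (.node (.leaf
    (nat_lit 79363)) (.leaf (nat_lit 456707))) (.leaf (nat_lit 236292)))) (.node (.node (.node
    (.leaf (nat_lit 40712)) (.leaf (nat_lit 384007))) (.leaf (nat_lit 194052))) (.node (.node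
    (.leaf (nat_lit 119809)) (.leaf (nat_lit 543234))) (.leaf (nat_lit 294151))))) (.node (.node
    (.node (.node (.leaf (nat_lit 24839)) (.leaf (nat_lit 361985))) (.leaf (nat_lit 177665)))
    (.node (.node (.leaf (nat_lit 103431)) (.leaf (nat_lit 492036))) (.leaf (nat_lit 268807))))
    (.node (.node (.node (.leaf (nat_lit 57859)) (.leaf (nat_lit 414721))) (.leaf (nat_lit
    215562))) (.node (.node (.leaf (nat_lit 137994)) (.leaf (nat_lit 593927))) (.leaf (nat_lit
    318209))))))) (.node (.node (.node (.node (.node (.node (.leaf (nat_lit 5377)) (.leaf (nat_lit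
    329220))) (.node (.leaf (nat_lit 154888)) (.leaf (nat_lit 618249)))) (.node (.node (.leaf
    (nat_lit 71688)) (.leaf (nat_lit 451079))) (.leaf (nat_lit 230403)))) (.node (.node (.node
    (.leaf (nat_lit 37895)) (.leaf (nat_lit 375553))) (.leaf (nat_lit 191498))) (.node (.node
    (.leaf (nat_lit 116484)) (.leaf (nat_lit 534532))) (.leaf (nat_lit 285700))))) (.node (.node
    (.node (.node (.leaf (nat_lit 20743)) (.leaf (nat_lit 349185))) (.leaf (nat_lit 175107)))
    (.node (.node (.leaf (nat_lit 100359)) (.leaf (nat_lit 484615))) (.leaf (nat_lit 258826))))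
    (.node (.node (.node (.leaf (nat_lit 53512)) (.leaf (nat_lit 402952))) (.leaf (nat_lit
    212490))) (.node (.node (.leaf (nat_lit 132354)) (.leaf (nat_lit 574471))) (.leaf (nat_lit
    312074)))))) (.node (.node (.node (.node (.node (.leaf (nat_lit 13828)) (.leaf (nat_lit
    340232))) (.leaf (nat_lit 160516))) (.node (.node (.leaf (nat_lit 84234)) (.leaf (nat_lit
    466434))) (.leaf (nat_lit 243202)))) (.node (.node (.node (.leaf (nat_lit 47368)) (.leaf
    (nat_lit 388618))) (.leaf (nat_lit 197377))) (.node (.node (.leaf (nat_lit 122883)) (.leaf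
    (nat_lit 550660))) (.leaf (nat_lit 302596))))) (.node (.node (.node (.node (.leaf (nat_lit
    29441)) (.leaf (nat_lit 367618))) (.leaf (nat_lit 182537))) (.node (.node (.leaf (nat_lit
    106249)) (.leaf (nat_lit 502274))) (.leaf (nat_lit 276490)))) (.node (.node (.node (.leaf
    (nat_lit 62984)) (.leaf (nat_lit 425481))) (.leaf (nat_lit 218631))) (.node (.node (.leaf
    (nat_lit 142858)) (.leaf (nat_lit 598274))) (.leaf (nat_lit 321539)))))))) (.node (.node (.node
    (.node (.node (.node (.node (.leaf (nat_lit 3335)) (.leaf (nat_lit 327943))) (.node (.leaf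
    (nat_lit 153090)) (.leaf (nat_lit 610562)))) (.node (.node (.leaf (nat_lit 69130)) (.leaf
    (nat_lit 444930))) (.leaf (nat_lit 228106)))) (.node (.node (.node (.leaf (nat_lit 36097))
    (.leaf (nat_lit 373514))) (.leaf (nat_lit 189706))) (.node (.node (.leaf (nat_lit 111106))
    (.leaf (nat_lit 531204))) (.leaf (nat_lit 284169))))) (.node (.node (.node (.node (.leaf
    (nat_lit 18953)) (.leaf (nat_lit 347402))) (.leaf (nat_lit 172546))) (.node (.node (.leaf
    (nat_lit 97287)) (.leaf (nat_lit 480258))) (.leaf (nat_lit 254218)))) (.node (.node (.node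
    (.leaf (nat_lit 52488)) (.leaf (nat_lit 400642))) (.leaf (nat_lit 209665))) (.node (.node
    (.leaf (nat_lit 129027)) (.leaf (nat_lit 565512))) (.leaf (nat_lit 310791)))))) (.node (.node
    (.node (.node (.node (.leaf (nat_lit 11784)) (.leaf (nat_lit 336904))) (.leaf (nat_lit
    159233))) (.node (.node (.leaf (nat_lit 80642)) (.leaf (nat_lit 459268))) (.leaf (nat_lit
    238338)))) (.node (.node (.node (.leaf (nat_lit 43785)) (.leaf (nat_lit 386570))) (.leaf
    (nat_lit 195076))) (.node (.node (.leaf (nat_lit 120833)) (.leaf (nat_lit 546569))) (.leaf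
    (nat_lit 299265))))) (.node (.node (.node (.node (.leaf (nat_lit 27913)) (.leaf (nat_lit
    364034))) (.leaf (nat_lit 181001))) (.node (.node (.leaf (nat_lit 104969)) (.leaf (nat_lit
    496899))) (.leaf (nat_lit 272388)))) (.node (.node (.node (.leaf (nat_lit 58888)) (.leaf
    (nat_lit 419074))) (.leaf (nat_lit 217351))) (.node (.node (.leaf (nat_lit 139780)) (.leaf
    (nat_lit 595978))) (.leaf (nat_lit 320001))))))) (.node (.node (.node (.node (.node (.node
    (.leaf (nat_lit 7683)) (.leaf (nat_lit 331524))) (.node (.leaf (nat_lit 156675)) (.leaf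
    (nat_lit 622593)))) (.node (.node (.leaf (nat_lit 75784)) (.leaf (nat_lit 453635))) (.leaf
    (nat_lit 233730)))) (.node (.node (.node (.leaf (nat_lit 39170)) (.leaf (nat_lit 379144)))
    (.leaf (nat_lit 193026))) (.node (.node (.leaf (nat_lit 118531)) (.leaf (nat_lit 537608)))
    (.leaf (nat_lit 288009))))) (.node (.node (.node (.node (.leaf (nat_lit 23300)) (.leaf (nat_lit
    354817))) (.leaf (nat_lit 176393))) (.node (.node (.leaf (nat_lit 101891)) (.leaf (nat_lit
    489479))) (.leaf (nat_lit 263940)))) (.node (.node (.node (.leaf (nat_lit 55811)) (.leaf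
    (nat_lit 406793))) (.leaf (nat_lit 214018))) (.node (.node (.leaf (nat_lit 134154)) (.leaf
    (nat_lit 588295))) (.leaf (nat_lit 314121)))))) (.node (.node (.node (.node (.node (.leaf
    (nat_lit 14850)) (.leaf (nat_lit 342791))) (.leaf (nat_lit 164873))) (.node (.node (.leaf
    (nat_lit 86787)) (.leaf (nat_lit 469507))) (.leaf (nat_lit 246531)))) (.node (.node (.node
    (.leaf (nat_lit 49928)) (.leaf (nat_lit 391169))) (.leaf (nat_lit 204547))) (.node (.node
    (.leaf (nat_lit 124682)) (.leaf (nat_lit 555784))) (.leaf (nat_lit 307208))))) (.node (.node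
    (.node (.node (.leaf (nat_lit 31241)) (.leaf (nat_lit 369160))) (.leaf (nat_lit 186121)))
    (.node (.node (.leaf (nat_lit 107273)) (.leaf (nat_lit 509960))) (.leaf (nat_lit 280073))))
    (.node (.node (.node (.leaf (nat_lit 65281)) (.leaf (nat_lit 433154))) (.leaf (nat_lit
    219656))) (.node (.node (.leaf (nat_lit 145665)) (.leaf (nat_lit 602372))) (.leaf (nat_lit
    323587)))))))))))) (.node (.node (.node (.node (.node (.node (.node (.node (.node (.node (.node
    (.leaf (nat_lit 9)) (.leaf (nat_lit 324100))) (.node (.leaf (nat_lit 146698)) (.leaf (nat_lit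
    602884)))) (.node (.node (.leaf (nat_lit 65799)) (.leaf (nat_lit 433665))) (.leaf (nat_lit
    219912)))) (.node (.node (.node (.leaf (nat_lit 31490)) (.leaf (nat_lit 369921))) (.leaf
    (nat_lit 186633))) (.node (.node (.leaf (nat_lit 107522)) (.leaf (nat_lit 512260))) (.leaf
    (nat_lit 280330))))) (.node (.node (.node (.node (.leaf (nat_lit 15105)) (.leaf (nat_lit
    343303))) (.leaf (nat_lit 166659))) (.node (.node (.leaf (nat_lit 88071)) (.leaf (nat_lit
    469763))) (.leaf (nat_lit 249090)))) (.node (.node (.node (.leaf (nat_lit 50183)) (.leaf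
    (nat_lit 391178))) (.leaf (nat_lit 204803))) (.node (.node (.leaf (nat_lit 124937)) (.leaf
    (nat_lit 556548))) (.leaf (nat_lit 307713)))))) (.node (.node (.node (.node (.node (.leaf
    (nat_lit 7944)) (.leaf (nat_lit 332291))) (.node (.leaf (nat_lit 156932)) (.leaf (nat_lit
    623364)))) (.node (.node (.leaf (nat_lit 76553)) (.leaf (nat_lit 454915))) (.leaf (nat_lit
    233991)))) (.node (.node (.node (.leaf (nat_lit 39683)) (.leaf (nat_lit 379908))) (.leaf
    (nat_lit 193281))) (.node (.node (.leaf (nat_lit 118538)) (.leaf (nat_lit 538115))) (.leaf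
    (nat_lit 288513))))) (.node (.node (.node (.node (.leaf (nat_lit 23561)) (.leaf (nat_lit
    359946))) (.leaf (nat_lit 176642))) (.node (.node (.leaf (nat_lit 102152)) (.leaf (nat_lit
    489737))) (.leaf (nat_lit 265224)))) (.node (.node (.node (.leaf (nat_lit 56068)) (.leaf
    (nat_lit 407304))) (.leaf (nat_lit 214537))) (.node (.node (.leaf (nat_lit 134658)) (.leaf
    (nat_lit 589831))) (.leaf (nat_lit 314370))))))) (.node (.node (.node (.node (.node (.node
    (.leaf (nat_lit 4103)) (.leaf (nat_lit 328199))) (.node (.leaf (nat_lit 153353)) (.leaf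
    (nat_lit 613385)))) (.node (.node (.leaf (nat_lit 69633)) (.leaf (nat_lit 445442))) (.leaf
    (nat_lit 228362)))) (.node (.node (.node (.leaf (nat_lit 36104)) (.leaf (nat_lit 373769)))
    (.leaf (nat_lit 189959))) (.node (.node (.leaf (nat_lit 115459)) (.leaf (nat_lit 531977)))
    (.leaf (nat_lit 284426))))) (.node (.node (.node (.node (.leaf (nat_lit 19209)) (.leaf (nat_lit
    347906))) (.leaf (nat_lit 172809))) (.node (.node (.leaf (nat_lit 97540)) (.leaf (nat_lit
    481281))) (.leaf (nat_lit 254471)))) (.node (.node (.node (.leaf (nat_lit 52745)) (.leaf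
    (nat_lit 401162))) (.leaf (nat_lit 209672))) (.node (.node (.leaf (nat_lit 129034)) (.leaf
    (nat_lit 566019))) (.leaf (nat_lit 311042)))))) (.node (.node (.node (.node (.node (.leaf
    (nat_lit 12041)) (.leaf (nat_lit 337411))) (.leaf (nat_lit 159240))) (.node (.node (.leaf
    (nat_lit 83207)) (.leaf (nat_lit 460039))) (.leaf (nat_lit 238852)))) (.node (.node (.node
    (.leaf (nat_lit 44807)) (.leaf (nat_lit 386825))) (.leaf (nat_lit 195593))) (.node (.node
    (.leaf (nat_lit 120842)) (.leaf (nat_lit 546825))) (.leaf (nat_lit 299786))))) (.node (.node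
    (.node (.node (.leaf (nat_lit 28170)) (.leaf (nat_lit 364804))) (.leaf (nat_lit 181258)))
    (.node (.node (.leaf (nat_lit 105224)) (.leaf (nat_lit 497416))) (.leaf (nat_lit 274953))))
    (.node (.node (.node (.leaf (nat_lit 59144)) (.leaf (nat_lit 420612))) (.leaf (nat_lit
    217610))) (.node (.node (.leaf (nat_lit 140036)) (.leaf (nat_lit 596484))) (.leaf (nat_lit
    320008)))))))) (.node (.node (.node (.node (.node (.node (.node (.leaf (nat_lit 1802)) (.leaf
    (nat_lit 326401))) (.node (.leaf (nat_lit 150535)) (.leaf (nat_lit 606209)))) (.node (.node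
    (.leaf (nat_lit 67844)) (.leaf (nat_lit 440328))) (.leaf (nat_lit 222723)))) (.node (.node
    (.node (.leaf (nat_lit 32771)) (.leaf (nat_lit 372487))) (.leaf (nat_lit 188161))) (.node
    (.node (.leaf (nat_lit 109575)) (.leaf (nat_lit 517895))) (.leaf (nat_lit 282378))))) (.node
    (.node (.node (.node (.leaf (nat_lit 16900)) (.leaf (nat_lit 345092))) (.leaf (nat_lit
    171017))) (.node (.node (.leaf (nat_lit 94983)) (.leaf (nat_lit 472836))) (.leaf (nat_lit
    250889)))) (.node (.node (.node (.leaf (nat_lit 51719)) (.leaf (nat_lit 394498))) (.leaf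
    (nat_lit 206594))) (.node (.node (.leaf (nat_lit 127241)) (.leaf (nat_lit 561673))) (.leaf
    (nat_lit 309770)))))) (.node (.node (.node (.node (.node (.leaf (nat_lit 9994)) (.leaf (nat_lit
    335624))) (.leaf (nat_lit 158217))) (.node (.node (.leaf (nat_lit 79370)) (.leaf (nat_lit
    456963))) (.leaf (nat_lit 236554)))) (.node (.node (.node (.leaf (nat_lit 41217)) (.leaf
    (nat_lit 384516))) (.leaf (nat_lit 194307))) (.node (.node (.leaf (nat_lit 119818)) (.leaf
    (nat_lit 544772))) (.leaf (nat_lit 295432))))) (.node (.node (.node (.node (.leaf (nat_lit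
    25090)) (.leaf (nat_lit 362242))) (.leaf (nat_lit 177922))) (.node (.node (.leaf (nat_lit
    103684)) (.leaf (nat_lit 493316))) (.leaf (nat_lit 269060)))) (.node (.node (.node (.leaf
    (nat_lit 58115)) (.leaf (nat_lit 415234))) (.leaf (nat_lit 216065))) (.node (.node (.leaf
    (nat_lit 138497)) (.leaf (nat_lit 594185))) (.leaf (nat_lit 318471))))))) (.node (.node (.node
    (.node (.node (.node (.leaf (nat_lit 5633)) (.leaf (nat_lit 329476))) (.node (.leaf (nat_lit
    155395)) (.leaf (nat_lit 618498)))) (.node (.node (.leaf (nat_lit 72199)) (.leaf (nat_lit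
    451841))) (.leaf (nat_lit 231689)))) (.node (.node (.node (.leaf (nat_lit 38148)) (.leaf
    (nat_lit 377095))) (.leaf (nat_lit 192001))) (.node (.node (.leaf (nat_lit 116995)) (.leaf
    (nat_lit 534793))) (.leaf (nat_lit 286211))))) (.node (.node (.node (.node (.leaf (nat_lit
    21769)) (.leaf (nat_lit 349704))) (.leaf (nat_lit 175363))) (.node (.node (.leaf (nat_lit
    100612)) (.leaf (nat_lit 485121))) (.leaf (nat_lit 259330)))) (.node (.node (.node (.leaf
    (nat_lit 54019)) (.leaf (nat_lit 403458))) (.leaf (nat_lit 212993))) (.node (.node (.leaf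
    (nat_lit 133124)) (.leaf (nat_lit 576008))) (.leaf (nat_lit 312327)))))) (.node (.node (.node
    (.node (.node (.leaf (nat_lit 14083)) (.leaf (nat_lit 341001))) (.leaf (nat_lit 161032)))
    (.node (.node (.leaf (nat_lit 84489)) (.leaf (nat_lit 466690))) (.leaf (nat_lit 243713))))
    (.node (.node (.node (.leaf (nat_lit 47875)) (.leaf (nat_lit 388874))) (.leaf (nat_lit
    197636))) (.node (.node (.leaf (nat_lit 123140)) (.leaf (nat_lit 551172))) (.leaf (nat_lit
    303113))))) (.node (.node (.node (.node (.leaf (nat_lit 29698)) (.leaf (nat_lit 367873)))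
    (.leaf (nat_lit 182786))) (.node (.node (.leaf (nat_lit 106498)) (.leaf (nat_lit 503050)))
    (.leaf (nat_lit 276993)))) (.node (.node (.node (.leaf (nat_lit 63491)) (.leaf (nat_lit
    427015))) (.leaf (nat_lit 218884))) (.node (.node (.leaf (nat_lit 143625)) (.leaf (nat_lit
    598792))) (.leaf (nat_lit 321795))))))))) (.node (.node (.node (.node (.node (.node (.node
    (.node (.leaf (nat_lit 1033)) (.leaf (nat_lit 324872))) (.node (.leaf (nat_lit 149002)) (.leaf
    (nat_lit 604419)))) (.node (.node (.leaf (nat_lit 67080)) (.leaf (nat_lit 436999))) (.leaf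
    (nat_lit 221441)))) (.node (.node (.node (.leaf (nat_lit 32008)) (.leaf (nat_lit 371716)))
    (.leaf (nat_lit 187143))) (.node (.node (.leaf (nat_lit 108296)) (.leaf (nat_lit 515847)))
    (.leaf (nat_lit 281858))))) (.node (.node (.node (.node (.leaf (nat_lit 16129)) (.leaf (nat_lit
    344068))) (.leaf (nat_lit 169994))) (.node (.node (.leaf (nat_lit 90887)) (.leaf (nat_lit
    471042))) (.leaf (nat_lit 249863)))) (.node (.node (.node (.leaf (nat_lit 51207)) (.leaf
    (nat_lit 392968))) (.leaf (nat_lit 205569))) (.node (.node (.leaf (nat_lit 126211)) (.leaf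
    (nat_lit 558599))) (.leaf (nat_lit 308738)))))) (.node (.node (.node (.node (.node (.leaf
    (nat_lit 8713)) (.leaf (nat_lit 333322))) (.node (.leaf (nat_lit 157450)) (.leaf (nat_lit
    628228)))) (.node (.node (.leaf (nat_lit 78339)) (.leaf (nat_lit 455943))) (.leaf (nat_lit
    235011)))) (.node (.node (.node (.leaf (nat_lit 40455)) (.leaf (nat_lit 383491))) (.leaf
    (nat_lit 193795))) (.node (.node (.leaf (nat_lit 119306)) (.leaf (nat_lit 541961))) (.leaf
    (nat_lit 289539))))) (.node (.node (.node (.node (.leaf (nat_lit 24330)) (.leaf (nat_lit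
    360962))) (.leaf (nat_lit 177161))) (.node (.node (.leaf (nat_lit 102916)) (.leaf (nat_lit
    490504))) (.leaf (nat_lit 267016)))) (.node (.node (.node (.leaf (nat_lit 57351)) (.leaf
    (nat_lit 411140))) (.leaf (nat_lit 215297))) (.node (.node (.leaf (nat_lit 135940)) (.leaf
    (nat_lit 592906))) (.leaf (nat_lit 317447))))))) (.node (.node (.node (.node (.node (.node
    (.leaf (nat_lit 4867)) (.leaf (nat_lit 328963))) (.node (.leaf (nat_lit 154371)) (.leaf
    (nat_lit 617482)))) (.node (.node (.leaf (nat_lit 70145)) (.leaf (nat_lit 450818))) (.leaf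
    (nat_lit 229378)))) (.node (.node (.node (.leaf (nat_lit 37634)) (.leaf (nat_lit 374532)))
    (.leaf (nat_lit 190729))) (.node (.node (.leaf (nat_lit 115975)) (.leaf (nat_lit 533763)))
    (.leaf (nat_lit 285188))))) (.node (.node (.node (.node (.leaf (nat_lit 20481)) (.leaf (nat_lit
    348426))) (.leaf (nat_lit 174338))) (.node (.node (.leaf (nat_lit 98563)) (.leaf (nat_lit
    482823))) (.leaf (nat_lit 258305)))) (.node (.node (.node (.leaf (nat_lit 53255)) (.leaf
    (nat_lit 402186))) (.leaf (nat_lit 210689))) (.node (.node (.leaf (nat_lit 130051)) (.leaf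
    (nat_lit 567297))) (.leaf (nat_lit 311812)))))) (.node (.node (.node (.node (.node (.leaf
    (nat_lit 12803)) (.leaf (nat_lit 339719))) (.leaf (nat_lit 160001))) (.node (.node (.leaf
    (nat_lit 83975)) (.leaf (nat_lit 465162))) (.leaf (nat_lit 242434)))) (.node (.node (.node
    (.leaf (nat_lit 46087)) (.leaf (nat_lit 388103))) (.leaf (nat_lit 196618))) (.node (.node
    (.leaf (nat_lit 121602)) (.leaf (nat_lit 548866))) (.leaf (nat_lit 301575))))) (.node (.node
    (.node (.node (.leaf (nat_lit 28680)) (.leaf (nat_lit 367105))) (.leaf (nat_lit 182018)))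
    (.node (.node (.leaf (nat_lit 105988)) (.leaf (nat_lit 501002))) (.leaf (nat_lit 275969))))
    (.node (.node (.node (.leaf (nat_lit 62210)) (.leaf (nat_lit 423940))) (.leaf (nat_lit
    218370))) (.node (.node (.leaf (nat_lit 142083)) (.leaf (nat_lit 597505))) (.leaf (nat_lit
    320772)))))))) (.node (.node (.node (.node (.node (.node (.node (.leaf (nat_lit 3073)) (.leaf
    (nat_lit 327431))) (.node (.leaf (nat_lit 152833)) (.leaf (nat_lit 608770)))) (.node (.node
    (.leaf (nat_lit 68867)) (.leaf (nat_lit 444169))) (.leaf (nat_lit 227594)))) (.node (.node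
    (.node (.leaf (nat_lit 35594)) (.leaf (nat_lit 373251))) (.leaf (nat_lit 189187))) (.node
    (.node (.leaf (nat_lit 110593)) (.leaf (nat_lit 529666))) (.leaf (nat_lit 283655))))) (.node
    (.node (.node (.node (.leaf (nat_lit 18185)) (.leaf (nat_lit 346890))) (.leaf (nat_lit
    172034))) (.node (.node (.leaf (nat_lit 96520)) (.leaf (nat_lit 475137))) (.leaf (nat_lit
    252676)))) (.node (.node (.node (.leaf (nat_lit 52231)) (.leaf (nat_lit 399623))) (.leaf
    (nat_lit 208906))) (.node (.node (.leaf (nat_lit 128010)) (.leaf (nat_lit 563210))) (.leaf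
    (nat_lit 310280)))))) (.node (.node (.node (.node (.node (.leaf (nat_lit 11266)) (.leaf
    (nat_lit 336393))) (.leaf (nat_lit 158730))) (.node (.node (.leaf (nat_lit 80138)) (.leaf
    (nat_lit 457991))) (.leaf (nat_lit 237570)))) (.node (.node (.node (.leaf (nat_lit 42503))
    (.leaf (nat_lit 386055))) (.leaf (nat_lit 194819))) (.node (.node (.leaf (nat_lit 120328))
    (.leaf (nat_lit 546055))) (.leaf (nat_lit 297985))))) (.node (.node (.node (.node (.leaf
    (nat_lit 25858)) (.leaf (nat_lit 363268))) (.leaf (nat_lit 180234))) (.node (.node (.leaf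
    (nat_lit 104708)) (.leaf (nat_lit 495874))) (.leaf (nat_lit 269832)))) (.node (.node (.node
    (.leaf (nat_lit 58628)) (.leaf (nat_lit 417028))) (.leaf (nat_lit 217090))) (.node (.node
    (.leaf (nat_lit 139523)) (.leaf (nat_lit 595464))) (.leaf (nat_lit 319490))))))) (.node (.node
    (.node (.node (.node (.node (.leaf (nat_lit 6916)) (.leaf (nat_lit 330243))) (.node (.leaf
    (nat_lit 156164)) (.leaf (nat_lit 619779)))) (.node (.node (.leaf (nat_lit 73732)) (.leaf
    (nat_lit 452867))) (.leaf (nat_lit 232199)))) (.node (.node (.node (.leaf (nat_lit 38660))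
    (.leaf (nat_lit 378120))) (.leaf (nat_lit 192521))) (.node (.node (.leaf (nat_lit 117511))
    (.leaf (nat_lit 536321))) (.leaf (nat_lit 286724))))) (.node (.node (.node (.node (.leaf
    (nat_lit 23043)) (.leaf (nat_lit 351236))) (.leaf (nat_lit 175882))) (.node (.node (.leaf
    (nat_lit 101128)) (.leaf (nat_lit 487170))) (.leaf (nat_lit 262407)))) (.node (.node (.node
    (.leaf (nat_lit 55041)) (.leaf (nat_lit 406279))) (.leaf (nat_lit 213513))) (.node (.node
    (.leaf (nat_lit 133642)) (.leaf (nat_lit 582920))) (.leaf (nat_lit 313353)))))) (.node (.node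
    (.node (.node (.node (.leaf (nat_lit 14593)) (.leaf (nat_lit 342019))) (.leaf (nat_lit
    162306))) (.node (.node (.leaf (nat_lit 85252)) (.leaf (nat_lit 467972))) (.leaf (nat_lit
    244738)))) (.node (.node (.node (.leaf (nat_lit 49673)) (.leaf (nat_lit 390402))) (.leaf
    (nat_lit 198916))) (.node (.node (.leaf (nat_lit 124423)) (.leaf (nat_lit 553732))) (.leaf
    (nat_lit 306951))))) (.node (.node (.node (.node (.leaf (nat_lit 30472)) (.leaf (nat_lit
    368387))) (.leaf (nat_lit 185610))) (.node (.node (.leaf (nat_lit 107010)) (.leaf (nat_lit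
    505090))) (.leaf (nat_lit 279554)))) (.node (.node (.node (.leaf (nat_lit 64520)) (.leaf
    (nat_lit 430337))) (.leaf (nat_lit 219401))) (.node (.node (.leaf (nat_lit 144394)) (.leaf
    (nat_lit 600321))) (.leaf (nat_lit 322818)))))))))) (.node (.node (.node (.node (.node (.node
    (.node (.node (.node (.leaf (nat_lit 519)) (.leaf (nat_lit 324618))) (.node (.leaf (nat_lit
    147201)) (.leaf (nat_lit 603652)))) (.node (.node (.leaf (nat_lit 66057)) (.leaf (nat_lit
    435204))) (.leaf (nat_lit 220682)))) (.node (.node (.node (.leaf (nat_lit 31746)) (.leaf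
    (nat_lit 370948))) (.leaf (nat_lit 186887))) (.node (.node (.leaf (nat_lit 107778)) (.leaf
    (nat_lit 513027))) (.leaf (nat_lit 281353))))) (.node (.node (.node (.node (.leaf (nat_lit
    15619)) (.leaf (nat_lit 343812))) (.leaf (nat_lit 169482))) (.node (.node (.leaf (nat_lit
    89607)) (.leaf (nat_lit 470274))) (.leaf (nat_lit 249351)))) (.node (.node (.node (.leaf
    (nat_lit 50690)) (.leaf (nat_lit 392200))) (.leaf (nat_lit 205065))) (.node (.node (.leaf
    (nat_lit 125443)) (.leaf (nat_lit 557577))) (.leaf (nat_lit 308234)))))) (.node (.node (.node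
    (.node (.node (.leaf (nat_lit 8452)) (.leaf (nat_lit 332808))) (.node (.leaf (nat_lit 157194))
    (.leaf (nat_lit 624900)))) (.node (.node (.leaf (nat_lit 77831)) (.leaf (nat_lit 455428)))
    (.leaf (nat_lit 234503)))) (.node (.node (.node (.leaf (nat_lit 40201)) (.leaf (nat_lit
    382727))) (.leaf (nat_lit 193539))) (.node (.node (.leaf (nat_lit 118794)) (.leaf (nat_lit
    539137))) (.leaf (nat_lit 289027))))) (.node (.node (.node (.node (.leaf (nat_lit 24067))
    (.leaf (nat_lit 360450))) (.leaf (nat_lit 176898))) (.node (.node (.leaf (nat_lit 102660))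
    (.leaf (nat_lit 490244))) (.leaf (nat_lit 266244)))) (.node (.node (.node (.leaf (nat_lit
    57089)) (.leaf (nat_lit 410375))) (.leaf (nat_lit 215041))) (.node (.node (.leaf (nat_lit
    134914)) (.leaf (nat_lit 592644))) (.leaf (nat_lit 315395))))))) (.node (.node (.node (.node
    (.node (.node (.leaf (nat_lit 4611)) (.leaf (nat_lit 328456))) (.node (.leaf (nat_lit 154115))
    (.leaf (nat_lit 616713)))) (.node (.node (.leaf (nat_lit 69889)) (.leaf (nat_lit 447498)))
    (.leaf (nat_lit 228865)))) (.node (.node (.node (.leaf (nat_lit 36610)) (.leaf (nat_lit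
    374276))) (.leaf (nat_lit 190215))) (.node (.node (.leaf (nat_lit 115715)) (.leaf (nat_lit
    532487))) (.leaf (nat_lit 284929))))) (.node (.node (.node (.node (.leaf (nat_lit 19977))
    (.leaf (nat_lit 348167))) (.leaf (nat_lit 173571))) (.node (.node (.leaf (nat_lit 97801))
    (.leaf (nat_lit 482056))) (.leaf (nat_lit 257032)))) (.node (.node (.node (.leaf (nat_lit
    53001)) (.leaf (nat_lit 401927))) (.leaf (nat_lit 210185))) (.node (.node (.leaf (nat_lit
    129543)) (.leaf (nat_lit 566787))) (.leaf (nat_lit 311304)))))) (.node (.node (.node (.node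
    (.node (.leaf (nat_lit 12297)) (.leaf (nat_lit 339208))) (.leaf (nat_lit 159745))) (.node
    (.node (.leaf (nat_lit 83464)) (.leaf (nat_lit 462087))) (.leaf (nat_lit 241930)))) (.node
    (.node (.node (.leaf (nat_lit 45064)) (.leaf (nat_lit 387587))) (.leaf (nat_lit 196097)))
    (.node (.node (.leaf (nat_lit 121098)) (.leaf (nat_lit 547843))) (.leaf (nat_lit 301065)))))
    (.node (.node (.node (.node (.leaf (nat_lit 28424)) (.leaf (nat_lit 366082))) (.leaf (nat_lit
    181762))) (.node (.node (.leaf (nat_lit 105732)) (.leaf (nat_lit 500488))) (.leaf (nat_lit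
    275465)))) (.node (.node (.node (.leaf (nat_lit 59652)) (.leaf (nat_lit 422147))) (.leaf
    (nat_lit 218114))) (.node (.node (.leaf (nat_lit 140553)) (.leaf (nat_lit 596993))) (.leaf
    (nat_lit 320264)))))))) (.node (.node (.node (.node (.node (.node (.node (.leaf (nat_lit 2569))
    (.leaf (nat_lit 326921))) (.node (.leaf (nat_lit 151306)) (.leaf (nat_lit 608003)))) (.node
    (.node (.leaf (nat_lit 68359)) (.leaf (nat_lit 443143))) (.leaf (nat_lit 223236)))) (.node
    (.node (.node (.leaf (nat_lit 33028)) (.leaf (nat_lit 372744))) (.leaf (nat_lit 188426)))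
    (.node (.node (.leaf (nat_lit 110083)) (.leaf (nat_lit 525831))) (.leaf (nat_lit 282882)))))
    (.node (.node (.node (.node (.leaf (nat_lit 17921)) (.leaf (nat_lit 346375))) (.leaf (nat_lit
    171273))) (.node (.node (.leaf (nat_lit 95746)) (.leaf (nat_lit 473346))) (.leaf (nat_lit
    251400)))) (.node (.node (.node (.leaf (nat_lit 51975)) (.leaf (nat_lit 399114))) (.leaf
    (nat_lit 208385))) (.node (.node (.leaf (nat_lit 127746)) (.leaf (nat_lit 561930))) (.leaf
    (nat_lit 310024)))))) (.node (.node (.node (.node (.node (.leaf (nat_lit 11010)) (.leaf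
    (nat_lit 336137))) (.leaf (nat_lit 158474))) (.node (.node (.leaf (nat_lit 79881)) (.leaf
    (nat_lit 457476))) (.leaf (nat_lit 237066)))) (.node (.node (.node (.leaf (nat_lit 42241))
    (.leaf (nat_lit 385543))) (.leaf (nat_lit 194563))) (.node (.node (.leaf (nat_lit 120074))
    (.leaf (nat_lit 545290))) (.leaf (nat_lit 296962))))) (.node (.node (.node (.node (.leaf
    (nat_lit 25354)) (.leaf (nat_lit 362756))) (.leaf (nat_lit 178947))) (.node (.node (.leaf
    (nat_lit 104200)) (.leaf (nat_lit 494339))) (.leaf (nat_lit 269321)))) (.node (.node (.node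
    (.leaf (nat_lit 58372)) (.leaf (nat_lit 416003))) (.leaf (nat_lit 216586))) (.node (.node
    (.leaf (nat_lit 138753)) (.leaf (nat_lit 594947))) (.leaf (nat_lit 318728))))))) (.node (.node
    (.node (.node (.node (.node (.leaf (nat_lit 6146)) (.leaf (nat_lit 329735))) (.node (.leaf
    (nat_lit 155908)) (.leaf (nat_lit 619018)))) (.node (.node (.leaf (nat_lit 72963)) (.leaf
    (nat_lit 452360))) (.leaf (nat_lit 231943)))) (.node (.node (.node (.leaf (nat_lit 38404))
    (.leaf (nat_lit 377607))) (.leaf (nat_lit 192257))) (.node (.node (.leaf (nat_lit 117251))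
    (.leaf (nat_lit 535304))) (.leaf (nat_lit 286468))))) (.node (.node (.node (.node (.leaf
    (nat_lit 22023)) (.leaf (nat_lit 350212))) (.leaf (nat_lit 175625))) (.node (.node (.leaf
    (nat_lit 100868)) (.leaf (nat_lit 486407))) (.leaf (nat_lit 262145)))) (.node (.node (.node
    (.leaf (nat_lit 54529)) (.leaf (nat_lit 403970))) (.leaf (nat_lit 213249))) (.node (.node
    (.leaf (nat_lit 133385)) (.leaf (nat_lit 579848))) (.leaf (nat_lit 312835)))))) (.node (.node
    (.node (.node (.node (.leaf (nat_lit 14337)) (.leaf (nat_lit 341511))) (.leaf (nat_lit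
    161794))) (.node (.node (.leaf (nat_lit 84996)) (.leaf (nat_lit 467201))) (.leaf (nat_lit
    244233)))) (.node (.node (.node (.leaf (nat_lit 48905)) (.leaf (nat_lit 389384))) (.leaf
    (nat_lit 198148))) (.node (.node (.leaf (nat_lit 123905)) (.leaf (nat_lit 552705))) (.leaf
    (nat_lit 306697))))) (.node (.node (.node (.node (.leaf (nat_lit 30218)) (.leaf (nat_lit
    368131))) (.leaf (nat_lit 185353))) (.node (.node (.leaf (nat_lit 106754)) (.leaf (nat_lit
    503816))) (.leaf (nat_lit 279050)))) (.node (.node (.node (.leaf (nat_lit 63748)) (.leaf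
    (nat_lit 428292))) (.leaf (nat_lit 219140))) (.node (.node (.leaf (nat_lit 143881)) (.leaf
    (nat_lit 599304))) (.leaf (nat_lit 322308))))))))) (.node (.node (.node (.node (.node (.node
    (.node (.node (.leaf (nat_lit 1290)) (.leaf (nat_lit 325385))) (.node (.leaf (nat_lit 150274))
    (.leaf (nat_lit 605185)))) (.node (.node (.leaf (nat_lit 67588)) (.leaf (nat_lit 439560)))
    (.leaf (nat_lit 221961)))) (.node (.node (.node (.leaf (nat_lit 32264)) (.leaf (nat_lit
    372225))) (.leaf (nat_lit 187657))) (.node (.node (.leaf (nat_lit 109059)) (.leaf (nat_lit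
    516871))) (.leaf (nat_lit 282114))))) (.node (.node (.node (.node (.leaf (nat_lit 16394))
    (.leaf (nat_lit 344583))) (.leaf (nat_lit 170499))) (.node (.node (.leaf (nat_lit 92936))
    (.leaf (nat_lit 471812))) (.leaf (nat_lit 250375)))) (.node (.node (.node (.leaf (nat_lit
    51463)) (.leaf (nat_lit 393729))) (.leaf (nat_lit 206082))) (.node (.node (.leaf (nat_lit
    126473)) (.leaf (nat_lit 559114))) (.leaf (nat_lit 309002)))))) (.node (.node (.node (.node
    (.node (.leaf (nat_lit 9736)) (.leaf (nat_lit 334090))) (.node (.leaf (nat_lit 157961)) (.leaf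
    (nat_lit 632073)))) (.node (.node (.leaf (nat_lit 78595)) (.leaf (nat_lit 456450))) (.leaf
    (nat_lit 236291)))) (.node (.node (.node (.leaf (nat_lit 40711)) (.leaf (nat_lit 383748)))
    (.leaf (nat_lit 194051))) (.node (.node (.leaf (nat_lit 119562)) (.leaf (nat_lit 542723)))
    (.leaf (nat_lit 293896))))) (.node (.node (.node (.node (.leaf (nat_lit 24834)) (.leaf (nat_lit
    361730))) (.leaf (nat_lit 177418))) (.node (.node (.leaf (nat_lit 103176)) (.leaf (nat_lit
    491522))) (.leaf (nat_lit 268551)))) (.node (.node (.node (.leaf (nat_lit 57608)) (.leaf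
    (nat_lit 413953))) (.leaf (nat_lit 215561))) (.node (.node (.leaf (nat_lit 137993)) (.leaf
    (nat_lit 593668))) (.leaf (nat_lit 317954))))))) (.node (.node (.node (.node (.node (.node
    (.leaf (nat_lit 5129)) (.leaf (nat_lit 329219))) (.node (.leaf (nat_lit 154887)) (.leaf
    (nat_lit 617986)))) (.node (.node (.leaf (nat_lit 71687)) (.leaf (nat_lit 451074))) (.leaf
    (nat_lit 230147)))) (.node (.node (.node (.leaf (nat_lit 37890)) (.leaf (nat_lit 375298)))
    (.leaf (nat_lit 191497))) (.node (.node (.leaf (nat_lit 116483)) (.leaf (nat_lit 534531)))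
    (.leaf (nat_lit 285699))))) (.node (.node (.node (.node (.leaf (nat_lit 20738)) (.leaf (nat_lit
    348929))) (.leaf (nat_lit 174850))) (.node (.node (.leaf (nat_lit 100104)) (.leaf (nat_lit
    484610))) (.leaf (nat_lit 258825)))) (.node (.node (.node (.leaf (nat_lit 53511)) (.leaf
    (nat_lit 402951))) (.leaf (nat_lit 212489))) (.node (.node (.leaf (nat_lit 131082)) (.leaf
    (nat_lit 569603))) (.leaf (nat_lit 312068)))))) (.node (.node (.node (.node (.node (.leaf
    (nat_lit 13827)) (.leaf (nat_lit 340231))) (.leaf (nat_lit 160515))) (.node (.node (.leaf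
    (nat_lit 84233)) (.leaf (nat_lit 465924))) (.leaf (nat_lit 243201)))) (.node (.node (.node
    (.leaf (nat_lit 47367)) (.leaf (nat_lit 388617))) (.leaf (nat_lit 197122))) (.node (.node
    (.leaf (nat_lit 122372)) (.leaf (nat_lit 550408))) (.leaf (nat_lit 302338))))) (.node (.node
    (.node (.node (.leaf (nat_lit 29194)) (.leaf (nat_lit 367617))) (.leaf (nat_lit 182282)))
    (.node (.node (.leaf (nat_lit 106242)) (.leaf (nat_lit 502025))) (.leaf (nat_lit 276489))))
    (.node (.node (.node (.leaf (nat_lit 62983)) (.leaf (nat_lit 424970))) (.leaf (nat_lit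
    218628))) (.node (.node (.leaf (nat_lit 142857)) (.leaf (nat_lit 598018))) (.leaf (nat_lit
    321283)))))))) (.node (.node (.node (.node (.node (.node (.node (.leaf (nat_lit 3330)) (.leaf
    (nat_lit 327938))) (.node (.leaf (nat_lit 153089)) (.leaf (nat_lit 610052)))) (.node (.node
    (.leaf (nat_lit 69129)) (.leaf (nat_lit 444929))) (.leaf (nat_lit 228105)))) (.node (.node
    (.node (.leaf (nat_lit 35848)) (.leaf (nat_lit 373513))) (.leaf (nat_lit 189705))) (.node
    (.node (.leaf (nat_lit 111105)) (.leaf (nat_lit 530692))) (.leaf (nat_lit 283912))))) (.node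
    (.node (.node (.node (.leaf (nat_lit 18948)) (.leaf (nat_lit 347401))) (.leaf (nat_lit
    172298))) (.node (.node (.leaf (nat_lit 97032)) (.leaf (nat_lit 479242))) (.leaf (nat_lit
    254217)))) (.node (.node (.node (.leaf (nat_lit 52487)) (.leaf (nat_lit 400130))) (.leaf
    (nat_lit 209418))) (.node (.node (.leaf (nat_lit 128776)) (.leaf (nat_lit 564738))) (.leaf
    (nat_lit 310786)))))) (.node (.node (.node (.node (.node (.leaf (nat_lit 11783)) (.leaf
    (nat_lit 336903))) (.leaf (nat_lit 158984))) (.node (.node (.leaf (nat_lit 80641)) (.leaf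
    (nat_lit 459009))) (.leaf (nat_lit 238337)))) (.node (.node (.node (.leaf (nat_lit 43779))
    (.leaf (nat_lit 386564))) (.leaf (nat_lit 195075))) (.node (.node (.leaf (nat_lit 120584))
    (.leaf (nat_lit 546312))) (.leaf (nat_lit 299018))))) (.node (.node (.node (.node (.leaf
    (nat_lit 26628)) (.leaf (nat_lit 363786))) (.leaf (nat_lit 180746))) (.node (.node (.leaf
    (nat_lit 104964)) (.leaf (nat_lit 496643))) (.leaf (nat_lit 271880)))) (.node (.node (.node
    (.leaf (nat_lit 58887)) (.leaf (nat_lit 418818))) (.leaf (nat_lit 217346))) (.node (.node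
    (.leaf (nat_lit 139779)) (.leaf (nat_lit 595977))) (.leaf (nat_lit 319752))))))) (.node (.node
    (.node (.node (.node (.node (.leaf (nat_lit 7176)) (.leaf (nat_lit 331265))) (.node (.leaf
    (nat_lit 156424)) (.leaf (nat_lit 622346)))) (.node (.node (.leaf (nat_lit 75783)) (.leaf
    (nat_lit 453380))) (.leaf (nat_lit 233729)))) (.node (.node (.node (.leaf (nat_lit 39169))
    (.leaf (nat_lit 379143))) (.leaf (nat_lit 193025))) (.node (.node (.leaf (nat_lit 118020))
    (.leaf (nat_lit 537607))) (.leaf (nat_lit 287490))))) (.node (.node (.node (.node (.leaf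
    (nat_lit 23299)) (.leaf (nat_lit 352001))) (.leaf (nat_lit 176385))) (.node (.node (.leaf
    (nat_lit 101636)) (.leaf (nat_lit 489219))) (.leaf (nat_lit 263428)))) (.node (.node (.node
    (.leaf (nat_lit 55556)) (.leaf (nat_lit 406787))) (.leaf (nat_lit 214017))) (.node (.node
    (.leaf (nat_lit 134153)) (.leaf (nat_lit 583688))) (.leaf (nat_lit 313858)))))) (.node (.node
    (.node (.node (.node (.leaf (nat_lit 14849)) (.leaf (nat_lit 342530))) (.leaf (nat_lit
    164618))) (.node (.node (.leaf (nat_lit 86017)) (.leaf (nat_lit 469255))) (.leaf (nat_lit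
    246282)))) (.node (.node (.node (.leaf (nat_lit 49927)) (.leaf (nat_lit 390914))) (.leaf
    (nat_lit 200963))) (.node (.node (.leaf (nat_lit 124681)) (.leaf (nat_lit 555783))) (.leaf
    (nat_lit 307207))))) (.node (.node (.node (.node (.leaf (nat_lit 30986)) (.leaf (nat_lit
    369159))) (.leaf (nat_lit 186115))) (.node (.node (.leaf (nat_lit 107266)) (.leaf (nat_lit
    509959))) (.leaf (nat_lit 279810)))) (.node (.node (.node (.leaf (nat_lit 65025)) (.leaf
    (nat_lit 432903))) (.leaf (nat_lit 219655))) (.node (.node (.leaf (nat_lit 145411)) (.leaf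
    (nat_lit 602371))) (.leaf (nat_lit 323330))))))))))) (.node (.node (.node (.node (.node (.node
    (.node (.node (.node (.node (.leaf (nat_lit 258)) (.leaf (nat_lit 324356))) (.node (.leaf
    (nat_lit 146953)) (.leaf (nat_lit 603401)))) (.node (.node (.leaf (nat_lit 66051)) (.leaf
    (nat_lit 434691))) (.leaf (nat_lit 220419)))) (.node (.node (.node (.leaf (nat_lit 31496))
    (.leaf (nat_lit 370433))) (.leaf (nat_lit 186881))) (.node (.node (.leaf (nat_lit 107530))
    (.leaf (nat_lit 512775))) (.leaf (nat_lit 280578))))) (.node (.node (.node (.node (.leaf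
    (nat_lit 15363)) (.leaf (nat_lit 343560))) (.leaf (nat_lit 166664))) (.node (.node (.leaf
    (nat_lit 89345)) (.leaf (nat_lit 469769))) (.leaf (nat_lit 249096)))) (.node (.node (.node
    (.leaf (nat_lit 50441)) (.leaf (nat_lit 391944))) (.leaf (nat_lit 204810))) (.node (.node
    (.leaf (nat_lit 125191)) (.leaf (nat_lit 557059))) (.leaf (nat_lit 307969)))))) (.node (.node
    (.node (.node (.node (.leaf (nat_lit 8200)) (.leaf (nat_lit 332802))) (.node (.leaf (nat_lit
    157188)) (.leaf (nat_lit 623875)))) (.node (.node (.leaf (nat_lit 76808)) (.leaf (nat_lit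
    455172))) (.leaf (nat_lit 234499)))) (.node (.node (.node (.leaf (nat_lit 39939)) (.leaf
    (nat_lit 382465))) (.leaf (nat_lit 193287))) (.node (.node (.leaf (nat_lit 118788)) (.leaf
    (nat_lit 538625))) (.leaf (nat_lit 288769))))) (.node (.node (.node (.node (.leaf (nat_lit
    23817)) (.leaf (nat_lit 360194))) (.leaf (nat_lit 176648))) (.node (.node (.leaf (nat_lit
    102408)) (.leaf (nat_lit 489987))) (.leaf (nat_lit 265988)))) (.node (.node (.node (.leaf
    (nat_lit 56839)) (.leaf (nat_lit 407560))) (.leaf (nat_lit 214793))) (.node (.node (.leaf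
    (nat_lit 134664)) (.leaf (nat_lit 592391))) (.leaf (nat_lit 314626))))))) (.node (.node (.node
    (.node (.node (.node (.leaf (nat_lit 4353)) (.leaf (nat_lit 328451))) (.node (.leaf (nat_lit
    153857)) (.leaf (nat_lit 614153)))) (.node (.node (.leaf (nat_lit 69639)) (.leaf (nat_lit
    446474))) (.leaf (nat_lit 228615)))) (.node (.node (.node (.leaf (nat_lit 36362)) (.leaf
    (nat_lit 374020))) (.leaf (nat_lit 190209))) (.node (.node (.leaf (nat_lit 115465)) (.leaf
    (nat_lit 532233))) (.leaf (nat_lit 284674))))) (.node (.node (.node (.node (.leaf (nat_lit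
    19459)) (.leaf (nat_lit 347912))) (.leaf (nat_lit 173065))) (.node (.node (.leaf (nat_lit
    97795)) (.leaf (nat_lit 481799))) (.leaf (nat_lit 256776)))) (.node (.node (.node (.leaf
    (nat_lit 52995)) (.leaf (nat_lit 401666))) (.leaf (nat_lit 209922))) (.node (.node (.leaf
    (nat_lit 129289)) (.leaf (nat_lit 566279))) (.leaf (nat_lit 311300)))))) (.node (.node (.node
    (.node (.node (.leaf (nat_lit 12291)) (.leaf (nat_lit 339202))) (.leaf (nat_lit 159497)))
    (.node (.node (.leaf (nat_lit 83458)) (.leaf (nat_lit 461571))) (.leaf (nat_lit 241418))))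
    (.node (.node (.node (.leaf (nat_lit 45058)) (.leaf (nat_lit 387335))) (.leaf (nat_lit
    195849))) (.node (.node (.leaf (nat_lit 121090)) (.leaf (nat_lit 547329))) (.leaf (nat_lit
    300042))))) (.node (.node (.node (.node (.leaf (nat_lit 28418)) (.leaf (nat_lit 365060)))
    (.leaf (nat_lit 181514))) (.node (.node (.leaf (nat_lit 105480)) (.leaf (nat_lit 497924)))
    (.leaf (nat_lit 275209)))) (.node (.node (.node (.leaf (nat_lit 59396)) (.leaf (nat_lit
    421633))) (.leaf (nat_lit 217866))) (.node (.node (.leaf (nat_lit 140291)) (.leaf (nat_lit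
    596740))) (.leaf (nat_lit 320258)))))))) (.node (.node (.node (.node (.node (.node (.node
    (.leaf (nat_lit 2306)) (.leaf (nat_lit 326657))) (.node (.leaf (nat_lit 151050)) (.leaf
    (nat_lit 606465)))) (.node (.node (.leaf (nat_lit 68103)) (.leaf (nat_lit 442116))) (.leaf
    (nat_lit 222979)))) (.node (.node (.node (.leaf (nat_lit 32777)) (.leaf (nat_lit 372738)))
    (.leaf (nat_lit 188420))) (.node (.node (.leaf (nat_lit 109827)) (.leaf (nat_lit 519687)))
    (.leaf (nat_lit 282634))))) (.node (.node (.node (.node (.leaf (nat_lit 17417)) (.leaf (nat_lit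
    345352))) (.leaf (nat_lit 171267))) (.node (.node (.leaf (nat_lit 95496)) (.leaf (nat_lit
    473090))) (.leaf (nat_lit 251144)))) (.node (.node (.node (.leaf (nat_lit 51969)) (.leaf
    (nat_lit 396290))) (.leaf (nat_lit 207108))) (.node (.node (.leaf (nat_lit 127489)) (.leaf
    (nat_lit 561924))) (.leaf (nat_lit 310018)))))) (.node (.node (.node (.node (.node (.leaf
    (nat_lit 10244)) (.leaf (nat_lit 336131))) (.leaf (nat_lit 158466))) (.node (.node (.leaf
    (nat_lit 79620)) (.leaf (nat_lit 456968))) (.leaf (nat_lit 236809)))) (.node (.node (.node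
    (.leaf (nat_lit 41473)) (.leaf (nat_lit 385282))) (.leaf (nat_lit 194313))) (.node (.node
    (.leaf (nat_lit 120066)) (.leaf (nat_lit 545027))) (.leaf (nat_lit 296458))))) (.node (.node
    (.node (.node (.leaf (nat_lit 25096)) (.leaf (nat_lit 362498))) (.leaf (nat_lit 178436)))
    (.node (.node (.leaf (nat_lit 103940)) (.leaf (nat_lit 493832))) (.leaf (nat_lit 269066))))
    (.node (.node (.node (.leaf (nat_lit 58120)) (.leaf (nat_lit 415747))) (.leaf (nat_lit
    216322))) (.node (.node (.leaf (nat_lit 138503)) (.leaf (nat_lit 594441))) (.leaf (nat_lit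
    318721))))))) (.node (.node (.node (.node (.node (.node (.leaf (nat_lit 5640)) (.leaf (nat_lit
    329480))) (.node (.leaf (nat_lit 155656)) (.leaf (nat_lit 618754)))) (.node (.node (.leaf
    (nat_lit 72707)) (.leaf (nat_lit 452098))) (.leaf (nat_lit 231937)))) (.node (.node (.node
    (.leaf (nat_lit 38152)) (.leaf (nat_lit 377351))) (.leaf (nat_lit 192007))) (.node (.node
    (.leaf (nat_lit 117001)) (.leaf (nat_lit 535041))) (.leaf (nat_lit 286215))))) (.node (.node
    (.node (.node (.leaf (nat_lit 22017)) (.leaf (nat_lit 349956))) (.leaf (nat_lit 175370)))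
    (.node (.node (.leaf (nat_lit 100618)) (.leaf (nat_lit 486151))) (.leaf (nat_lit 260617))))
    (.node (.node (.node (.leaf (nat_lit 54273)) (.leaf (nat_lit 403722))) (.leaf (nat_lit
    212999))) (.node (.node (.leaf (nat_lit 133130)) (.leaf (nat_lit 576264))) (.leaf (nat_lit
    312580)))))) (.node (.node (.node (.node (.node (.leaf (nat_lit 14089)) (.leaf (nat_lit
    341255))) (.leaf (nat_lit 161539))) (.node (.node (.leaf (nat_lit 84743)) (.leaf (nat_lit
    466945))) (.leaf (nat_lit 243969)))) (.node (.node (.node (.leaf (nat_lit 47882)) (.leaf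
    (nat_lit 389128))) (.leaf (nat_lit 197892))) (.node (.node (.leaf (nat_lit 123394)) (.leaf
    (nat_lit 551683))) (.leaf (nat_lit 303362))))) (.node (.node (.node (.node (.leaf (nat_lit
    29962)) (.leaf (nat_lit 367879))) (.leaf (nat_lit 183042))) (.node (.node (.leaf (nat_lit
    106506)) (.leaf (nat_lit 503560))) (.leaf (nat_lit 277250)))) (.node (.node (.node (.leaf
    (nat_lit 63497)) (.leaf (nat_lit 427779))) (.leaf (nat_lit 218888))) (.node (.node (.leaf
    (nat_lit 143875)) (.leaf (nat_lit 599044))) (.leaf (nat_lit 321800))))))))) (.node (.node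
    (.node (.node (.node (.node (.node (.node (.leaf (nat_lit 1284)) (.leaf (nat_lit 325122)))
    (.node (.leaf (nat_lit 150026)) (.leaf (nat_lit 604929)))) (.node (.node (.leaf (nat_lit
    67336)) (.leaf (nat_lit 437762))) (.leaf (nat_lit 221705)))) (.node (.node (.node (.leaf
    (nat_lit 32260)) (.leaf (nat_lit 371975))) (.leaf (nat_lit 187401))) (.node (.node (.leaf
    (nat_lit 108803)) (.leaf (nat_lit 516099))) (.leaf (nat_lit 281864))))) (.node (.node (.node
    (.node (.leaf (nat_lit 16387)) (.leaf (nat_lit 344074))) (.leaf (nat_lit 170244))) (.node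
    (.node (.leaf (nat_lit 92929)) (.leaf (nat_lit 471560))) (.leaf (nat_lit 250119)))) (.node
    (.node (.node (.leaf (nat_lit 51457)) (.leaf (nat_lit 393224))) (.leaf (nat_lit 205825)))
    (.node (.node (.leaf (nat_lit 126218)) (.leaf (nat_lit 558856))) (.leaf (nat_lit 308744))))))
    (.node (.node (.node (.node (.node (.leaf (nat_lit 9480)) (.leaf (nat_lit 333834))) (.node
    (.leaf (nat_lit 157955)) (.leaf (nat_lit 628743)))) (.node (.node (.leaf (nat_lit 78345))
    (.leaf (nat_lit 456194))) (.leaf (nat_lit 235017)))) (.node (.node (.node (.leaf (nat_lit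
    40705)) (.leaf (nat_lit 383498))) (.leaf (nat_lit 193799))) (.node (.node (.leaf (nat_lit
    119556)) (.leaf (nat_lit 542215))) (.leaf (nat_lit 289796))))) (.node (.node (.node (.node
    (.leaf (nat_lit 24586)) (.leaf (nat_lit 361482))) (.leaf (nat_lit 177410))) (.node (.node
    (.leaf (nat_lit 102922)) (.leaf (nat_lit 491012))) (.leaf (nat_lit 268039)))) (.node (.node
    (.node (.leaf (nat_lit 57602)) (.leaf (nat_lit 413449))) (.leaf (nat_lit 215303))) (.node
    (.node (.leaf (nat_lit 136451)) (.leaf (nat_lit 593411))) (.leaf (nat_lit 317697))))))) (.node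
    (.node (.node (.node (.node (.node (.leaf (nat_lit 5123)) (.leaf (nat_lit 328969))) (.node
    (.leaf (nat_lit 154883)) (.leaf (nat_lit 617730)))) (.node (.node (.leaf (nat_lit 70402))
    (.leaf (nat_lit 450824))) (.leaf (nat_lit 229633)))) (.node (.node (.node (.leaf (nat_lit
    37640)) (.leaf (nat_lit 374788))) (.leaf (nat_lit 190978))) (.node (.node (.leaf (nat_lit
    116227)) (.leaf (nat_lit 534275))) (.leaf (nat_lit 285192))))) (.node (.node (.node (.node
    (.leaf (nat_lit 20487)) (.leaf (nat_lit 348674))) (.leaf (nat_lit 174594))) (.node (.node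
    (.leaf (nat_lit 98820)) (.leaf (nat_lit 483335))) (.leaf (nat_lit 258561)))) (.node (.node
    (.node (.leaf (nat_lit 53507)) (.leaf (nat_lit 402441))) (.leaf (nat_lit 210945))) (.node
    (.node (.leaf (nat_lit 130826)) (.leaf (nat_lit 569092))) (.leaf (nat_lit 311818)))))) (.node
    (.node (.node (.node (.node (.leaf (nat_lit 13059)) (.leaf (nat_lit 339975))) (.leaf (nat_lit
    160257))) (.node (.node (.leaf (nat_lit 84227)) (.leaf (nat_lit 465671))) (.leaf (nat_lit
    242945)))) (.node (.node (.node (.leaf (nat_lit 46345)) (.leaf (nat_lit 388611))) (.leaf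
    (nat_lit 196874))) (.node (.node (.leaf (nat_lit 122116)) (.leaf (nat_lit 549891))) (.leaf
    (nat_lit 302089))))) (.node (.node (.node (.node (.leaf (nat_lit 28938)) (.leaf (nat_lit
    367361))) (.leaf (nat_lit 182024))) (.node (.node (.leaf (nat_lit 105994)) (.leaf (nat_lit
    501511))) (.leaf (nat_lit 276225)))) (.node (.node (.node (.leaf (nat_lit 62216)) (.leaf
    (nat_lit 424451))) (.leaf (nat_lit 218376))) (.node (.node (.leaf (nat_lit 142601)) (.leaf
    (nat_lit 597769))) (.leaf (nat_lit 320776)))))))) (.node (.node (.node (.node (.node (.node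
    (.node (.leaf (nat_lit 3079)) (.leaf (nat_lit 327687))) (.node (.leaf (nat_lit 152839)) (.leaf
    (nat_lit 609282)))) (.node (.node (.leaf (nat_lit 69121)) (.leaf (nat_lit 444420))) (.leaf
    (nat_lit 227849)))) (.node (.node (.node (.leaf (nat_lit 35842)) (.leaf (nat_lit 373256)))
    (.leaf (nat_lit 189449))) (.node (.node (.leaf (nat_lit 110849)) (.leaf (nat_lit 530180)))
    (.leaf (nat_lit 283906))))) (.node (.node (.node (.node (.leaf (nat_lit 18689)) (.leaf (nat_lit
    347140))) (.leaf (nat_lit 172042))) (.node (.node (.leaf (nat_lit 96776)) (.leaf (nat_lit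
    478473))) (.leaf (nat_lit 253961)))) (.node (.node (.node (.leaf (nat_lit 52483)) (.leaf
    (nat_lit 399881))) (.leaf (nat_lit 209162))) (.node (.node (.leaf (nat_lit 128514)) (.leaf
    (nat_lit 564225))) (.leaf (nat_lit 310538)))))) (.node (.node (.node (.node (.node (.leaf
    (nat_lit 11522)) (.leaf (nat_lit 336647))) (.leaf (nat_lit 158978))) (.node (.node (.leaf
    (nat_lit 80386)) (.leaf (nat_lit 458242))) (.leaf (nat_lit 237826)))) (.node (.node (.node
    (.leaf (nat_lit 42754)) (.leaf (nat_lit 386312))) (.leaf (nat_lit 194823))) (.node (.node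
    (.leaf (nat_lit 120578)) (.leaf (nat_lit 546306))) (.leaf (nat_lit 298762))))) (.node (.node
    (.node (.node (.leaf (nat_lit 26114)) (.leaf (nat_lit 363524))) (.leaf (nat_lit 180490)))
    (.node (.node (.leaf (nat_lit 104714)) (.leaf (nat_lit 495880))) (.leaf (nat_lit 270340))))
    (.node (.node (.node (.leaf (nat_lit 58634)) (.leaf (nat_lit 417539))) (.leaf (nat_lit
    217096))) (.node (.node (.leaf (nat_lit 139527)) (.leaf (nat_lit 595721))) (.leaf (nat_lit
    319746))))))) (.node (.node (.node (.node (.node (.node (.leaf (nat_lit 6922)) (.leaf (nat_lit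
    330498))) (.node (.leaf (nat_lit 156170)) (.leaf (nat_lit 621314)))) (.node (.node (.leaf
    (nat_lit 73988)) (.leaf (nat_lit 453124))) (.leaf (nat_lit 232457)))) (.node (.node (.node
    (.leaf (nat_lit 38666)) (.leaf (nat_lit 378627))) (.leaf (nat_lit 192777))) (.node (.node
    (.leaf (nat_lit 117763)) (.leaf (nat_lit 537347))) (.leaf (nat_lit 287241))))) (.node (.node
    (.node (.node (.leaf (nat_lit 23047)) (.leaf (nat_lit 351490))) (.leaf (nat_lit 176137)))
    (.node (.node (.leaf (nat_lit 101384)) (.leaf (nat_lit 487937))) (.leaf (nat_lit 262666))))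
    (.node (.node (.node (.leaf (nat_lit 55300)) (.leaf (nat_lit 406535))) (.leaf (nat_lit
    213769))) (.node (.node (.leaf (nat_lit 133897)) (.leaf (nat_lit 583432))) (.leaf (nat_lit
    313601)))))) (.node (.node (.node (.node (.node (.leaf (nat_lit 14601)) (.leaf (nat_lit
    342274))) (.leaf (nat_lit 162562))) (.node (.node (.leaf (nat_lit 85508)) (.leaf (nat_lit
    468232))) (.leaf (nat_lit 246023)))) (.node (.node (.node (.leaf (nat_lit 49921)) (.leaf
    (nat_lit 390410))) (.leaf (nat_lit 200452))) (.node (.node (.leaf (nat_lit 124675)) (.leaf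
    (nat_lit 555010))) (.leaf (nat_lit 307201))))) (.node (.node (.node (.node (.leaf (nat_lit
    30722)) (.leaf (nat_lit 369155))) (.leaf (nat_lit 185865))) (.node (.node (.leaf (nat_lit
    107016)) (.leaf (nat_lit 507393))) (.leaf (nat_lit 279560)))) (.node (.node (.node (.leaf
    (nat_lit 64775)) (.leaf (nat_lit 431626))) (.leaf (nat_lit 219651))) (.node (.node (.leaf
    (nat_lit 144905)) (.leaf (nat_lit 600833))) (.leaf (nat_lit 323074)))))))))) (.node (.node
    (.node (.node (.node (.node (.node (.node (.node (.leaf (nat_lit 1027)) (.leaf (nat_lit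
    324866))) (.node (.leaf (nat_lit 147714)) (.leaf (nat_lit 603908)))) (.node (.node (.leaf
    (nat_lit 66308)) (.leaf (nat_lit 435719))) (.leaf (nat_lit 221185)))) (.node (.node (.node
    (.leaf (nat_lit 32004)) (.leaf (nat_lit 371204))) (.leaf (nat_lit 187137))) (.node (.node
    (.leaf (nat_lit 108034)) (.leaf (nat_lit 514312))) (.leaf (nat_lit 281609))))) (.node (.node
    (.node (.node (.leaf (nat_lit 15873)) (.leaf (nat_lit 343818))) (.leaf (nat_lit 169988)))
    (.node (.node (.leaf (nat_lit 90120)) (.leaf (nat_lit 470785))) (.leaf (nat_lit 249607))))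
    (.node (.node (.node (.leaf (nat_lit 51201)) (.leaf (nat_lit 392707))) (.leaf (nat_lit
    205321))) (.node (.node (.leaf (nat_lit 125699)) (.leaf (nat_lit 558345))) (.leaf (nat_lit
    308487)))))) (.node (.node (.node (.node (.node (.leaf (nat_lit 8707)) (.leaf (nat_lit
    333063))) (.node (.leaf (nat_lit 157444)) (.leaf (nat_lit 627720)))) (.node (.node (.leaf
    (nat_lit 78087)) (.leaf (nat_lit 455687))) (.leaf (nat_lit 234755)))) (.node (.node (.node
    (.leaf (nat_lit 40449)) (.leaf (nat_lit 382983))) (.leaf (nat_lit 193543))) (.node (.node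
    (.leaf (nat_lit 119300)) (.leaf (nat_lit 541705))) (.leaf (nat_lit 289283))))) (.node (.node
    (.node (.node (.leaf (nat_lit 24074)) (.leaf (nat_lit 360714))) (.leaf (nat_lit 176904)))
    (.node (.node (.leaf (nat_lit 102666)) (.leaf (nat_lit 490248))) (.leaf (nat_lit 266760))))
    (.node (.node (.node (.leaf (nat_lit 57096)) (.leaf (nat_lit 410883))) (.leaf (nat_lit
    215047))) (.node (.node (.leaf (nat_lit 135433)) (.leaf (nat_lit 592900))) (.leaf (nat_lit
    317441))))))) (.node (.node (.node (.node (.node (.node (.leaf (nat_lit 4615)) (.leaf (nat_lit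
    328711))) (.node (.leaf (nat_lit 154119)) (.leaf (nat_lit 616969)))) (.node (.node (.leaf
    (nat_lit 69897)) (.leaf (nat_lit 449801))) (.leaf (nat_lit 229129)))) (.node (.node (.node
    (.leaf (nat_lit 36866)) (.leaf (nat_lit 374280))) (.leaf (nat_lit 190473))) (.node (.node
    (.leaf (nat_lit 115721)) (.leaf (nat_lit 533507))) (.leaf (nat_lit 284935))))) (.node (.node
    (.node (.node (.leaf (nat_lit 20233)) (.leaf (nat_lit 348418))) (.leaf (nat_lit 173827)))
    (.node (.node (.leaf (nat_lit 98056)) (.leaf (nat_lit 482312))) (.leaf (nat_lit 258057))))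
    (.node (.node (.node (.leaf (nat_lit 53251)) (.leaf (nat_lit 402179))) (.leaf (nat_lit
    210441))) (.node (.node (.leaf (nat_lit 129795)) (.leaf (nat_lit 567049))) (.leaf (nat_lit
    311556)))))) (.node (.node (.node (.node (.node (.leaf (nat_lit 12551)) (.leaf (nat_lit
    339463))) (.leaf (nat_lit 159753))) (.node (.node (.leaf (nat_lit 83720)) (.leaf (nat_lit
    464903))) (.leaf (nat_lit 242178)))) (.node (.node (.node (.leaf (nat_lit 45569)) (.leaf
    (nat_lit 387843))) (.leaf (nat_lit 196354))) (.node (.node (.leaf (nat_lit 121346)) (.leaf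
    (nat_lit 548609))) (.leaf (nat_lit 301321))))) (.node (.node (.node (.node (.leaf (nat_lit
    28674)) (.leaf (nat_lit 366337))) (.leaf (nat_lit 181768))) (.node (.node (.leaf (nat_lit
    105738)) (.leaf (nat_lit 500745))) (.leaf (nat_lit 275721)))) (.node (.node (.node (.leaf
    (nat_lit 61959)) (.leaf (nat_lit 423170))) (.leaf (nat_lit 218120))) (.node (.node (.leaf
    (nat_lit 140809)) (.leaf (nat_lit 597002))) (.leaf (nat_lit 320516)))))))) (.node (.node (.node
    (.node (.node (.node (.node (.leaf (nat_lit 2825)) (.leaf (nat_lit 327170))) (.node (.leaf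
    (nat_lit 151809)) (.leaf (nat_lit 608266)))) (.node (.node (.leaf (nat_lit 68611)) (.leaf
    (nat_lit 443908))) (.leaf (nat_lit 227588)))) (.node (.node (.node (.leaf (nat_lit 33284))
    (.leaf (nat_lit 372999))) (.leaf (nat_lit 188681))) (.node (.node (.leaf (nat_lit 110337))
    (.leaf (nat_lit 528385))) (.leaf (nat_lit 283402))))) (.node (.node (.node (.node (.leaf
    (nat_lit 17927)) (.leaf (nat_lit 346632))) (.leaf (nat_lit 171779))) (.node (.node (.leaf
    (nat_lit 96008)) (.leaf (nat_lit 474626))) (.leaf (nat_lit 252424)))) (.node (.node (.node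
    (.leaf (nat_lit 52227)) (.leaf (nat_lit 399368))) (.leaf (nat_lit 208650))) (.node (.node
    (.leaf (nat_lit 127752)) (.leaf (nat_lit 562692))) (.leaf (nat_lit 310274)))))) (.node (.node
    (.node (.node (.node (.leaf (nat_lit 11018)) (.leaf (nat_lit 336387))) (.leaf (nat_lit
    158722))) (.node (.node (.leaf (nat_lit 80129)) (.leaf (nat_lit 457736))) (.leaf (nat_lit
    237322)))) (.node (.node (.node (.leaf (nat_lit 42248)) (.leaf (nat_lit 385793))) (.leaf
    (nat_lit 194567))) (.node (.node (.leaf (nat_lit 120322)) (.leaf (nat_lit 545802))) (.leaf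
    (nat_lit 297481))))) (.node (.node (.node (.node (.leaf (nat_lit 25610)) (.leaf (nat_lit
    363012))) (.leaf (nat_lit 179969))) (.node (.node (.leaf (nat_lit 104456)) (.leaf (nat_lit
    495623))) (.leaf (nat_lit 269575)))) (.node (.node (.node (.leaf (nat_lit 58378)) (.leaf
    (nat_lit 416516))) (.leaf (nat_lit 216842))) (.node (.node (.leaf (nat_lit 138759)) (.leaf
    (nat_lit 595204))) (.leaf (nat_lit 319233))))))) (.node (.node (.node (.node (.node (.node
    (.leaf (nat_lit 6408)) (.leaf (nat_lit 329987))) (.node (.leaf (nat_lit 155914)) (.leaf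
    (nat_lit 619274)))) (.node (.node (.leaf (nat_lit 73223)) (.leaf (nat_lit 452615))) (.leaf
    (nat_lit 232193)))) (.node (.node (.node (.leaf (nat_lit 38408)) (.leaf (nat_lit 377864)))
    (.leaf (nat_lit 192263))) (.node (.node (.leaf (nat_lit 117257)) (.leaf (nat_lit 535809)))
    (.leaf (nat_lit 286472))))) (.node (.node (.node (.node (.leaf (nat_lit 22273)) (.leaf (nat_lit
    350980))) (.leaf (nat_lit 175876))) (.node (.node (.leaf (nat_lit 100874)) (.leaf (nat_lit
    486919))) (.leaf (nat_lit 262152)))) (.node (.node (.node (.leaf (nat_lit 54785)) (.leaf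
    (nat_lit 404228))) (.leaf (nat_lit 213255))) (.node (.node (.leaf (nat_lit 133635)) (.leaf
    (nat_lit 582664))) (.leaf (nat_lit 313091)))))) (.node (.node (.node (.node (.node (.leaf
    (nat_lit 14345)) (.leaf (nat_lit 341763))) (.leaf (nat_lit 162050))) (.node (.node (.leaf
    (nat_lit 85000)) (.leaf (nat_lit 467463))) (.leaf (nat_lit 244481)))) (.node (.node (.node
    (.leaf (nat_lit 49409)) (.leaf (nat_lit 389892))) (.leaf (nat_lit 198404))) (.node (.node
    (.leaf (nat_lit 124161)) (.leaf (nat_lit 552970))) (.leaf (nat_lit 306945))))) (.node (.node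
    (.node (.node (.leaf (nat_lit 30466)) (.leaf (nat_lit 368135))) (.leaf (nat_lit 185604)))
    (.node (.node (.leaf (nat_lit 106760)) (.leaf (nat_lit 504323))) (.leaf (nat_lit 279306))))
    (.node (.node (.node (.leaf (nat_lit 64514)) (.leaf (nat_lit 429826))) (.leaf (nat_lit
    219146))) (.node (.node (.leaf (nat_lit 144130)) (.leaf (nat_lit 599811))) (.leaf (nat_lit
    322562))))))))) (.node (.node (.node (.node (.node (.node (.node (.node (.leaf (nat_lit 1540))
    (.leaf (nat_lit 325889))) (.node (.leaf (nat_lit 150529)) (.leaf (nat_lit 605444)))) (.node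
    (.node (.leaf (nat_lit 67594)) (.leaf (nat_lit 440073))) (.leaf (nat_lit 222209)))) (.node
    (.node (.node (.leaf (nat_lit 32516)) (.leaf (nat_lit 372232))) (.leaf (nat_lit 187905)))
    (.node (.node (.leaf (nat_lit 109319)) (.leaf (nat_lit 517124))) (.leaf (nat_lit 282120)))))
    (.node (.node (.node (.node (.leaf (nat_lit 16649)) (.leaf (nat_lit 344836))) (.leaf (nat_lit
    171011))) (.node (.node (.leaf (nat_lit 94474)) (.leaf (nat_lit 472327))) (.leaf (nat_lit
    250633)))) (.node (.node (.node (.leaf (nat_lit 51713)) (.leaf (nat_lit 393986))) (.leaf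
    (nat_lit 206090))) (.node (.node (.leaf (nat_lit 126724)) (.leaf (nat_lit 559618))) (.leaf
    (nat_lit 309505)))))) (.node (.node (.node (.node (.node (.leaf (nat_lit 9988)) (.leaf (nat_lit
    335367))) (.leaf (nat_lit 158211))) (.node (.node (.leaf (nat_lit 79364)) (.leaf (nat_lit
    456711))) (.leaf (nat_lit 236547)))) (.node (.node (.node (.leaf (nat_lit 40969)) (.leaf
    (nat_lit 384008))) (.leaf (nat_lit 194057))) (.node (.node (.leaf (nat_lit 119810)) (.leaf
    (nat_lit 544001))) (.leaf (nat_lit 294152))))) (.node (.node (.node (.node (.leaf (nat_lit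
    24840)) (.leaf (nat_lit 361986))) (.leaf (nat_lit 177666))) (.node (.node (.leaf (nat_lit
    103432)) (.leaf (nat_lit 492551))) (.leaf (nat_lit 268808)))) (.node (.node (.node (.leaf
    (nat_lit 57863)) (.leaf (nat_lit 414977))) (.leaf (nat_lit 215817))) (.node (.node (.leaf
    (nat_lit 138249)) (.leaf (nat_lit 593928))) (.leaf (nat_lit 318210))))))) (.node (.node (.node
    (.node (.node (.node (.leaf (nat_lit 5383)) (.leaf (nat_lit 329225))) (.node (.leaf (nat_lit
    155139)) (.leaf (nat_lit 618250)))) (.node (.node (.leaf (nat_lit 71937)) (.leaf (nat_lit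
    451080))) (.leaf (nat_lit 230658)))) (.node (.node (.node (.leaf (nat_lit 37896)) (.leaf
    (nat_lit 375809))) (.leaf (nat_lit 191753))) (.node (.node (.leaf (nat_lit 116743)) (.leaf
    (nat_lit 534785))) (.leaf (nat_lit 285955))))) (.node (.node (.node (.node (.leaf (nat_lit
    21513)) (.leaf (nat_lit 349448))) (.leaf (nat_lit 175113))) (.node (.node (.leaf (nat_lit
    100360)) (.leaf (nat_lit 484866))) (.leaf (nat_lit 259081)))) (.node (.node (.node (.leaf
    (nat_lit 53763)) (.leaf (nat_lit 403201))) (.leaf (nat_lit 212745))) (.node (.node (.leaf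
    (nat_lit 132359)) (.leaf (nat_lit 574472))) (.leaf (nat_lit 312323)))))) (.node (.node (.node
    (.node (.node (.leaf (nat_lit 13833)) (.leaf (nat_lit 340746))) (.leaf (nat_lit 160771)))
    (.node (.node (.leaf (nat_lit 84483)) (.leaf (nat_lit 466439))) (.leaf (nat_lit 243465))))
    (.node (.node (.node (.leaf (nat_lit 47623)) (.leaf (nat_lit 388868))) (.leaf (nat_lit
    197378))) (.node (.node (.leaf (nat_lit 122884)) (.leaf (nat_lit 550915))) (.leaf (nat_lit
    302857))))) (.node (.node (.node (.node (.leaf (nat_lit 29442)) (.leaf (nat_lit 367623)))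
    (.leaf (nat_lit 182538))) (.node (.node (.leaf (nat_lit 106250)) (.leaf (nat_lit 502279)))
    (.leaf (nat_lit 276745)))) (.node (.node (.node (.leaf (nat_lit 63239)) (.leaf (nat_lit
    426247))) (.leaf (nat_lit 218632))) (.node (.node (.leaf (nat_lit 143619)) (.leaf (nat_lit
    598530))) (.leaf (nat_lit 321540)))))))) (.node (.node (.node (.node (.node (.node (.node
    (.leaf (nat_lit 4097)) (.leaf (nat_lit 327944))) (.node (.leaf (nat_lit 153095)) (.leaf
    (nat_lit 610817)))) (.node (.node (.leaf (nat_lit 69377)) (.leaf (nat_lit 445188))) (.leaf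
    (nat_lit 228353)))) (.node (.node (.node (.leaf (nat_lit 36098)) (.leaf (nat_lit 373763)))
    (.leaf (nat_lit 189953))) (.node (.node (.leaf (nat_lit 115207)) (.leaf (nat_lit 531719)))
    (.leaf (nat_lit 284170))))) (.node (.node (.node (.node (.leaf (nat_lit 18954)) (.leaf (nat_lit
    347649))) (.leaf (nat_lit 172801))) (.node (.node (.leaf (nat_lit 97288)) (.leaf (nat_lit
    480516))) (.leaf (nat_lit 254465)))) (.node (.node (.node (.leaf (nat_lit 52739)) (.leaf
    (nat_lit 400897))) (.leaf (nat_lit 209666))) (.node (.node (.leaf (nat_lit 129028)) (.leaf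
    (nat_lit 565763))) (.leaf (nat_lit 310792)))))) (.node (.node (.node (.node (.node (.leaf
    (nat_lit 12035)) (.leaf (nat_lit 337155))) (.leaf (nat_lit 159234))) (.node (.node (.leaf
    (nat_lit 80647)) (.leaf (nat_lit 459524))) (.leaf (nat_lit 238593)))) (.node (.node (.node
    (.leaf (nat_lit 43786)) (.leaf (nat_lit 386819))) (.leaf (nat_lit 195331))) (.node (.node
    (.leaf (nat_lit 120834)) (.leaf (nat_lit 546570))) (.leaf (nat_lit 299266))))) (.node (.node
    (.node (.node (.leaf (nat_lit 27914)) (.leaf (nat_lit 364545))) (.leaf (nat_lit 181002)))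
    (.node (.node (.leaf (nat_lit 104970)) (.leaf (nat_lit 497159))) (.leaf (nat_lit 272897))))
    (.node (.node (.node (.leaf (nat_lit 59140)) (.leaf (nat_lit 419587))) (.leaf (nat_lit
    217352))) (.node (.node (.leaf (nat_lit 139784)) (.leaf (nat_lit 596232))) (.leaf (nat_lit
    320002))))))) (.node (.node (.node (.node (.node (.node (.leaf (nat_lit 7684)) (.leaf (nat_lit
    331780))) (.node (.leaf (nat_lit 156676)) (.leaf (nat_lit 622849)))) (.node (.node (.leaf
    (nat_lit 76298)) (.leaf (nat_lit 453636))) (.leaf (nat_lit 233985)))) (.node (.node (.node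
    (.leaf (nat_lit 39425)) (.leaf (nat_lit 379399))) (.leaf (nat_lit 193031))) (.node (.node
    (.leaf (nat_lit 118532)) (.leaf (nat_lit 537859))) (.leaf (nat_lit 288010))))) (.node (.node
    (.node (.node (.leaf (nat_lit 23555)) (.leaf (nat_lit 355073))) (.leaf (nat_lit 176394)))
    (.node (.node (.leaf (nat_lit 101892)) (.leaf (nat_lit 489480))) (.leaf (nat_lit 264193))))
    (.node (.node (.node (.leaf (nat_lit 55812)) (.leaf (nat_lit 406794))) (.leaf (nat_lit
    214273))) (.node (.node (.leaf (nat_lit 134409)) (.leaf (nat_lit 588296))) (.leaf (nat_lit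
    314122)))))) (.node (.node (.node (.node (.node (.leaf (nat_lit 14855)) (.leaf (nat_lit
    342792))) (.leaf (nat_lit 165380))) (.node (.node (.leaf (nat_lit 87303)) (.leaf (nat_lit
    469508))) (.leaf (nat_lit 246537)))) (.node (.node (.node (.leaf (nat_lit 50177)) (.leaf
    (nat_lit 391170))) (.leaf (nat_lit 204553))) (.node (.node (.leaf (nat_lit 124931)) (.leaf
    (nat_lit 556295))) (.leaf (nat_lit 307465))))) (.node (.node (.node (.node (.leaf (nat_lit
    31242)) (.leaf (nat_lit 369411))) (.leaf (nat_lit 186377))) (.node (.node (.leaf (nat_lit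
    107274)) (.leaf (nat_lit 512007))) (.leaf (nat_lit 280074)))) (.node (.node (.node (.leaf
    (nat_lit 65543)) (.leaf (nat_lit 433160))) (.leaf (nat_lit 219907))) (.node (.node (.leaf
    (nat_lit 146691)) (.leaf (nat_lit 602627))) (.leaf (nat_lit 323843)))))))))))))

/-- Certificate data. -/
def p2_fact : Trie :=
    (.node (.node (.node (.node (.node (.node (.node (.node (.node (.node (.node (.node (.node
    (.node (.leaf (nat_lit 1)) (.leaf (nat_lit 1906982665))) (.leaf (nat_lit 1197766402))) (.node
    (.node (.leaf (nat_lit 516024585)) (.leaf (nat_lit 732124928))) (.leaf (nat_lit 1940152580))))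
    (.node (.node (.node (.leaf (nat_lit 237006593)) (.leaf (nat_lit 3146310919))) (.leaf (nat_lit
    881181445))) (.node (.node (.leaf (nat_lit 842121993)) (.leaf (nat_lit 2126213376))) (.leaf
    (nat_lit 2354628620))))) (.node (.node (.node (.node (.leaf (nat_lit 60845828)) (.leaf (nat_lit
    2944905992))) (.leaf (nat_lit 779426821))) (.node (.node (.leaf (nat_lit 676421127)) (.leaf
    (nat_lit 1318456320))) (.leaf (nat_lit 2150953732)))) (.node (.node (.node (.leaf (nat_lit
    306275843)) (.leaf (nat_lit 1915201536))) (.leaf (nat_lit 1736823306))) (.node (.node (.leaf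
    (nat_lit 1003621385)) (.leaf (nat_lit 194598144))) (.leaf (nat_lit 2545284362)))))) (.node
    (.node (.node (.node (.node (.leaf (nat_lit 33567748)) (.leaf (nat_lit 2153411584))) (.leaf
    (nat_lit 1281672972))) (.node (.node (.leaf (nat_lit 591469572)) (.leaf (nat_lit 1311063040)))
    (.leaf (nat_lit 2032638982)))) (.node (.node (.node (.leaf (nat_lit 304161547)) (.leaf (nat_lit
    3224113925))) (.leaf (nat_lit 937826564))) (.node (.node (.leaf (nat_lit 919723524)) (.leaf
    (nat_lit 235960322))) (.leaf (nat_lit 2441457928))))) (.node (.node (.node (.node (.leaf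
    (nat_lit 87074057)) (.leaf (nat_lit 3045610754))) (.leaf (nat_lit 1383428609))) (.node (.node
    (.leaf (nat_lit 765565193)) (.leaf (nat_lit 136791552))) (.leaf (nat_lit 2236113163)))) (.node
    (.node (.node (.leaf (nat_lit 446803462)) (.leaf (nat_lit 2457456640))) (.leaf (nat_lit
    1841749260))) (.node (.node (.leaf (nat_lit 1108498185)) (.leaf (nat_lit 91273984))) (.leaf
    (nat_lit 2644105995))))))) (.node (.node (.node (.node (.node (.node (.leaf (nat_lit 13637638))
    (.leaf (nat_lit 2800382219))) (.leaf (nat_lit 1228187147))) (.node (.node (.leaf (nat_lit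
    284298501)) (.leaf (nat_lit 577061632))) (.leaf (nat_lit 1991732235)))) (.node (.node (.node
    (.leaf (nat_lit 130089479)) (.leaf (nat_lit 3203998210))) (.leaf (nat_lit 1591956999))) (.node
    (.node (.leaf (nat_lit 491996934)) (.leaf (nat_lit 966250240))) (.leaf (nat_lit 2395314946)))))
    (.node (.node (.node (.node (.leaf (nat_lit 86018567)) (.leaf (nat_lit 2182817030))) (.leaf
    (nat_lit 1413673736))) (.node (.node (.leaf (nat_lit 725715459)) (.leaf (nat_lit 851975424)))
    (.leaf (nat_lit 2200241927)))) (.node (.node (.node (.leaf (nat_lit 220302593)) (.leaf (nat_lit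
    1751558917))) (.leaf (nat_lit 1790177793))) (.node (.node (.leaf (nat_lit 1051979276)) (.leaf
    (nat_lit 85451008))) (.leaf (nat_lit 2593530634)))))) (.node (.node (.node (.node (.node (.leaf
    (nat_lit 45109766)) (.leaf (nat_lit 2890365450))) (.leaf (nat_lit 1325597961))) (.node (.node
    (.leaf (nat_lit 637652490)) (.leaf (nat_lit 538606080))) (.leaf (nat_lit 2091177992)))) (.node
    (.node (.node (.leaf (nat_lit 338772996)) (.leaf (nat_lit 3261874699))) (.leaf (nat_lit
    1682150404))) (.node (.node (.leaf (nat_lit 955379460)) (.leaf (nat_lit 164897792))) (.leaf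
    (nat_lit 2490750983))))) (.node (.node (.node (.node (.leaf (nat_lit 205544714)) (.leaf
    (nat_lit 2222635776))) (.leaf (nat_lit 866490122))) (.node (.node (.leaf (nat_lit 787676684))
    (.leaf (nat_lit 281755392))) (.leaf (nat_lit 2189989377)))) (.node (.node (.node (.leaf
    (nat_lit 483451144)) (.leaf (nat_lit 458633216))) (.leaf (nat_lit 1887898635))) (.node (.node
    (.leaf (nat_lit 1152660481)) (.leaf (nat_lit 1119910148))) (.leaf (nat_lit 2695277826))))))))
    (.node (.node (.node (.node (.node (.node (.node (.leaf (nat_lit 6294794)) (.leaf (nat_lit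
    2777087236))) (.leaf (nat_lit 705990661))) (.node (.node (.leaf (nat_lit 456260867)) (.leaf
    (nat_lit 462814720))) (.leaf (nat_lit 1206341384)))) (.node (.node (.node (.leaf (nat_lit
    169931525)) (.leaf (nat_lit 3178829060))) (.leaf (nat_lit 899013377))) (.node (.node (.leaf
    (nat_lit 482555657)) (.leaf (nat_lit 1682528000))) (.leaf (nat_lit 2353584390))))) (.node
    (.node (.node (.node (.leaf (nat_lit 125860869)) (.leaf (nat_lit 2971133703))) (.leaf (nat_lit
    1391652105))) (.node (.node (.leaf (nat_lit 700620044)) (.leaf (nat_lit 2096710656))) (.leaf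
    (nat_lit 2177171464)))) (.node (.node (.node (.leaf (nat_lit 265386502)) (.leaf (nat_lit
    2825612293))) (.leaf (nat_lit 1031180805))) (.node (.node (.leaf (nat_lit 1026807819)) (.leaf
    (nat_lit 121712384))) (.leaf (nat_lit 2424934658)))))) (.node (.node (.node (.node (.node
    (.leaf (nat_lit 68174337)) (.leaf (nat_lit 2222632961))) (.leaf (nat_lit 1303560458))) (.node
    (.node (.leaf (nat_lit 322063370)) (.leaf (nat_lit 418991616))) (.leaf (nat_lit 2067055876))))
    (.node (.node (.node (.leaf (nat_lit 188821770)) (.leaf (nat_lit 3264834570))) (.leaf (nat_lit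
    1659077635))) (.node (.node (.leaf (nat_lit 934405891)) (.leaf (nat_lit 282144000))) (.leaf
    (nat_lit 2464529153))))) (.node (.node (.node (.node (.leaf (nat_lit 189838603)) (.leaf
    (nat_lit 3065737227))) (.leaf (nat_lit 1479745546))) (.node (.node (.leaf (nat_lit 726853890))
    (.leaf (nat_lit 437619456))) (.leaf (nat_lit 2275751940)))) (.node (.node (.node (.leaf
    (nat_lit 468769284)) (.leaf (nat_lit 208364032))) (.leaf (nat_lit 1865693954))) (.node (.node
    (.leaf (nat_lit 1133666820)) (.leaf (nat_lit 99639810))) (.leaf (nat_lit 1744432646)))))))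
    (.node (.node (.node (.node (.node (.node (.leaf (nat_lit 40899079)) (.leaf (nat_lit
    2816117259))) (.leaf (nat_lit 1257551108))) (.node (.node (.leaf (nat_lit 567418379)) (.leaf
    (nat_lit 766733824))) (.leaf (nat_lit 1389855750)))) (.node (.node (.node (.leaf (nat_lit
    286331403)) (.leaf (nat_lit 3160145671))) (.leaf (nat_lit 1617125130))) (.node (.node (.leaf
    (nat_lit 498292743)) (.leaf (nat_lit 435727360))) (.leaf (nat_lit 1621689609))))) (.node (.node
    (.node (.node (.leaf (nat_lit 158352903)) (.leaf (nat_lit 3020436740))) (.leaf (nat_lit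
    1433754373))) (.node (.node (.leaf (nat_lit 425903625)) (.leaf (nat_lit 2044095497))) (.leaf
    (nat_lit 2224363018)))) (.node (.node (.node (.leaf (nat_lit 432065796)) (.leaf (nat_lit
    2727068928))) (.leaf (nat_lit 1092011014))) (.node (.node (.leaf (nat_lit 1084377609)) (.leaf
    (nat_lit 293675528))) (.leaf (nat_lit 2621847812)))))) (.node (.node (.node (.node (.node
    (.leaf (nat_lit 99632391)) (.leaf (nat_lit 2915537671))) (.leaf (nat_lit 1346701323))) (.node
    (.node (.leaf (nat_lit 349335817)) (.leaf (nat_lit 931467776))) (.leaf (nat_lit 2120541187))))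
    (.node (.node (.node (.leaf (nat_lit 355554306)) (.leaf (nat_lit 2581240072))) (.leaf (nat_lit
    1709596683))) (.node (.node (.leaf (nat_lit 969123339)) (.leaf (nat_lit 2888529408))) (.leaf
    (nat_lit 1589207558))))) (.node (.node (.node (.node (.leaf (nat_lit 111203337)) (.leaf
    (nat_lit 2317065222))) (.leaf (nat_lit 872787717))) (.node (.node (.leaf (nat_lit 823241735))
    (.leaf (nat_lit 413198346))) (.leaf (nat_lit 2334480131)))) (.node (.node (.node (.leaf
    (nat_lit 244440582)) (.leaf (nat_lit 726000896))) (.leaf (nat_lit 1915167490))) (.node (.leaf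
    (nat_lit 945054213)) (.leaf (nat_lit 1832526597))))))))) (.node (.node (.node (.node (.node
    (.node (.node (.node (.leaf (nat_lit 6291976)) (.leaf (nat_lit 2763453954))) (.leaf (nat_lit
    1212322312))) (.node (.node (.leaf (nat_lit 524416260)) (.leaf (nat_lit 839399680))) (.leaf
    (nat_lit 1186415366)))) (.node (.node (.node (.leaf (nat_lit 232844044)) (.leaf (nat_lit
    3160131340))) (.leaf (nat_lit 1548078860))) (.node (.node (.leaf (nat_lit 521350152)) (.leaf
    (nat_lit 287864576))) (.leaf (nat_lit 2366165250))))) (.node (.node (.node (.node (.leaf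
    (nat_lit 87061768)) (.leaf (nat_lit 2102067973))) (.leaf (nat_lit 1354049283))) (.node (.node
    (.leaf (nat_lit 689081610)) (.leaf (nat_lit 1512560640))) (.leaf (nat_lit 2162691851)))) (.node
    (.node (.node (.leaf (nat_lit 388021001)) (.leaf (nat_lit 1921493253))) (.leaf (nat_lit
    1750322695))) (.node (.node (.leaf (nat_lit 929286917)) (.leaf (nat_lit 365272576))) (.leaf
    (nat_lit 1613334021)))))) (.node (.node (.node (.node (.node (.leaf (nat_lit 30424071)) (.leaf
    (nat_lit 2224726530))) (.leaf (nat_lit 1290063883))) (.node (.node (.leaf (nat_lit 600982018))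
    (.leaf (nat_lit 645037056))) (.leaf (nat_lit 2002232833)))) (.node (.node (.node (.leaf
    (nat_lit 158411266)) (.leaf (nat_lit 3250331147))) (.leaf (nat_lit 1648590088))) (.node (.node
    (.leaf (nat_lit 848524036)) (.leaf (nat_lit 72592384))) (.leaf (nat_lit 1535714310))))) (.node
    (.node (.node (.node (.leaf (nat_lit 180399372)) (.leaf (nat_lit 3057146369))) (.leaf (nat_lit
    1157987074))) (.node (.node (.leaf (nat_lit 773954567)) (.leaf (nat_lit 130082304))) (.leaf
    (nat_lit 2260233228)))) (.node (.node (.node (.leaf (nat_lit 456242950)) (.leaf (nat_lit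
    700184064))) (.leaf (nat_lit 1853286411))) (.node (.node (.leaf (nat_lit 635710727)) (.leaf
    (nat_lit 109704192))) (.leaf (nat_lit 2373575681))))))) (.node (.node (.node (.node (.node
    (.node (.leaf (nat_lit 35655688)) (.leaf (nat_lit 2814846983))) (.leaf (nat_lit 742698497)))
    (.node (.node (.leaf (nat_lit 560007944)) (.leaf (nat_lit 1304026368))) (.leaf (nat_lit
    1351055113)))) (.node (.node (.node (.leaf (nat_lit 136382728)) (.leaf (nat_lit 3207329542)))
    (.leaf (nat_lit 1605762052))) (.node (.node (.leaf (nat_lit 840125958)) (.leaf (nat_lit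
    745074688))) (.leaf (nat_lit 1567160577))))) (.node (.node (.node (.node (.leaf (nat_lit
    149983235)) (.leaf (nat_lit 3004903947))) (.leaf (nat_lit 1425362955))) (.node (.node (.leaf
    (nat_lit 734104835)) (.leaf (nat_lit 581132800))) (.leaf (nat_lit 1461205762)))) (.node (.node
    (.node (.leaf (nat_lit 219255814)) (.leaf (nat_lit 2527864064))) (.leaf (nat_lit 1802764296)))
    (.node (.node (.leaf (nat_lit 1061420043)) (.leaf (nat_lit 129013504))) (.leaf (nat_lit
    1657385990)))))) (.node (.node (.node (.node (.node (.leaf (nat_lit 67131395)) (.leaf (nat_lit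
    2026556929))) (.leaf (nat_lit 1198849283))) (.node (.node (.leaf (nat_lit 643983116)) (.leaf
    (nat_lit 518555648))) (.leaf (nat_lit 2105859842)))) (.node (.node (.node (.leaf (nat_lit
    344017931)) (.leaf (nat_lit 2577156869))) (.leaf (nat_lit 979783946))) (.node (.node (.leaf
    (nat_lit 966915330)) (.leaf (nat_lit 750455296))) (.leaf (nat_lit 2406044678))))) (.node (.node
    (.node (.node (.leaf (nat_lit 112249353)) (.leaf (nat_lit 3104346628))) (.leaf (nat_lit
    895853322))) (.node (.node (.leaf (nat_lit 814851848)) (.leaf (nat_lit 2398816768))) (.leaf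
    (nat_lit 2318968075)))) (.node (.node (.node (.leaf (nat_lit 490853636)) (.leaf (nat_lit
    1339645952))) (.leaf (nat_lit 1906595073))) (.node (.node (.leaf (nat_lit 1161980681)) (.leaf
    (nat_lit 105929987))) (.leaf (nat_lit 2708915716)))))))) (.node (.node (.node (.node (.node
    (.node (.node (.leaf (nat_lit 18878987)) (.leaf (nat_lit 2788625155))) (.leaf (nat_lit
    764713224))) (.node (.node (.leaf (nat_lit 540082691)) (.leaf (nat_lit 581255168))) (.leaf
    (nat_lit 1980011010)))) (.node (.node (.node (.leaf (nat_lit 263223298)) (.leaf (nat_lit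
    2447106563))) (.leaf (nat_lit 1581638914))) (.node (.node (.leaf (nat_lit 857947906)) (.leaf
    (nat_lit 863589376))) (.leaf (nat_lit 1624826113))))) (.node (.node (.node (.node (.leaf
    (nat_lit 139476227)) (.leaf (nat_lit 2980731914))) (.leaf (nat_lit 1403187210))) (.node (.node
    (.leaf (nat_lit 454208008)) (.leaf (nat_lit 241938176))) (.leaf (nat_lit 1347953669)))) (.node
    (.node (.node (.leaf (nat_lit 407946754)) (.leaf (nat_lit 1070185984))) (.leaf (nat_lit
    1775493385))) (.node (.node (.leaf (nat_lit 1044521988)) (.leaf (nat_lit 106007552))) (.leaf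
    (nat_lit 1640602630)))))) (.node (.node (.node (.node (.node (.leaf (nat_lit 43010824)) (.leaf
    (nat_lit 2858072069))) (.leaf (nat_lit 1315096071))) (.node (.node (.leaf (nat_lit 627128330))
    (.leaf (nat_lit 204830720))) (.leaf (nat_lit 1323810307)))) (.node (.node (.node (.leaf
    (nat_lit 331388932)) (.leaf (nat_lit 3277600268))) (.leaf (nat_lit 1669565186))) (.node (.node
    (.leaf (nat_lit 944946439)) (.leaf (nat_lit 314690048))) (.leaf (nat_lit 2477114888))))) (.node
    (.node (.node (.node (.leaf (nat_lit 196131845)) (.leaf (nat_lit 3085466376))) (.leaf (nat_lit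
    956665096))) (.node (.node (.leaf (nat_lit 791781386)) (.leaf (nat_lit 260545792))) (.leaf
    (nat_lit 2288552716)))) (.node (.node (.node (.leaf (nat_lit 476110599)) (.leaf (nat_lit
    1224307456))) (.leaf (nat_lit 1878279690))) (.node (.node (.leaf (nat_lit 1129595650)) (.leaf
    (nat_lit 83906567))) (.leaf (nat_lit 1775893767))))))) (.node (.node (.node (.node (.node
    (.node (.leaf (nat_lit 38809093)) (.leaf (nat_lit 2807731980))) (.leaf (nat_lit 743750917)))
    (.node (.node (.leaf (nat_lit 544352517)) (.leaf (nat_lit 2686100736))) (.leaf (nat_lit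
    2032450305)))) (.node (.node (.node (.leaf (nat_lit 147921157)) (.leaf (nat_lit 3232315907)))
    (.leaf (nat_lit 914755590))) (.node (.node (.leaf (nat_lit 845374214)) (.leaf (nat_lit
    749407488))) (.leaf (nat_lit 1536757255))))) (.node (.node (.node (.node (.leaf (nat_lit
    80781066)) (.leaf (nat_lit 3032173580))) (.leaf (nat_lit 1393911564))) (.node (.node (.leaf
    (nat_lit 754029576)) (.leaf (nat_lit 2101860864))) (.leaf (nat_lit 2192070407)))) (.node (.node
    (.node (.leaf (nat_lit 427927307)) (.leaf (nat_lit 2709256713))) (.leaf (nat_lit 1777782275)))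
    (.node (.node (.leaf (nat_lit 1085543683)) (.leaf (nat_lit 293671169))) (.leaf (nat_lit
    2634664963)))))) (.node (.node (.node (.node (.node (.leaf (nat_lit 79718405)) (.leaf (nat_lit
    2916804097))) (.leaf (nat_lit 1361239810))) (.node (.node (.leaf (nat_lit 664882691)) (.leaf
    (nat_lit 1567083520))) (.leaf (nat_lit 2135222788)))) (.node (.node (.node (.leaf (nat_lit
    201415943)) (.leaf (nat_lit 1952112384))) (.leaf (nat_lit 1724101890))) (.node (.node (.leaf
    (nat_lit 559133193)) (.leaf (nat_lit 90586624))) (.leaf (nat_lit 2532699908))))) (.node (.node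
    (.node (.node (.leaf (nat_lit 111205381)) (.leaf (nat_lit 2329651462))) (.leaf (nat_lit
    1537425930))) (.node (.node (.leaf (nat_lit 735255046)) (.leaf (nat_lit 1507559168))) (.leaf
    (nat_lit 2347067905)))) (.node (.node (.node (.leaf (nat_lit 506586380)) (.leaf (nat_lit
    2228846848))) (.leaf (nat_lit 1928617219))) (.node (.leaf (nat_lit 662990085)) (.leaf (nat_lit
    2736186625)))))))))) (.node (.node (.node (.node (.node (.node (.node (.node (.node (.leaf
    (nat_lit 3145986)) (.leaf (nat_lit 2756113155))) (.leaf (nat_lit 1161067275))) (.node (.node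
    (.leaf (nat_lit 520156936)) (.leaf (nat_lit 268984064))) (.leaf (nat_lit 1195851530)))) (.node
    (.node (.node (.leaf (nat_lit 244346888)) (.leaf (nat_lit 3155755015))) (.leaf (nat_lit
    1549125899))) (.node (.node (.leaf (nat_lit 476260613)) (.leaf (nat_lit 957768960))) (.leaf
    (nat_lit 2361967108))))) (.node (.node (.node (.node (.leaf (nat_lit 115372556)) (.leaf
    (nat_lit 2951202824))) (.leaf (nat_lit 1378018824))) (.node (.node (.leaf (nat_lit 684813064))
    (.leaf (nat_lit 568643840))) (.leaf (nat_lit 2155148546)))) (.node (.node (.node (.leaf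
    (nat_lit 380679433)) (.leaf (nat_lit 1273432832))) (.leaf (nat_lit 1741062155))) (.node (.node
    (.leaf (nat_lit 1012010754)) (.leaf (nat_lit 364262144))) (.leaf (nat_lit 2545516556))))))
    (.node (.node (.node (.node (.node (.leaf (nat_lit 56637189)) (.leaf (nat_lit 2637835778)))
    (.leaf (nat_lit 801426180))) (.node (.node (.leaf (nat_lit 333593604)) (.leaf (nat_lit
    849005312))) (.leaf (nat_lit 1420271625)))) (.node (.node (.node (.leaf (nat_lit 301016585))
    (.leaf (nat_lit 3247012100))) (.leaf (nat_lit 936779014))) (.node (.node (.leaf (nat_lit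
    920875020)) (.leaf (nat_lit 131101445))) (.leaf (nat_lit 2448798723))))) (.node (.node (.node
    (.node (.leaf (nat_lit 90220547)) (.leaf (nat_lit 3050853896))) (.leaf (nat_lit 1467156228)))
    (.node (.node (.leaf (nat_lit 769759753)) (.leaf (nat_lit 278008832))) (.leaf (nat_lit
    2023253509)))) (.node (.node (.node (.leaf (nat_lit 456242178)) (.leaf (nat_lit 1362697984)))
    (.leaf (nat_lit 1846993419))) (.node (.node (.leaf (nat_lit 1114790407)) (.leaf (nat_lit
    298456064))) (.leaf (nat_lit 2430197769))))))) (.node (.node (.node (.node (.node (.node (.leaf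
    (nat_lit 26221834)) (.leaf (nat_lit 2806674955))) (.leaf (nat_lit 1240771083))) (.node (.node
    (.leaf (nat_lit 544346369)) (.leaf (nat_lit 746769920))) (.leaf (nat_lit 1998888970)))) (.node
    (.node (.node (.leaf (nat_lit 136381702)) (.leaf (nat_lit 3168531201))) (.leaf (nat_lit
    1599297540))) (.node (.node (.leaf (nat_lit 570640903)) (.leaf (nat_lit 413244672))) (.leaf
    (nat_lit 2401606914))))) (.node (.node (.node (.node (.leaf (nat_lit 73436419)) (.leaf (nat_lit
    2999461636))) (.leaf (nat_lit 1341475073))) (.node (.node (.leaf (nat_lit 730958600)) (.leaf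
    (nat_lit 578162176))) (.leaf (nat_lit 1353201157)))) (.node (.node (.node (.leaf (nat_lit
    215060485)) (.leaf (nat_lit 2429162762))) (.leaf (nat_lit 1794551819))) (.node (.node (.leaf
    (nat_lit 1059321100)) (.leaf (nat_lit 97647104))) (.leaf (nat_lit 1656336134)))))) (.node
    (.node (.node (.node (.node (.leaf (nat_lit 88102146)) (.leaf (nat_lit 2884290827))) (.leaf
    (nat_lit 1331876874))) (.node (.node (.leaf (nat_lit 484598538)) (.leaf (nat_lit 658126080)))
    (.leaf (nat_lit 2014826250)))) (.node (.node (.node (.leaf (nat_lit 256984581)) (.leaf (nat_lit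
    3295251203))) (.leaf (nat_lit 1689490953))) (.node (.node (.leaf (nat_lit 541299461)) (.leaf
    (nat_lit 295910144))) (.leaf (nat_lit 2492026379))))) (.node (.node (.node (.node (.leaf
    (nat_lit 105956867)) (.leaf (nat_lit 2223676932))) (.leaf (nat_lit 868588810))) (.node (.node
    (.leaf (nat_lit 808559626)) (.leaf (nat_lit 58105344))) (.leaf (nat_lit 2313506058)))) (.node
    (.node (.node (.leaf (nat_lit 280088837)) (.leaf (nat_lit 945382144))) (.leaf (nat_lit
    1183257347))) (.node (.node (.leaf (nat_lit 1152667404)) (.leaf (nat_lit 360784137))) (.leaf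
    (nat_lit 2700742667)))))))) (.node (.node (.node (.node (.node (.node (.node (.leaf (nat_lit
    11538188)) (.leaf (nat_lit 2781287427))) (.leaf (nat_lit 710186243))) (.node (.node (.leaf
    (nat_lit 518127617)) (.leaf (nat_lit 416461824))) (.leaf (nat_lit 1221023750)))) (.node (.node
    (.node (.leaf (nat_lit 250672900)) (.leaf (nat_lit 2451299587))) (.leaf (nat_lit 1484120068)))
    (.node (.node (.leaf (nat_lit 857946887)) (.leaf (nat_lit 287860480))) (.leaf (nat_lit
    1516821763))))) (.node (.node (.node (.node (.leaf (nat_lit 136329986)) (.leaf (nat_lit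
    2747995650))) (.leaf (nat_lit 1345663235))) (.node (.node (.leaf (nat_lit 708999176)) (.leaf
    (nat_lit 239657472))) (.leaf (nat_lit 1380458500)))) (.node (.node (.node (.leaf (nat_lit
    403751943)) (.leaf (nat_lit 2762656004))) (.leaf (nat_lit 1115068426))) (.node (.node (.leaf
    (nat_lit 1003740417)) (.leaf (nat_lit 131105802))) (.leaf (nat_lit 2573604871)))))) (.node
    (.node (.node (.node (.node (.leaf (nat_lit 73418251)) (.leaf (nat_lit 2871701257))) (.leaf
    (nat_lit 1308804105))) (.node (.node (.leaf (nat_lit 621884938)) (.leaf (nat_lit 810036480)))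
    (.leaf (nat_lit 1307031814)))) (.node (.node (.node (.leaf (nat_lit 320943621)) (.leaf (nat_lit
    2557226762))) (.leaf (nat_lit 958804483))) (.node (.node (.leaf (nat_lit 941746186)) (.leaf
    (nat_lit 372379648))) (.leaf (nat_lit 1555641089))))) (.node (.node (.node (.node (.leaf
    (nat_lit 187742220)) (.leaf (nat_lit 2330687498))) (.leaf (nat_lit 842368773))) (.node (.node
    (.leaf (nat_lit 742583557)) (.leaf (nat_lit 451128320))) (.leaf (nat_lit 1408794885)))) (.node
    (.node (.node (.leaf (nat_lit 249676291)) (.leaf (nat_lit 485829120))) (.leaf (nat_lit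
    1870939137))) (.node (.node (.leaf (nat_lit 1126448395)) (.leaf (nat_lit 142625802))) (.leaf
    (nat_lit 2674297348))))))) (.node (.node (.node (.node (.node (.node (.leaf (nat_lit 39856652))
    (.leaf (nat_lit 2836870916))) (.leaf (nat_lit 1267904266))) (.node (.node (.leaf (nat_lit
    574689288)) (.leaf (nat_lit 1265006592))) (.leaf (nat_lit 1453820931)))) (.node (.node (.node
    (.leaf (nat_lit 292585988)) (.leaf (nat_lit 3226207492))) (.leaf (nat_lit 1623417354))) (.node
    (.node (.leaf (nat_lit 905041922)) (.leaf (nat_lit 140259328))) (.leaf (nat_lit 2426776833)))))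
    (.node (.node (.node (.node (.leaf (nat_lit 157326089)) (.leaf (nat_lit 2339063048))) (.leaf
    (nat_lit 1392861452))) (.node (.node (.leaf (nat_lit 750883591)) (.leaf (nat_lit 730569216)))
    (.leaf (nat_lit 1385713415)))) (.node (.node (.node (.leaf (nat_lit 221356554)) (.leaf (nat_lit
    3055289600))) (.leaf (nat_lit 1779878403))) (.node (.node (.leaf (nat_lit 616829191)) (.leaf
    (nat_lit 143920128))) (.leaf (nat_lit 1689897477)))))) (.node (.node (.node (.node (.node
    (.leaf (nat_lit 52454665)) (.leaf (nat_lit 2921830404))) (.leaf (nat_lit 1341459468))) (.node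
    (.node (.leaf (nat_lit 467825922)) (.leaf (nat_lit 860354048))) (.leaf (nat_lit 2128930819))))
    (.node (.node (.node (.leaf (nat_lit 362849800)) (.leaf (nat_lit 3072008712))) (.leaf (nat_lit
    1717809665))) (.node (.node (.leaf (nat_lit 539208970)) (.leaf (nat_lit 297934592))) (.leaf
    (nat_lit 2523490316))))) (.node (.node (.node (.node (.leaf (nat_lit 226518273)) (.leaf
    (nat_lit 3124274183))) (.leaf (nat_lit 1532182785))) (.node (.node (.leaf (nat_lit 756225025))
    (.leaf (nat_lit 867731712))) (.leaf (nat_lit 1441314566)))) (.node (.node (.node (.leaf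
    (nat_lit 501342470)) (.leaf (nat_lit 914664960))) (.leaf (nat_lit 1921447425))) (.node (.leaf
    (nat_lit 655648517)) (.leaf (nat_lit 2729894152))))))))) (.node (.node (.node (.node (.node
    (.node (.node (.node (.leaf (nat_lit 4196617)) (.leaf (nat_lit 1874481158))) (.leaf (nat_lit
    1219723016))) (.node (.node (.leaf (nat_lit 530644226)) (.leaf (nat_lit 257026816))) (.leaf
    (nat_lit 1952925963)))) (.node (.node (.node (.leaf (nat_lit 249622274)) (.leaf (nat_lit
    2443955713))) (.leaf (nat_lit 998626565))) (.node (.node (.leaf (nat_lit 558051329)) (.leaf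
    (nat_lit 1750684928))) (.leaf (nat_lit 2371193092))))) (.node (.node (.node (.node (.leaf
    (nat_lit 124811276)) (.leaf (nat_lit 2144012551))) (.leaf (nat_lit 825567754))) (.node (.node
    (.leaf (nat_lit 696350983)) (.leaf (nat_lit 1730645760))) (.leaf (nat_lit 1340609798)))) (.node
    (.node (.node (.leaf (nat_lit 391214604)) (.leaf (nat_lit 1929039616))) (.leaf (nat_lit
    1758712327))) (.node (.node (.leaf (nat_lit 1012126212)) (.leaf (nat_lit 361117952))) (.leaf
    (nat_lit 1614384133)))))) (.node (.node (.node (.node (.node (.leaf (nat_lit 45104904)) (.leaf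
    (nat_lit 2862262789))) (.leaf (nat_lit 1297267459))) (.node (.node (.leaf (nat_lit 589448706))
    (.leaf (nat_lit 536174592))) (.leaf (nat_lit 2057809420)))) (.node (.node (.node (.leaf
    (nat_lit 158412289)) (.leaf (nat_lit 3258539785))) (.leaf (nat_lit 1256597768))) (.node (.node
    (.leaf (nat_lit 930314242)) (.leaf (nat_lit 151126784))) (.leaf (nat_lit 2459285252))))) (.node
    (.node (.node (.node (.leaf (nat_lit 160477444)) (.leaf (nat_lit 3064488449))) (.leaf (nat_lit
    849706761))) (.node (.node (.leaf (nat_lit 437446147)) (.leaf (nat_lit 273304320))) (.leaf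
    (nat_lit 1400402693)))) (.node (.node (.node (.leaf (nat_lit 463584004)) (.leaf (nat_lit
    449421312))) (.leaf (nat_lit 1140256009))) (.node (.node (.leaf (nat_lit 1126445836)) (.leaf
    (nat_lit 154169351))) (.leaf (nat_lit 2659790346))))))) (.node (.node (.node (.node (.node
    (.node (.leaf (nat_lit 19932165)) (.leaf (nat_lit 2819261196))) (.leaf (nat_lit 730116617)))
    (.node (.node (.leaf (nat_lit 554834187)) (.leaf (nat_lit 433181450))) (.leaf (nat_lit
    2011475976)))) (.node (.node (.node (.leaf (nat_lit 135335176)) (.leaf (nat_lit 3215719180)))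
    (.leaf (nat_lit 1533411333))) (.node (.node (.leaf (nat_lit 841175557)) (.leaf (nat_lit
    860459776))) (.leaf (nat_lit 1580793601))))) (.node (.node (.node (.node (.leaf (nat_lit
    87069185)) (.leaf (nat_lit 2206939653))) (.leaf (nat_lit 1349867014))) (.node (.node (.leaf
    (nat_lit 430096642)) (.leaf (nat_lit 1301874688))) (.leaf (nat_lit 1450721539)))) (.node (.node
    (.node (.leaf (nat_lit 397514501)) (.leaf (nat_lit 3204179715))) (.leaf (nat_lit 1104592393)))
    (.node (.node (.leaf (nat_lit 1075053324)) (.leaf (nat_lit 277946115))) (.leaf (nat_lit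
    2612409351)))))) (.node (.node (.node (.node (.node (.leaf (nat_lit 96492556)) (.leaf (nat_lit
    2124076549))) (.leaf (nat_lit 1343554059))) (.node (.node (.leaf (nat_lit 346188293)) (.leaf
    (nat_lit 441570560))) (.leaf (nat_lit 2114249223)))) (.node (.node (.node (.leaf (nat_lit
    265375747)) (.leaf (nat_lit 2574887936))) (.leaf (nat_lit 974542598))) (.node (.node (.leaf
    (nat_lit 971218692)) (.leaf (nat_lit 286340096))) (.leaf (nat_lit 1585011206))))) (.node (.node
    (.node (.node (.leaf (nat_lit 107007752)) (.leaf (nat_lit 3007026693))) (.leaf (nat_lit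
    1521694721))) (.node (.node (.leaf (nat_lit 454233350)) (.leaf (nat_lit 240810752))) (.leaf
    (nat_lit 2314775308)))) (.node (.node (.node (.leaf (nat_lit 498132234)) (.leaf (nat_lit
    807628032))) (.leaf (nat_lit 1637293573))) (.node (.node (.leaf (nat_lit 1163155717)) (.leaf
    (nat_lit 102791684))) (.leaf (nat_lit 2716256770)))))))) (.node (.node (.node (.node (.node
    (.node (.node (.leaf (nat_lit 15734282)) (.leaf (nat_lit 1910139146))) (.leaf (nat_lit
    773103620))) (.node (.node (.leaf (nat_lit 291637512)) (.leaf (nat_lit 811957760))) (.leaf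
    (nat_lit 1986304010)))) (.node (.node (.node (.leaf (nat_lit 207683077)) (.leaf (nat_lit
    2460739338))) (.leaf (nat_lit 1582688523))) (.node (.node (.leaf (nat_lit 862143233)) (.leaf
    (nat_lit 966325504))) (.leaf (nat_lit 2391119618))))) (.node (.node (.node (.node (.leaf
    (nat_lit 126912267)) (.leaf (nat_lit 2190155778))) (.leaf (nat_lit 1409479176))) (.node (.node
    (.leaf (nat_lit 412265990)) (.leaf (nat_lit 438499072))) (.leaf (nat_lit 2191010308)))) (.node
    (.node (.node (.leaf (nat_lit 413190152)) (.leaf (nat_lit 1061566985))) (.leaf (nat_lit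
    1780738823))) (.node (.node (.leaf (nat_lit 965994499)) (.leaf (nat_lit 123783936))) (.leaf
    (nat_lit 1913233669)))))) (.node (.node (.node (.node (.node (.leaf (nat_lit 82847492)) (.leaf
    (nat_lit 2884073479))) (.leaf (nat_lit 1319430924))) (.node (.node (.leaf (nat_lit 329407495))
    (.leaf (nat_lit 1307943680))) (.leaf (nat_lit 2083878154)))) (.node (.node (.node (.leaf
    (nat_lit 310460428)) (.leaf (nat_lit 2565618697))) (.leaf (nat_lit 1674982148))) (.node (.node
    (.leaf (nat_lit 523471364)) (.leaf (nat_lit 369670912))) (.leaf (nat_lit 2460565512))))) (.node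
    (.node (.node (.node (.leaf (nat_lit 200327179)) (.leaf (nat_lit 2969273095))) (.leaf (nat_lit
    912626186))) (.node (.node (.leaf (nat_lit 799121927)) (.leaf (nat_lit 278604800))) (.leaf
    (nat_lit 1466470919)))) (.node (.node (.node (.leaf (nat_lit 239192321)) (.leaf (nat_lit
    255257344))) (.leaf (nat_lit 1884572425))) (.node (.node (.leaf (nat_lit 657737737)) (.leaf
    (nat_lit 302066691))) (.leaf (nat_lit 2686885640))))))) (.node (.node (.node (.node (.node
    (.node (.leaf (nat_lit 48247051)) (.leaf (nat_lit 2846530572))) (.leaf (nat_lit 729072135)))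
    (.node (.node (.leaf (nat_lit 585177096)) (.leaf (nat_lit 460078592))) (.leaf (nat_lit
    2036832002)))) (.node (.node (.node (.leaf (nat_lit 300977410)) (.leaf (nat_lit 3187412484)))
    (.leaf (nat_lit 1628837131))) (.node (.node (.leaf (nat_lit 915528450)) (.leaf (nat_lit
    136343558))) (.leaf (nat_lit 1611207429))))) (.node (.node (.node (.node (.leaf (nat_lit
    165716492)) (.leaf (nat_lit 2244694538))) (.leaf (nat_lit 1411738636))) (.node (.node (.leaf
    (nat_lit 760321800)) (.leaf (nat_lit 1518858496))) (.leaf (nat_lit 1382571014)))) (.node (.node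
    (.node (.leaf (nat_lit 447795459)) (.leaf (nat_lit 3249187594))) (.leaf (nat_lit 1121376001)))
    (.node (.node (.leaf (nat_lit 1103254792)) (.leaf (nat_lit 287378441))) (.leaf (nat_lit
    1987695873)))))) (.node (.node (.node (.node (.node (.leaf (nat_lit 113259268)) (.leaf (nat_lit
    2062216967))) (.leaf (nat_lit 1367532035))) (.node (.node (.leaf (nat_lit 487751177)) (.leaf
    (nat_lit 287504640))) (.leaf (nat_lit 2117597708)))) (.node (.node (.node (.leaf (nat_lit
    186737160)) (.leaf (nat_lit 1953811976))) (.leaf (nat_lit 1730394114))) (.node (.node (.leaf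
    (nat_lit 998377993)) (.leaf (nat_lit 360959232))) (.leaf (nat_lit 2537943303))))) (.node (.node
    (.node (.node (.leaf (nat_lit 233860362)) (.leaf (nat_lit 3135816711))) (.leaf (nat_lit
    1542669569))) (.node (.node (.leaf (nat_lit 837927431)) (.leaf (nat_lit 412196352))) (.leaf
    (nat_lit 2351280649)))) (.node (.node (.node (.leaf (nat_lit 447867142)) (.leaf (nat_lit
    123086336))) (.leaf (nat_lit 1933860360))) (.node (.leaf (nat_lit 772043014)) (.leaf (nat_lit
    2582264073))))))))))) (.node (.node (.node (.node (.node (.node (.node (.node (.node (.node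
    (.leaf (nat_lit 1048838)) (.leaf (nat_lit 1948926218))) (.leaf (nat_lit 1200781826))) (.node
    (.node (.leaf (nat_lit 277999105)) (.leaf (nat_lit 457469952))) (.leaf (nat_lit 1943298818))))
    (.node (.node (.node (.leaf (nat_lit 241201153)) (.leaf (nat_lit 3151554568))) (.leaf (nat_lit
    882230278))) (.node (.node (.leaf (nat_lit 844231943)) (.leaf (nat_lit 1511720448))) (.leaf
    (nat_lit 1504233987))))) (.node (.node (.node (.node (.leaf (nat_lit 114323724)) (.leaf
    (nat_lit 2216360713))) (.leaf (nat_lit 1344609795))) (.node (.node (.leaf (nat_lit 375556359))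
    (.leaf (nat_lit 519606528))) (.leaf (nat_lit 1991771139)))) (.node (.node (.node (.leaf
    (nat_lit 376529673)) (.leaf (nat_lit 2056930816))) (.leaf (nat_lit 1740882435))) (.node (.node
    (.leaf (nat_lit 1006767617)) (.leaf (nat_lit 358289920))) (.leaf (nat_lit 2517204485))))))
    (.node (.node (.node (.node (.node (.leaf (nat_lit 51393802)) (.leaf (nat_lit 2734283526)))
    (.leaf (nat_lit 735365385))) (.node (.node (.leaf (nat_lit 588396555)) (.leaf (nat_lit
    139047168))) (.leaf (nat_lit 2034736642)))) (.node (.node (.node (.leaf (nat_lit 296821769))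
    (.leaf (nat_lit 2493256965))) (.leaf (nat_lit 1340480259))) (.node (.node (.leaf (nat_lit
    884174347)) (.leaf (nat_lit 234911490))) (.leaf (nat_lit 2444603912))))) (.node (.node (.node
    (.node (.leaf (nat_lit 86025993)) (.leaf (nat_lit 2242599432))) (.leaf (nat_lit 1465058820)))
    (.node (.node (.leaf (nat_lit 763550732)) (.leaf (nat_lit 274357248))) (.leaf (nat_lit
    1447584775)))) (.node (.node (.node (.leaf (nat_lit 455136004)) (.leaf (nat_lit 2443825664)))
    (.leaf (nat_lit 1826021123))) (.node (.node (.leaf (nat_lit 1111644418)) (.leaf (nat_lit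
    298914306))) (.leaf (nat_lit 2412371458))))))) (.node (.node (.node (.node (.node (.node (.leaf
    (nat_lit 28318476)) (.leaf (nat_lit 2806456328))) (.leaf (nat_lit 714385414))) (.node (.node
    (.leaf (nat_lit 553715971)) (.leaf (nat_lit 802543872))) (.leaf (nat_lit 1995742985)))) (.node
    (.node (.node (.leaf (nat_lit 271647499)) (.leaf (nat_lit 2560356613))) (.leaf (nat_lit
    1595102980))) (.node (.node (.leaf (nat_lit 504580362)) (.leaf (nat_lit 480499200))) (.leaf
    (nat_lit 2397412354))))) (.node (.node (.node (.node (.leaf (nat_lit 74484481)) (.leaf (nat_lit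
    2996315395))) (.leaf (nat_lit 1414874628))) (.node (.node (.leaf (nat_lit 728861194)) (.leaf
    (nat_lit 287531776))) (.leaf (nat_lit 1380463621)))) (.node (.node (.node (.leaf (nat_lit
    214011653)) (.leaf (nat_lit 1803160576))) (.leaf (nat_lit 1063693829))) (.node (.node (.leaf
    (nat_lit 1056174860)) (.leaf (nat_lit 298484224))) (.leaf (nat_lit 2572790785)))))) (.node
    (.node (.node (.node (.node (.leaf (nat_lit 82858757)) (.leaf (nat_lit 2894560263))) (.leaf
    (nat_lit 1313141516))) (.node (.node (.leaf (nat_lit 346186242)) (.leaf (nat_lit 504541696)))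
    (.leaf (nat_lit 2016922890)))) (.node (.node (.node (.leaf (nat_lit 165758213)) (.leaf (nat_lit
    3293153284))) (.leaf (nat_lit 1683375628))) (.node (.node (.leaf (nat_lit 957477129)) (.leaf
    (nat_lit 188979200))) (.leaf (nat_lit 2494122763))))) (.node (.node (.node (.node (.leaf
    (nat_lit 103859462)) (.leaf (nat_lit 2871740160))) (.leaf (nat_lit 859150854))) (.node (.node
    (.leaf (nat_lit 806462466)) (.leaf (nat_lit 481012992))) (.leaf (nat_lit 2310360068)))) (.node
    (.node (.node (.leaf (nat_lit 484502529)) (.leaf (nat_lit 408443136))) (.leaf (nat_lit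
    1877413891))) (.node (.node (.leaf (nat_lit 1145326852)) (.leaf (nat_lit 1116768259))) (.leaf
    (nat_lit 2698425608)))))))) (.node (.node (.node (.node (.node (.node (.node (.leaf (nat_lit
    11537931)) (.leaf (nat_lit 2780233218))) (.leaf (nat_lit 1223987980))) (.node (.node (.leaf
    (nat_lit 534885635)) (.leaf (nat_lit 57152256))) (.leaf (nat_lit 1967425289)))) (.node (.node
    (.node (.leaf (nat_lit 223409411)) (.leaf (nat_lit 3181975300))) (.leaf (nat_lit 1554373891)))
    (.node (.node (.leaf (nat_lit 855849227)) (.leaf (nat_lit 1514726912))) (.leaf (nat_lit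
    2354633477))))) (.node (.node (.node (.node (.leaf (nat_lit 133201675)) (.leaf (nat_lit
    2974281224))) (.leaf (nat_lit 804598535))) (.node (.node (.leaf (nat_lit 704749575)) (.leaf
    (nat_lit 2147047168))) (.leaf (nat_lit 2174230018)))) (.node (.node (.node (.leaf (nat_lit
    208764424)) (.leaf (nat_lit 2886368258))) (.leaf (nat_lit 1050056199))) (.node (.node (.leaf
    (nat_lit 636738313)) (.leaf (nat_lit 247610624))) (.leaf (nat_lit 2504626956)))))) (.node
    (.node (.node (.node (.node (.leaf (nat_lit 68174598)) (.leaf (nat_lit 2868556041))) (.leaf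
    (nat_lit 1306706697))) (.node (.node (.leaf (nat_lit 619787780)) (.leaf (nat_lit 481576960)))
    (.leaf (nat_lit 2060956939)))) (.node (.node (.node (.leaf (nat_lit 159462150)) (.leaf (nat_lit
    3267980801))) (.leaf (nat_lit 1661175553))) (.node (.node (.leaf (nat_lit 938600451)) (.leaf
    (nat_lit 318895104))) (.leaf (nat_lit 1629040645))))) (.node (.node (.node (.node (.leaf
    (nat_lit 187741958)) (.leaf (nat_lit 3072029707))) (.leaf (nat_lit 1481842953))) (.node (.node
    (.leaf (nat_lit 782428939)) (.leaf (nat_lit 482659840))) (.leaf (nat_lit 2279947015)))) (.node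
    (.node (.node (.leaf (nat_lit 470866692)) (.leaf (nat_lit 711460608))) (.leaf (nat_lit
    1145501189))) (.node (.node (.leaf (nat_lit 642005770)) (.leaf (nat_lit 175155463))) (.leaf
    (nat_lit 1750724870))))))) (.node (.node (.node (.node (.node (.node (.leaf (nat_lit 40904715))
    (.leaf (nat_lit 2799340802))) (.leaf (nat_lit 726972165))) (.node (.node (.leaf (nat_lit
    569516034)) (.leaf (nat_lit 798331648))) (.leaf (nat_lit 2021963016)))) (.node (.node (.node
    (.leaf (nat_lit 241243398)) (.leaf (nat_lit 3166437896))) (.leaf (nat_lit 914753797))) (.node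
    (.node (.leaf (nat_lit 898849803)) (.leaf (nat_lit 94083840))) (.leaf (nat_lit 2424679171)))))
    (.node (.node (.node (.node (.leaf (nat_lit 76585222)) (.leaf (nat_lit 2998616587))) (.leaf
    (nat_lit 1440046596))) (.node (.node (.leaf (nat_lit 743622924)) (.leaf (nat_lit 451455232)))
    (.leaf (nat_lit 2227509513)))) (.node (.node (.node (.leaf (nat_lit 217161221)) (.leaf (nat_lit
    3240845829))) (.leaf (nat_lit 1818674956))) (.node (.node (.leaf (nat_lit 1088572167)) (.leaf
    (nat_lit 127032576))) (.leaf (nat_lit 2624996611)))))) (.node (.node (.node (.node (.node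
    (.leaf (nat_lit 103821315)) (.leaf (nat_lit 2918899717))) (.leaf (nat_lit 1353899017))) (.node
    (.node (.leaf (nat_lit 349336325)) (.leaf (nat_lit 442694400))) (.leaf (nat_lit 1404561665))))
    (.node (.node (.node (.leaf (nat_lit 359703816)) (.leaf (nat_lit 2302335497))) (.leaf (nat_lit
    990274314))) (.node (.node (.leaf (nat_lit 983695113)) (.leaf (nat_lit 859541248))) (.leaf
    (nat_lit 2522212867))))) (.node (.node (.node (.node (.leaf (nat_lit 110155273)) (.leaf
    (nat_lit 2544606722))) (.leaf (nat_lit 1527988225))) (.node (.node (.leaf (nat_lit 817042181))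
    (.leaf (nat_lit 281571840))) (.leaf (nat_lit 2336788481)))) (.node (.node (.node (.leaf
    (nat_lit 249683975)) (.leaf (nat_lit 546841344))) (.leaf (nat_lit 1919179010))) (.node (.leaf
    (nat_lit 1179807745)) (.leaf (nat_lit 2725698825))))))))) (.node (.node (.node (.node (.node
    (.node (.node (.node (.leaf (nat_lit 7341836)) (.leaf (nat_lit 2763672843))) (.leaf (nat_lit
    1214547716))) (.node (.node (.leaf (nat_lit 431093510)) (.leaf (nat_lit 210330368))) (.leaf
    (nat_lit 1877427714)))) (.node (.node (.node (.leaf (nat_lit 137424138)) (.leaf (nat_lit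
    2432420358))) (.leaf (nat_lit 1563643138))) (.node (.node (.leaf (nat_lit 853668104)) (.leaf
    (nat_lit 1047849216))) (.leaf (nat_lit 2368262914))))) (.node (.node (.node (.node (.leaf
    (nat_lit 77624836)) (.leaf (nat_lit 2139817479))) (.leaf (nat_lit 1385359625))) (.node (.node
    (.leaf (nat_lit 393384965)) (.leaf (nat_lit 2029503488))) (.leaf (nat_lit 2165771529)))) (.node
    (.node (.node (.leaf (nat_lit 201421830)) (.leaf (nat_lit 1160039687))) (.leaf (nat_lit
    1754517511))) (.node (.node (.leaf (nat_lit 569626122)) (.leaf (nat_lit 199393536))) (.leaf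
    (nat_lit 2474215685)))))) (.node (.node (.node (.node (.node (.leaf (nat_lit 65019395)) (.leaf
    (nat_lit 1983555079))) (.leaf (nat_lit 1259655691))) (.node (.node (.leaf (nat_lit 608251395))
    (.leaf (nat_lit 484920064))) (.leaf (nat_lit 2058666506)))) (.node (.node (.node (.leaf
    (nat_lit 198257673)) (.leaf (nat_lit 3254357763))) (.leaf (nat_lit 1651736329))) (.node (.node
    (.leaf (nat_lit 929162242)) (.leaf (nat_lit 145804800))) (.leaf (nat_lit 1534666246))))) (.node
    (.node (.node (.node (.leaf (nat_lit 184570890)) (.leaf (nat_lit 3038471435))) (.leaf (nat_lit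
    1473488641))) (.node (.node (.leaf (nat_lit 776127489)) (.leaf (nat_lit 247526912))) (.leaf
    (nat_lit 2264216330)))) (.node (.node (.node (.leaf (nat_lit 432126217)) (.leaf (nat_lit
    1222233088))) (.leaf (nat_lit 1857304321))) (.node (.node (.leaf (nat_lit 1124228612)) (.leaf
    (nat_lit 155218951))) (.leaf (nat_lit 2455365129))))))) (.node (.node (.node (.node (.node
    (.node (.leaf (nat_lit 32514822)) (.leaf (nat_lit 2819041802))) (.leaf (nat_lit 724873219)))
    (.node (.node (.leaf (nat_lit 561120001)) (.leaf (nat_lit 729073920))) (.leaf (nat_lit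
    2008330241)))) (.node (.node (.node (.leaf (nat_lit 250678021)) (.leaf (nat_lit 3179018242)))
    (.leaf (nat_lit 903216646))) (.node (.node (.leaf (nat_lit 545476356)) (.leaf (nat_lit
    118544640))) (.leaf (nat_lit 2412093956))))) (.node (.node (.node (.node (.leaf (nat_lit
    82874626)) (.leaf (nat_lit 2494248194))) (.leaf (nat_lit 1430451978))) (.node (.node (.leaf
    (nat_lit 721600267)) (.leaf (nat_lit 248630016))) (.leaf (nat_lit 1383611906)))) (.node (.node
    (.node (.leaf (nat_lit 421631243)) (.leaf (nat_lit 3212563201))) (.leaf (nat_lit 1801894411)))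
    (.node (.node (.leaf (nat_lit 1073888521)) (.leaf (nat_lit 134255873))) (.leaf (nat_lit
    2170140418)))))) (.node (.node (.node (.node (.node (.leaf (nat_lit 94394891)) (.leaf (nat_lit
    2906097928))) (.leaf (nat_lit 1342363658))) (.node (.node (.leaf (nat_lit 646036225)) (.leaf
    (nat_lit 949519616))) (.leaf (nat_lit 1319623681)))) (.node (.node (.node (.leaf (nat_lit
    345067019)) (.leaf (nat_lit 3303646474))) (.leaf (nat_lit 1699978762))) (.node (.node (.leaf
    (nat_lit 702782465)) (.leaf (nat_lit 1312091648))) (.leaf (nat_lit 2411288325))))) (.node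
    (.node (.node (.node (.leaf (nat_lit 213934337)) (.leaf (nat_lit 3001783042))) (.leaf (nat_lit
    867542793))) (.node (.node (.leaf (nat_lit 760416779)) (.leaf (nat_lit 138161408))) (.leaf
    (nat_lit 2324035335)))) (.node (.node (.node (.leaf (nat_lit 284284935)) (.leaf (nat_lit
    871697920))) (.leaf (nat_lit 1893145347))) (.node (.node (.leaf (nat_lit 1165126658)) (.leaf
    (nat_lit 127533824))) (.leaf (nat_lit 1840912903)))))))) (.node (.node (.node (.node (.node
    (.node (.node (.leaf (nat_lit 9442311)) (.leaf (nat_lit 2791771400))) (.leaf (nat_lit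
    1238540554))) (.node (.node (.leaf (nat_lit 544277252)) (.leaf (nat_lit 925376000))) (.leaf
    (nat_lit 1983157258)))) (.node (.node (.node (.leaf (nat_lit 211876868)) (.leaf (nat_lit
    3186353156))) (.leaf (nat_lit 1585665281))) (.node (.node (.leaf (nat_lit 874631171)) (.leaf
    (nat_lit 966147840))) (.leaf (nat_lit 1730733065))))) (.node (.node (.node (.node (.leaf
    (nat_lit 139494916)) (.leaf (nat_lit 2185960450))) (.leaf (nat_lit 793066757))) (.node (.node
    (.leaf (nat_lit 412265477)) (.leaf (nat_lit 117501952))) (.leaf (nat_lit 1347954438)))) (.node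
    (.node (.node (.leaf (nat_lit 292652809)) (.leaf (nat_lit 2704917769))) (.leaf (nat_lit
    1774624261))) (.node (.node (.leaf (nat_lit 1022617100)) (.leaf (nat_lit 99230464))) (.leaf
    (nat_lit 2584092425)))))) (.node (.node (.node (.node (.node (.leaf (nat_lit 78662667)) (.leaf
    (nat_lit 2881141257))) (.leaf (nat_lit 1318242050))) (.node (.node (.leaf (nat_lit 626153484))
    (.leaf (nat_lit 1290327552))) (.leaf (nat_lit 2076688646)))) (.node (.node (.node (.leaf
    (nat_lit 194067978)) (.leaf (nat_lit 3281614083))) (.leaf (nat_lit 1672711177))) (.node (.node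
    (.leaf (nat_lit 946046988)) (.leaf (nat_lit 308418304))) (.leaf (nat_lit 2479431687))))) (.node
    (.node (.node (.node (.leaf (nat_lit 198229508)) (.leaf (nat_lit 2945155074))) (.leaf (nat_lit
    851808010))) (.node (.node (.leaf (nat_lit 795975944)) (.leaf (nat_lit 284699904))) (.leaf
    (nat_lit 2296726024)))) (.node (.node (.node (.leaf (nat_lit 478208002)) (.leaf (nat_lit
    452308480))) (.leaf (nat_lit 1188495626))) (.node (.node (.leaf (nat_lit 1143227916)) (.leaf
    (nat_lit 297877508))) (.leaf (nat_lit 2683755524))))))) (.node (.node (.node (.node (.node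
    (.node (.leaf (nat_lit 24129544)) (.leaf (nat_lit 2844432649))) (.leaf (nat_lit 1273282315)))
    (.node (.node (.leaf (nat_lit 582030082)) (.leaf (nat_lit 211525120))) (.leaf (nat_lit
    2035596040)))) (.node (.node (.node (.leaf (nat_lit 151067655)) (.leaf (nat_lit 3235462145)))
    (.leaf (nat_lit 1611010572))) (.node (.node (.leaf (nat_lit 498296070)) (.leaf (nat_lit
    541321728))) (.leaf (nat_lit 1550389251))))) (.node (.node (.node (.node (.leaf (nat_lit
    104898561)) (.leaf (nat_lit 2755350273))) (.leaf (nat_lit 1453523209))) (.node (.node (.leaf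
    (nat_lit 757175811)) (.leaf (nat_lit 790981376))) (.leaf (nat_lit 2242191882)))) (.node (.node
    (.node (.leaf (nat_lit 273786890)) (.leaf (nat_lit 2523570954))) (.leaf (nat_lit 1107743498)))
    (.node (.node (.leaf (nat_lit 622073863)) (.leaf (nat_lit 309403144))) (.leaf (nat_lit
    2154418949)))))) (.node (.node (.node (.node (.node (.leaf (nat_lit 110127620)) (.leaf (nat_lit
    2932320257))) (.leaf (nat_lit 1363481867))) (.node (.node (.leaf (nat_lit 668028929)) (.leaf
    (nat_lit 570956544))) (.leaf (nat_lit 2138555402)))) (.node (.node (.node (.leaf (nat_lit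
    319905794)) (.leaf (nat_lit 1908073216))) (.leaf (nat_lit 1016491785))) (.node (.node (.leaf
    (nat_lit 863220995)) (.leaf (nat_lit 287401216))) (.leaf (nat_lit 1608085770))))) (.node (.node
    (.node (.node (.leaf (nat_lit 138468610)) (.leaf (nat_lit 3133714435))) (.leaf (nat_lit
    1527102220))) (.node (.node (.leaf (nat_lit 754129924)) (.leaf (nat_lit 1020588544))) (.leaf
    (nat_lit 1475919878)))) (.node (.node (.node (.leaf (nat_lit 510718471)) (.leaf (nat_lit
    1297690112))) (.leaf (nat_lit 1930899972))) (.node (.leaf (nat_lit 665087750)) (.leaf (nat_lit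
    2739549452)))))))))) (.node (.node (.node (.node (.node (.node (.node (.node (.node (.leaf
    (nat_lit 1049607)) (.leaf (nat_lit 2759259143))) (.leaf (nat_lit 1209174787))) (.node (.node
    (.leaf (nat_lit 521269764)) (.leaf (nat_lit 238362880))) (.leaf (nat_lit 1184317701)))) (.node
    (.node (.node (.leaf (nat_lit 232843780)) (.leaf (nat_lit 3158903304))) (.leaf (nat_lit
    1545981196))) (.node (.node (.leaf (nat_lit 547564037)) (.leaf (nat_lit 1679490560))) (.leaf
    (nat_lit 2364900866))))) (.node (.node (.node (.node (.leaf (nat_lit 62944266)) (.leaf (nat_lit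
    2099970054))) (.leaf (nat_lit 1381164807))) (.node (.node (.leaf (nat_lit 686911754)) (.leaf
    (nat_lit 1262015744))) (.leaf (nat_lit 1978141450)))) (.node (.node (.node (.leaf (nat_lit
    198274311)) (.leaf (nat_lit 2024445440))) (.leaf (nat_lit 1747176711))) (.node (.node (.leaf
    (nat_lit 1016206084)) (.leaf (nat_lit 181916672))) (.leaf (nat_lit 2554723335)))))) (.node
    (.node (.node (.node (.node (.leaf (nat_lit 59783436)) (.leaf (nat_lit 2851558660))) (.leaf
    (nat_lit 729074950))) (.node (.node (.leaf (nat_lit 322059777)) (.leaf (nat_lit 245839104)))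
    (.leaf (nat_lit 1389863682)))) (.node (.node (.node (.leaf (nat_lit 156313606)) (.leaf (nat_lit
    2565610500))) (.leaf (nat_lit 1644395529))) (.node (.node (.leaf (nat_lit 575893768)) (.leaf
    (nat_lit 278578176))) (.leaf (nat_lit 1534665226))))) (.node (.node (.node (.node (.leaf
    (nat_lit 179326983)) (.leaf (nat_lit 3054000129))) (.leaf (nat_lit 1144355074))) (.node (.node
    (.leaf (nat_lit 765648652)) (.leaf (nat_lit 286752256))) (.leaf (nat_lit 2252892171)))) (.node
    (.node (.node (.leaf (nat_lit 431076617)) (.leaf (nat_lit 1367074304))) (.leaf (nat_lit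
    1142351113))) (.node (.node (.leaf (nat_lit 1087645958)) (.leaf (nat_lit 360757767))) (.leaf
    (nat_lit 2462704137))))))) (.node (.node (.node (.node (.node (.node (.leaf (nat_lit 33558530))
    (.leaf (nat_lit 1917483014))) (.leaf (nat_lit 1233431563))) (.node (.node (.leaf (nat_lit
    557910536)) (.leaf (nat_lit 1267102464))) (.leaf (nat_lit 1982297089)))) (.node (.node (.node
    (.leaf (nat_lit 275807492)) (.leaf (nat_lit 3210290440))) (.leaf (nat_lit 1604540682))) (.node
    (.node (.leaf (nat_lit 876825603)) (.leaf (nat_lit 139617024))) (.leaf (nat_lit 2405801476)))))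
    (.node (.node (.node (.node (.leaf (nat_lit 148915201)) (.leaf (nat_lit 3002607873))) (.leaf
    (nat_lit 1421167628))) (.node (.node (.leaf (nat_lit 729987589)) (.leaf (nat_lit 522418176)))
    (.leaf (nat_lit 2205694220)))) (.node (.node (.node (.leaf (nat_lit 217158146)) (.leaf (nat_lit
    2715563780))) (.leaf (nat_lit 1082569478))) (.node (.node (.leaf (nat_lit 1066546186)) (.leaf
    (nat_lit 284846336))) (.leaf (nat_lit 1860809219)))))) (.node (.node (.node (.node (.node
    (.leaf (nat_lit 46159626)) (.leaf (nat_lit 2085276674))) (.leaf (nat_lit 1334114571))) (.node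
    (.node (.leaf (nat_lit 350381313)) (.leaf (nat_lit 488946432))) (.leaf (nat_lit 1307038727))))
    (.node (.node (.node (.leaf (nat_lit 169953543)) (.leaf (nat_lit 2579253256))) (.leaf (nat_lit
    1048989185))) (.node (.node (.leaf (nat_lit 963769096)) (.leaf (nat_lit 296271616))) (.leaf
    (nat_lit 2501464588))))) (.node (.node (.node (.node (.leaf (nat_lit 209739529)) (.leaf
    (nat_lit 3100149769))) (.leaf (nat_lit 1510159111))) (.node (.node (.leaf (nat_lit 811705857))
    (.leaf (nat_lit 862502400))) (.leaf (nat_lit 1442357257)))) (.node (.node (.node (.leaf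
    (nat_lit 251777800)) (.leaf (nat_lit 1129940736))) (.leaf (nat_lit 1900484107))) (.node (.node
    (.leaf (nat_lit 1155813644)) (.leaf (nat_lit 95442695))) (.leaf (nat_lit 2695500554))))))))
    (.node (.node (.node (.node (.node (.node (.node (.leaf (nat_lit 9441286)) (.leaf (nat_lit
    1952079618))) (.leaf (nat_lit 1214552070))) (.node (.node (.leaf (nat_lit 281149697)) (.leaf
    (nat_lit 466176256))) (.leaf (nat_lit 1975816201)))) (.node (.node (.node (.leaf (nat_lit
    134281473)) (.leaf (nat_lit 3188291847))) (.leaf (nat_lit 1580421898))) (.node (.node (.leaf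
    (nat_lit 870436611)) (.leaf (nat_lit 1735894528))) (.leaf (nat_lit 2381891587))))) (.node
    (.node (.node (.node (.leaf (nat_lit 137394439)) (.leaf (nat_lit 2588612609))) (.leaf (nat_lit
    1401089800))) (.node (.node (.leaf (nat_lit 700622603)) (.leaf (nat_lit 252425472))) (.leaf
    (nat_lit 2182619660)))) (.node (.node (.node (.leaf (nat_lit 266437381)) (.leaf (nat_lit
    1664747264))) (.leaf (nat_lit 1773395977))) (.node (.node (.leaf (nat_lit 1040441604)) (.leaf
    (nat_lit 134250250))) (.leaf (nat_lit 2577799432)))))) (.node (.node (.node (.node (.node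
    (.leaf (nat_lit 35670281)) (.leaf (nat_lit 2873799947))) (.leaf (nat_lit 1311950090))) (.node
    (.node (.leaf (nat_lit 618812171)) (.leaf (nat_lit 246103296))) (.leaf (nat_lit 2037889804))))
    (.node (.node (.node (.leaf (nat_lit 328242948)) (.leaf (nat_lit 3267113484))) (.leaf (nat_lit
    1666419207))) (.node (.node (.leaf (nat_lit 822313985)) (.leaf (nat_lit 293708032))) (.leaf
    (nat_lit 2473146124))))) (.node (.node (.node (.node (.leaf (nat_lit 194034187)) (.leaf
    (nat_lit 2335931138))) (.leaf (nat_lit 1488135169))) (.node (.node (.leaf (nat_lit 788635649))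
    (.leaf (nat_lit 271103232))) (.leaf (nat_lit 2289385226)))) (.node (.node (.node (.leaf
    (nat_lit 240239617)) (.leaf (nat_lit 486874368))) (.leaf (nat_lit 1871117323))) (.node (.node
    (.leaf (nat_lit 1128546571)) (.leaf (nat_lit 101747205))) (.leaf (nat_lit 2677667849)))))))
    (.node (.node (.node (.node (.node (.node (.leaf (nat_lit 46148620)) (.leaf (nat_lit
    2841065730))) (.leaf (nat_lit 737458953))) (.node (.node (.leaf (nat_lit 565323276)) (.leaf
    (nat_lit 2044250112))) (.leaf (nat_lit 2030352905)))) (.node (.node (.node (.leaf (nat_lit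
    146872326)) (.leaf (nat_lit 3230218243))) (.leaf (nat_lit 1625514762))) (.node (.node (.leaf
    (nat_lit 498295045)) (.leaf (nat_lit 2118640896))) (.leaf (nat_lit 2428873992))))) (.node
    (.node (.node (.node (.leaf (nat_lit 127966470)) (.leaf (nat_lit 3028829194))) (.leaf (nat_lit
    1389716492))) (.node (.node (.leaf (nat_lit 731041026)) (.leaf (nat_lit 99264512))) (.leaf
    (nat_lit 2234851587)))) (.node (.node (.node (.leaf (nat_lit 220308745)) (.leaf (nat_lit
    3207290376))) (.leaf (nat_lit 1102499077))) (.node (.node (.leaf (nat_lit 1092883211)) (.leaf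
    (nat_lit 339811079))) (.leaf (nat_lit 1703529990)))))) (.node (.node (.node (.node (.node
    (.leaf (nat_lit 80766726)) (.leaf (nat_lit 2926027779))) (.leaf (nat_lit 771034630))) (.node
    (.node (.leaf (nat_lit 350385925)) (.leaf (nat_lit 798188288))) (.leaf (nat_lit 2131027975))))
    (.node (.node (.node (.leaf (nat_lit 364947458)) (.leaf (nat_lit 2971354633))) (.leaf (nat_lit
    1528195338))) (.node (.node (.leaf (nat_lit 989048844)) (.leaf (nat_lit 192272128))) (.leaf
    (nat_lit 2529553924))))) (.node (.node (.node (.node (.leaf (nat_lit 228615681)) (.leaf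
    (nat_lit 3127420420))) (.leaf (nat_lit 1535328520))) (.node (.node (.leaf (nat_lit 758322690))
    (.leaf (nat_lit 1518746368))) (.leaf (nat_lit 2343079171)))) (.node (.node (.node (.leaf
    (nat_lit 283239176)) (.leaf (nat_lit 1725405696))) (.leaf (nat_lit 1924422152))) (.node (.leaf
    (nat_lit 1172597260)) (.leaf (nat_lit 1888103690))))))))) (.node (.node (.node (.node (.node
    (.node (.node (.node (.leaf (nat_lit 8391429)) (.leaf (nat_lit 2772892164))) (.leaf (nat_lit
    1221889540))) (.node (.node (.leaf (nat_lit 266468103)) (.leaf (nat_lit 731255040))) (.leaf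
    (nat_lit 1897351937)))) (.node (.node (.node (.leaf (nat_lit 253785353)) (.leaf (nat_lit
    3174633993))) (.leaf (nat_lit 895866886))) (.node (.node (.leaf (nat_lit 483603209)) (.leaf
    (nat_lit 2336436737))) (.leaf (nat_lit 2373290500))))) (.node (.node (.node (.node (.leaf
    (nat_lit 98597379)) (.leaf (nat_lit 2141916423))) (.leaf (nat_lit 1375022092))) (.node (.node
    (.leaf (nat_lit 699496968)) (.leaf (nat_lit 2347293184))) (.leaf (nat_lit 2174025479)))) (.node
    (.node (.node (.leaf (nat_lit 264337669)) (.leaf (nat_lit 2827669507))) (.leaf (nat_lit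
    1760989195))) (.node (.node (.leaf (nat_lit 1006883075)) (.leaf (nat_lit 154390784))) (.leaf
    (nat_lit 2566259458)))))) (.node (.node (.node (.node (.node (.leaf (nat_lit 67125516)) (.leaf
    (nat_lit 2867291399))) (.leaf (nat_lit 1269094155))) (.node (.node (.leaf (nat_lit 613495299))
    (.leaf (nat_lit 349963776))) (.leaf (nat_lit 1411887114)))) (.node (.node (.node (.leaf
    (nat_lit 188821513)) (.leaf (nat_lit 2556175625))) (.leaf (nat_lit 1650862860))) (.node (.node
    (.leaf (nat_lit 510884102)) (.leaf (nat_lit 281099520))) (.leaf (nat_lit 2461401864))))) (.node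
    (.node (.node (.node (.leaf (nat_lit 94417670)) (.leaf (nat_lit 2257284357))) (.leaf (nat_lit
    844464390))) (.node (.node (.leaf (nat_lit 767748102)) (.leaf (nat_lit 130492416))) (.leaf
    (nat_lit 1400403206)))) (.node (.node (.node (.leaf (nat_lit 466671876)) (.leaf (nat_lit
    1220136192))) (.leaf (nat_lit 1863596545))) (.node (.node (.leaf (nat_lit 980694280)) (.leaf
    (nat_lit 118514946))) (.leaf (nat_lit 1741286149))))))) (.node (.node (.node (.node (.node
    (.node (.leaf (nat_lit 38803201)) (.leaf (nat_lit 2824505100))) (.leaf (nat_lit 1262661124)))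
    (.node (.node (.leaf (nat_lit 565309187)) (.leaf (nat_lit 1406504192))) (.leaf (nat_lit
    2014622209)))) (.node (.node (.node (.leaf (nat_lit 285245193)) (.leaf (nat_lit 3218682115)))
    (.leaf (nat_lit 1613103884))) (.node (.node (.leaf (nat_lit 493048837)) (.leaf (nat_lit
    206185216))) (.leaf (nat_lit 1724449284))))) (.node (.node (.node (.node (.leaf (nat_lit
    154178566)) (.leaf (nat_lit 3016277256))) (.leaf (nat_lit 1435695363))) (.node (.node (.leaf
    (nat_lit 720552705)) (.leaf (nat_lit 477243392))) (.leaf (nat_lit 2220168200)))) (.node (.node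
    (.node (.leaf (nat_lit 216111365)) (.leaf (nat_lit 3199984129))) (.leaf (nat_lit 1087815944)))
    (.node (.node (.leaf (nat_lit 1072956939)) (.leaf (nat_lit 282143745))) (.leaf (nat_lit
    2614738956)))))) (.node (.node (.node (.node (.node (.leaf (nat_lit 54550024)) (.leaf (nat_lit
    2132465926))) (.leaf (nat_lit 771032327))) (.node (.node (.leaf (nat_lit 350383626)) (.leaf
    (nat_lit 810767104))) (.leaf (nat_lit 2117395202)))) (.node (.node (.node (.leaf (nat_lit
    353431305)) (.leaf (nat_lit 2580301824))) (.leaf (nat_lit 1708368641))) (.node (.node (.leaf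
    (nat_lit 973317132)) (.leaf (nat_lit 309475328))) (.leaf (nat_lit 1589206538))))) (.node (.node
    (.node (.node (.leaf (nat_lit 215011595)) (.leaf (nat_lit 3112915713))) (.leaf (nat_lit
    872787206))) (.node (.node (.leaf (nat_lit 463671047)) (.leaf (nat_lit 438798848))) (.leaf
    (nat_lit 2331333896)))) (.node (.node (.node (.leaf (nat_lit 248634370)) (.leaf (nat_lit
    896839936))) (.leaf (nat_lit 1913935626))) (.node (.leaf (nat_lit 1168399883)) (.leaf (nat_lit
    2718572802)))))))) (.node (.node (.node (.node (.node (.node (.node (.leaf (nat_lit 23074563))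
    (.leaf (nat_lit 2799115268))) (.leaf (nat_lit 710189829))) (.node (.node (.leaf (nat_lit
    548472584)) (.leaf (nat_lit 507841280))) (.leaf (nat_lit 1988401418)))) (.node (.node (.node
    (.leaf (nat_lit 258015238)) (.leaf (nat_lit 2451303174))) (.leaf (nat_lit 1583737611))) (.node
    (.node (.leaf (nat_lit 872629516)) (.leaf (nat_lit 965296896))) (.leaf (nat_lit 2393217538)))))
    (.node (.node (.node (.node (.leaf (nat_lit 108038148)) (.leaf (nat_lit 2990022409))) (.leaf
    (nat_lit 798310918))) (.node (.node (.leaf (nat_lit 721520899)) (.leaf (nat_lit 867536128)))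
    (.leaf (nat_lit 2197095945)))) (.node (.node (.node (.leaf (nat_lit 414285571)) (.leaf (nat_lit
    1746536448))) (.leaf (nat_lit 1784934154))) (.node (.node (.leaf (nat_lit 1014229505)) (.leaf
    (nat_lit 122738176))) (.leaf (nat_lit 1651090182)))))) (.node (.node (.node (.node (.node
    (.leaf (nat_lit 84944650)) (.leaf (nat_lit 2887219465))) (.leaf (nat_lit 755297801))) (.node
    (.node (.leaf (nat_lit 330456839)) (.leaf (nat_lit 469331968))) (.leaf (nat_lit 1458030089))))
    (.node (.node (.node (.leaf (nat_lit 306266630)) (.leaf (nat_lit 3287908609))) (.leaf (nat_lit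
    1679004167))) (.node (.node (.leaf (nat_lit 953282057)) (.leaf (nat_lit 576859136))) (.leaf
    (nat_lit 2409186049))))) (.node (.node (.node (.node (.leaf (nat_lit 103858689)) (.leaf
    (nat_lit 2288748293))) (.leaf (nat_lit 919966977))) (.node (.node (.leaf (nat_lit 785579020))
    (.leaf (nat_lit 278408960))) (.leaf (nat_lit 2287506434)))) (.node (.node (.node (.leaf
    (nat_lit 242338566)) (.leaf (nat_lit 1330008832))) (.leaf (nat_lit 1884751622))) (.node (.node
    (.leaf (nat_lit 669272584)) (.leaf (nat_lit 163608584))) (.leaf (nat_lit 1792673543)))))))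
    (.node (.node (.node (.node (.node (.node (.leaf (nat_lit 25178888)) (.leaf (nat_lit
    1950877705))) (.leaf (nat_lit 1280488194))) (.node (.node (.leaf (nat_lit 588323335)) (.leaf
    (nat_lit 747837184))) (.leaf (nat_lit 1285003528)))) (.node (.node (.node (.leaf (nat_lit
    302063884)) (.leaf (nat_lit 3207336200))) (.leaf (nat_lit 1142298369))) (.node (.node (.leaf
    (nat_lit 874736395)) (.leaf (nat_lit 561694720))) (.leaf (nat_lit 2434340107))))) (.node (.node
    (.node (.node (.leaf (nat_lit 171986179)) (.leaf (nat_lit 2246792458))) (.leaf (nat_lit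
    1459815427))) (.node (.node (.leaf (nat_lit 660788993)) (.leaf (nat_lit 518466048))) (.leaf
    (nat_lit 2240306955)))) (.node (.node (.node (.leaf (nat_lit 396471297)) (.leaf (nat_lit
    1254471424))) (.leaf (nat_lit 1839472388))) (.node (.node (.leaf (nat_lit 1104420354)) (.leaf
    (nat_lit 1061248009))) (.leaf (nat_lit 2642939652)))))) (.node (.node (.node (.node (.node
    (.leaf (nat_lit 114317319)) (.leaf (nat_lit 2940710919))) (.leaf (nat_lit 1135942148))) (.node
    (.node (.leaf (nat_lit 672225287)) (.leaf (nat_lit 441589760))) (.leaf (nat_lit 2129133324))))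
    (.node (.node (.node (.leaf (nat_lit 297886721)) (.leaf (nat_lit 1274482176))) (.leaf (nat_lit
    1733540361))) (.node (.node (.leaf (nat_lit 916699649)) (.leaf (nat_lit 361435904))) (.leaf
    (nat_lit 2497279746))))) (.node (.node (.node (.node (.leaf (nat_lit 116449285)) (.leaf
    (nat_lit 3141061384))) (.leaf (nat_lit 924172810))) (.node (.node (.leaf (nat_lit 838017036))
    (.leaf (nat_lit 1506466304))) (.leaf (nat_lit 1718142218)))) (.node (.node (.node (.leaf
    (nat_lit 514913032)) (.leaf (nat_lit 411585280))) (.leaf (nat_lit 1935957767))) (.node (.leaf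
    (nat_lit 1179939851)) (.leaf (nat_lit 2587507721)))))))))))) (.node (.node (.node (.node (.node
    (.node (.node (.node (.node (.node (.node (.leaf (nat_lit 11)) (.leaf (nat_lit 2751940361)))
    (.leaf (nat_lit 1199733249))) (.node (.node (.leaf (nat_lit 276950274)) (.leaf (nat_lit
    419706880))) (.leaf (nat_lit 1942250241)))) (.node (.node (.node (.leaf (nat_lit 121693191))
    (.leaf (nat_lit 3148408583))) (.leaf (nat_lit 1547027467))) (.node (.node (.leaf (nat_lit
    842212363)) (.leaf (nat_lit 1748494848))) (.leaf (nat_lit 2359657481))))) (.node (.node (.node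
    (.node (.leaf (nat_lit 61894659)) (.leaf (nat_lit 2947004417))) (.leaf (nat_lit 778378501)))
    (.node (.node (.leaf (nat_lit 678518792)) (.leaf (nat_lit 524848384))) (.leaf (nat_lit
    2075656970)))) (.node (.node (.node (.leaf (nat_lit 339830529)) (.leaf (nat_lit 2069519104)))
    (.leaf (nat_lit 1738784775))) (.node (.node (.leaf (nat_lit 568573443)) (.leaf (nat_lit
    359051520))) (.leaf (nat_lit 2328460296)))))) (.node (.node (.node (.node (.node (.leaf
    (nat_lit 39859458)) (.leaf (nat_lit 1988784904))) (.leaf (nat_lit 801425414))) (.node (.node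
    (.leaf (nat_lit 591541772)) (.leaf (nat_lit 350679296))) (.leaf (nat_lit 2033687814)))) (.node
    (.node (.node (.leaf (nat_lit 185672454)) (.leaf (nat_lit 3242803458))) (.leaf (nat_lit
    1635129868))) (.node (.node (.leaf (nat_lit 576941320)) (.leaf (nat_lit 570065408))) (.leaf
    (nat_lit 1550391558))))) (.node (.node (.node (.node (.leaf (nat_lit 87074314)) (.leaf (nat_lit
    2724944133))) (.leaf (nat_lit 1464010243))) (.node (.node (.leaf (nat_lit 765647627)) (.leaf
    (nat_lit 235993856))) (.leaf (nat_lit 2251631874)))) (.node (.node (.node (.leaf (nat_lit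
    453038596)) (.leaf (nat_lit 2754351616))) (.leaf (nat_lit 1118232070))) (.node (.node (.leaf
    (nat_lit 1100227084)) (.leaf (nat_lit 297864961))) (.leaf (nat_lit 2648073218))))))) (.node
    (.node (.node (.node (.node (.node (.leaf (nat_lit 26221058)) (.leaf (nat_lit 2802479627)))
    (.leaf (nat_lit 1225041675))) (.node (.node (.leaf (nat_lit 285347332)) (.leaf (nat_lit
    928346368))) (.leaf (nat_lit 1980198148)))) (.node (.node (.node (.leaf (nat_lit 271612680))
    (.leaf (nat_lit 2473324549))) (.leaf (nat_lit 899018502))) (.node (.node (.leaf (nat_lit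
    504580105)) (.leaf (nat_lit 965201152))) (.leaf (nat_lit 2396363777))))) (.node (.node (.node
    (.node (.leaf (nat_lit 145768451)) (.leaf (nat_lit 2327521031))) (.leaf (nat_lit 1414722563)))
    (.node (.node (.leaf (nat_lit 722646284)) (.leaf (nat_lit 904601344))) (.leaf (nat_lit
    1353200390)))) (.node (.node (.node (.leaf (nat_lit 416386572)) (.leaf (nat_lit 1746315528)))
    (.leaf (nat_lit 1062644998))) (.node (.node (.leaf (nat_lit 1058156809)) (.leaf (nat_lit
    47910656))) (.leaf (nat_lit 2595628041)))))) (.node (.node (.node (.node (.node (.leaf (nat_lit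
    71323137)) (.leaf (nat_lit 2019214594))) (.leaf (nat_lit 810873353))) (.node (.node (.leaf
    (nat_lit 345137409)) (.leaf (nat_lit 247921920))) (.leaf (nat_lit 2093275649)))) (.node (.node
    (.node (.leaf (nat_lit 186729473)) (.leaf (nat_lit 3217834755))) (.leaf (nat_lit 963003653)))
    (.node (.node (.leaf (nat_lit 541298433)) (.leaf (nat_lit 108053248))) (.leaf (nat_lit
    2492848643))))) (.node (.node (.node (.node (.leaf (nat_lit 169919492)) (.leaf (nat_lit
    2879080960))) (.leaf (nat_lit 1502818314))) (.node (.node (.leaf (nat_lit 805413889)) (.leaf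
    (nat_lit 554384384))) (.leaf (nat_lit 1423480838)))) (.node (.node (.node (.leaf (nat_lit
    479317259)) (.leaf (nat_lit 467362048))) (.leaf (nat_lit 1891044875))) (.node (.node (.leaf
    (nat_lit 948194305)) (.leaf (nat_lit 77858560))) (.leaf (nat_lit 2697376769)))))))) (.node
    (.node (.node (.node (.node (.node (.node (.leaf (nat_lit 13634828)) (.leaf (nat_lit
    1931106306))) (.leaf (nat_lit 1226084875))) (.node (.node (.leaf (nat_lit 527564300)) (.leaf
    (nat_lit 268911616))) (.leaf (nat_lit 1963413771)))) (.node (.node (.node (.leaf (nat_lit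
    254866444)) (.leaf (nat_lit 2475415553))) (.leaf (nat_lit 1573238019))) (.node (.node (.leaf
    (nat_lit 858994700)) (.leaf (nat_lit 2408252160))) (.leaf (nat_lit 1730730502))))) (.node
    (.node (.node (.node (.leaf (nat_lit 132135426)) (.leaf (nat_lit 2973232647))) (.leaf (nat_lit
    793063686))) (.node (.node (.leaf (nat_lit 703691784)) (.leaf (nat_lit 1329129728))) (.leaf
    (nat_lit 1346903301)))) (.node (.node (.node (.leaf (nat_lit 347175946)) (.leaf (nat_lit
    2834001410))) (.leaf (nat_lit 1031181318))) (.node (.node (.leaf (nat_lit 1033099787)) (.leaf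
    (nat_lit 299091200))) (.leaf (nat_lit 2507772428)))))) (.node (.node (.node (.node (.node
    (.leaf (nat_lit 69223180)) (.leaf (nat_lit 2154475782))) (.leaf (nat_lit 1304609289))) (.node
    (.node (.leaf (nat_lit 617689859)) (.leaf (nat_lit 291966976))) (.leaf (nat_lit 1290253320))))
    (.node (.node (.node (.leaf (nat_lit 158413317)) (.leaf (nat_lit 3122407425))) (.leaf (nat_lit
    1147547394))) (.node (.node (.leaf (nat_lit 515079433)) (.leaf (nat_lit 164076800))) (.leaf
    (nat_lit 2465577985))))) (.node (.node (.node (.node (.leaf (nat_lit 96515585)) (.leaf (nat_lit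
    3073927939))) (.leaf (nat_lit 888505349))) (.node (.node (.leaf (nat_lit 441641476)) (.leaf
    (nat_lit 495505920))) (.leaf (nat_lit 2007530498)))) (.node (.node (.node (.leaf (nat_lit
    419544841)) (.leaf (nat_lit 2629565440))) (.leaf (nat_lit 1866921227))) (.node (.node (.leaf
    (nat_lit 1134715401)) (.leaf (nat_lit 145776903))) (.leaf (nat_lit 2668003592))))))) (.node
    (.node (.node (.node (.node (.node (.leaf (nat_lit 19933192)) (.leaf (nat_lit 2831627011)))
    (.leaf (nat_lit 724874756))) (.node (.node (.leaf (nat_lit 522329861)) (.leaf (nat_lit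
    482694400))) (.leaf (nat_lit 1403487491)))) (.node (.node (.node (.leaf (nat_lit 289440003))
    (.leaf (nat_lit 3222876932))) (.leaf (nat_lit 1618333956))) (.node (.node (.leaf (nat_lit
    895703563)) (.leaf (nat_lit 92452864))) (.leaf (nat_lit 2378761729))))) (.node (.node (.node
    (.node (.leaf (nat_lit 158373900)) (.leaf (nat_lit 2207990021))) (.leaf (nat_lit 800414725)))
    (.node (.node (.leaf (nat_lit 746689027)) (.leaf (nat_lit 109501184))) (.leaf (nat_lit
    1472743945)))) (.node (.node (.node (.leaf (nat_lit 428973317)) (.leaf (nat_lit 3050063360)))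
    (.leaf (nat_lit 1814480139))) (.node (.node (.leaf (nat_lit 630459139)) (.leaf (nat_lit
    305207560))) (.leaf (nat_lit 2622898951)))))) (.node (.node (.node (.node (.node (.leaf
    (nat_lit 53502217)) (.leaf (nat_lit 2916802060))) (.leaf (nat_lit 1352850184))) (.node (.node
    (.leaf (nat_lit 655520267)) (.leaf (nat_lit 286590208))) (.leaf (nat_lit 2120738564)))) (.node
    (.node (.node (.leaf (nat_lit 180442371)) (.leaf (nat_lit 2911605760))) (.leaf (nat_lit
    1223057665))) (.node (.node (.leaf (nat_lit 757311496)) (.leaf (nat_lit 162215424))) (.leaf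
    (nat_lit 2511954699))))) (.node (.node (.node (.node (.leaf (nat_lit 111203594)) (.leaf
    (nat_lit 2545655047))) (.leaf (nat_lit 1526050827))) (.node (.node (.leaf (nat_lit 824290312))
    (.leaf (nat_lit 48333056))) (.leaf (nat_lit 2273882882)))) (.node (.node (.node (.leaf (nat_lit
    252829445)) (.leaf (nat_lit 489874944))) (.leaf (nat_lit 1906779397))) (.node (.leaf (nat_lit
    655647494)) (.leaf (nat_lit 2723599370))))))))) (.node (.node (.node (.node (.node (.node
    (.node (.node (.leaf (nat_lit 5244421)) (.leaf (nat_lit 2765551362))) (.leaf (nat_lit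
    695502090))) (.node (.node (.leaf (nat_lit 261223945)) (.leaf (nat_lit 1176889856))) (.leaf
    (nat_lit 1951688963)))) (.node (.node (.node (.leaf (nat_lit 129035267)) (.leaf (nat_lit
    2431371530))) (.leaf (nat_lit 1561545729))) (.node (.node (.leaf (nat_lit 845360391)) (.leaf
    (nat_lit 438425603))) (.leaf (nat_lit 1488507398))))) (.node (.node (.node (.node (.leaf
    (nat_lit 103839237)) (.leaf (nat_lit 2958545923))) (.leaf (nat_lit 1383409675))) (.node (.node
    (.leaf (nat_lit 691107080)) (.leaf (nat_lit 136602368))) (.leaf (nat_lit 1469583370)))) (.node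
    (.node (.node (.leaf (nat_lit 197227274)) (.leaf (nat_lit 2747985154))) (.leaf (nat_lit
    1752420103))) (.node (.node (.leaf (nat_lit 569625865)) (.leaf (nat_lit 194150144))) (.leaf
    (nat_lit 2558918407)))))) (.node (.node (.node (.node (.node (.leaf (nat_lit 30424328)) (.leaf
    (nat_lit 2855969804))) (.leaf (nat_lit 1293092362))) (.node (.node (.leaf (nat_lit 333595400))
    (.leaf (nat_lit 1268091136))) (.leaf (nat_lit 2055520771)))) (.node (.node (.node (.leaf
    (nat_lit 314610689)) (.leaf (nat_lit 2525765381))) (.leaf (nat_lit 1173759241))) (.node (.node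
    (.leaf (nat_lit 928113665)) (.leaf (nat_lit 3127971081))) (.leaf (nat_lit 1554588933)))))
    (.node (.node (.node (.node (.leaf (nat_lit 183522313)) (.leaf (nat_lit 3041616907))) (.leaf
    (nat_lit 948272130))) (.node (.node (.leaf (nat_lit 641917701)) (.leaf (nat_lit 130085120)))
    (.leaf (nat_lit 1396206853)))) (.node (.node (.node (.leaf (nat_lit 344045571)) (.leaf (nat_lit
    395983360))) (.leaf (nat_lit 1856255490))) (.node (.node (.leaf (nat_lit 1121201669)) (.leaf
    (nat_lit 155217672))) (.leaf (nat_lit 2455364874))))))) (.node (.node (.node (.node (.node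
    (.node (.leaf (nat_lit 34611714)) (.leaf (nat_lit 1958378759))) (.leaf (nat_lit 723824388)))
    (.node (.node (.leaf (nat_lit 546444811)) (.leaf (nat_lit 424986624))) (.leaf (nat_lit
    2006232839)))) (.node (.node (.node (.leaf (nat_lit 238094854)) (.leaf (nat_lit 3213436676)))
    (.leaf (nat_lit 1607686663))) (.node (.node (.leaf (nat_lit 887312130)) (.leaf (nat_lit
    749270016))) (.leaf (nat_lit 2411045379))))) (.node (.node (.node (.node (.leaf (nat_lit
    88117508)) (.leaf (nat_lit 3007851018))) (.leaf (nat_lit 1427460612))) (.node (.node (.leaf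
    (nat_lit 736202243)) (.leaf (nat_lit 555951872))) (.leaf (nat_lit 1459108868)))) (.node (.node
    (.node (.leaf (nat_lit 424725255)) (.leaf (nat_lit 3173794304))) (.leaf (nat_lit 1804861703)))
    (.node (.node (.leaf (nat_lit 1067712011)) (.leaf (nat_lit 125907712))) (.leaf (nat_lit
    2606188042)))))) (.node (.node (.node (.node (.node (.leaf (nat_lit 89151755)) (.leaf (nat_lit
    2060112136))) (.leaf (nat_lit 1340266249))) (.node (.node (.leaf (nat_lit 408053766)) (.leaf
    (nat_lit 790765320))) (.leaf (nat_lit 1322768903)))) (.node (.node (.node (.leaf (nat_lit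
    346115339)) (.leaf (nat_lit 3302597897))) (.leaf (nat_lit 1697881353))) (.node (.node (.leaf
    (nat_lit 535010311)) (.leaf (nat_lit 859371264))) (.leaf (nat_lit 2389267713))))) (.node (.node
    (.node (.node (.leaf (nat_lit 112249610)) (.leaf (nat_lit 3106443786))) (.leaf (nat_lit
    863347974))) (.node (.node (.leaf (nat_lit 761465099)) (.leaf (nat_lit 1318770176))) (.leaf
    (nat_lit 2322944258)))) (.node (.node (.node (.leaf (nat_lit 244438794)) (.leaf (nat_lit
    535248640))) (.leaf (nat_lit 1871124483))) (.node (.node (.leaf (nat_lit 652498181)) (.leaf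
    (nat_lit 2689622276))) (.leaf (nat_lit 1829378056)))))))) (.node (.node (.node (.node (.node
    (.node (.node (.leaf (nat_lit 18879244)) (.leaf (nat_lit 1926915080))) (.leaf (nat_lit
    707042053))) (.node (.node (.leaf (nat_lit 542179849)) (.leaf (nat_lit 1458930688))) (.leaf
    (nat_lit 1973903628)))) (.node (.node (.node (.leaf (nat_lit 252771075)) (.leaf (nat_lit
    3189498636))) (.leaf (nat_lit 897967617))) (.node (.node (.leaf (nat_lit 873582346)) (.leaf
    (nat_lit 1750662656))) (.leaf (nat_lit 2385875460))))) (.node (.node (.node (.node (.leaf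
    (nat_lit 126911751)) (.leaf (nat_lit 2982680583))) (.leaf (nat_lit 1405284618))) (.node (.node
    (.leaf (nat_lit 452111112)) (.leaf (nat_lit 506815488))) (.leaf (nat_lit 2187658243)))) (.node
    (.node (.node (.leaf (nat_lit 408995586)) (.leaf (nat_lit 1059699712))) (.leaf (nat_lit
    1773575436))) (.node (.node (.leaf (nat_lit 985916678)) (.leaf (nat_lit 264688128))) (.leaf
    (nat_lit 1881775370)))))) (.node (.node (.node (.node (.node (.leaf (nat_lit 79701511)) (.leaf
    (nat_lit 2880926209))) (.leaf (nat_lit 1315235596))) (.node (.node (.leaf (nat_lit 628177153))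
    (.leaf (nat_lit 749267968))) (.leaf (nat_lit 2080689153)))) (.node (.node (.node (.leaf
    (nat_lit 162610438)) (.leaf (nat_lit 3276551948))) (.leaf (nat_lit 1667643659))) (.node (.node
    (.leaf (nat_lit 946989827)) (.leaf (nat_lit 3012626689))) (.leaf (nat_lit 2478382087)))))
    (.node (.node (.node (.node (.leaf (nat_lit 178306310)) (.leaf (nat_lit 2347466503))) (.leaf
    (nat_lit 1491281161))) (.node (.node (.leaf (nat_lit 792830209)) (.leaf (nat_lit 287844608)))
    (.leaf (nat_lit 2295677447)))) (.node (.node (.node (.leaf (nat_lit 477159176)) (.leaf (nat_lit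
    1225517568))) (.leaf (nat_lit 1877409798))) (.node (.node (.leaf (nat_lit 1145324811)) (.leaf
    (nat_lit 47197447))) (.leaf (nat_lit 1779039749))))))) (.node (.node (.node (.node (.node
    (.node (.leaf (nat_lit 49288455)) (.leaf (nat_lit 2843383819))) (.leaf (nat_lit 1270136326)))
    (.node (.node (.leaf (nat_lit 525478406)) (.leaf (nat_lit 219543040))) (.leaf (nat_lit
    2033498882)))) (.node (.node (.node (.leaf (nat_lit 295741961)) (.leaf (nat_lit 3191606023)))
    (.leaf (nat_lit 1609961740))) (.node (.node (.leaf (nat_lit 906191878)) (.leaf (nat_lit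
    2965078784))) (.leaf (nat_lit 2431192844))))) (.node (.node (.node (.node (.leaf (nat_lit
    100704262)) (.leaf (nat_lit 2749058562))) (.leaf (nat_lit 1405446156))) (.node (.node (.leaf
    (nat_lit 755078403)) (.leaf (nat_lit 2115534848))) (.leaf (nat_lit 2240106760)))) (.node (.node
    (.node (.leaf (nat_lit 443656196)) (.leaf (nat_lit 3228258570))) (.leaf (nat_lit 1830034180)))
    (.node (.node (.leaf (nat_lit 621024775)) (.leaf (nat_lit 294720001))) (.leaf (nat_lit
    2636535553)))))) (.node (.node (.node (.node (.node (.leaf (nat_lit 104884491)) (.leaf (nat_lit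
    2884299266))) (.leaf (nat_lit 1225069314))) (.node (.node (.leaf (nat_lit 649231115)) (.leaf
    (nat_lit 1566991616))) (.leaf (nat_lit 2109208076)))) (.node (.node (.node (.leaf (nat_lit
    182542090)) (.leaf (nat_lit 2066372096))) (.leaf (nat_lit 1725284361))) (.node (.node (.leaf
    (nat_lit 860074755)) (.leaf (nat_lit 174246656))) (.leaf (nat_lit 2533748489))))) (.node (.node
    (.node (.node (.leaf (nat_lit 148954120)) (.leaf (nat_lit 3131616515))) (.leaf (nat_lit
    1538474761))) (.node (.node (.leaf (nat_lit 830675724)) (.leaf (nat_lit 563594752))) (.leaf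
    (nat_lit 2016984838)))) (.node (.node (.node (.leaf (nat_lit 509669890)) (.leaf (nat_lit
    753256704))) (.leaf (nat_lit 1930714627))) (.node (.leaf (nat_lit 664038917)) (.leaf (nat_lit
    2738284034)))))))))) (.node (.node (.node (.node (.node (.node (.node (.node (.node (.leaf
    (nat_lit 3146499)) (.leaf (nat_lit 2603238657))) (.leaf (nat_lit 1206027273))) (.node (.node
    (.leaf (nat_lit 518123526)) (.leaf (nat_lit 444335616))) (.leaf (nat_lit 1913077516)))) (.node
    (.node (.node (.leaf (nat_lit 245395721)) (.leaf (nat_lit 3157854727))) (.leaf (nat_lit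
    885377799))) (.node (.node (.leaf (nat_lit 849462536)) (.leaf (nat_lit 958909952))) (.leaf
    (nat_lit 2363852289))))) (.node (.node (.node (.node (.leaf (nat_lit 60846851)) (.leaf (nat_lit
    2106261255))) (.leaf (nat_lit 1375019787))) (.node (.node (.leaf (nat_lit 685936139)) (.leaf
    (nat_lit 565391616))) (.leaf (nat_lit 2156398860)))) (.node (.node (.node (.leaf (nat_lit
    190934025)) (.leaf (nat_lit 1897372936))) (.leaf (nat_lit 1682342146))) (.node (.node (.leaf
    (nat_lit 1014108425)) (.leaf (nat_lit 358204672))) (.leaf (nat_lit 1631158791)))))) (.node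
    (.node (.node (.node (.node (.leaf (nat_lit 46151687)) (.leaf (nat_lit 2645174785))) (.leaf
    (nat_lit 1274334220))) (.node (.node (.leaf (nat_lit 321010946)) (.leaf (nat_lit 59122944)))
    (.leaf (nat_lit 2049228803)))) (.node (.node (.node (.leaf (nat_lit 295773964)) (.leaf (nat_lit
    3248232971))) (.leaf (nat_lit 1142300421))) (.node (.node (.leaf (nat_lit 922955010)) (.leaf
    (nat_lit 132152580))) (.leaf (nat_lit 2445877260))))) (.node (.node (.node (.node (.leaf
    (nat_lit 174106636)) (.leaf (nat_lit 2248891913))) (.leaf (nat_lit 1176860676))) (.node (.node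
    (.leaf (nat_lit 770808330)) (.leaf (nat_lit 284654080))) (.leaf (nat_lit 2256875016)))) (.node
    (.node (.node (.leaf (nat_lit 457246474)) (.leaf (nat_lit 1970970368))) (.leaf (nat_lit
    1848042252))) (.node (.node (.leaf (nat_lit 632563720)) (.leaf (nat_lit 357612807))) (.leaf
    (nat_lit 2463752457))))))) (.node (.node (.node (.node (.node (.node (.leaf (nat_lit 28319243))
    (.leaf (nat_lit 2810651144))) (.leaf (nat_lit 1241819915))) (.node (.node (.leaf (nat_lit
    556861959)) (.leaf (nat_lit 1308157184))) (.leaf (nat_lit 1246196486)))) (.node (.node (.node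
    (.leaf (nat_lit 242287876)) (.leaf (nat_lit 2553017349))) (.leaf (nat_lit 1600517899))) (.node
    (.node (.leaf (nat_lit 496192261)) (.leaf (nat_lit 1048237568))) (.leaf (nat_lit
    2403704072))))) (.node (.node (.node (.node (.leaf (nat_lit 89165317)) (.leaf (nat_lit
    2195401989))) (.leaf (nat_lit 1421014279))) (.node (.node (.leaf (nat_lit 417511686)) (.leaf
    (nat_lit 441981696))) (.leaf (nat_lit 2206533892)))) (.node (.node (.node (.leaf (nat_lit
    216109313)) (.leaf (nat_lit 3276406279))) (.leaf (nat_lit 1796649483))) (.node (.node (.leaf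
    (nat_lit 1064448770)) (.leaf (nat_lit 333593344))) (.leaf (nat_lit 1957277962)))))) (.node
    (.node (.node (.node (.node (.leaf (nat_lit 90188553)) (.leaf (nat_lit 2897706500))) (.leaf
    (nat_lit 1333974281))) (.node (.node (.leaf (nat_lit 511861761)) (.leaf (nat_lit 220388352)))
    (.leaf (nat_lit 2099567624)))) (.node (.node (.node (.leaf (nat_lit 342968322)) (.leaf (nat_lit
    3296302088))) (.leaf (nat_lit 1687571468))) (.node (.node (.leaf (nat_lit 572757001)) (.leaf
    (nat_lit 306332928))) (.leaf (nat_lit 1575571462))))) (.node (.node (.node (.node (.leaf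
    (nat_lit 108054282)) (.leaf (nat_lit 3098147591))) (.leaf (nat_lit 1509110530))) (.node (.node
    (.leaf (nat_lit 809608449)) (.leaf (nat_lit 524780288))) (.leaf (nat_lit 2313549576)))) (.node
    (.node (.node (.leaf (nat_lit 488694535)) (.leaf (nat_lit 417935360))) (.leaf (nat_lit
    1893143564))) (.node (.node (.leaf (nat_lit 1156861956)) (.leaf (nat_lit 299966467))) (.leaf
    (nat_lit 1808404997)))))))) (.node (.node (.node (.node (.node (.node (.node (.leaf (nat_lit
    10489608)) (.leaf (nat_lit 1900699142))) (.leaf (nat_lit 1231265281))) (.node (.node (.leaf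
    (nat_lit 272761095)) (.leaf (nat_lit 444156928))) (.leaf (nat_lit 1235704324)))) (.node (.node
    (.node (.leaf (nat_lit 260110347)) (.leaf (nat_lit 2477514497))) (.leaf (nat_lit 1579373321)))
    (.node (.node (.leaf (nat_lit 862141447)) (.leaf (nat_lit 581420032))) (.leaf (nat_lit
    1494801926))))) (.node (.node (.node (.node (.leaf (nat_lit 137378819)) (.leaf (nat_lit
    2765821705))) (.leaf (nat_lit 1400041223))) (.node (.node (.leaf (nat_lit 403875333)) (.leaf
    (nat_lit 567664896))) (.leaf (nat_lit 2176327937)))) (.node (.node (.node (.leaf (nat_lit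
    399606283)) (.leaf (nat_lit 2701903879))) (.leaf (nat_lit 1116117258))) (.node (.node (.leaf
    (nat_lit 1039278600)) (.leaf (nat_lit 136342794))) (.leaf (nat_lit 1876531209)))))) (.node
    (.node (.node (.node (.node (.leaf (nat_lit 74467332)) (.leaf (nat_lit 2873584392))) (.leaf
    (nat_lit 1310901513))) (.node (.node (.leaf (nat_lit 617763334)) (.leaf (nat_lit 794311168)))
    (.leaf (nat_lit 1308080645)))) (.node (.node (.node (.leaf (nat_lit 159463173)) (.leaf (nat_lit
    3269210124))) (.leaf (nat_lit 1012282121))) (.node (.node (.leaf (nat_lit 514032390)) (.leaf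
    (nat_lit 295382784))) (.leaf (nat_lit 2472920071))))) (.node (.node (.node (.node (.leaf
    (nat_lit 194029313)) (.leaf (nat_lit 3081270276))) (.leaf (nat_lit 1486037761))) (.node (.node
    (.leaf (nat_lit 437448198)) (.leaf (nat_lit 117139200))) (.leaf (nat_lit 1409843973)))) (.node
    (.node (.node (.leaf (nat_lit 239190786)) (.leaf (nat_lit 440773888))) (.leaf (nat_lit
    1150745095))) (.node (.node (.leaf (nat_lit 1132740363)) (.leaf (nat_lit 99640073))) (.leaf
    (nat_lit 2675570699))))))) (.node (.node (.node (.node (.node (.node (.leaf (nat_lit 45093891))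
    (.leaf (nat_lit 2838968322))) (.leaf (nat_lit 1268953089))) (.node (.node (.leaf (nat_lit
    566371596)) (.leaf (nat_lit 2019157760))) (.leaf (nat_lit 1268223238)))) (.node (.node (.node
    (.leaf (nat_lit 278992651)) (.leaf (nat_lit 3229169412))) (.leaf (nat_lit 1579551756))) (.node
    (.node (.leaf (nat_lit 506683401)) (.leaf (nat_lit 51616768))) (.leaf (nat_lit 1549339139)))))
    (.node (.node (.node (.node (.leaf (nat_lit 94411786)) (.leaf (nat_lit 2336966151))) (.leaf
    (nat_lit 1284858628))) (.node (.node (.leaf (nat_lit 729992193)) (.leaf (nat_lit 247744768)))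
    (.leaf (nat_lit 1388859656)))) (.node (.node (.node (.leaf (nat_lit 440454916)) (.leaf (nat_lit
    3044804352))) (.leaf (nat_lit 1824790532))) (.node (.node (.leaf (nat_lit 621023750)) (.leaf
    (nat_lit 188105216))) (.leaf (nat_lit 2630242305)))))) (.node (.node (.node (.node (.node
    (.leaf (nat_lit 101737996)) (.leaf (nat_lit 2083185671))) (.leaf (nat_lit 1344605452))) (.node
    (.node (.leaf (nat_lit 349337094)) (.leaf (nat_lit 1499977472))) (.leaf (nat_lit 2129979396))))
    (.node (.node (.node (.leaf (nat_lit 198269702)) (.leaf (nat_lit 3023770121))) (.leaf (nat_lit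
    1718989066))) (.node (.node (.leaf (nat_lit 571715082)) (.leaf (nat_lit 863589888))) (.leaf
    (nat_lit 2527456264))))) (.node (.node (.node (.node (.leaf (nat_lit 227566850)) (.leaf
    (nat_lit 3125323012))) (.leaf (nat_lit 1529198091))) (.node (.node (.leaf (nat_lit 777196811))
    (.leaf (nat_lit 868779264))) (.leaf (nat_lit 2340993284)))) (.node (.node (.node (.leaf
    (nat_lit 491905543)) (.leaf (nat_lit 721817600))) (.leaf (nat_lit 1884760322))) (.node (.leaf
    (nat_lit 1166305292)) (.leaf (nat_lit 2169121801))))))))) (.node (.node (.node (.node (.node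
    (.node (.node (.node (.leaf (nat_lit 7342597)) (.leaf (nat_lit 2770794759))) (.leaf (nat_lit
    1219792139))) (.node (.node (.leaf (nat_lit 527563275)) (.leaf (nat_lit 730201856))) (.leaf
    (nat_lit 1899448834)))) (.node (.node (.node (.leaf (nat_lit 238088204)) (.leaf (nat_lit
    3171488004))) (.leaf (nat_lit 1567837962))) (.node (.node (.leaf (nat_lit 856803587)) (.leaf
    (nat_lit 525908480))) (.leaf (nat_lit 1565054210))))) (.node (.node (.node (.node (.leaf
    (nat_lit 127940866)) (.leaf (nat_lit 2960853505))) (.leaf (nat_lit 783624710))) (.node (.node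
    (.leaf (nat_lit 407017736)) (.leaf (nat_lit 1507379712))) (.leaf (nat_lit 2171928066)))) (.node
    (.node (.node (.leaf (nat_lit 394360843)) (.leaf (nat_lit 2809628676))) (.leaf (nat_lit
    1760809737))) (.node (.node (.leaf (nat_lit 1028791809)) (.leaf (nat_lit 230798592))) (.leaf
    (nat_lit 2565210626)))))) (.node (.node (.node (.node (.node (.leaf (nat_lit 34619397)) (.leaf
    (nat_lit 2863311883))) (.leaf (nat_lit 825546242))) (.node (.node (.leaf (nat_lit 594691842))
    (.leaf (nat_lit 129722368))) (.leaf (nat_lit 2062888449)))) (.node (.node (.node (.leaf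
    (nat_lit 159461122)) (.leaf (nat_lit 2523669514))) (.leaf (nat_lit 945170954))) (.node (.node
    (.leaf (nat_lit 559118339)) (.leaf (nat_lit 161003776))) (.leaf (nat_lit 2445879819))))) (.node
    (.node (.node (.node (.leaf (nat_lit 185643531)) (.leaf (nat_lit 3066586371))) (.leaf (nat_lit
    843415555))) (.node (.node (.leaf (nat_lit 766699267)) (.leaf (nat_lit 281329664))) (.leaf
    (nat_lit 2268623884)))) (.node (.node (.node (.leaf (nat_lit 405912322)) (.leaf (nat_lit
    711678976))) (.leaf (nat_lit 1861499145))) (.node (.node (.leaf (nat_lit 1128423683)) (.leaf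
    (nat_lit 191935239))) (.leaf (nat_lit 2661710083))))))) (.node (.node (.node (.node (.node
    (.node (.leaf (nat_lit 38801923)) (.leaf (nat_lit 2809824516))) (.leaf (nat_lit 730116874)))
    (.node (.node (.leaf (nat_lit 287447557)) (.leaf (nat_lit 855973632))) (.leaf (nat_lit
    1284996867)))) (.node (.node (.node (.leaf (nat_lit 283148035)) (.leaf (nat_lit 2558262279)))
    (.leaf (nat_lit 903217413))) (.node (.node (.leaf (nat_lit 857953030)) (.leaf (nat_lit
    39098880))) (.leaf (nat_lit 2417337601))))) (.node (.node (.node (.node (.leaf (nat_lit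
    155206666)) (.leaf (nat_lit 3016241924))) (.leaf (nat_lit 799364869))) (.node (.node (.leaf
    (nat_lit 719503874)) (.leaf (nat_lit 1735887104))) (.leaf (nat_lit 1986544133)))) (.node (.node
    (.node (.leaf (nat_lit 427871236)) (.leaf (nat_lit 3191597321))) (.leaf (nat_lit 1812203777)))
    (.node (.node (.leaf (nat_lit 632554761)) (.leaf (nat_lit 146009344))) (.leaf (nat_lit
    2614506755)))))) (.node (.node (.node (.node (.node (.leaf (nat_lit 78667014)) (.leaf (nat_lit
    2911342600))) (.leaf (nat_lit 1345509889))) (.node (.node (.leaf (nat_lit 649227268)) (.leaf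
    (nat_lit 438425856))) (.leaf (nat_lit 1324867848)))) (.node (.node (.node (.leaf (nat_lit
    340873228)) (.leaf (nat_lit 2578036736))) (.leaf (nat_lit 1706270978))) (.node (.node (.leaf
    (nat_lit 976353545)) (.leaf (nat_lit 287388928))) (.leaf (nat_lit 2512774659))))) (.node (.node
    (.node (.node (.leaf (nat_lit 132173833)) (.leaf (nat_lit 2997589761))) (.leaf (nat_lit
    1522743298))) (.node (.node (.leaf (nat_lit 455282182)) (.leaf (nat_lit 442992384))) (.leaf
    (nat_lit 2329236225)))) (.node (.node (.node (.leaf (nat_lit 499181060)) (.leaf (nat_lit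
    439570432))) (.leaf (nat_lit 1636245254))) (.node (.leaf (nat_lit 1170369799)) (.leaf (nat_lit
    1825185541)))))))) (.node (.node (.node (.node (.node (.node (.node (.leaf (nat_lit 24120073))
    (.leaf (nat_lit 1936354049))) (.leaf (nat_lit 1188340231))) (.node (.node (.leaf (nat_lit
    547424007)) (.leaf (nat_lit 991236608))) (.leaf (nat_lit 1364682245)))) (.node (.node (.node
    (.leaf (nat_lit 142671626)) (.leaf (nat_lit 3196840203))) (.leaf (nat_lit 1584785931))) (.node
    (.node (.leaf (nat_lit 877776906)) (.leaf (nat_lit 965278720))) (.leaf (nat_lit 2392168961)))))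
    (.node (.node (.node (.node (.leaf (nat_lit 110135301)) (.leaf (nat_lit 2183864585))) (.leaf
    (nat_lit 1410528001))) (.node (.node (.leaf (nat_lit 719499020)) (.leaf (nat_lit 236051456)))
    (.leaf (nat_lit 2194998787)))) (.node (.node (.node (.leaf (nat_lit 218204933)) (.leaf (nat_lit
    1797910528))) (.leaf (nat_lit 1782836231))) (.node (.node (.leaf (nat_lit 1033103628)) (.leaf
    (nat_lit 172008202))) (.leaf (nat_lit 1935254025)))))) (.node (.node (.node (.node (.node
    (.leaf (nat_lit 83896073)) (.leaf (nat_lit 2017115912))) (.leaf (nat_lit 1322436618))) (.node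
    (.node (.leaf (nat_lit 634543618)) (.leaf (nat_lit 1518853888))) (.leaf (nat_lit 2053621004))))
    (.node (.node (.node (.leaf (nat_lit 336632579)) (.leaf (nat_lit 3246144774))) (.leaf (nat_lit
    1037451017))) (.node (.node (.leaf (nat_lit 952233475)) (.leaf (nat_lit 294339840))) (.leaf
    (nat_lit 2484677128))))) (.node (.node (.node (.node (.leaf (nat_lit 203447555)) (.leaf
    (nat_lit 2292942083))) (.leaf (nat_lit 1497573892))) (.node (.node (.leaf (nat_lit 441645832))
    (.leaf (nat_lit 282804480))) (.leaf (nat_lit 1466471176)))) (.node (.node (.node (.leaf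
    (nat_lit 474073601)) (.leaf (nat_lit 254208256))) (.leaf (nat_lit 1885621002))) (.node (.node
    (.leaf (nat_lit 657737994)) (.leaf (nat_lit 76577800))) (.leaf (nat_lit 2688983811)))))))
    (.node (.node (.node (.node (.node (.node (.leaf (nat_lit 25178631)) (.leaf (nat_lit
    2849669895))) (.leaf (nat_lit 1279439617))) (.node (.node (.leaf (nat_lit 586225921)) (.leaf
    (nat_lit 1840948992))) (.leaf (nat_lit 1285003271)))) (.node (.node (.node (.leaf (nat_lit
    150020103)) (.leaf (nat_lit 3238608388))) (.leaf (nat_lit 1539708417))) (.node (.node (.leaf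
    (nat_lit 875784715)) (.leaf (nat_lit 2887848458))) (.leaf (nat_lit 2438311944))))) (.node
    (.node (.node (.node (.leaf (nat_lit 110142209)) (.leaf (nat_lit 3007009543))) (.leaf (nat_lit
    1457718017))) (.node (.node (.leaf (nat_lit 510842373)) (.leaf (nat_lit 270654976))) (.leaf
    (nat_lit 2246386696)))) (.node (.node (.node (.leaf (nat_lit 448844036)) (.leaf (nat_lit
    2220615680))) (.leaf (nat_lit 1107744774))) (.node (.node (.leaf (nat_lit 1100225803)) (.leaf
    (nat_lit 286328841))) (.leaf (nat_lit 1988744961)))))) (.node (.node (.node (.node (.node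
    (.leaf (nat_lit 113263624)) (.leaf (nat_lit 2938613511))) (.leaf (nat_lit 1368580867))) (.node
    (.node (.leaf (nat_lit 670127367)) (.leaf (nat_lit 442637312))) (.leaf (nat_lit 2144661250))))
    (.node (.node (.node (.leaf (nat_lit 369189643)) (.leaf (nat_lit 2057972992))) (.leaf (nat_lit
    1731577353))) (.node (.node (.leaf (nat_lit 557037834)) (.leaf (nat_lit 363246080))) (.leaf
    (nat_lit 1598649862))))) (.node (.node (.node (.node (.leaf (nat_lit 117497605)) (.leaf
    (nat_lit 3138963976))) (.leaf (nat_lit 1544766985))) (.node (.node (.leaf (nat_lit 485695234))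
    (.leaf (nat_lit 957732352))) (.leaf (nat_lit 2353364993)))) (.node (.node (.node (.leaf
    (nat_lit 423749892)) (.leaf (nat_lit 414902016))) (.leaf (nat_lit 1934909188))) (.node (.leaf
    (nat_lit 1193508609)) (.leaf (nat_lit 2585410050))))))))))) (.node (.node (.node (.node (.node
    (.node (.node (.node (.node (.node (.leaf (nat_lit 2097409)) (.leaf (nat_lit 2604286465)))
    (.leaf (nat_lit 1201830657))) (.node (.node (.leaf (nat_lit 517074693)) (.leaf (nat_lit
    720687616))) (.leaf (nat_lit 1195851273)))) (.node (.node (.node (.leaf (nat_lit 238085899))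
    (.leaf (nat_lit 3153656328))) (.leaf (nat_lit 1552107528))) (.node (.node (.leaf (nat_lit
    846316553)) (.leaf (nat_lit 1732756736))) (.leaf (nat_lit 1580780294))))) (.node (.node (.node
    (.node (.leaf (nat_lit 119551748)) (.leaf (nat_lit 2949136649))) (.leaf (nat_lit 1374873089)))
    (.node (.node (.leaf (nat_lit 682789643)) (.leaf (nat_lit 1506278912))) (.leaf (nat_lit
    1702364419)))) (.node (.node (.node (.leaf (nat_lit 378582023)) (.leaf (nat_lit 2933593600)))
    (.leaf (nat_lit 1742979843))) (.node (.node (.leaf (nat_lit 555991816)) (.leaf (nat_lit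
    177531648))) (.leaf (nat_lit 2548662018)))))) (.node (.node (.node (.node (.node (.leaf
    (nat_lit 28325381)) (.leaf (nat_lit 2155490567))) (.leaf (nat_lit 1286780162))) (.node (.node
    (.leaf (nat_lit 591542795)) (.leaf (nat_lit 276276480))) (.leaf (nat_lit 1278713602)))) (.node
    (.node (.node (.leaf (nat_lit 177284362)) (.leaf (nat_lit 3245950986))) (.leaf (nat_lit
    942021635))) (.node (.node (.leaf (nat_lit 506687238)) (.leaf (nat_lit 282184193))) (.leaf
    (nat_lit 2445652740))))) (.node (.node (.node (.node (.leaf (nat_lit 91268868)) (.leaf (nat_lit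
    3048875784))) (.leaf (nat_lit 1386575106))) (.node (.node (.leaf (nat_lit 767745284)) (.leaf
    (nat_lit 282200832))) (.leaf (nat_lit 2252891404)))) (.node (.node (.node (.leaf (nat_lit
    415347468)) (.leaf (nat_lit 2757496320))) (.leaf (nat_lit 1846817289))) (.node (.node (.leaf
    (nat_lit 1112693251)) (.leaf (nat_lit 2671797763))) (.leaf (nat_lit 2430197514))))))) (.node
    (.node (.node (.node (.node (.node (.leaf (nat_lit 26221065)) (.leaf (nat_lit 2800383241)))
    (.leaf (nat_lit 1221896453))) (.node (.node (.leaf (nat_lit 521276417)) (.leaf (nat_lit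
    218265856))) (.leaf (nat_lit 1997840393)))) (.node (.node (.node (.leaf (nat_lit 269550604))
    (.leaf (nat_lit 3207321089))) (.leaf (nat_lit 897970694))) (.node (.node (.leaf (nat_lit
    883020547)) (.leaf (nat_lit 243519744))) (.leaf (nat_lit 2400558337))))) (.node (.node (.node
    (.node (.leaf (nat_lit 73436164)) (.leaf (nat_lit 2196449798))) (.leaf (nat_lit 1417868296)))
    (.node (.node (.leaf (nat_lit 729910023)) (.leaf (nat_lit 581105664))) (.leaf (nat_lit
    2203387911)))) (.node (.node (.node (.leaf (nat_lit 418468099)) (.leaf (nat_lit 1805042954)))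
    (.leaf (nat_lit 1068936963))) (.node (.node (.leaf (nat_lit 593753094)) (.leaf (nat_lit
    150202880))) (.leaf (nat_lit 1656335880)))))) (.node (.node (.node (.node (.node (.leaf
    (nat_lit 88091393)) (.leaf (nat_lit 2895608840))) (.leaf (nat_lit 1237644294))) (.node (.node
    (.leaf (nat_lit 470967045)) (.leaf (nat_lit 489862656))) (.leaf (nat_lit 1359465993)))) (.node
    (.node (.node (.leaf (nat_lit 172049930)) (.leaf (nat_lit 3294202116))) (.leaf (nat_lit
    1686344964))) (.node (.node (.leaf (nat_lit 522424842)) (.leaf (nat_lit 308430848))) (.leaf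
    (nat_lit 2496220420))))) (.node (.node (.node (.node (.leaf (nat_lit 206606599)) (.leaf
    (nat_lit 2220538378))) (.leaf (nat_lit 1505964553))) (.node (.node (.leaf (nat_lit 807511049))
    (.leaf (nat_lit 443237376))) (.leaf (nat_lit 2312457481)))) (.node (.node (.node (.leaf
    (nat_lit 252825608)) (.leaf (nat_lit 981203968))) (.leaf (nat_lit 1898205193))) (.node (.node
    (.leaf (nat_lit 1146375683)) (.leaf (nat_lit 284603136))) (.leaf (nat_lit 1806306825))))))))
    (.node (.node (.node (.node (.node (.node (.node (.leaf (nat_lit 15730180)) (.leaf (nat_lit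
    2781282305))) (.leaf (nat_lit 709137414))) (.node (.node (.leaf (nat_lit 276954881)) (.leaf
    (nat_lit 251971072))) (.leaf (nat_lit 1703368202)))) (.node (.node (.node (.leaf (nat_lit
    131134982)) (.leaf (nat_lit 3184072458))) (.leaf (nat_lit 1575345932))) (.node (.node (.leaf
    (nat_lit 559102470)) (.leaf (nat_lit 1319479040))) (.leaf (nat_lit 1502141446))))) (.node
    (.node (.node (.node (.leaf (nat_lit 134250507)) (.leaf (nat_lit 2975335943))) (.leaf (nat_lit
    1397944065))) (.node (.node (.leaf (nat_lit 704815884)) (.leaf (nat_lit 548544000))) (.leaf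
    (nat_lit 2175278849)))) (.node (.node (.node (.leaf (nat_lit 238124809)) (.leaf (nat_lit
    2945092355))) (.leaf (nat_lit 1768331019))) (.node (.node (.leaf (nat_lit 1036148489)) (.leaf
    (nat_lit 105955840))) (.leaf (nat_lit 1636406277)))))) (.node (.node (.node (.node (.node
    (.leaf (nat_lit 71320836)) (.leaf (nat_lit 2745872903))) (.leaf (nat_lit 753196810))) (.node
    (.node (.leaf (nat_lit 326258697)) (.leaf (nat_lit 798501120))) (.leaf (nat_lit 2056763147))))
    (.node (.node (.node (.leaf (nat_lit 293680129)) (.leaf (nat_lit 2557226505))) (.leaf (nat_lit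
    950415622))) (.node (.node (.leaf (nat_lit 721649672)) (.leaf (nat_lit 553813504))) (.leaf
    (nat_lit 2468725000))))) (.node (.node (.node (.node (.leaf (nat_lit 177255171)) (.leaf
    (nat_lit 2266723845))) (.leaf (nat_lit 853902858))) (.node (.node (.leaf (nat_lit 784441089))
    (.leaf (nat_lit 434350592))) (.leaf (nat_lit 2280161036)))) (.node (.node (.node (.leaf
    (nat_lit 471916033)) (.leaf (nat_lit 934902016))) (.leaf (nat_lit 1869018891))) (.node (.node
    (.leaf (nat_lit 1137861384)) (.leaf (nat_lit 141577481))) (.leaf (nat_lit 1751773701)))))))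
    (.node (.node (.node (.node (.node (.node (.leaf (nat_lit 36710666)) (.leaf (nat_lit
    2761592582))) (.leaf (nat_lit 1266855689))) (.node (.node (.leaf (nat_lit 571613451)) (.leaf
    (nat_lit 788845824))) (.leaf (nat_lit 2025109000)))) (.node (.node (.node (.leaf (nat_lit
    252777990)) (.leaf (nat_lit 3226023427))) (.leaf (nat_lit 1622368777))) (.node (.node (.leaf
    (nat_lit 903993345)) (.leaf (nat_lit 72453376))) (.leaf (nat_lit 2424702209))))) (.node (.node
    (.node (.node (.leaf (nat_lit 160471563)) (.leaf (nat_lit 3024631810))) (.leaf (nat_lit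
    1424318219))) (.node (.node (.leaf (nat_lit 749834762)) (.leaf (nat_lit 658254592))) (.leaf
    (nat_lit 1861766403)))) (.node (.node (.node (.leaf (nat_lit 435265540)) (.leaf (nat_lit
    3207289858))) (.leaf (nat_lit 1821643528))) (.node (.node (.leaf (nat_lit 1090669570)) (.leaf
    (nat_lit 123998208))) (.leaf (nat_lit 2627094020)))))) (.node (.node (.node (.node (.node
    (.leaf (nat_lit 104869892)) (.leaf (nat_lit 2919948556))) (.leaf (nat_lit 818220042))) (.node
    (.node (.leaf (nat_lit 350385158)) (.leaf (nat_lit 1580933888))) (.leaf (nat_lit 1316481797))))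
    (.node (.node (.node (.leaf (nat_lit 187783171)) (.leaf (nat_lit 2988143624))) (.leaf (nat_lit
    1716760842))) (.node (.node (.leaf (nat_lit 983804683)) (.leaf (nat_lit 1047933696))) (.leaf
    (nat_lit 2524310275))))) (.node (.node (.node (.node (.leaf (nat_lit 225469450)) (.leaf
    (nat_lit 3122176771))) (.leaf (nat_lit 878031623))) (.node (.node (.leaf (nat_lit 826387716))
    (.leaf (nat_lit 1518044416))) (.leaf (nat_lit 2275980545)))) (.node (.node (.node (.leaf
    (nat_lit 504424200)) (.leaf (nat_lit 503506688))) (.leaf (nat_lit 1920227591))) (.node (.leaf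
    (nat_lit 1180856322)) (.leaf (nat_lit 2724866060))))))))) (.node (.node (.node (.node (.node
    (.node (.node (.node (.leaf (nat_lit 7342091)) (.leaf (nat_lit 2766604033))) (.leaf (nat_lit
    1218615555))) (.node (.node (.leaf (nat_lit 399636481)) (.leaf (nat_lit 254549504))) (.leaf
    (nat_lit 1882671109)))) (.node (.node (.node (.leaf (nat_lit 234941708)) (.leaf (nat_lit
    3160132619))) (.leaf (nat_lit 999674886))) (.node (.node (.leaf (nat_lit 479407878)) (.leaf
    (nat_lit 1747539968))) (.leaf (nat_lit 2351485957))))) (.node (.node (.node (.node (.leaf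
    (nat_lit 125843466)) (.leaf (nat_lit 2961693448))) (.leaf (nat_lit 1356146947))) (.node (.node
    (.leaf (nat_lit 690132236)) (.leaf (nat_lit 2098968832))) (.leaf (nat_lit 1893208841)))) (.node
    (.node (.node (.leaf (nat_lit 202470662)) (.leaf (nat_lit 2813823491))) (.leaf (nat_lit
    1756614919))) (.node (.node (.leaf (nat_lit 1024597249)) (.leaf (nat_lit 199655936))) (.leaf
    (nat_lit 2562064392)))))) (.node (.node (.node (.node (.node (.leaf (nat_lit 66067972)) (.leaf
    (nat_lit 2860997896))) (.leaf (nat_lit 737465094))) (.node (.node (.leaf (nat_lit 588399873))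
    (.leaf (nat_lit 538266880))) (.leaf (nat_lit 2060763908)))) (.node (.node (.node (.leaf
    (nat_lit 157363461)) (.leaf (nat_lit 2525765897))) (.leaf (nat_lit 1189488898))) (.node (.node
    (.leaf (nat_lit 866350596)) (.leaf (nat_lit 183624448))) (.leaf (nat_lit 1535715077))))) (.node
    (.node (.node (.node (.leaf (nat_lit 146845701)) (.leaf (nat_lit 3062390530))) (.leaf (nat_lit
    887455238))) (.node (.node (.leaf (nat_lit 764601605)) (.leaf (nat_lit 480374784))) (.leaf
    (nat_lit 1400402185)))) (.node (.node (.node (.leaf (nat_lit 423737865)) (.leaf (nat_lit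
    978846720))) (.leaf (nat_lit 1856433163))) (.node (.node (.leaf (nat_lit 1126326279)) (.leaf
    (nat_lit 154170120))) (.leaf (nat_lit 2464802570))))))) (.node (.node (.node (.node (.node
    (.node (.leaf (nat_lit 26222339)) (.leaf (nat_lit 2820309508))) (.leaf (nat_lit 725922054)))
    (.node (.node (.leaf (nat_lit 549591051)) (.leaf (nat_lit 1155247872))) (.leaf (nat_lit
    2005367819)))) (.node (.node (.node (.leaf (nat_lit 276892677)) (.leaf (nat_lit 3215534338)))
    (.leaf (nat_lit 1595277067))) (.node (.node (.leaf (nat_lit 508776714)) (.leaf (nat_lit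
    247521282))) (.leaf (nat_lit 2413142535))))) (.node (.node (.node (.node (.leaf (nat_lit
    75534853)) (.leaf (nat_lit 3010997505))) (.leaf (nat_lit 1415927051))) (.node (.node (.leaf
    (nat_lit 429047809)) (.leaf (nat_lit 563291392))) (.leaf (nat_lit 2214924547)))) (.node (.node
    (.node (.leaf (nat_lit 221353473)) (.leaf (nat_lit 3191597066))) (.leaf (nat_lit 1800846348)))
    (.node (.node (.leaf (nat_lit 1075985923)) (.leaf (nat_lit 197367552))) (.leaf (nat_lit
    2610311943)))))) (.node (.node (.node (.node (.node (.leaf (nat_lit 94395148)) (.leaf (nat_lit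
    2908195587))) (.leaf (nat_lit 1341456646))) (.node (.node (.leaf (nat_lit 345139462)) (.leaf
    (nat_lit 812855552))) (.leaf (nat_lit 2108153099)))) (.node (.node (.node (.leaf (nat_lit
    211898115)) (.leaf (nat_lit 2592886278))) (.leaf (nat_lit 1699108358))) (.node (.node (.leaf
    (nat_lit 529767685)) (.leaf (nat_lit 97568256))) (.leaf (nat_lit 2490980610))))) (.node (.node
    (.node (.node (.leaf (nat_lit 213961986)) (.leaf (nat_lit 2332792074))) (.leaf (nat_lit
    1513466124))) (.node (.node (.leaf (nat_lit 453184517)) (.leaf (nat_lit 208379904))) (.leaf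
    (nat_lit 2325083656)))) (.node (.node (.node (.leaf (nat_lit 491903244)) (.leaf (nat_lit
    545800448))) (.leaf (nat_lit 1178017032))) (.node (.node (.leaf (nat_lit 1166175241)) (.leaf
    (nat_lit 142214656))) (.leaf (nat_lit 2709134347)))))))) (.node (.node (.node (.node (.node
    (.node (.node (.leaf (nat_lit 15734025)) (.leaf (nat_lit 1905944325))) (.leaf (nat_lit
    1241686786))) (.node (.node (.leaf (nat_lit 291637255)) (.leaf (nat_lit 473448448))) (.leaf
    (nat_lit 1985255433)))) (.node (.node (.node (.leaf (nat_lit 212925699)) (.leaf (nat_lit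
    3194559497))) (.leaf (nat_lit 1585826052))) (.node (.node (.leaf (nat_lit 874718465)) (.leaf
    (nat_lit 1748563712))) (.leaf (nat_lit 2387985674))))) (.node (.node (.node (.node (.leaf
    (nat_lit 140530696)) (.leaf (nat_lit 2984802056))) (.leaf (nat_lit 1346715139))) (.node (.node
    (.leaf (nat_lit 430091521)) (.leaf (nat_lit 797448192))) (.leaf (nat_lit 2186815494)))) (.node
    (.node (.node (.leaf (nat_lit 215058438)) (.leaf (nat_lit 1666446345))) (.leaf (nat_lit
    1777770508))) (.node (.node (.leaf (nat_lit 964945668)) (.leaf (nat_lit 266786048))) (.leaf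
    (nat_lit 1903796227)))))) (.node (.node (.node (.node (.node (.leaf (nat_lit 52448518)) (.leaf
    (nat_lit 2883024643))) (.leaf (nat_lit 749005319))) (.node (.node (.leaf (nat_lit 631323137))
    (.leaf (nat_lit 1506278400))) (.leaf (nat_lit 2082964228)))) (.node (.node (.node (.leaf
    (nat_lit 323043081)) (.leaf (nat_lit 3267115523))) (.leaf (nat_lit 1047936006))) (.node (.node
    (.leaf (nat_lit 521373957)) (.leaf (nat_lit 305243648))) (.leaf (nat_lit 1556692486))))) (.node
    (.node (.node (.node (.leaf (nat_lit 174112257)) (.leaf (nat_lit 3089661700))) (.leaf (nat_lit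
    1485148172))) (.node (.node (.leaf (nat_lit 792918027)) (.leaf (nat_lit 439037696))) (.leaf
    (nat_lit 2298823683)))) (.node (.node (.node (.leaf (nat_lit 250726403)) (.leaf (nat_lit
    256307712))) (.leaf (nat_lit 1882474498))) (.node (.node (.leaf (nat_lit 1147422468)) (.leaf
    (nat_lit 303119875))) (.leaf (nat_lit 2685836801))))))) (.node (.node (.node (.node (.node
    (.node (.leaf (nat_lit 51385857)) (.leaf (nat_lit 2847362313))) (.leaf (nat_lit 798277641)))
    (.node (.node (.leaf (nat_lit 583085059)) (.leaf (nat_lit 721132800))) (.leaf (nat_lit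
    1279759877)))) (.node (.node (.node (.leaf (nat_lit 299928833)) (.leaf (nat_lit 3236510722)))
    (.leaf (nat_lit 1630934020))) (.node (.node (.leaf (nat_lit 913431042)) (.leaf (nat_lit
    2833369603))) (.leaf (nat_lit 1531515394))))) (.node (.node (.node (.node (.leaf (nat_lit
    166764812)) (.leaf (nat_lit 2993377288))) (.leaf (nat_lit 1261792006))) (.node (.node (.leaf
    (nat_lit 759273223)) (.leaf (nat_lit 1483394560))) (.leaf (nat_lit 1381522181)))) (.node (.node
    (.node (.leaf (nat_lit 430024971)) (.leaf (nat_lit 2518333440))) (.leaf (nat_lit 1835277322)))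
    (.node (.node (.leaf (nat_lit 1101157634)) (.leaf (nat_lit 1057039620))) (.leaf (nat_lit
    2630472710)))))) (.node (.node (.node (.node (.node (.leaf (nat_lit 112210691)) (.leaf (nat_lit
    2071653641))) (.leaf (nat_lit 1219827205))) (.node (.node (.leaf (nat_lit 478313737)) (.leaf
    (nat_lit 283457536))) (.leaf (nat_lit 2139453193)))) (.node (.node (.node (.leaf (nat_lit
    370192135)) (.leaf (nat_lit 2065325824))) (.leaf (nat_lit 1484156931))) (.node (.node (.leaf
    (nat_lit 852735749)) (.leaf (nat_lit 206998016))) (.leaf (nat_lit 2443801090))))) (.node (.node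
    (.node (.node (.leaf (nat_lit 232811785)) (.leaf (nat_lit 3133882113))) (.leaf (nat_lit
    878033926))) (.node (.node (.leaf (nat_lit 733158659)) (.leaf (nat_lit 2403053568))) (.leaf
    (nat_lit 1483260163)))) (.node (.node (.node (.leaf (nat_lit 510781452)) (.leaf (nat_lit
    456674560))) (.leaf (nat_lit 1932811783))) (.node (.leaf (nat_lit 666136582)) (.leaf (nat_lit
    2740598539)))))))))) (.node (.node (.node (.node (.node (.node (.node (.node (.node (.leaf
    (nat_lit 5243399)) (.leaf (nat_lit 2761356551))) (.leaf (nat_lit 693404169))) (.node (.node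
    (.leaf (nat_lit 523367179)) (.leaf (nat_lit 249898240))) (.leaf (nat_lit 1948542722)))) (.node
    (.node (.node (.leaf (nat_lit 245426955)) (.leaf (nat_lit 2537276421))) (.leaf (nat_lit
    886427141))) (.node (.node (.leaf (nat_lit 845359883)) (.leaf (nat_lit 1675164672))) (.leaf
    (nat_lit 1486409733))))) (.node (.node (.node (.node (.leaf (nat_lit 116421644)) (.leaf
    (nat_lit 2127233544))) (.leaf (nat_lit 1377117707))) (.node (.node (.leaf (nat_lit 388141063))
    (.leaf (nat_lit 1508365824))) (.leaf (nat_lit 1470631177)))) (.node (.node (.node (.leaf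
    (nat_lit 199323399)) (.leaf (nat_lit 1882699014))) (.leaf (nat_lit 1749274114))) (.node (.node
    (.leaf (nat_lit 1017254916)) (.leaf (nat_lit 2795218944))) (.leaf (nat_lit 2454291713))))))
    (.node (.node (.node (.node (.node (.leaf (nat_lit 31472394)) (.leaf (nat_lit 2853656577)))
    (.leaf (nat_lit 1290974722))) (.node (.node (.leaf (nat_lit 605104905)) (.leaf (nat_lit
    279425536))) (.leaf (nat_lit 2051515660)))) (.node (.node (.node (.leaf (nat_lit 311464706))
    (.leaf (nat_lit 2502696198))) (.leaf (nat_lit 1642471685))) (.node (.node (.leaf (nat_lit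
    908292619)) (.leaf (nat_lit 160490496))) (.leaf (nat_lit 1553539846))))) (.node (.node (.node
    (.node (.leaf (nat_lit 177253387)) (.leaf (nat_lit 2247844105))) (.leaf (nat_lit 1469413895)))
    (.node (.node (.leaf (nat_lit 772905736)) (.leaf (nat_lit 126291968))) (.leaf (nat_lit
    2260021255)))) (.node (.node (.node (.leaf (nat_lit 458339842)) (.leaf (nat_lit 773397504)))
    (.leaf (nat_lit 1131865605))) (.node (.node (.leaf (nat_lit 1120034052)) (.leaf (nat_lit
    173058567))) (.leaf (nat_lit 2376721153))))))) (.node (.node (.node (.node (.node (.node (.leaf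
    (nat_lit 34607111)) (.leaf (nat_lit 1920629253))) (.leaf (nat_lit 1256369155))) (.node (.node
    (.leaf (nat_lit 290592007)) (.leaf (nat_lit 2027545344))) (.leaf (nat_lit 2003086858)))) (.node
    (.node (.node (.leaf (nat_lit 276856071)) (.leaf (nat_lit 2458646022))) (.leaf (nat_lit
    1553332997))) (.node (.node (.leaf (nat_lit 885214475)) (.leaf (nat_lit 1316543488))) (.leaf
    (nat_lit 2406850055))))) (.node (.node (.node (.node (.leaf (nat_lit 147885836)) (.leaf
    (nat_lit 3004705033))) (.leaf (nat_lit 1423265284))) (.node (.node (.leaf (nat_lit 733056008))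
    (.leaf (nat_lit 1015385600))) (.leaf (nat_lit 2191014411)))) (.node (.node (.node (.leaf
    (nat_lit 418485003)) (.leaf (nat_lit 3278503944))) (.leaf (nat_lit 1800667137))) (.node (.node
    (.leaf (nat_lit 1067599363)) (.leaf (nat_lit 106334464))) (.leaf (nat_lit 1944695557))))))
    (.node (.node (.node (.node (.node (.leaf (nat_lit 90199820)) (.leaf (nat_lit 2213203210)))
    (.leaf (nat_lit 1337120265))) (.node (.node (.leaf (nat_lit 356673031)) (.leaf (nat_lit
    287650816))) (.leaf (nat_lit 2100811276)))) (.node (.node (.node (.leaf (nat_lit 347119361))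
    (.leaf (nat_lit 3299448580))) (.leaf (nat_lit 1266044679))) (.node (.node (.leaf (nat_lit
    958633996)) (.leaf (nat_lit 589004288))) (.leaf (nat_lit 2377732869))))) (.node (.node (.node
    (.node (.leaf (nat_lit 113297674)) (.leaf (nat_lit 3102247177))) (.leaf (nat_lit 1512256513)))
    (.node (.node (.leaf (nat_lit 810747659)) (.leaf (nat_lit 867745536))) (.leaf (nat_lit
    2318749448)))) (.node (.node (.node (.leaf (nat_lit 490791939)) (.leaf (nat_lit 98046976)))
    (.leaf (nat_lit 1904497665))) (.node (.node (.leaf (nat_lit 1154765324)) (.leaf (nat_lit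
    357637129))) (.leaf (nat_lit 2706817799)))))))) (.node (.node (.node (.node (.node (.node
    (.node (.leaf (nat_lit 9441541)) (.leaf (nat_lit 2786526471))) (.leaf (nat_lit 1234345986)))
    (.node (.node (.leaf (nat_lit 282198530)) (.leaf (nat_lit 350338048))) (.leaf (nat_lit
    1974951173)))) (.node (.node (.node (.leaf (nat_lit 258013707)) (.leaf (nat_lit 3182158085)))
    (.leaf (nat_lit 895869957))) (.node (.node (.leaf (nat_lit 870523138)) (.leaf (nat_lit
    1319517184))) (.leaf (nat_lit 2382762250))))) (.node (.node (.node (.node (.leaf (nat_lit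
    118522891)) (.leaf (nat_lit 2581272836))) (.leaf (nat_lit 1395996683))) (.node (.node (.leaf
    (nat_lit 650291463)) (.leaf (nat_lit 500485120))) (.leaf (nat_lit 1394090755)))) (.node (.node
    (.node (.leaf (nat_lit 406897930)) (.leaf (nat_lit 1793704192))) (.leaf (nat_lit 1044814858)))
    (.node (.node (.leaf (nat_lit 1042539020)) (.leaf (nat_lit 364262656))) (.leaf (nat_lit
    2572786444)))))) (.node (.node (.node (.node (.node (.leaf (nat_lit 43010567)) (.leaf (nat_lit
    2876730887))) (.leaf (nat_lit 1312998913))) (.node (.node (.leaf (nat_lit 606229508)) (.leaf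
    (nat_lit 79340800))) (.leaf (nat_lit 1461173514)))) (.node (.node (.node (.leaf (nat_lit
    330340106)) (.leaf (nat_lit 3277419018))) (.leaf (nat_lit 1666594316))) (.node (.node (.leaf
    (nat_lit 932414475)) (.leaf (nat_lit 154868992))) (.leaf (nat_lit 1551448069))))) (.node (.node
    (.node (.node (.leaf (nat_lit 96516869)) (.leaf (nat_lit 2297134083))) (.leaf (nat_lit
    1490232578))) (.node (.node (.leaf (nat_lit 743633158)) (.leaf (nat_lit 272151296))) (.leaf
    (nat_lit 2292531209)))) (.node (.node (.node (.leaf (nat_lit 290571526)) (.leaf (nat_lit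
    436582912))) (.leaf (nat_lit 1877231113))) (.node (.node (.leaf (nat_lit 1143179010)) (.leaf
    (nat_lit 104887562))) (.leaf (nat_lit 2678717195))))))) (.node (.node (.node (.node (.node
    (.node (.leaf (nat_lit 47197452)) (.leaf (nat_lit 2814023171))) (.leaf (nat_lit 1270135819)))
    (.node (.node (.leaf (nat_lit 578883850)) (.leaf (nat_lit 1724378880))) (.leaf (nat_lit
    2031401482)))) (.node (.node (.node (.leaf (nat_lit 152115466)) (.leaf (nat_lit 3231267075)))
    (.leaf (nat_lit 1618349830))) (.node (.node (.leaf (nat_lit 892559884)) (.leaf (nat_lit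
    2114445568))) (.leaf (nat_lit 1532562693))))) (.node (.node (.node (.node (.leaf (nat_lit
    165693961)) (.leaf (nat_lit 2222672394))) (.leaf (nat_lit 810903046))) (.node (.node (.leaf
    (nat_lit 424857094)) (.leaf (nat_lit 1248218880))) (.leaf (nat_lit 2237997322)))) (.node (.node
    (.node (.leaf (nat_lit 441558539)) (.leaf (nat_lit 3177928455))) (.leaf (nat_lit 1827936776)))
    (.node (.node (.leaf (nat_lit 629412867)) (.leaf (nat_lit 338763528))) (.leaf (nat_lit
    2633501187)))))) (.node (.node (.node (.node (.node (.leaf (nat_lit 109064456)) (.leaf (nat_lit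
    2928125187))) (.leaf (nat_lit 1359142402))) (.node (.node (.leaf (nat_lit 663833860)) (.leaf
    (nat_lit 1439208960))) (.leaf (nat_lit 2133125383)))) (.node (.node (.node (.leaf (nat_lit
    193027075)) (.leaf (nat_lit 1930933248))) (.leaf (nat_lit 1622567428))) (.node (.node (.leaf
    (nat_lit 857977093)) (.leaf (nat_lit 302130688))) (.leaf (nat_lit 1609133321))))) (.node (.node
    (.node (.node (.leaf (nat_lit 213965580)) (.leaf (nat_lit 2345379593))) (.leaf (nat_lit
    1536377353))) (.node (.node (.leaf (nat_lit 831631361)) (.leaf (nat_lit 1506509824))) (.leaf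
    (nat_lit 2323168267)))) (.node (.node (.node (.leaf (nat_lit 491906059)) (.leaf (nat_lit
    1817667840))) (.leaf (nat_lit 1925470979))) (.node (.leaf (nat_lit 1187148290)) (.leaf (nat_lit
    2734088712))))))))) (.node (.node (.node (.node (.node (.node (.node (.node (.leaf (nat_lit
    6294537)) (.leaf (nat_lit 1931105797))) (.leaf (nat_lit 806653703))) (.node (.node (.leaf
    (nat_lit 531758092)) (.leaf (nat_lit 1324936704))) (.leaf (nat_lit 1961131271)))) (.node (.node
    (.node (.leaf (nat_lit 254833930)) (.leaf (nat_lit 3176731651))) (.leaf (nat_lit 897964546)))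
    (.node (.node (.leaf (nat_lit 541275399)) (.leaf (nat_lit 1681478656))) (.leaf (nat_lit
    2374339331))))) (.node (.node (.node (.node (.leaf (nat_lit 60848901)) (.leaf (nat_lit
    2119896581))) (.leaf (nat_lit 1390603274))) (.node (.node (.leaf (nat_lit 409115655)) (.leaf
    (nat_lit 1303969792))) (.leaf (nat_lit 1355291144)))) (.node (.node (.node (.leaf (nat_lit
    395409931)) (.leaf (nat_lit 2837115394))) (.leaf (nat_lit 1742115079))) (.node (.node (.leaf
    (nat_lit 1030888967)) (.leaf (nat_lit 606508032))) (.leaf (nat_lit 2421788674)))))) (.node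
    (.node (.node (.node (.node (.leaf (nat_lit 36717063)) (.leaf (nat_lit 2852826886))) (.leaf
    (nat_lit 752146698))) (.node (.node (.leaf (nat_lit 615592457)) (.leaf (nat_lit 263939328)))
    (.leaf (nat_lit 2052567307)))) (.node (.node (.node (.leaf (nat_lit 318845188)) (.leaf (nat_lit
    3174835971))) (.leaf (nat_lit 945171718))) (.node (.node (.leaf (nat_lit 932411916)) (.leaf
    (nat_lit 146933248))) (.leaf (nat_lit 2463480322))))) (.node (.node (.node (.node (.leaf
    (nat_lit 181449732)) (.leaf (nat_lit 2922082055))) (.leaf (nat_lit 848658953))) (.node (.node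
    (.leaf (nat_lit 780331268)) (.leaf (nat_lit 48559104))) (.leaf (nat_lit 2272605955)))) (.node
    (.node (.node (.leaf (nat_lit 272743690)) (.leaf (nat_lit 406589952))) (.leaf (nat_lit
    1864645122))) (.node (.node (.leaf (nat_lit 643053322)) (.leaf (nat_lit 148923911))) (.leaf
    (nat_lit 2664856586))))))) (.node (.node (.node (.node (.node (.node (.leaf (nat_lit 38807051))
    (.leaf (nat_lit 2828480514))) (.leaf (nat_lit 764720130))) (.node (.node (.leaf (nat_lit
    284302601)) (.leaf (nat_lit 1478990848))) (.leaf (nat_lit 2016719617)))) (.node (.node (.node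
    (.leaf (nat_lit 283185420)) (.leaf (nat_lit 3218865668))) (.leaf (nat_lit 1568015372))) (.node
    (.node (.leaf (nat_lit 494097670)) (.leaf (nat_lit 417897728))) (.leaf (nat_lit 2420484097)))))
    (.node (.node (.node (.node (.leaf (nat_lit 156261129)) (.leaf (nat_lit 2230009349))) (.leaf
    (nat_lit 1419074059))) (.node (.node (.leaf (nat_lit 742494467)) (.leaf (nat_lit 501530112)))
    (.leaf (nat_lit 2220377867)))) (.node (.node (.node (.leaf (nat_lit 217160198)) (.leaf (nat_lit
    3201029898))) (.leaf (nat_lit 1815351044))) (.node (.node (.leaf (nat_lit 1082279433)) (.leaf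
    (nat_lit 372334599))) (.leaf (nat_lit 2619750407)))))) (.node (.node (.node (.node (.node
    (.leaf (nat_lit 77618693)) (.leaf (nat_lit 2914488584))) (.leaf (nat_lit 1349704449))) (.node
    (.node (.leaf (nat_lit 654395908)) (.leaf (nat_lit 490921472))) (.leaf (nat_lit 2119492360))))
    (.node (.node (.node (.leaf (nat_lit 344019724)) (.leaf (nat_lit 2577035525))) (.leaf (nat_lit
    1710466049))) (.node (.node (.leaf (nat_lit 823371009)) (.leaf (nat_lit 307376384))) (.leaf
    (nat_lit 2518017801))))) (.node (.node (.node (.node (.leaf (nat_lit 105960200)) (.leaf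
    (nat_lit 3114834178))) (.leaf (nat_lit 873836037))) (.node (.node (.leaf (nat_lit 822192904))
    (.leaf (nat_lit 479875840))) (.leaf (nat_lit 2302193675)))) (.node (.node (.node (.leaf
    (nat_lit 486661387)) (.leaf (nat_lit 1266225152))) (.leaf (nat_lit 1914984449))) (.node (.leaf
    (nat_lit 1174564359)) (.leaf (nat_lit 1840914953)))))))) (.node (.node (.node (.node (.node
    (.node (.node (.leaf (nat_lit 14686218)) (.leaf (nat_lit 2802261512))) (.leaf (nat_lit
    1229235467))) (.node (.node (.leaf (nat_lit 549521411)) (.leaf (nat_lit 868578048))) (.leaf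
    (nat_lit 1989450247)))) (.node (.node (.node (.leaf (nat_lit 259064070)) (.leaf (nat_lit
    3162238214))) (.leaf (nat_lit 1590908420))) (.node (.node (.leaf (nat_lit 580077063)) (.leaf
    (nat_lit 1679377664))) (.leaf (nat_lit 1512631045))))) (.node (.node (.node (.node (.leaf
    (nat_lit 122718475)) (.leaf (nat_lit 2182816778))) (.leaf (nat_lit 1412625159))) (.node (.node
    (.leaf (nat_lit 417509897)) (.leaf (nat_lit 857968384))) (.leaf (nat_lit 2193109004)))) (.node
    (.node (.node (.leaf (nat_lit 411143179)) (.leaf (nat_lit 1057372426))) (.leaf (nat_lit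
    1787031562))) (.node (.node (.leaf (nat_lit 587459849)) (.leaf (nat_lit 84403456))) (.leaf
    (nat_lit 2590384648)))))) (.node (.node (.node (.node (.node (.leaf (nat_lit 83906820)) (.leaf
    (nat_lit 2889316867))) (.leaf (nat_lit 755298058))) (.node (.node (.leaf (nat_lit 344088581))
    (.leaf (nat_lit 258239488))) (.leaf (nat_lit 2088204297)))) (.node (.node (.node (.leaf
    (nat_lit 187777801)) (.leaf (nat_lit 3240902662))) (.leaf (nat_lit 1681101827))) (.node (.node
    (.leaf (nat_lit 954330634)) (.leaf (nat_lit 1022038528))) (.leaf (nat_lit 2485732361)))))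
    (.node (.node (.node (.node (.leaf (nat_lit 204496137)) (.leaf (nat_lit 2664139018))) (.leaf
    (nat_lit 1499672329))) (.node (.node (.leaf (nat_lit 784530700)) (.leaf (nat_lit 551234816)))
    (.leaf (nat_lit 2188940546)))) (.node (.node (.node (.leaf (nat_lit 482402567)) (.leaf (nat_lit
    415639808))) (.leaf (nat_lit 1160186375))) (.node (.node (.leaf (nat_lit 1152542979)) (.leaf
    (nat_lit 106340864))) (.leaf (nat_lit 1789528070))))))) (.node (.node (.node (.node (.node
    (.node (.leaf (nat_lit 54531842)) (.leaf (nat_lit 2807523080))) (.leaf (nat_lit 728024583)))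
    (.node (.node (.leaf (nat_lit 309473800)) (.leaf (nat_lit 1324705792))) (.leaf (nat_lit
    2040839433)))) (.node (.node (.node (.leaf (nat_lit 160506371)) (.leaf (nat_lit 3211530759)))
    (.leaf (nat_lit 1337333764))) (.node (.node (.leaf (nat_lit 871590923)) (.leaf (nat_lit
    125889794))) (.leaf (nat_lit 2439365377))))) (.node (.node (.node (.node (.leaf (nat_lit
    164668423)) (.leaf (nat_lit 2238404101))) (.leaf (nat_lit 1459974404))) (.node (.node (.leaf
    (nat_lit 764516612)) (.leaf (nat_lit 519516928))) (.leaf (nat_lit 2239258635)))) (.node (.node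
    (.node (.leaf (nat_lit 434220299)) (.leaf (nat_lit 2850809344))) (.leaf (nat_lit 1829165835)))
    (.node (.node (.leaf (nat_lit 1103372043)) (.leaf (nat_lit 1061247754))) (.leaf (nat_lit
    2640960012)))))) (.node (.node (.node (.node (.node (.leaf (nat_lit 59796997)) (.leaf (nat_lit
    2942808323))) (.leaf (nat_lit 1341463300))) (.node (.node (.leaf (nat_lit 674323713)) (.leaf
    (nat_lit 1325785600))) (.leaf (nat_lit 2148856324)))) (.node (.node (.node (.leaf (nat_lit
    298935554)) (.leaf (nat_lit 1154981376))) (.leaf (nat_lit 1732671244))) (.node (.node (.leaf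
    (nat_lit 558086921)) (.leaf (nat_lit 198792704))) (.leaf (nat_lit 2543187202))))) (.node (.node
    (.node (.node (.leaf (nat_lit 234938635)) (.leaf (nat_lit 3143162120))) (.leaf (nat_lit
    882229765))) (.node (.node (.leaf (nat_lit 840024835)) (.leaf (nat_lit 1022043136))) (.leaf
    (nat_lit 2356510986)))) (.node (.node (.node (.leaf (nat_lit 510782219)) (.leaf (nat_lit
    343338752))) (.leaf (nat_lit 1938055171))) (.node (.leaf (nat_lit 933524740)) (.leaf (nat_lit
    2225749250))))))))))))) (.node (.node (.node (.node (.node (.node (.node (.node (.node (.node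
    (.node (.node (.leaf (nat_lit 5)) (.leaf (nat_lit 2751917313))) (.leaf (nat_lit 1176794891)))
    (.node (.node (.leaf (nat_lit 263318791)) (.leaf (nat_lit 209945856))) (.leaf (nat_lit
    1198996233)))) (.node (.node (.node (.leaf (nat_lit 237036290)) (.leaf (nat_lit 3147359496)))
    (.leaf (nat_lit 1526055684))) (.node (.node (.leaf (nat_lit 843170570)) (.leaf (nat_lit
    540366848))) (.leaf (nat_lit 2357774594))))) (.node (.node (.node (.node (.leaf (nat_lit
    63991818)) (.leaf (nat_lit 2945955074))) (.leaf (nat_lit 827661577))) (.node (.node (.leaf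
    (nat_lit 676496651)) (.leaf (nat_lit 483075584))) (.leaf (nat_lit 2121794316)))) (.node (.node
    (.node (.leaf (nat_lit 375480329)) (.leaf (nat_lit 2812990720))) (.leaf (nat_lit 1562802442)))
    (.node (.node (.leaf (nat_lit 551795974)) (.leaf (nat_lit 198591232))) (.leaf (nat_lit
    2546333186)))))) (.node (.node (.node (.node (.node (.leaf (nat_lit 54538506)) (.leaf (nat_lit
    1945634056))) (.leaf (nat_lit 1283634178))) (.node (.node (.leaf (nat_lit 590492940)) (.leaf
    (nat_lit 1402438912))) (.leaf (nat_lit 2042972681)))) (.node (.node (.node (.leaf (nat_lit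
    161555204)) (.leaf (nat_lit 3211531016))) (.leaf (nat_lit 1196825092))) (.node (.node (.leaf
    (nat_lit 870542603)) (.leaf (nat_lit 277990401))) (.leaf (nat_lit 2442506755))))) (.node (.node
    (.node (.node (.leaf (nat_lit 90219780)) (.leaf (nat_lit 2242599175))) (.leaf (nat_lit
    1432711948))) (.node (.node (.leaf (nat_lit 437443076)) (.leaf (nat_lit 125900288))) (.leaf
    (nat_lit 2235064843)))) (.node (.node (.node (.leaf (nat_lit 451990019)) (.leaf (nat_lit
    2154557952))) (.leaf (nat_lit 1843668996))) (.node (.node (.leaf (nat_lit 1109547010)) (.leaf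
    (nat_lit 184618760))) (.leaf (nat_lit 2637814796))))))) (.node (.node (.node (.node (.node
    (.node (.leaf (nat_lit 26217473)) (.leaf (nat_lit 2804358919))) (.leaf (nat_lit 1248008200)))
    (.node (.node (.leaf (nat_lit 551618569)) (.leaf (nat_lit 1456837888))) (.leaf (nat_lit
    1993645314)))) (.node (.node (.node (.leaf (nat_lit 133235201)) (.leaf (nat_lit 3196841740)))
    (.leaf (nat_lit 1593005576))) (.node (.node (.leaf (nat_lit 841172737)) (.leaf (nat_lit
    859196928))) (.leaf (nat_lit 1591274506))))) (.node (.node (.node (.node (.leaf (nat_lit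
    123767307)) (.leaf (nat_lit 2994217987))) (.leaf (nat_lit 1401242626))) (.node (.node (.leaf
    (nat_lit 726764036)) (.leaf (nat_lit 1492827392))) (.leaf (nat_lit 2186818059)))) (.node (.node
    (.node (.leaf (nat_lit 417384712)) (.leaf (nat_lit 1797685512))) (.leaf (nat_lit 1789307915)))
    (.node (.node (.leaf (nat_lit 590606085)) (.leaf (nat_lit 47909888))) (.leaf (nat_lit
    2594579459)))))) (.node (.node (.node (.node (.node (.leaf (nat_lit 82858507)) (.leaf (nat_lit
    2891414276))) (.leaf (nat_lit 1317335308))) (.node (.node (.leaf (nat_lit 352477447)) (.leaf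
    (nat_lit 259284480))) (.leaf (nat_lit 2092226817)))) (.node (.node (.node (.leaf (nat_lit
    191972361)) (.leaf (nat_lit 3291215361))) (.leaf (nat_lit 1020675074))) (.node (.node (.leaf
    (nat_lit 522424070)) (.leaf (nat_lit 171186432))) (.leaf (nat_lit 2491799560))))) (.node (.node
    (.node (.node (.leaf (nat_lit 204522507)) (.leaf (nat_lit 2854963968))) (.leaf (nat_lit
    1501769737))) (.node (.node (.leaf (nat_lit 442695429)) (.leaf (nat_lit 240255488))) (.leaf
    (nat_lit 1465423624)))) (.node (.node (.node (.leaf (nat_lit 244436225)) (.leaf (nat_lit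
    448194048))) (.leaf (nat_lit 1888947467))) (.node (.node (.leaf (nat_lit 1152666628)) (.leaf
    (nat_lit 1124104708))) (.leaf (nat_lit 2696326658)))))))) (.node (.node (.node (.node (.node
    (.node (.node (.leaf (nat_lit 9440515)) (.leaf (nat_lit 1893357573))) (.leaf (nat_lit
    1225956361))) (.node (.node (.leaf (nat_lit 533808899)) (.leaf (nat_lit 1863069184))) (.leaf
    (nat_lit 1963229447)))) (.node (.node (.node (.leaf (nat_lit 165737478)) (.leaf (nat_lit
    3178850056))) (.leaf (nat_lit 900062213))) (.node (.node (.leaf (nat_lit 864143882)) (.leaf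
    (nat_lit 1316732928))) (.leaf (nat_lit 1578686722))))) (.node (.node (.node (.node (.leaf
    (nat_lit 129006604)) (.leaf (nat_lit 2972182280))) (.leaf (nat_lit 1391800331))) (.node (.node
    (.leaf (nat_lit 702643207)) (.leaf (nat_lit 2090582528))) (.leaf (nat_lit 2178220290)))) (.node
    (.node (.node (.leaf (nat_lit 242318089)) (.leaf (nat_lit 2821417729))) (.leaf (nat_lit
    1032229638))) (.node (.node (.leaf (nat_lit 1006885125)) (.leaf (nat_lit 312904448))) (.leaf
    (nat_lit 2569407234)))))) (.node (.node (.node (.node (.node (.leaf (nat_lit 70262792)) (.leaf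
    (nat_lit 2639966465))) (.leaf (nat_lit 750050052))) (.node (.node (.leaf (nat_lit 330451971))
    (.leaf (nat_lit 292296448))) (.leaf (nat_lit 2003284737)))) (.node (.node (.node (.leaf
    (nat_lit 320902407)) (.leaf (nat_lit 2545690883))) (.leaf (nat_lit 1128672769))) (.node (.node
    (.leaf (nat_lit 934509572)) (.leaf (nat_lit 3129018633))) (.leaf (nat_lit 1618554371)))))
    (.node (.node (.node (.node (.leaf (nat_lit 91272712)) (.leaf (nat_lit 3072879108))) (.leaf
    (nat_lit 1480794369))) (.node (.node (.leaf (nat_lit 450030089)) (.leaf (nat_lit 286467072)))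
    (.leaf (nat_lit 2053667590)))) (.node (.node (.node (.leaf (nat_lit 347193094)) (.leaf (nat_lit
    206265088))) (.leaf (nat_lit 1145500678))) (.node (.node (.leaf (nat_lit 982792456)) (.leaf
    (nat_lit 140534017))) (.leaf (nat_lit 1747578630))))))) (.node (.node (.node (.node (.node
    (.node (.leaf (nat_lit 20981509)) (.leaf (nat_lit 2776271617))) (.leaf (nat_lit 733263370)))
    (.node (.node (.leaf (nat_lit 567418374)) (.leaf (nat_lit 851788288))) (.leaf (nat_lit
    1402438660)))) (.node (.node (.node (.leaf (nat_lit 134288137)) (.leaf (nat_lit 2502688775)))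
    (.leaf (nat_lit 1618173953))) (.node (.node (.leaf (nat_lit 897800460)) (.leaf (nat_lit
    92380928))) (.leaf (nat_lit 2422581763))))) (.node (.node (.node (.node (.leaf (nat_lit
    159401480)) (.leaf (nat_lit 3000713227))) (.leaf (nat_lit 1438841096))) (.node (.node (.leaf
    (nat_lit 425903882)) (.leaf (nat_lit 40327680))) (.leaf (nat_lit 1999128837)))) (.node (.node
    (.node (.leaf (nat_lit 351378433)) (.leaf (nat_lit 3056337152))) (.leaf (nat_lit 1111934212)))
    (.node (.node (.leaf (nat_lit 629410308)) (.leaf (nat_lit 297869826))) (.leaf (nat_lit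
    1690944520)))))) (.node (.node (.node (.node (.node (.leaf (nat_lit 99639300)) (.leaf (nat_lit
    2916586499))) (.leaf (nat_lit 769984775))) (.node (.node (.leaf (nat_lit 656493066)) (.leaf
    (nat_lit 868782848))) (.leaf (nat_lit 2120718849)))) (.node (.node (.node (.leaf (nat_lit
    357606657)) (.leaf (nat_lit 2301286153))) (.leaf (nat_lit 1712563460))) (.node (.node (.leaf
    (nat_lit 975415051)) (.leaf (nat_lit 281723392))) (.leaf (nat_lit 1588159238))))) (.node (.node
    (.node (.node (.leaf (nat_lit 210818060)) (.leaf (nat_lit 3117981186))) (.leaf (nat_lit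
    1526939402))) (.node (.node (.leaf (nat_lit 698552582)) (.leaf (nat_lit 120206592))) (.leaf
    (nat_lit 2335528708)))) (.node (.node (.node (.leaf (nat_lit 502327044)) (.leaf (nat_lit
    1289274368))) (.leaf (nat_lit 1917081608))) (.node (.leaf (nat_lit 1177710345)) (.leaf (nat_lit
    1839866889))))))))) (.node (.node (.node (.node (.node (.node (.node (.node (.leaf (nat_lit
    5244428)) (.leaf (nat_lit 2764502535))) (.leaf (nat_lit 691307526))) (.node (.node (.leaf
    (nat_lit 524416267)) (.leaf (nat_lit 233531648))) (.leaf (nat_lit 1187464198)))) (.node (.node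
    (.node (.leaf (nat_lit 137423881)) (.leaf (nat_lit 3161180172))) (.leaf (nat_lit 921030666)))
    (.node (.node (.leaf (nat_lit 852608771)) (.leaf (nat_lit 284719360))) (.leaf (nat_lit
    2352533763))))) (.node (.node (.node (.node (.leaf (nat_lit 123746306)) (.leaf (nat_lit
    2104165384))) (.leaf (nat_lit 1384310794))) (.node (.node (.leaf (nat_lit 688032778)) (.leaf
    (nat_lit 1303732480))) (.leaf (nat_lit 1984433929)))) (.node (.node (.node (.leaf (nat_lit
    388067852)) (.leaf (nat_lit 2057972737))) (.leaf (nat_lit 1751371272))) (.node (.node (.leaf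
    (nat_lit 925092870)) (.leaf (nat_lit 198344704))) (.leaf (nat_lit 2557869571)))))) (.node
    (.node (.node (.node (.node (.leaf (nat_lit 57687051)) (.leaf (nat_lit 2856802824))) (.leaf
    (nat_lit 1293072130))) (.node (.node (.leaf (nat_lit 602030603)) (.leaf (nat_lit 970237696)))
    (.leaf (nat_lit 2020058885)))) (.node (.node (.node (.leaf (nat_lit 161557256)) (.leaf (nat_lit
    2564562436))) (.leaf (nat_lit 1647715340))) (.node (.node (.leaf (nat_lit 904098827)) (.leaf
    (nat_lit 413379840))) (.leaf (nat_lit 2455090692))))) (.node (.node (.node (.node (.leaf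
    (nat_lit 84979207)) (.leaf (nat_lit 3058195203))) (.leaf (nat_lit 1129675781))) (.node (.node
    (.leaf (nat_lit 775003144)) (.leaf (nat_lit 236214784))) (.leaf (nat_lit 2262118663)))) (.node
    (.node (.node (.leaf (nat_lit 227653637)) (.leaf (nat_lit 406471168))) (.leaf (nat_lit
    1855206913))) (.node (.node (.leaf (nat_lit 1115958539)) (.leaf (nat_lit 98170112))) (.leaf
    (nat_lit 2655588361))))))) (.node (.node (.node (.node (.node (.node (.leaf (nat_lit 34611724))
    (.leaf (nat_lit 2767879169))) (.leaf (nat_lit 1257417737))) (.node (.node (.leaf (nat_lit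
    500307458)) (.leaf (nat_lit 1302978048))) (.leaf (nat_lit 2005184258)))) (.node (.node (.node
    (.leaf (nat_lit 134285574)) (.leaf (nat_lit 3189503755))) (.leaf (nat_lit 1590033419))) (.node
    (.node (.leaf (nat_lit 887231235)) (.leaf (nat_lit 1320669440))) (.leaf (nat_lit
    1581840905))))) (.node (.node (.node (.node (.leaf (nat_lit 146837516)) (.leaf (nat_lit
    3006802433))) (.leaf (nat_lit 1423266060))) (.node (.node (.leaf (nat_lit 735153412)) (.leaf
    (nat_lit 278410240))) (.leaf (nat_lit 2173189132)))) (.node (.node (.node (.leaf (nat_lit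
    419533835)) (.leaf (nat_lit 3172738560))) (.leaf (nat_lit 1087813641))) (.node (.node (.leaf
    (nat_lit 1057225995)) (.leaf (nat_lit 76578562))) (.leaf (nat_lit 2605298946)))))) (.node
    (.node (.node (.node (.node (.leaf (nat_lit 92297474)) (.leaf (nat_lit 2902951431))) (.leaf
    (nat_lit 1188363521))) (.node (.node (.leaf (nat_lit 646006787)) (.leaf (nat_lit 1049135616)))
    (.leaf (nat_lit 2106908674)))) (.node (.node (.node (.leaf (nat_lit 349216519)) (.leaf (nat_lit
    2581351432))) (.leaf (nat_lit 1244025347))) (.node (.node (.leaf (nat_lit 967964162)) (.leaf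
    (nat_lit 1020633088))) (.leaf (nat_lit 2504418819))))) (.node (.node (.node (.node (.leaf
    (nat_lit 101763589)) (.leaf (nat_lit 2999685121))) (.leaf (nat_lit 863347719))) (.node (.node
    (.leaf (nat_lit 647170306)) (.leaf (nat_lit 2403012096))) (.leaf (nat_lit 2321065484)))) (.node
    (.node (.node (.leaf (nat_lit 244438537)) (.leaf (nat_lit 512498432))) (.leaf (nat_lit
    1904679435))) (.node (.node (.leaf (nat_lit 1163029258)) (.leaf (nat_lit 77629193))) (.leaf
    (nat_lit 2709964548)))))))) (.node (.node (.node (.node (.node (.node (.node (.leaf (nat_lit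
    18879234)) (.leaf (nat_lit 2788840711))) (.leaf (nat_lit 1235394569))) (.node (.node (.leaf
    (nat_lit 540148740)) (.leaf (nat_lit 840265216))) (.leaf (nat_lit 1981059850)))) (.node (.node
    (.node (.leaf (nat_lit 259062539)) (.leaf (nat_lit 3191413508))) (.leaf (nat_lit 1529210115)))
    (.node (.node (.leaf (nat_lit 501432329)) (.leaf (nat_lit 1750841088))) (.leaf (nat_lit
    1627972105))))) (.node (.node (.node (.node (.leaf (nat_lit 65045766)) (.leaf (nat_lit
    2581273349))) (.leaf (nat_lit 1404236041))) (.node (.node (.leaf (nat_lit 716276228)) (.leaf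
    (nat_lit 2016989952))) (.leaf (nat_lit 2185766156)))) (.node (.node (.node (.leaf (nat_lit
    251757834)) (.leaf (nat_lit 1667672064))) (.leaf (nat_lit 1773575430))) (.node (.node (.leaf
    (nat_lit 1040442379)) (.leaf (nat_lit 79086336))) (.leaf (nat_lit 2580945666)))))) (.node
    (.node (.node (.node (.node (.leaf (nat_lit 57690882)) (.leaf (nat_lit 2879877122))) (.leaf
    (nat_lit 1316144648))) (.node (.node (.leaf (nat_lit 626152971)) (.leaf (nat_lit 1262014976)))
    (.leaf (nat_lit 1298644746)))) (.node (.node (.node (.leaf (nat_lit 327236619)) (.leaf (nat_lit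
    2561423114))) (.leaf (nat_lit 1670613767))) (.node (.node (.leaf (nat_lit 944997892)) (.leaf
    (nat_lit 94614272))) (.leaf (nat_lit 2478163715))))) (.node (.node (.node (.node (.leaf
    (nat_lit 196131851)) (.leaf (nat_lit 2278260229))) (.leaf (nat_lit 908430595))) (.node (.node
    (.leaf (nat_lit 787673861)) (.leaf (nat_lit 137520896))) (.leaf (nat_lit 2269678594)))) (.node
    (.node (.node (.leaf (nat_lit 243385857)) (.leaf (nat_lit 1367733504))) (.leaf (nat_lit
    1877409547))) (.node (.node (.leaf (nat_lit 651445252)) (.leaf (nat_lit 192984072))) (.leaf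
    (nat_lit 2682690562))))))) (.node (.node (.node (.node (.node (.node (.leaf (nat_lit 29371907))
    (.leaf (nat_lit 2735380486))) (.leaf (nat_lit 1272114435))) (.node (.node (.leaf (nat_lit
    580981250)) (.leaf (nat_lit 1235666184))) (.leaf (nat_lit 1437045257)))) (.node (.node (.node
    (.leaf (nat_lit 295734273)) (.leaf (nat_lit 3233364737))) (.leaf (nat_lit 1627766532))) (.node
    (.node (.leaf (nat_lit 839082755)) (.leaf (nat_lit 2969272832))) (.leaf (nat_lit
    2432019976))))) (.node (.node (.node (.node (.leaf (nat_lit 167791364)) (.leaf (nat_lit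
    3034073091))) (.leaf (nat_lit 1451425801))) (.node (.node (.leaf (nat_lit 733138690)) (.leaf
    (nat_lit 2118680064))) (.leaf (nat_lit 2240094724)))) (.node (.node (.node (.leaf (nat_lit
    443609857)) (.leaf (nat_lit 2714495497))) (.leaf (nat_lit 1777782789))) (.node (.node (.leaf
    (nat_lit 1093932300)) (.leaf (nat_lit 306253574))) (.leaf (nat_lit 1704579333)))))) (.node
    (.node (.node (.node (.node (.leaf (nat_lit 97544203)) (.leaf (nat_lit 2065361162))) (.leaf
    (nat_lit 1362288644))) (.node (.node (.leaf (nat_lit 650279435)) (.leaf (nat_lit 551054592)))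
    (.leaf (nat_lit 2135422220)))) (.node (.node (.node (.leaf (nat_lit 182541833)) (.leaf (nat_lit
    1290439168))) (.leaf (nat_lit 1725150721))) (.node (.node (.leaf (nat_lit 993134602)) (.leaf
    (nat_lit 91635712))) (.leaf (nat_lit 2529783564))))) (.node (.node (.node (.node (.leaf
    (nat_lit 113302530)) (.leaf (nat_lit 3118180620))) (.leaf (nat_lit 878033413))) (.node (.node
    (.leaf (nat_lit 732109315)) (.leaf (nat_lit 860064256))) (.leaf (nat_lit 2279128588)))) (.node
    (.node (.node (.leaf (nat_lit 286385416)) (.leaf (nat_lit 1976179712))) (.leaf (nat_lit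
    1929665796))) (.node (.leaf (nat_lit 1189245700)) (.leaf (nat_lit 2737235202)))))))))) (.node
    (.node (.node (.node (.node (.node (.node (.node (.node (.leaf (nat_lit 3146507)) (.leaf
    (nat_lit 2757161732))) (.leaf (nat_lit 1204978442))) (.node (.node (.leaf (nat_lit 282193921))
    (.leaf (nat_lit 270029824))) (.leaf (nat_lit 1862745859)))) (.node (.node (.node (.leaf
    (nat_lit 243329292)) (.leaf (nat_lit 3156803592))) (.leaf (nat_lit 1550174731))) (.node (.node
    (.leaf (nat_lit 500377857)) (.leaf (nat_lit 1302740480))) (.leaf (nat_lit 1487457542)))))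
    (.node (.node (.node (.node (.leaf (nat_lit 120600329)) (.leaf (nat_lit 2091580933))) (.leaf
    (nat_lit 1377116684))) (.node (.node (.leaf (nat_lit 683838731)) (.leaf (nat_lit 565380864)))
    (.leaf (nat_lit 2156197127)))) (.node (.node (.node (.leaf (nat_lit 380726027)) (.leaf (nat_lit
    1277447425))) (.leaf (nat_lit 1745085192))) (.node (.node (.leaf (nat_lit 1013059336)) (.leaf
    (nat_lit 314824192))) (.leaf (nat_lit 2544468236)))))) (.node (.node (.node (.node (.node
    (.leaf (nat_lit 58727171)) (.leaf (nat_lit 2584335112))) (.leaf (nat_lit 734317577))) (.node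
    (.node (.leaf (nat_lit 335691015)) (.leaf (nat_lit 290915072))) (.leaf (nat_lit 1280811270))))
    (.node (.node (.node (.leaf (nat_lit 309366786)) (.leaf (nat_lit 3249097474))) (.leaf (nat_lit
    1643346945))) (.node (.node (.leaf (nat_lit 909340679)) (.leaf (nat_lit 130053122))) (.leaf
    (nat_lit 2448816135))))) (.node (.node (.node (.node (.leaf (nat_lit 174106629)) (.leaf
    (nat_lit 2681953546))) (.leaf (nat_lit 1384478465))) (.node (.node (.leaf (nat_lit 441638403))
    (.leaf (nat_lit 134925056))) (.leaf (nat_lit 1446536967)))) (.node (.node (.node (.leaf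
    (nat_lit 408007684)) (.leaf (nat_lit 825442560))) (.leaf (nat_lit 1137107721))) (.node (.node
    (.leaf (nat_lit 633612037)) (.leaf (nat_lit 277941769))) (.leaf (nat_lit 2411323394)))))))
    (.node (.node (.node (.node (.node (.node (.leaf (nat_lit 31460615)) (.leaf (nat_lit
    1951037191))) (.leaf (nat_lit 1252305666))) (.node (.node (.leaf (nat_lit 288494084)) (.leaf
    (nat_lit 1267171328))) (.leaf (nat_lit 1985442316)))) (.node (.node (.node (.leaf (nat_lit
    269550859)) (.leaf (nat_lit 3209241863))) (.leaf (nat_lit 903214601))) (.node (.node (.leaf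
    (nat_lit 884069124)) (.leaf (nat_lit 116421377))) (.leaf (nat_lit 2401631242))))) (.node (.node
    (.node (.node (.leaf (nat_lit 148914435)) (.leaf (nat_lit 2983930881))) (.leaf (nat_lit
    1419069956))) (.node (.node (.leaf (nat_lit 729987340)) (.leaf (nat_lit 525562880))) (.leaf
    (nat_lit 2188916235)))) (.node (.node (.node (.leaf (nat_lit 420530695)) (.leaf (nat_lit
    2680960263))) (.leaf (nat_lit 1790357772))) (.node (.node (.leaf (nat_lit 1062467083)) (.leaf
    (nat_lit 335688448))) (.leaf (nat_lit 2601920514)))))) (.node (.node (.node (.node (.node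
    (.leaf (nat_lit 88102156)) (.leaf (nat_lit 2071644680))) (.leaf (nat_lit 974452227))) (.node
    (.node (.leaf (nat_lit 641811975)) (.leaf (nat_lit 638202880))) (.leaf (nat_lit 2098519047))))
    (.node (.node (.node (.leaf (nat_lit 342924801)) (.leaf (nat_lit 3293332999))) (.leaf (nat_lit
    1689530631))) (.node (.node (.leaf (nat_lit 960623361)) (.leaf (nat_lit 301090304))) (.leaf
    (nat_lit 1576619782))))) (.node (.node (.node (.node (.leaf (nat_lit 205571596)) (.leaf
    (nat_lit 3098052353))) (.leaf (nat_lit 1508061953))) (.node (.node (.leaf (nat_lit 442696454))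
    (.leaf (nat_lit 55672064))) (.leaf (nat_lit 1426628101)))) (.node (.node (.node (.leaf (nat_lit
    245485825)) (.leaf (nat_lit 515645184))) (.leaf (nat_lit 1160188678))) (.node (.node (.leaf
    (nat_lit 1156855810)) (.leaf (nat_lit 364977417))) (.leaf (nat_lit 1806307590)))))))) (.node
    (.node (.node (.node (.node (.node (.node (.leaf (nat_lit 11538178)) (.leaf (nat_lit
    2781502731))) (.leaf (nat_lit 704943622))) (.node (.node (.leaf (nat_lit 271712262)) (.leaf
    (nat_lit 103053056))) (.leaf (nat_lit 1968658700)))) (.node (.node (.node (.leaf (nat_lit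
    125892615)) (.leaf (nat_lit 3185303051))) (.leaf (nat_lit 1485168899))) (.node (.node (.leaf
    (nat_lit 868338947)) (.leaf (nat_lit 283665408))) (.leaf (nat_lit 2359876876))))) (.node (.node
    (.node (.node (.leaf (nat_lit 132153867)) (.leaf (nat_lit 2977435649))) (.leaf (nat_lit
    1398093314))) (.node (.node (.leaf (nat_lit 711032583)) (.leaf (nat_lit 506678016))) (.leaf
    (nat_lit 1356341511)))) (.node (.node (.node (.leaf (nat_lit 400654603)) (.leaf (nat_lit
    2835006980))) (.leaf (nat_lit 1041668357))) (.node (.node (.leaf (nat_lit 1012129285)) (.leaf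
    (nat_lit 102810880))) (.leaf (nat_lit 2574653448)))))) (.node (.node (.node (.node (.node
    (.leaf (nat_lit 71321356)) (.leaf (nat_lit 2872535815))) (.leaf (nat_lit 1308942603))) (.node
    (.node (.leaf (nat_lit 621957388)) (.leaf (nat_lit 477834752))) (.leaf (nat_lit 2031597836))))
    (.node (.node (.node (.leaf (nat_lit 326145544)) (.leaf (nat_lit 3271270145))) (.leaf (nat_lit
    1020670470))) (.node (.node (.leaf (nat_lit 936608268)) (.leaf (nat_lit 306318592))) (.leaf
    (nat_lit 1556689922))))) (.node (.node (.node (.node (.leaf (nat_lit 194009603)) (.leaf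
    (nat_lit 2298181890))) (.leaf (nat_lit 852854794))) (.node (.node (.leaf (nat_lit 786538249))
    (.leaf (nat_lit 243400704))) (.leaf (nat_lit 1409843718)))) (.node (.node (.node (.leaf
    (nat_lit 472964615)) (.leaf (nat_lit 493021184))) (.leaf (nat_lit 1871116546))) (.node (.node
    (.leaf (nat_lit 1133788683)) (.leaf (nat_lit 112227850))) (.leaf (nat_lit 2676396034)))))))
    (.node (.node (.node (.node (.node (.node (.leaf (nat_lit 32516618)) (.leaf (nat_lit
    2837919745))) (.leaf (nat_lit 729069827))) (.node (.node (.leaf (nat_lit 573711371)) (.leaf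
    (nat_lit 1404690944))) (.leaf (nat_lit 2019003404)))) (.node (.node (.node (.leaf (nat_lit
    242292485)) (.leaf (nat_lit 3228120835))) (.leaf (nat_lit 1518734339))) (.node (.node (.leaf
    (nat_lit 558063364)) (.leaf (nat_lit 167855360))) (.leaf (nat_lit 1590233605))))) (.node (.node
    (.node (.node (.leaf (nat_lit 163617803)) (.leaf (nat_lit 3026729474))) (.leaf (nat_lit
    1446182153))) (.node (.node (.leaf (nat_lit 424856581)) (.leaf (nat_lit 731618048))) (.leaf
    (nat_lit 1377325061)))) (.node (.node (.node (.leaf (nat_lit 439406339)) (.leaf (nat_lit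
    2560316672))) (.leaf (nat_lit 1823741703))) (.node (.node (.leaf (nat_lit 1092767241)) (.leaf
    (nat_lit 108029962))) (.leaf (nat_lit 1699334915)))))) (.node (.node (.node (.node (.node
    (.leaf (nat_lit 106967050)) (.leaf (nat_lit 2922046220))) (.leaf (nat_lit 769985797))) (.node
    (.node (.leaf (nat_lit 353531399)) (.leaf (nat_lit 842714112))) (.leaf (nat_lit 2033708553))))
    (.node (.node (.node (.leaf (nat_lit 363898626)) (.leaf (nat_lit 3074105608))) (.leaf (nat_lit
    1717987074))) (.node (.node (.leaf (nat_lit 987890946)) (.leaf (nat_lit 1048110592))) (.leaf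
    (nat_lit 2526407687))))) (.node (.node (.node (.node (.leaf (nat_lit 219207689)) (.leaf
    (nat_lit 2321261318))) (.leaf (nat_lit 1533231362))) (.node (.node (.leaf (nat_lit 454235397))
    (.leaf (nat_lit 864783360))) (.leaf (nat_lit 1442363397)))) (.node (.node (.node (.leaf
    (nat_lit 505473027)) (.leaf (nat_lit 790179072))) (.leaf (nat_lit 1921460484))) (.node (.leaf
    (nat_lit 1182953482)) (.leaf (nat_lit 2729061132))))))))) (.node (.node (.node (.node (.node
    (.node (.node (.node (.leaf (nat_lit 9439499)) (.leaf (nat_lit 1916424451))) (.leaf (nat_lit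
    1216646156))) (.node (.node (.leaf (nat_lit 402782726)) (.leaf (nat_lit 166922496))) (.leaf
    (nat_lit 1956932356)))) (.node (.node (.node (.leaf (nat_lit 251687937)) (.leaf (nat_lit
    3169570572))) (.leaf (nat_lit 931517961))) (.node (.node (.leaf (nat_lit 480456709)) (.leaf
    (nat_lit 1691870976))) (.leaf (nat_lit 1731777798))))) (.node (.node (.node (.node (.leaf
    (nat_lit 100694277)) (.leaf (nat_lit 2963791624))) (.leaf (nat_lit 1357195780))) (.node (.node
    (.leaf (nat_lit 528652289)) (.leaf (nat_lit 1732742656))) (.leaf (nat_lit 2170879242)))) (.node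
    (.node (.node (.leaf (nat_lit 393312011)) (.leaf (nat_lit 2939841798))) (.leaf (nat_lit
    1759760904))) (.node (.node (.leaf (nat_lit 1027742984)) (.leaf (nat_lit 181491968))) (.leaf
    (nat_lit 2548665611)))))) (.node (.node (.node (.node (.node (.leaf (nat_lit 67116807)) (.leaf
    (nat_lit 2865192968))) (.leaf (nat_lit 1297288449))) (.node (.node (.leaf (nat_lit 339887879))
    (.leaf (nat_lit 258696192))) (.leaf (nat_lit 2050469643)))) (.node (.node (.node (.leaf
    (nat_lit 317756424)) (.leaf (nat_lit 2518426374))) (.leaf (nat_lit 1195780356))) (.node (.node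
    (.leaf (nat_lit 563312648)) (.leaf (nat_lit 73970432))) (.leaf (nat_lit 2460334083))))) (.node
    (.node (.node (.node (.leaf (nat_lit 186668298)) (.leaf (nat_lit 3018549763))) (.leaf (nat_lit
    1476599562))) (.node (.node (.leaf (nat_lit 779197706)) (.leaf (nat_lit 120651776))) (.leaf
    (nat_lit 2269459720)))) (.node (.node (.node (.leaf (nat_lit 415349513)) (.leaf (nat_lit
    816567808))) (.leaf (nat_lit 1140256266))) (.node (.node (.leaf (nat_lit 639906565)) (.leaf
    (nat_lit 310436103))) (.leaf (nat_lit 2466900234))))))) (.node (.node (.node (.node (.node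
    (.node (.leaf (nat_lit 32515084)) (.leaf (nat_lit 1956283400))) (.leaf (nat_lit 1258598924)))
    (.node (.node (.leaf (nat_lit 564202756)) (.leaf (nat_lit 437471744))) (.leaf (nat_lit
    2012524809)))) (.node (.node (.node (.leaf (nat_lit 277941510)) (.leaf (nat_lit 3216768002)))
    (.leaf (nat_lit 1525022721))) (.node (.node (.leaf (nat_lit 892458242)) (.leaf (nat_lit
    860259584))) (.leaf (nat_lit 1569259530))))) (.node (.node (.node (.node (.leaf (nat_lit
    72389385)) (.leaf (nat_lit 2984983042))) (.leaf (nat_lit 1344624130))) (.node (.node (.leaf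
    (nat_lit 740397063)) (.leaf (nat_lit 244495104))) (.leaf (nat_lit 1386758401)))) (.node (.node
    (.node (.leaf (nat_lit 269588234)) (.leaf (nat_lit 3203129862))) (.leaf (nat_lit 1797701385)))
    (.node (.node (.leaf (nat_lit 1074005004)) (.leaf (nat_lit 276898819))) (.leaf (nat_lit
    2613457928)))))) (.node (.node (.node (.node (.node (.leaf (nat_lit 54549767)) (.leaf (nat_lit
    2910294023))) (.leaf (nat_lit 1342505477))) (.node (.node (.leaf (nat_lit 649152771)) (.leaf
    (nat_lit 442622976))) (.leaf (nat_lit 1315430401)))) (.node (.node (.node (.leaf (nat_lit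
    254889989)) (.leaf (nat_lit 2576983040))) (.leaf (nat_lit 1704173570))) (.node (.node (.leaf
    (nat_lit 974256138)) (.leaf (nat_lit 283197696))) (.leaf (nat_lit 1628003080))))) (.node (.node
    (.node (.node (.leaf (nat_lit 218128897)) (.leaf (nat_lit 3111687684))) (.leaf (nat_lit
    913681161))) (.node (.node (.leaf (nat_lit 819122689)) (.leaf (nat_lit 483863296))) (.leaf
    (nat_lit 2328187402)))) (.node (.node (.node (.leaf (nat_lit 497146635)) (.leaf (nat_lit
    559431424))) (.leaf (nat_lit 1200037642))) (.node (.node (.leaf (nat_lit 1168272641)) (.leaf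
    (nat_lit 101746691))) (.leaf (nat_lit 2715426316)))))))) (.node (.node (.node (.node (.node
    (.node (.node (.leaf (nat_lit 17831427)) (.leaf (nat_lit 2793040395))) (.leaf (nat_lit
    710189318))) (.node (.node (.leaf (nat_lit 486672642)) (.leaf (nat_lit 1475854592))) (.leaf
    (nat_lit 1985439243)))) (.node (.node (.node (.leaf (nat_lit 265354764)) (.leaf (nat_lit
    3196656897))) (.leaf (nat_lit 1587762439))) (.node (.node (.leaf (nat_lit 500384777)) (.leaf
    (nat_lit 1320673792))) (.leaf (nat_lit 1549330442))))) (.node (.node (.node (.node (.leaf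
    (nat_lit 142622210)) (.leaf (nat_lit 2302353414))) (.leaf (nat_lit 1408581644))) (.node (.node
    (.leaf (nat_lit 720472072)) (.leaf (nat_lit 867515648))) (.leaf (nat_lit 2193949962)))) (.node
    (.node (.node (.leaf (nat_lit 217156097)) (.leaf (nat_lit 1058652672))) (.leaf (nat_lit
    1781787400))) (.node (.node (.leaf (nat_lit 1020520460)) (.leaf (nat_lit 144755200))) (.leaf
    (nat_lit 2586190081)))))) (.node (.node (.node (.node (.node (.leaf (nat_lit 46157573)) (.leaf
    (nat_lit 2006629894))) (.leaf (nat_lit 756345865))) (.node (.node (.leaf (nat_lit 631397643))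
    (.leaf (nat_lit 1517806336))) (.leaf (nat_lit 2012726274)))) (.node (.node (.node (.leaf
    (nat_lit 195117066)) (.leaf (nat_lit 3285810954))) (.leaf (nat_lit 1676907009))) (.node (.node
    (.leaf (nat_lit 519277322)) (.leaf (nat_lit 377011456))) (.leaf (nat_lit 2484456452))))) (.node
    (.node (.node (.node (.leaf (nat_lit 96518409)) (.leaf (nat_lit 2288747524))) (.leaf (nat_lit
    1496525060))) (.node (.node (.leaf (nat_lit 796064267)) (.leaf (nat_lit 243997952))) (.leaf
    (nat_lit 2185794049)))) (.node (.node (.node (.leaf (nat_lit 248629768)) (.leaf (nat_lit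
    211434752))) (.leaf (nat_lit 1162282243))) (.node (.node (.leaf (nat_lit 1146374156)) (.leaf
    (nat_lit 76577543))) (.leaf (nat_lit 1780089350))))))) (.node (.node (.node (.node (.node
    (.node (.leaf (nat_lit 51386627)) (.leaf (nat_lit 1964678410))) (.leaf (nat_lit 729072392)))
    (.node (.node (.leaf (nat_lit 584199692)) (.leaf (nat_lit 1833609216))) (.leaf (nat_lit
    2033686283)))) (.node (.node (.node (.leaf (nat_lit 296820491)) (.leaf (nat_lit 2483818245)))
    (.leaf (nat_lit 1633904899))) (.node (.node (.leaf (nat_lit 916577539)) (.leaf (nat_lit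
    555400704))) (.leaf (nat_lit 1554584324))))) (.node (.node (.node (.node (.leaf (nat_lit
    143696643)) (.leaf (nat_lit 3040366851))) (.leaf (nat_lit 1456669186))) (.node (.node (.leaf
    (nat_lit 761370631)) (.leaf (nat_lit 1015727360))) (.leaf (nat_lit 2245338119)))) (.node (.node
    (.node (.leaf (nat_lit 432122635)) (.leaf (nat_lit 1986601472))) (.leaf (nat_lit 1111939080)))
    (.node (.node (.leaf (nat_lit 1104303617)) (.leaf (nat_lit 276863489))) (.leaf (nat_lit
    2153371138)))))) (.node (.node (.node (.node (.node (.leaf (nat_lit 99642379)) (.leaf (nat_lit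
    2937564426))) (.leaf (nat_lit 1365579783))) (.node (.node (.leaf (nat_lit 448953857)) (.leaf
    (nat_lit 437451264))) (.leaf (nat_lit 2143612673)))) (.node (.node (.node (.leaf (nat_lit
    372289538)) (.leaf (nat_lit 1277626368))) (.leaf (nat_lit 1731442945))) (.node (.node (.leaf
    (nat_lit 843298820)) (.leaf (nat_lit 85254656))) (.leaf (nat_lit 2538991880))))) (.node (.node
    (.node (.node (.leaf (nat_lit 232840971)) (.leaf (nat_lit 3137915399))) (.leaf (nat_lit
    1543718146))) (.node (.node (.leaf (nat_lit 473112325)) (.leaf (nat_lit 441570307))) (.leaf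
    (nat_lit 2351481602)))) (.node (.node (.node (.leaf (nat_lit 509733131)) (.leaf (nat_lit
    119120384))) (.leaf (nat_lit 1932997644))) (.node (.leaf (nat_lit 1188327941)) (.leaf (nat_lit
    2745624836))))))))))) (.node (.node (.node (.node (.node (.node (.node (.node (.node (.node
    (.leaf (nat_lit 1048844)) (.leaf (nat_lit 2754015747))) (.leaf (nat_lit 1165261067))) (.node
    (.node (.leaf (nat_lit 519108359)) (.leaf (nat_lit 732213504))) (.leaf (nat_lit 1882668292))))
    (.node (.node (.node (.leaf (nat_lit 242249730)) (.leaf (nat_lit 3152607751))) (.leaf (nat_lit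
    1550010370))) (.node (.node (.leaf (nat_lit 844310020)) (.leaf (nat_lit 1730659328))) (.leaf
    (nat_lit 2360706058))))) (.node (.node (.node (.node (.leaf (nat_lit 118511879)) (.leaf
    (nat_lit 2095774726))) (.leaf (nat_lit 1371872773))) (.node (.node (.leaf (nat_lit 375556616))
    (.leaf (nat_lit 867404800))) (.leaf (nat_lit 2153051146)))) (.node (.node (.node (.leaf
    (nat_lit 377533192)) (.leaf (nat_lit 2731208192))) (.leaf (nat_lit 1741931018))) (.node (.node
    (.leaf (nat_lit 1008864775)) (.leaf (nat_lit 383313408))) (.leaf (nat_lit 2511961603))))))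
    (.node (.node (.node (.node (.node (.leaf (nat_lit 56629511)) (.leaf (nat_lit 2731136264)))
    (.leaf (nat_lit 1271187724))) (.node (.node (.leaf (nat_lit 592591115)) (.leaf (nat_lit
    234309120))) (.leaf (nat_lit 2046082568)))) (.node (.node (.node (.leaf (nat_lit 307269378))
    (.leaf (nat_lit 3244902409))) (.leaf (nat_lit 1640200714))) (.node (.node (.leaf (nat_lit
    920857345)) (.leaf (nat_lit 234913285))) (.leaf (nat_lit 1531517701))))) (.node (.node (.node
    (.node (.leaf (nat_lit 83928837)) (.leaf (nat_lit 3048756738))) (.leaf (nat_lit 1420129548)))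
    (.node (.node (.leaf (nat_lit 721606657)) (.leaf (nat_lit 473219072))) (.leaf (nat_lit
    2253729032)))) (.node (.node (.node (.leaf (nat_lit 456184833)) (.leaf (nat_lit 2445923840)))
    (.leaf (nat_lit 1123475464))) (.node (.node (.leaf (nat_lit 1104421900)) (.leaf (nat_lit
    2673893892))) (.leaf (nat_lit 2650171139))))))) (.node (.node (.node (.node (.node (.node
    (.leaf (nat_lit 26221579)) (.leaf (nat_lit 2807505153))) (.leaf (nat_lit 1250200833))) (.node
    (.node (.leaf (nat_lit 549589004)) (.leaf (nat_lit 1322622720))) (.leaf (nat_lit 1996791562))))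
    (.node (.node (.node (.leaf (nat_lit 262210565)) (.leaf (nat_lit 2460742150))) (.leaf (nat_lit
    1547038977))) (.node (.node (.leaf (nat_lit 873679107)) (.leaf (nat_lit 135518208))) (.leaf
    (nat_lit 2398460935))))) (.node (.node (.node (.node (.leaf (nat_lit 146817033)) (.leaf
    (nat_lit 2994415884))) (.leaf (nat_lit 1416819719))) (.node (.node (.leaf (nat_lit 727889675))
    (.leaf (nat_lit 579310080))) (.leaf (nat_lit 1431843842)))) (.node (.node (.node (.leaf
    (nat_lit 291606281)) (.leaf (nat_lit 1817841664))) (.leaf (nat_lit 1069985545))) (.node (.node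
    (.leaf (nat_lit 1061302788)) (.leaf (nat_lit 303729664))) (.leaf (nat_lit 2590616843))))))
    (.node (.node (.node (.node (.node (.leaf (nat_lit 81810187)) (.leaf (nat_lit 2892679173)))
    (.leaf (nat_lit 1329779716))) (.node (.node (.leaf (nat_lit 468869890)) (.leaf (nat_lit
    241454336))) (.leaf (nat_lit 2095373057)))) (.node (.node (.node (.leaf (nat_lit 224478468))
    (.leaf (nat_lit 3239855109))) (.leaf (nat_lit 1685296387))) (.node (.node (.leaf (nat_lit
    523473158)) (.leaf (nat_lit 300103168))) (.leaf (nat_lit 2493074444))))) (.node (.node (.node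
    (.node (.leaf (nat_lit 114345217)) (.leaf (nat_lit 2850770176))) (.leaf (nat_lit 869636874)))
    (.node (.node (.leaf (nat_lit 788726028)) (.leaf (nat_lit 561725440))) (.leaf (nat_lit
    2311408649)))) (.node (.node (.node (.leaf (nat_lit 239193861)) (.leaf (nat_lit 472408064)))
    (.leaf (nat_lit 1179062531))) (.node (.node (.leaf (nat_lit 661933578)) (.leaf (nat_lit
    101984512))) (.leaf (nat_lit 1803160838)))))))) (.node (.node (.node (.node (.node (.node
    (.node (.leaf (nat_lit 11537927)) (.leaf (nat_lit 1882872582))) (.leaf (nat_lit 1228179969)))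
    (.node (.node (.leaf (nat_lit 273809159)) (.leaf (nat_lit 238339840))) (.leaf (nat_lit
    1968474114)))) (.node (.node (.node (.leaf (nat_lit 253818124)) (.leaf (nat_lit 3171670530)))
    (.leaf (nat_lit 1572199947))) (.node (.node (.leaf (nat_lit 504576513)) (.leaf (nat_lit
    2414542592))) (.leaf (nat_lit 2350439169))))) (.node (.node (.node (.node (.leaf (nat_lit
    61898760)) (.leaf (nat_lit 2973438988))) (.leaf (nat_lit 1396895240))) (.node (.node (.leaf
    (nat_lit 706837770)) (.leaf (nat_lit 438614272))) (.leaf (nat_lit 1357389576)))) (.node (.node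
    (.node (.leaf (nat_lit 401654785)) (.leaf (nat_lit 2776298756))) (.leaf (nat_lit 1769200136)))
    (.node (.node (.leaf (nat_lit 574872582)) (.leaf (nat_lit 236076544))) (.leaf (nat_lit
    2571507465)))))) (.node (.node (.node (.node (.node (.leaf (nat_lit 71311619)) (.leaf (nat_lit
    2871486465))) (.leaf (nat_lit 1305796108))) (.node (.node (.leaf (nat_lit 614616837)) (.leaf
    (nat_lit 484989696))) (.leaf (nat_lit 2071250691)))) (.node (.node (.node (.leaf (nat_lit
    322999811)) (.leaf (nat_lit 3268160770))) (.leaf (nat_lit 1643524107))) (.node (.node (.leaf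
    (nat_lit 939649028)) (.leaf (nat_lit 3009480706))) (.leaf (nat_lit 2467676423))))) (.node
    (.node (.node (.node (.leaf (nat_lit 188790540)) (.leaf (nat_lit 2317055241))) (.leaf (nat_lit
    842368262))) (.node (.node (.leaf (nat_lit 770894596)) (.leaf (nat_lit 536385536))) (.leaf
    (nat_lit 2280995592)))) (.node (.node (.node (.leaf (nat_lit 427933964)) (.leaf (nat_lit
    1220272128))) (.leaf (nat_lit 1869890314))) (.node (.node (.leaf (nat_lit 762592257)) (.leaf
    (nat_lit 1804618250))) (.leaf (nat_lit 2670101512))))))) (.node (.node (.node (.node (.node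
    (.node (.leaf (nat_lit 38807820)) (.leaf (nat_lit 2831846924))) (.leaf (nat_lit 747943682)))
    (.node (.node (.leaf (nat_lit 538058755)) (.leaf (nat_lit 927282432))) (.leaf (nat_lit
    2020051211)))) (.node (.node (.node (.leaf (nat_lit 236000514)) (.leaf (nat_lit 3224974601)))
    (.leaf (nat_lit 915802629))) (.node (.node (.leaf (nat_lit 901995788)) (.leaf (nat_lit
    116142592))) (.leaf (nat_lit 1619593225))))) (.node (.node (.node (.node (.leaf (nat_lit
    161498890)) (.leaf (nat_lit 3011199755))) (.leaf (nat_lit 1441987331))) (.node (.node (.leaf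
    (nat_lit 424856073)) (.leaf (nat_lit 416850176))) (.leaf (nat_lit 2228558090)))) (.node (.node
    (.node (.leaf (nat_lit 435211779)) (.leaf (nat_lit 3241892614))) (.leaf (nat_lit 1099352065)))
    (.node (.node (.leaf (nat_lit 1089620993)) (.leaf (nat_lit 122949376))) (.leaf (nat_lit
    2626045188)))))) (.node (.node (.node (.node (.node (.leaf (nat_lit 72377095)) (.leaf (nat_lit
    2920781576))) (.leaf (nat_lit 1342507788))) (.node (.node (.leaf (nat_lit 658590472)) (.leaf
    (nat_lit 811081984))) (.leaf (nat_lit 1315432966)))) (.node (.node (.node (.leaf (nat_lit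
    360752641)) (.leaf (nat_lit 2991249924))) (.leaf (nat_lit 1715712265))) (.node (.node (.leaf
    (nat_lit 984743690)) (.leaf (nat_lit 1047934208))) (.leaf (nat_lit 2522441220))))) (.node
    (.node (.node (.node (.leaf (nat_lit 105960965)) (.leaf (nat_lit 3121127940))) (.leaf (nat_lit
    1528148482))) (.node (.node (.leaf (nat_lit 781390603)) (.leaf (nat_lit 862487040))) (.leaf
    (nat_lit 2336797956)))) (.node (.node (.node (.leaf (nat_lit 243392518)) (.leaf (nat_lit
    791898880))) (.leaf (nat_lit 1173825030))) (.node (.leaf (nat_lit 1165255948)) (.leaf (nat_lit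
    2726747402))))))))) (.node (.node (.node (.node (.node (.node (.node (.node (.leaf (nat_lit
    7342084)) (.leaf (nat_lit 2766600195))) (.leaf (nat_lit 1217566730))) (.node (.node (.leaf
    (nat_lit 411170564)) (.leaf (nat_lit 211376896))) (.leaf (nat_lit 1930905356)))) (.node (.node
    (.node (.leaf (nat_lit 130084100)) (.leaf (nat_lit 3167293187))) (.leaf (nat_lit 1564691977)))
    (.node (.node (.leaf (nat_lit 499330823)) (.leaf (nat_lit 750158080))) (.leaf (nat_lit
    2354631428))))) (.node (.node (.node (.node (.leaf (nat_lit 66090761)) (.leaf (nat_lit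
    2960644360))) (.leaf (nat_lit 1383409926))) (.node (.node (.leaf (nat_lit 693204482)) (.leaf
    (nat_lit 1512629248))) (.leaf (nat_lit 2165838338)))) (.node (.node (.node (.leaf (nat_lit
    391167753)) (.leaf (nat_lit 2021295872))) (.leaf (nat_lit 1755566088))) (.node (.node (.leaf
    (nat_lit 1022499849)) (.leaf (nat_lit 198608384))) (.leaf (nat_lit 2561015815)))))) (.node
    (.node (.node (.node (.node (.leaf (nat_lit 59784711)) (.leaf (nat_lit 2859949064))) (.leaf
    (nat_lit 826593793))) (.node (.node (.leaf (nat_lit 609300487)) (.leaf (nat_lit 408186624)))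
    (.leaf (nat_lit 2059715331)))) (.node (.node (.node (.leaf (nat_lit 314646019)) (.leaf (nat_lit
    2508988421))) (.leaf (nat_lit 1652784906))) (.node (.node (.leaf (nat_lit 871593480)) (.leaf
    (nat_lit 152097536))) (.leaf (nat_lit 2457187848))))) (.node (.node (.node (.node (.leaf
    (nat_lit 183545867)) (.leaf (nat_lit 3059443206))) (.leaf (nat_lit 891649539))) (.node (.node
    (.leaf (nat_lit 776135940)) (.leaf (nat_lit 132177408))) (.leaf (nat_lit 2265265156)))) (.node
    (.node (.node (.leaf (nat_lit 463525891)) (.leaf (nat_lit 823776000))) (.leaf (nat_lit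
    1858352898))) (.node (.node (.leaf (nat_lit 1125277443)) (.leaf (nat_lit 314633479))) (.leaf
    (nat_lit 2372527617))))))) (.node (.node (.node (.node (.node (.node (.leaf (nat_lit 33563404))
    (.leaf (nat_lit 1929019654))) (.leaf (nat_lit 806662403))) (.node (.node (.leaf (nat_lit
    561125380)) (.leaf (nat_lit 728025600))) (.leaf (nat_lit 2009378818)))) (.node (.node (.node
    (.leaf (nat_lit 281050631)) (.leaf (nat_lit 3213463304))) (.leaf (nat_lit 1609784067))) (.node
    (.node (.leaf (nat_lit 493047814)) (.leaf (nat_lit 114348032))) (.leaf (nat_lit 1720253446)))))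
    (.node (.node (.node (.node (.leaf (nat_lit 153109252)) (.leaf (nat_lit 2546677002))) (.leaf
    (nat_lit 1425363980))) (.node (.node (.leaf (nat_lit 420659205)) (.leaf (nat_lit 578076672)))
    (.leaf (nat_lit 1449672452)))) (.node (.node (.node (.leaf (nat_lit 224499208)) (.leaf (nat_lit
    3211514370))) (.leaf (nat_lit 1078377221))) (.node (.node (.leaf (nat_lit 607387914)) (.leaf
    (nat_lit 369167620))) (.leaf (nat_lit 2607396875)))))) (.node (.node (.node (.node (.node
    (.leaf (nat_lit 94395138)) (.leaf (nat_lit 2907146755))) (.leaf (nat_lit 766836741))) (.node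
    (.node (.leaf (nat_lit 355625223)) (.leaf (nat_lit 808657154))) (.leaf (nat_lit 1321721096))))
    (.node (.node (.node (.leaf (nat_lit 171003657)) (.leaf (nat_lit 3302772235))) (.leaf (nat_lit
    974542085))) (.node (.node (.leaf (nat_lit 535010568)) (.leaf (nat_lit 860421632))) (.leaf
    (nat_lit 2508579591))))) (.node (.node (.node (.node (.leaf (nat_lit 213941769)) (.leaf
    (nat_lit 3106640908))) (.leaf (nat_lit 867543050))) (.node (.node (.leaf (nat_lit 452135685))
    (.leaf (nat_lit 341586688))) (.leaf (nat_lit 2325041418)))) (.node (.node (.node (.leaf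
    (nat_lit 496035076)) (.leaf (nat_lit 488827648))) (.leaf (nat_lit 1174871041))) (.node (.node
    (.leaf (nat_lit 1129600774)) (.leaf (nat_lit 128582656))) (.leaf (nat_lit 2712279812))))))))
    (.node (.node (.node (.node (.node (.node (.node (.leaf (nat_lit 20976652)) (.leaf (nat_lit
    1895458309))) (.leaf (nat_lit 1239589378))) (.node (.node (.leaf (nat_lit 543295243)) (.leaf
    (nat_lit 1016610048))) (.leaf (nat_lit 1976001292)))) (.node (.node (.node (.leaf (nat_lit
    141622538)) (.leaf (nat_lit 3160139013))) (.leaf (nat_lit 900065286))) (.node (.node (.leaf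
    (nat_lit 870531596)) (.leaf (nat_lit 1748744704))) (.leaf (nat_lit 2387141890))))) (.node
    (.node (.node (.node (.leaf (nat_lit 113280513)) (.leaf (nat_lit 2984778500))) (.leaf (nat_lit
    1407382018))) (.node (.node (.leaf (nat_lit 718374664)) (.leaf (nat_lit 438632192))) (.leaf
    (nat_lit 2188912652)))) (.node (.node (.node (.leaf (nat_lit 411092994)) (.leaf (nat_lit
    1669769728))) (.leaf (nat_lit 1777590785))) (.node (.node (.leaf (nat_lit 581166857)) (.leaf
    (nat_lit 77659392))) (.leaf (nat_lit 1914281990)))))) (.node (.node (.node (.node (.node (.leaf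
    (nat_lit 44059912)) (.leaf (nat_lit 2202713097))) (.leaf (nat_lit 1318254602))) (.node (.node
    (.leaf (nat_lit 330455302)) (.leaf (nat_lit 1279837952))) (.leaf (nat_lit 2082786561)))) (.node
    (.node (.node (.leaf (nat_lit 334535169)) (.leaf (nat_lit 3220977921))) (.leaf (nat_lit
    1673759754))) (.node (.node (.leaf (nat_lit 949087491)) (.leaf (nat_lit 1020990208))) (.leaf
    (nat_lit 1555643653))))) (.node (.node (.node (.node (.leaf (nat_lit 195083788)) (.leaf
    (nat_lit 3088612868))) (.leaf (nat_lit 850759689))) (.node (.node (.leaf (nat_lit 795014924))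
    (.leaf (nat_lit 564864768))) (.leaf (nat_lit 1414041093)))) (.node (.node (.node (.leaf
    (nat_lit 279037958)) (.leaf (nat_lit 454408448))) (.leaf (nat_lit 1881425921))) (.node (.node
    (.leaf (nat_lit 1147372801)) (.leaf (nat_lit 186715656))) (.leaf (nat_lit 1840906246)))))))
    (.node (.node (.node (.node (.node (.node (.leaf (nat_lit 28323841)) (.leaf (nat_lit
    2846313481))) (.leaf (nat_lit 724877062))) (.node (.node (.leaf (nat_lit 583079937)) (.leaf
    (nat_lit 215348992))) (.leaf (nat_lit 1278711041)))) (.node (.node (.node (.leaf (nat_lit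
    151067912)) (.leaf (nat_lit 3234598156))) (.leaf (nat_lit 1605767948))) (.node (.node (.leaf
    (nat_lit 912382465)) (.leaf (nat_lit 2820787460))) (.leaf (nat_lit 1530466561))))) (.node
    (.node (.node (.node (.leaf (nat_lit 79733001)) (.leaf (nat_lit 3036307209))) (.leaf (nat_lit
    1403349516))) (.node (.node (.leaf (nat_lit 743625227)) (.leaf (nat_lit 486661376))) (.leaf
    (nat_lit 2237159948)))) (.node (.node (.node (.leaf (nat_lit 445698055)) (.leaf (nat_lit
    2857115904))) (.leaf (nat_lit 1834228745))) (.node (.node (.leaf (nat_lit 1100109057)) (.leaf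
    (nat_lit 295773448))) (.leaf (nat_lit 2638632964)))))) (.node (.node (.node (.node (.node
    (.leaf (nat_lit 71330312)) (.leaf (nat_lit 2932530179))) (.leaf (nat_lit 1365434628))) (.node
    (.node (.leaf (nat_lit 637697292)) (.leaf (nat_lit 813185792))) (.leaf (nat_lit 2107111436))))
    (.node (.node (.node (.leaf (nat_lit 315711491)) (.leaf (nat_lit 1916464128))) (.leaf (nat_lit
    1728296714))) (.node (.node (.leaf (nat_lit 560182794)) (.leaf (nat_lit 146007552))) (.leaf
    (nat_lit 2535845895))))) (.node (.node (.node (.node (.leaf (nat_lit 145808648)) (.leaf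
    (nat_lit 3107695627))) (.leaf (nat_lit 916831242))) (.node (.node (.leaf (nat_lit 737352965))
    (.leaf (nat_lit 1021698560))) (.leaf (nat_lit 2350218762)))) (.node (.node (.node (.leaf
    (nat_lit 511767048)) (.leaf (nat_lit 111783936))) (.leaf (nat_lit 1921462795))) (.node (.leaf
    (nat_lit 1191343108)) (.leaf (nat_lit 1857697286)))))))))) (.node (.node (.node (.node (.node
    (.node (.node (.node (.node (.leaf (nat_lit 4195339)) (.leaf (nat_lit 1918519299))) (.leaf
    (nat_lit 1210223364))) (.node (.node (.leaf (nat_lit 523302921)) (.leaf (nat_lit 668684800)))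
    (.leaf (nat_lit 1919369484)))) (.node (.node (.node (.leaf (nat_lit 246444298)) (.leaf (nat_lit
    2441856001))) (.leaf (nat_lit 907398659))) (.node (.node (.leaf (nat_lit 838019595)) (.leaf
    (nat_lit 554216192))) (.leaf (nat_lit 1730727683))))) (.node (.node (.node (.node (.leaf
    (nat_lit 117470211)) (.leaf (nat_lit 2128281864))) (.leaf (nat_lit 1378166027))) (.node (.node
    (.leaf (nat_lit 389189381)) (.leaf (nat_lit 749271552))) (.leaf (nat_lit 2157448203)))) (.node
    (.node (.node (.leaf (nat_lit 198274568)) (.leaf (nat_lit 2755324161))) (.leaf (nat_lit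
    1748225288))) (.node (.node (.leaf (nat_lit 871614722)) (.leaf (nat_lit 178770432))) (.leaf
    (nat_lit 2555771912)))))) (.node (.node (.node (.node (.node (.leaf (nat_lit 31472137)) (.leaf
    (nat_lit 2634719242))) (.leaf (nat_lit 1289926145))) (.node (.node (.leaf (nat_lit 317865738))
    (.leaf (nat_lit 58398464))) (.leaf (nat_lit 1277666309)))) (.node (.node (.node (.leaf (nat_lit
    310426889)) (.leaf (nat_lit 2523667458))) (.leaf (nat_lit 1645444106))) (.node (.node (.leaf
    (nat_lit 924967425)) (.leaf (nat_lit 75737856))) (.leaf (nat_lit 2446926348))))) (.node (.node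
    (.node (.node (.leaf (nat_lit 179350284)) (.leaf (nat_lit 2307612680))) (.leaf (nat_lit
    1333099019))) (.node (.node (.leaf (nat_lit 467853319)) (.leaf (nat_lit 136385536))) (.leaf
    (nat_lit 2258972424)))) (.node (.node (.node (.leaf (nat_lit 458312451)) (.leaf (nat_lit
    700103168))) (.leaf (nat_lit 1852060682))) (.node (.node (.leaf (nat_lit 1118985475)) (.leaf
    (nat_lit 360758792))) (.leaf (nat_lit 2426003969))))))) (.node (.node (.node (.node (.node
    (.node (.leaf (nat_lit 19931142)) (.leaf (nat_lit 2812749063))) (.leaf (nat_lit 1254403330)))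
    (.node (.node (.leaf (nat_lit 548541451)) (.leaf (nat_lit 1451876352))) (.leaf (nat_lit
    1257731334)))) (.node (.node (.node (.leaf (nat_lit 249628422)) (.leaf (nat_lit 2554066182)))
    (.leaf (nat_lit 1600518668))) (.node (.node (.leaf (nat_lit 886166282)) (.leaf (nat_lit
    1320562944))) (.leaf (nat_lit 2387146246))))) (.node (.node (.node (.node (.leaf (nat_lit
    70291209)) (.leaf (nat_lit 3003656450))) (.leaf (nat_lit 1423111683))) (.node (.node (.leaf
    (nat_lit 450017793)) (.leaf (nat_lit 555041280))) (.leaf (nat_lit 2207791620)))) (.node (.node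
    (.node (.leaf (nat_lit 414290693)) (.leaf (nat_lit 2686203656))) (.leaf (nat_lit 1080472586)))
    (.node (.node (.leaf (nat_lit 1067595009)) (.leaf (nat_lit 284928000))) (.leaf (nat_lit
    1660531466)))))) (.node (.node (.node (.node (.node (.leaf (nat_lit 47208197)) (.leaf (nat_lit
    2899804162))) (.leaf (nat_lit 1336071683))) (.node (.node (.leaf (nat_lit 638739723)) (.leaf
    (nat_lit 425059328))) (.leaf (nat_lit 1307038984)))) (.node (.node (.node (.leaf (nat_lit
    169953800)) (.leaf (nat_lit 2594982152))) (.leaf (nat_lit 1234587397))) (.node (.node (.leaf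
    (nat_lit 962828044)) (.leaf (nat_lit 595296256))) (.leaf (nat_lit 2503336194))))) (.node (.node
    (.node (.node (.leaf (nat_lit 101763078)) (.leaf (nat_lit 3101198346))) (.leaf (nat_lit
    1511207688))) (.node (.node (.leaf (nat_lit 793970188)) (.leaf (nat_lit 864350976))) (.leaf
    (nat_lit 2316652290)))) (.node (.node (.node (.leaf (nat_lit 240243461)) (.leaf (nat_lit
    467142656))) (.leaf (nat_lit 1203181322))) (.node (.node (.leaf (nat_lit 1158959627)) (.leaf
    (nat_lit 95442440))) (.leaf (nat_lit 2695500809)))))))) (.node (.node (.node (.node (.node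
    (.node (.node (.leaf (nat_lit 8392970)) (.leaf (nat_lit 2784649227))) (.leaf (nat_lit
    777295880))) (.node (.node (.leaf (nat_lit 539033864)) (.leaf (nat_lit 667562496))) (.leaf
    (nat_lit 1976864778)))) (.node (.node (.node (.leaf (nat_lit 262174721)) (.leaf (nat_lit
    3188449540))) (.leaf (nat_lit 1500898054))) (.node (.node (.leaf (nat_lit 581123591)) (.leaf
    (nat_lit 1048110080))) (.leaf (nat_lit 2381897730))))) (.node (.node (.node (.node (.leaf
    (nat_lit 138427396)) (.leaf (nat_lit 2608535810))) (.leaf (nat_lit 1400190988))) (.node (.node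
    (.leaf (nat_lit 403875846)) (.leaf (nat_lit 243389184))) (.leaf (nat_lit 2179473931)))) (.node
    (.node (.node (.leaf (nat_lit 255951620)) (.leaf (nat_lit 1785313792))) (.leaf (nat_lit
    1122409219))) (.node (.node (.leaf (nat_lit 574874122)) (.leaf (nat_lit 365312512))) (.leaf
    (nat_lit 2578848265)))))) (.node (.node (.node (.node (.node (.leaf (nat_lit 76564747)) (.leaf
    (nat_lit 2875681800))) (.leaf (nat_lit 1309991685))) (.node (.node (.leaf (nat_lit 625031170))
    (.leaf (nat_lit 80347136))) (.leaf (nat_lit 1464318986)))) (.node (.node (.node (.leaf (nat_lit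
    159463945)) (.leaf (nat_lit 3274453762))) (.leaf (nat_lit 1667467784))) (.node (.node (.leaf
    (nat_lit 515081221)) (.leaf (nat_lit 1049302016))) (.leaf (nat_lit 2472097547))))) (.node
    (.node (.node (.node (.leaf (nat_lit 196106759)) (.leaf (nat_lit 3083368961))) (.leaf (nat_lit
    1489183746))) (.node (.node (.leaf (nat_lit 717418499)) (.leaf (nat_lit 506813696))) (.leaf
    (nat_lit 2290434051)))) (.node (.node (.node (.leaf (nat_lit 292668673)) (.leaf (nat_lit
    498263040))) (.leaf (nat_lit 1875311874))) (.node (.node (.leaf (nat_lit 649347589)) (.leaf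
    (nat_lit 110135562))) (.leaf (nat_lit 2679543306))))))) (.node (.node (.node (.node (.node
    (.node (.leaf (nat_lit 47191049)) (.leaf (nat_lit 2797245699))) (.leaf (nat_lit 1271050250)))
    (.node (.node (.leaf (nat_lit 577835273)) (.leaf (nat_lit 1393100032))) (.leaf (nat_lit
    1404538885)))) (.node (.node (.node (.leaf (nat_lit 154212356)) (.leaf (nat_lit 3202091015)))
    (.leaf (nat_lit 1626563585))) (.node (.node (.leaf (nat_lit 908187905)) (.leaf (nat_lit
    1514663936))) (.leaf (nat_lit 1531513857))))) (.node (.node (.node (.node (.leaf (nat_lit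
    100703490)) (.leaf (nat_lit 2222672137))) (.leaf (nat_lit 809854214))) (.node (.node (.leaf
    (nat_lit 738381067)) (.leaf (nat_lit 108701184))) (.leaf (nat_lit 1427657736)))) (.node (.node
    (.node (.leaf (nat_lit 442552074)) (.leaf (nat_lit 3207288327))) (.leaf (nat_lit 1102499334)))
    (.node (.node (.leaf (nat_lit 622072581)) (.leaf (nat_lit 306448384))) (.leaf (nat_lit
    1705627397)))))) (.node (.node (.node (.node (.node (.leaf (nat_lit 62940929)) (.leaf (nat_lit
    2927076361))) (.leaf (nat_lit 1358093825))) (.node (.node (.leaf (nat_lit 662785283)) (.leaf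
    (nat_lit 1291304192))) (.leaf (nat_lit 2132076803)))) (.node (.node (.node (.leaf (nat_lit
    199318533)) (.leaf (nat_lit 2777342208))) (.leaf (nat_lit 1722004489))) (.node (.node (.leaf
    (nat_lit 991037444)) (.leaf (nat_lit 378946048))) (.leaf (nat_lit 2514054146))))) (.node (.node
    (.node (.node (.leaf (nat_lit 215013897)) (.leaf (nat_lit 3125519884))) (.leaf (nat_lit
    1534441484))) (.node (.node (.leaf (nat_lit 830582530)) (.leaf (nat_lit 863211008))) (.leaf
    (nat_lit 2268642052)))) (.node (.node (.node (.leaf (nat_lit 507570435)) (.leaf (nat_lit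
    1975269120))) (.leaf (nat_lit 1923558156))) (.node (.leaf (nat_lit 1184131851)) (.leaf (nat_lit
    2733040135))))))))) (.node (.node (.node (.node (.node (.node (.node (.node (.leaf (nat_lit
    11536904)) (.leaf (nat_lit 2773112076))) (.leaf (nat_lit 1223859203))) (.node (.node (.leaf
    (nat_lit 532741384)) (.leaf (nat_lit 724167168))) (.leaf (nat_lit 1960082440)))) (.node (.node
    (.node (.leaf (nat_lit 168882694)) (.leaf (nat_lit 2561397761))) (.leaf (nat_lit 896915718)))
    (.node (.node (.leaf (nat_lit 483603466)) (.leaf (nat_lit 564706048))) (.leaf (nat_lit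
    1732826885))))) (.node (.node (.node (.node (.leaf (nat_lit 65043209)) (.leaf (nat_lit
    2967986952))) (.leaf (nat_lit 1263873286))) (.node (.node (.leaf (nat_lit 696425227)) (.leaf
    (nat_lit 2348340992))) (.leaf (nat_lit 1347950850)))) (.node (.node (.node (.leaf (nat_lit
    209811716)) (.leaf (nat_lit 2839212804))) (.leaf (nat_lit 1031180553))) (.node (.node (.leaf
    (nat_lit 572773893)) (.leaf (nat_lit 318149376))) (.leaf (nat_lit 2521403140)))))) (.node
    (.node (.node (.node (.node (.leaf (nat_lit 35668230)) (.leaf (nat_lit 2219486722))) (.leaf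
    (nat_lit 1300414473))) (.node (.node (.leaf (nat_lit 614543876)) (.leaf (nat_lit 262302976)))
    (.leaf (nat_lit 2064958471)))) (.node (.node (.node (.leaf (nat_lit 318812161)) (.leaf (nat_lit
    3261688324))) (.leaf (nat_lit 1656105995))) (.node (.node (.leaf (nat_lit 774076673)) (.leaf
    (nat_lit 319943936))) (.leaf (nat_lit 1542007814))))) (.node (.node (.node (.node (.leaf
    (nat_lit 187741186)) (.leaf (nat_lit 3068684036))) (.leaf (nat_lit 1477653761))) (.node (.node
    (.leaf (nat_lit 780322818)) (.leaf (nat_lit 269940480))) (.leaf (nat_lit 1439200770)))) (.node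
    (.node (.node (.leaf (nat_lit 444710156)) (.leaf (nat_lit 946441472))) (.leaf (nat_lit
    1187442953))) (.node (.node (.leaf (nat_lit 643053065)) (.leaf (nat_lit 111175169))) (.leaf
    (nat_lit 1772743687))))))) (.node (.node (.node (.node (.node (.node (.leaf (nat_lit 38807044))
    (.leaf (nat_lit 2827431937))) (.leaf (nat_lit 722777094))) (.node (.node (.leaf (nat_lit
    535960580)) (.leaf (nat_lit 794132736))) (.leaf (nat_lit 2015670786)))) (.node (.node (.node
    (.leaf (nat_lit 285282315)) (.leaf (nat_lit 3218851079))) (.leaf (nat_lit 995492870))) (.node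
    (.node (.leaf (nat_lit 893605131)) (.leaf (nat_lit 208282624))) (.leaf (nat_lit 1634272009)))))
    (.node (.node (.node (.node (.leaf (nat_lit 156275979)) (.leaf (nat_lit 2245737729))) (.leaf
    (nat_lit 1373985025))) (.node (.node (.leaf (nat_lit 421708549)) (.leaf (nat_lit 491040512)))
    (.leaf (nat_lit 2221217025)))) (.node (.node (.node (.leaf (nat_lit 229743112)) (.leaf (nat_lit
    3217805065))) (.leaf (nat_lit 1814301955))) (.node (.node (.leaf (nat_lit 631506698)) (.leaf
    (nat_lit 281093636))) (.leaf (nat_lit 2618701576)))))) (.node (.node (.node (.node (.node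
    (.leaf (nat_lit 57695745)) (.leaf (nat_lit 2913440007))) (.leaf (nat_lit 771032584))) (.node
    (.node (.leaf (nat_lit 653347331)) (.leaf (nat_lit 244437504))) (.leaf (nat_lit 1323820039))))
    (.node (.node (.node (.leaf (nat_lit 347165196)) (.leaf (nat_lit 2581230085))) (.leaf (nat_lit
    1709417218))) (.node (.node (.leaf (nat_lit 533964039)) (.leaf (nat_lit 295843584))) (.leaf
    (nat_lit 2513002252))))) (.node (.node (.node (.node (.leaf (nat_lit 217109003)) (.leaf
    (nat_lit 2313918724))) (.leaf (nat_lit 1523953163))) (.node (.node (.leaf (nat_lit 645074690))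
    (.leaf (nat_lit 483023360))) (.leaf (nat_lit 1463332871)))) (.node (.node (.node (.leaf
    (nat_lit 250731783)) (.leaf (nat_lit 720750080))) (.leaf (nat_lit 1913069835))) (.node (.leaf
    (nat_lit 1172594434)) (.leaf (nat_lit 2718572812)))))))) (.node (.node (.node (.node (.node
    (.node (.node (.leaf (nat_lit 22025996)) (.leaf (nat_lit 2801212935))) (.leaf (nat_lit
    1246930435))) (.node (.node (.leaf (nat_lit 547490572)) (.leaf (nat_lit 769880064))) (.leaf
    (nat_lit 1987536907)))) (.node (.node (.node (.leaf (nat_lit 269515522)) (.leaf (nat_lit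
    3170626563))) (.leaf (nat_lit 1528163333))) (.node (.node (.leaf (nat_lit 870532613)) (.leaf
    (nat_lit 958909184))) (.leaf (nat_lit 1605954058))))) (.node (.node (.node (.node (.leaf
    (nat_lit 81824007)) (.leaf (nat_lit 2989171468))) (.leaf (nat_lit 1407533579))) (.node (.node
    (.leaf (nat_lit 721596676)) (.leaf (nat_lit 1492627456))) (.leaf (nat_lit 2198144522)))) (.node
    (.node (.node (.leaf (nat_lit 414288898)) (.leaf (nat_lit 1688467719))) (.leaf (nat_lit
    1785982985))) (.node (.node (.leaf (nat_lit 1052912906)) (.leaf (nat_lit 108133888))) (.leaf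
    (nat_lit 2571740161)))))) (.node (.node (.node (.node (.node (.leaf (nat_lit 83906827)) (.leaf
    (nat_lit 2888268042))) (.leaf (nat_lit 1312091660))) (.node (.node (.leaf (nat_lit 637617410))
    (.leaf (nat_lit 167486976))) (.leaf (nat_lit 2088032257)))) (.node (.node (.node (.leaf
    (nat_lit 338729987)) (.leaf (nat_lit 3288084996))) (.leaf (nat_lit 1680052744))) (.node (.node
    (.leaf (nat_lit 526617859)) (.leaf (nat_lit 185717760))) (.leaf (nat_lit 2487604993))))) (.node
    (.node (.node (.node (.leaf (nat_lit 203461127)) (.leaf (nat_lit 3097003527))) (.leaf (nat_lit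
    952472840))) (.node (.node (.leaf (nat_lit 801307906)) (.leaf (nat_lit 283654144))) (.leaf
    (nat_lit 1464374535)))) (.node (.node (.node (.leaf (nat_lit 478268171)) (.leaf (nat_lit
    534199808))) (.leaf (nat_lit 1888767234))) (.node (.node (.leaf (nat_lit 816073218)) (.leaf
    (nat_lit 102147072))) (.leaf (nat_lit 2693179656))))))) (.node (.node (.node (.node (.node
    (.node (.leaf (nat_lit 31470338)) (.leaf (nat_lit 2843215873))) (.leaf (nat_lit 1276429579)))
    (.node (.node (.leaf (nat_lit 297939205)) (.leaf (nat_lit 743644160))) (.leaf (nat_lit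
    1282906370)))) (.node (.node (.node (.leaf (nat_lit 304123401)) (.leaf (nat_lit 3240706050)))
    (.leaf (nat_lit 944117769))) (.node (.node (.leaf (nat_lit 918674947)) (.leaf (nat_lit
    2887848201))) (.leaf (nat_lit 1549342213))))) (.node (.node (.node (.node (.leaf (nat_lit
    164668427)) (.leaf (nat_lit 3043513098))) (.leaf (nat_lit 1459955969))) (.node (.node (.leaf
    (nat_lit 763468035)) (.leaf (nat_lit 235358976))) (.leaf (nat_lit 2247450119)))) (.node (.node
    (.node (.leaf (nat_lit 445754629)) (.leaf (nat_lit 1966859264))) (.leaf (nat_lit 1840521220)))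
    (.node (.node (.leaf (nat_lit 1106400775)) (.leaf (nat_lit 298056960))) (.leaf (nat_lit
    2642008332)))))) (.node (.node (.node (.node (.node (.leaf (nat_lit 115357188)) (.leaf (nat_lit
    2941759496))) (.leaf (nat_lit 778377990))) (.node (.node (.leaf (nat_lit 673273864)) (.leaf
    (nat_lit 858090752))) (.leaf (nat_lit 2146959364)))) (.node (.node (.node (.leaf (nat_lit
    374386696)) (.leaf (nat_lit 1900333320))) (.leaf (nat_lit 1734588938))) (.node (.node (.leaf
    (nat_lit 1000553217)) (.leaf (nat_lit 386131968))) (.leaf (nat_lit 2513008645))))) (.node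
    (.node (.node (.node (.leaf (nat_lit 235957770)) (.leaf (nat_lit 3142113543))) (.leaf (nat_lit
    1525006851))) (.node (.node (.leaf (nat_lit 558047237)) (.leaf (nat_lit 1318789376))) (.leaf
    (nat_lit 1496892937)))) (.node (.node (.node (.leaf (nat_lit 513927948)) (.leaf (nat_lit
    970257418))) (.leaf (nat_lit 1937006344))) (.node (.leaf (nat_lit 1195668738)) (.leaf (nat_lit
    2748771076)))))))))))) (.node (.node (.node (.node (.node (.node (.node (.node (.node (.node
    (.node (.leaf (nat_lit 1048585)) (.leaf (nat_lit 2750038284))) (.leaf (nat_lit 1196718092)))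
    (.node (.node (.leaf (nat_lit 263319048)) (.leaf (nat_lit 219444736))) (.leaf (nat_lit
    1907833868)))) (.node (.node (.node (.leaf (nat_lit 121693448)) (.leaf (nat_lit 3150505991)))
    (.leaf (nat_lit 894813188))) (.node (.node (.leaf (nat_lit 840115468)) (.leaf (nat_lit
    1750594304))) (.leaf (nat_lit 1500039686))))) (.node (.node (.node (.node (.leaf (nat_lit
    114323717)) (.leaf (nat_lit 2948054529))) (.leaf (nat_lit 1343560964))) (.node (.node (.leaf
    (nat_lit 373458953)) (.leaf (nat_lit 520654592))) (.leaf (nat_lit 1987576838)))) (.node (.node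
    (.node (.leaf (nat_lit 369190668)) (.leaf (nat_lit 1160224512))) (.leaf (nat_lit 1739833607)))
    (.node (.node (.leaf (nat_lit 551796485)) (.leaf (nat_lit 198705920))) (.leaf (nat_lit
    2546564363)))))) (.node (.node (.node (.node (.node (.leaf (nat_lit 37762307)) (.leaf (nat_lit
    2730088198))) (.leaf (nat_lit 741656580))) (.node (.node (.leaf (nat_lit 589444875)) (.leaf
    (nat_lit 652504064))) (.leaf (nat_lit 2005376259)))) (.node (.node (.node (.leaf (nat_lit
    306220801)) (.leaf (nat_lit 3206288387))) (.leaf (nat_lit 1639152137))) (.node (.node (.leaf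
    (nat_lit 920772611)) (.leaf (nat_lit 131132422))) (.leaf (nat_lit 2440632837))))) (.node (.node
    (.node (.node (.leaf (nat_lit 84977157)) (.leaf (nat_lit 2727041032))) (.leaf (nat_lit
    1461023755))) (.node (.node (.leaf (nat_lit 767662595)) (.leaf (nat_lit 246873600))) (.leaf
    (nat_lit 2005426948)))) (.node (.node (.node (.leaf (nat_lit 454087427)) (.leaf (nat_lit
    1987826432))) (.leaf (nat_lit 1844718081))) (.node (.node (.leaf (nat_lit 1110595841)) (.leaf
    (nat_lit 184619527))) (.leaf (nat_lit 1719262469))))))) (.node (.node (.node (.node (.node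
    (.node (.leaf (nat_lit 28314631)) (.leaf (nat_lit 2745856774))) (.leaf (nat_lit 1249138439)))
    (.node (.node (.leaf (nat_lit 551685899)) (.leaf (nat_lit 931489280))) (.leaf (nat_lit
    1980198405)))) (.node (.node (.node (.leaf (nat_lit 270598924)) (.leaf (nat_lit 3206095624)))
    (.leaf (nat_lit 1529212934))) (.node (.node (.leaf (nat_lit 872630276)) (.leaf (nat_lit
    221428224))) (.leaf (nat_lit 2376658185))))) (.node (.node (.node (.node (.leaf (nat_lit
    71338757)) (.leaf (nat_lit 2995266564))) (.leaf (nat_lit 1414856961))) (.node (.node (.leaf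
    (nat_lit 416462345)) (.leaf (nat_lit 888872960))) (.leaf (nat_lit 2202339332)))) (.node (.node
    (.node (.leaf (nat_lit 412192267)) (.leaf (nat_lit 1804209408))) (.leaf (nat_lit 1793323786)))
    (.node (.node (.leaf (nat_lit 1058271755)) (.leaf (nat_lit 47209472))) (.leaf (nat_lit
    2596677123)))))) (.node (.node (.node (.node (.node (.leaf (nat_lit 86004484)) (.leaf (nat_lit
    2893511432))) (.leaf (nat_lit 1328728834))) (.node (.node (.leaf (nat_lit 352477704)) (.leaf
    (nat_lit 236388864))) (.leaf (nat_lit 2094324226)))) (.node (.node (.node (.leaf (nat_lit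
    172049673)) (.leaf (nat_lit 3212591873))) (.leaf (nat_lit 1091978505))) (.node (.node (.leaf
    (nat_lit 581144582)) (.leaf (nat_lit 375555840))) (.leaf (nat_lit 1576618505))))) (.node (.node
    (.node (.node (.leaf (nat_lit 127976707)) (.leaf (nat_lit 1986544641))) (.leaf (nat_lit
    1503867145))) (.node (.node (.leaf (nat_lit 789774348)) (.leaf (nat_lit 437994752))) (.leaf
    (nat_lit 2309311491)))) (.node (.node (.node (.leaf (nat_lit 249679365)) (.leaf (nat_lit
    1158254080))) (.leaf (nat_lit 1889996555))) (.node (.node (.leaf (nat_lit 661933321)) (.leaf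
    (nat_lit 78906624))) (.leaf (nat_lit 1814694921)))))))) (.node (.node (.node (.node (.node
    (.node (.node (.leaf (nat_lit 10489349)) (.leaf (nat_lit 2779184392))) (.leaf (nat_lit
    1228053763))) (.node (.node (.leaf (nat_lit 527564297)) (.leaf (nat_lit 120166400))) (.leaf
    (nat_lit 1966376458)))) (.node (.node (.node (.leaf (nat_lit 144766218)) (.leaf (nat_lit
    3180058892))) (.leaf (nat_lit 1574129922))) (.node (.node (.leaf (nat_lit 560150789)) (.leaf
    (nat_lit 1315281920))) (.leaf (nat_lit 2377485316))))) (.node (.node (.node (.node (.leaf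
    (nat_lit 133184007)) (.leaf (nat_lit 2913669893))) (.leaf (nat_lit 794112518))) (.node (.node
    (.leaf (nat_lit 704740611)) (.leaf (nat_lit 2094595072))) (.leaf (nat_lit 2179268871)))) (.node
    (.node (.node (.leaf (nat_lit 208764167)) (.leaf (nat_lit 2889502722))) (.leaf (nat_lit
    1032230149))) (.node (.node (.leaf (nat_lit 573823749)) (.leaf (nat_lit 602312192))) (.leaf
    (nat_lit 2570456066)))))) (.node (.node (.node (.node (.node (.leaf (nat_lit 67126018)) (.leaf
    (nat_lit 2747969800))) (.leaf (nat_lit 1305657866))) (.node (.node (.leaf (nat_lit 327306758))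
    (.leaf (nat_lit 481844224))) (.leaf (nat_lit 2066199558)))) (.node (.node (.node (.leaf
    (nat_lit 163656456)) (.leaf (nat_lit 3266931970))) (.leaf (nat_lit 1294348040))) (.node (.node
    (.leaf (nat_lit 515079690)) (.leaf (nat_lit 156746240))) (.leaf (nat_lit 2466626820))))) (.node
    (.node (.node (.node (.leaf (nat_lit 191911681)) (.leaf (nat_lit 3074976771))) (.leaf (nat_lit
    892699651))) (.node (.node (.leaf (nat_lit 783392266)) (.leaf (nat_lit 491315200))) (.leaf
    (nat_lit 2064153858)))) (.node (.node (.node (.leaf (nat_lit 469818115)) (.leaf (nat_lit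
    267032320))) (.leaf (nat_lit 1868841737))) (.node (.node (.leaf (nat_lit 1131690508)) (.leaf
    (nat_lit 176204808))) (.leaf (nat_lit 1748627461))))))) (.node (.node (.node (.node (.node
    (.node (.leaf (nat_lit 40904709)) (.leaf (nat_lit 2832675588))) (.leaf (nat_lit 802469636)))
    (.node (.node (.leaf (nat_lit 517086979)) (.leaf (nat_lit 865411840))) (.leaf (nat_lit
    2020914439)))) (.node (.node (.node (.leaf (nat_lit 289467137)) (.leaf (nat_lit 3167486216)))
    (.leaf (nat_lit 913704966))) (.node (.node (.leaf (nat_lit 896752395)) (.leaf (nat_lit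
    245069824))) (.leaf (nat_lit 2422802180))))) (.node (.node (.node (.node (.leaf (nat_lit
    160450313)) (.leaf (nat_lit 3022534148))) (.leaf (nat_lit 1428512011))) (.node (.node (.leaf
    (nat_lit 747737604)) (.leaf (nat_lit 99013632))) (.leaf (nat_lit 2226460682)))) (.node (.node
    (.node (.leaf (nat_lit 434162952)) (.leaf (nat_lit 3057385216))) (.leaf (nat_lit 1095157255)))
    (.node (.node (.leaf (nat_lit 1087523586)) (.leaf (nat_lit 293675010))) (.leaf (nat_lit
    2623947784)))))) (.node (.node (.node (.node (.node (.leaf (nat_lit 53502474)) (.leaf (nat_lit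
    2065358593))) (.leaf (nat_lit 1351944716))) (.node (.node (.leaf (nat_lit 657541895)) (.leaf
    (nat_lit 1623924992))) (.leaf (nat_lit 1316481030)))) (.node (.node (.node (.leaf (nat_lit
    358655239)) (.leaf (nat_lit 2913703168))) (.leaf (nat_lit 989225478))) (.node (.node (.leaf
    (nat_lit 982645763)) (.leaf (nat_lit 1020672256))) (.leaf (nat_lit 1612276737))))) (.node
    (.node (.node (.node (.leaf (nat_lit 209769740)) (.leaf (nat_lit 3119030536))) (.leaf (nat_lit
    1525002245))) (.node (.node (.leaf (nat_lit 771953163)) (.leaf (nat_lit 286814208))) (.leaf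
    (nat_lit 1442362374)))) (.node (.node (.node (.leaf (nat_lit 246537985)) (.leaf (nat_lit
    875888896))) (.leaf (nat_lit 1915168011))) (.node (.leaf (nat_lit 1178758922)) (.leaf (nat_lit
    1835672837))))))))) (.node (.node (.node (.node (.node (.node (.node (.node (.leaf (nat_lit
    5244427)) (.leaf (nat_lit 1876577542))) (.leaf (nat_lit 726959623))) (.node (.node (.leaf
    (nat_lit 527498242)) (.leaf (nat_lit 815360000))) (.leaf (nat_lit 1951876612)))) (.node (.node
    (.node (.leaf (nat_lit 235990028)) (.leaf (nat_lit 3165195528))) (.leaf (nat_lit 1562594561)))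
    (.node (.node (.leaf (nat_lit 840117771)) (.leaf (nat_lit 216262144))) (.leaf (nat_lit
    2368077577))))) (.node (.node (.node (.node (.leaf (nat_lit 82867720)) (.leaf (nat_lit
    2958554119))) (.leaf (nat_lit 1355098116))) (.node (.node (.leaf (nat_lit 691176713)) (.leaf
    (nat_lit 1260741632))) (.leaf (nat_lit 2165635841)))) (.node (.node (.node (.leaf (nat_lit
    389116684)) (.leaf (nat_lit 2018141184))) (.leaf (nat_lit 1753468680))) (.node (.node (.leaf
    (nat_lit 957598979)) (.leaf (nat_lit 195199488))) (.leaf (nat_lit 2473166854)))))) (.node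
    (.node (.node (.node (.node (.leaf (nat_lit 31472902)) (.leaf (nat_lit 2855970059))) (.leaf
    (nat_lit 830788100))) (.node (.node (.leaf (nat_lit 322061058)) (.leaf (nat_lit 1264947456)))
    (.leaf (nat_lit 2057617929)))) (.node (.node (.node (.leaf (nat_lit 310455302)) (.leaf (nat_lit
    3253477132))) (.leaf (nat_lit 1649812994))) (.node (.node (.leaf (nat_lit 926119180)) (.leaf
    (nat_lit 154200064))) (.leaf (nat_lit 1546200321))))) (.node (.node (.node (.node (.leaf
    (nat_lit 147894022)) (.leaf (nat_lit 2249942278))) (.leaf (nat_lit 1473450243))) (.node (.node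
    (.leaf (nat_lit 763552773)) (.leaf (nat_lit 483519744))) (.leaf (nat_lit 1450733064)))) (.node
    (.node (.node (.leaf (nat_lit 458340613)) (.leaf (nat_lit 1223282688))) (.leaf (nat_lit
    1172761098))) (.node (.node (.leaf (nat_lit 1123180035)) (.leaf (nat_lit 314630152))) (.leaf
    (nat_lit 2656616705))))))) (.node (.node (.node (.node (.node (.node (.leaf (nat_lit 36704513))
    (.leaf (nat_lit 1926921733))) (.leaf (nat_lit 731164682))) (.node (.node (.leaf (nat_lit
    283252486)) (.leaf (nat_lit 728291584))) (.leaf (nat_lit 1261926920)))) (.node (.node (.node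
    (.leaf (nat_lit 280002052)) (.leaf (nat_lit 2461792261))) (.leaf (nat_lit 1593179403))) (.node
    (.node (.leaf (nat_lit 554913543)) (.leaf (nat_lit 442021888))) (.leaf (nat_lit 2363030281)))))
    (.node (.node (.node (.node (.leaf (nat_lit 92311813)) (.leaf (nat_lit 3008899848))) (.leaf
    (nat_lit 1429403401))) (.node (.node (.leaf (nat_lit 737250820)) (.leaf (nat_lit 136371968)))
    (.leaf (nat_lit 1360542982)))) (.node (.node (.node (.leaf (nat_lit 220304642)) (.leaf (nat_lit
    3217806083))) (.leaf (nat_lit 1802942731))) (.node (.node (.leaf (nat_lit 1072839939)) (.leaf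
    (nat_lit 160500738))) (.leaf (nat_lit 2608212740)))))) (.node (.node (.node (.node (.node
    (.leaf (nat_lit 68180227)) (.leaf (nat_lit 2905049092))) (.leaf (nat_lit 820313865))) (.node
    (.node (.leaf (nat_lit 475162634)) (.leaf (nat_lit 955810048))) (.leaf (nat_lit 2110054663))))
    (.node (.node (.node (.leaf (nat_lit 168906248)) (.leaf (nat_lit 3302660615))) (.leaf (nat_lit
    1698930185))) (.node (.node (.leaf (nat_lit 528718854)) (.leaf (nat_lit 1323820032))) (.leaf
    (nat_lit 2507531009))))) (.node (.node (.node (.node (.leaf (nat_lit 210815749)) (.leaf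
    (nat_lit 3107492612))) (.leaf (nat_lit 864396805))) (.node (.node (.leaf (nat_lit 466815495))
    (.leaf (nat_lit 120335104))) (.leaf (nat_lit 1429776390)))) (.node (.node (.node (.leaf
    (nat_lit 494986499)) (.leaf (nat_lit 169606656))) (.leaf (nat_lit 1906776834))) (.node (.node
    (.leaf (nat_lit 948196869)) (.leaf (nat_lit 2687526147))) (.leaf (nat_lit 2712061955))))))))
    (.node (.node (.node (.node (.node (.node (.node (.leaf (nat_lit 19927562)) (.leaf (nat_lit
    2790722823))) (.leaf (nat_lit 972332038))) (.node (.node (.leaf (nat_lit 542246155)) (.leaf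
    (nat_lit 770918144))) (.leaf (nat_lit 1247240713)))) (.node (.node (.node (.leaf (nat_lit
    141622281)) (.leaf (nat_lit 3192462090))) (.leaf (nat_lit 1583736588))) (.node (.node (.leaf
    (nat_lit 872628491)) (.leaf (nat_lit 1316486400))) (.leaf (nat_lit 1620632329))))) (.node
    (.node (.node (.node (.leaf (nat_lit 139487489)) (.leaf (nat_lit 2174426117))) (.leaf (nat_lit
    1305820166))) (.node (.node (.leaf (nat_lit 717326087)) (.leaf (nat_lit 476189696))) (.leaf
    (nat_lit 2188706823)))) (.node (.node (.node (.leaf (nat_lit 410044417)) (.leaf (nat_lit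
    1796862208))) (.leaf (nat_lit 1043766794))) (.node (.node (.leaf (nat_lit 1046619402)) (.leaf
    (nat_lit 108667392))) (.leaf (nat_lit 1646894598)))))) (.node (.node (.node (.node (.node
    (.leaf (nat_lit 53496837)) (.leaf (nat_lit 2866461452))) (.leaf (nat_lit 1313138699))) (.node
    (.node (.leaf (nat_lit 629225737)) (.leaf (nat_lit 1293467904))) (.leaf (nat_lit 2080866563))))
    (.node (.node (.node (.leaf (nat_lit 314654220)) (.leaf (nat_lit 2560374793))) (.leaf (nat_lit
    953563656))) (.node (.node (.leaf (nat_lit 735282951)) (.leaf (nat_lit 372409856))) (.leaf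
    (nat_lit 2478390284))))) (.node (.node (.node (.node (.leaf (nat_lit 173063425)) (.leaf
    (nat_lit 3087564040))) (.leaf (nat_lit 846564870))) (.node (.node (.leaf (nat_lit 794927367))
    (.leaf (nat_lit 276965376))) (.leaf (nat_lit 2270727425)))) (.node (.node (.node (.leaf
    (nat_lit 244434690)) (.leaf (nat_lit 494081024))) (.leaf (nat_lit 1182203907))) (.node (.node
    (.leaf (nat_lit 1147299587)) (.leaf (nat_lit 113273353))) (.leaf (nat_lit 2683739144)))))))
    (.node (.node (.node (.node (.node (.node (.leaf (nat_lit 28323586)) (.leaf (nat_lit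
    2845261825))) (.leaf (nat_lit 1274196234))) (.node (.node (.leaf (nat_lit 569518604)) (.leaf
    (nat_lit 456753408))) (.leaf (nat_lit 2020053764)))) (.node (.node (.node (.leaf (nat_lit
    295770882)) (.leaf (nat_lit 3234413314))) (.leaf (nat_lit 1628836356))) (.node (.node (.leaf
    (nat_lit 894657548)) (.leaf (nat_lit 1047897088))) (.leaf (nat_lit 2433068802))))) (.node
    (.node (.node (.node (.leaf (nat_lit 164667404)) (.leaf (nat_lit 3035256330))) (.leaf (nat_lit
    1324706051))) (.node (.node (.leaf (nat_lit 756126980)) (.leaf (nat_lit 544705792))) (.leaf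
    (nat_lit 1381521673)))) (.node (.node (.node (.leaf (nat_lit 426878987)) (.leaf (nat_lit
    3041657866))) (.leaf (nat_lit 1107743241))) (.node (.node (.leaf (nat_lit 1098010881)) (.leaf
    (nat_lit 1069619715))) (.leaf (nat_lit 1705628166)))))) (.node (.node (.node (.node (.node
    (.leaf (nat_lit 110126087)) (.leaf (nat_lit 2902125318))) (.leaf (nat_lit 824513545))) (.node
    (.node (.leaf (nat_lit 432176129)) (.leaf (nat_lit 442829568))) (.leaf (nat_lit 2138369026))))
    (.node (.node (.node (.leaf (nat_lit 367091468)) (.leaf (nat_lit 1285187072))) (.leaf (nat_lit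
    1725328898))) (.node (.node (.leaf (nat_lit 908309509)) (.leaf (nat_lit 195244800))) (.leaf
    (nat_lit 2531880972))))) (.node (.node (.node (.node (.leaf (nat_lit 231761924)) (.leaf
    (nat_lit 3132665604))) (.leaf (nat_lit 876985093))) (.node (.node (.leaf (nat_lit 834777346))
    (.leaf (nat_lit 543355392))) (.leaf (nat_lit 2349170185)))) (.node (.node (.node (.leaf
    (nat_lit 354543110)) (.leaf (nat_lit 1296634624))) (.leaf (nat_lit 1922511115))) (.node (.leaf
    (nat_lit 939814402)) (.leaf (nat_lit 2739332871)))))))))) (.node (.node (.node (.node (.node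
    (.node (.node (.node (.node (.leaf (nat_lit 3146250)) (.leaf (nat_lit 1921664517))) (.leaf
    (nat_lit 1207076356))) (.node (.node (.leaf (nat_lit 521205763)) (.leaf (nat_lit 1899772928)))
    (.leaf (nat_lit 1196900361)))) (.node (.node (.node (.leaf (nat_lit 120646150)) (.leaf (nat_lit
    2428224261))) (.leaf (nat_lit 1557350921))) (.node (.node (.leaf (nat_lit 559098369)) (.leaf
    (nat_lit 1677184768))) (.leaf (nat_lit 1594412553))))) (.node (.node (.node (.node (.leaf
    (nat_lit 117469964)) (.leaf (nat_lit 2953302024))) (.leaf (nat_lit 1379214338))) (.node (.node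
    (.leaf (nat_lit 393383434)) (.leaf (nat_lit 561542144))) (.leaf (nat_lit 2154301963)))) (.node
    (.node (.node (.leaf (nat_lit 381774859)) (.leaf (nat_lit 2810892544))) (.leaf (nat_lit
    1686536453))) (.node (.node (.leaf (nat_lit 1015157002)) (.leaf (nat_lit 303184896))) (.leaf
    (nat_lit 2481554178)))))) (.node (.node (.node (.node (.node (.leaf (nat_lit 59775748)) (.leaf
    (nat_lit 2640945416))) (.leaf (nat_lit 1287965963))) (.node (.node (.leaf (nat_lit 335691272))
    (.leaf (nat_lit 656694784))) (.leaf (nat_lit 1407689226)))) (.node (.node (.node (.leaf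
    (nat_lit 309373194)) (.leaf (nat_lit 2548833027))) (.leaf (nat_lit 1138106115))) (.node (.node
    (.leaf (nat_lit 878932235)) (.leaf (nat_lit 75607296))) (.leaf (nat_lit 2447974668))))) (.node
    (.node (.node (.node (.leaf (nat_lit 178278402)) (.leaf (nat_lit 3052951306))) (.leaf (nat_lit
    1468365068))) (.node (.node (.leaf (nat_lit 769842955)) (.leaf (nat_lit 135724544))) (.leaf
    (nat_lit 2256037900)))) (.node (.node (.node (.leaf (nat_lit 228701445)) (.leaf (nat_lit
    1971053056))) (.leaf (nat_lit 1846993932))) (.node (.node (.leaf (nat_lit 633612294)) (.leaf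
    (nat_lit 357611784))) (.leaf (nat_lit 2422857985))))))) (.node (.node (.node (.node (.node
    (.node (.leaf (nat_lit 32509953)) (.leaf (nat_lit 2809821196))) (.leaf (nat_lit 827632647)))
    (.node (.node (.leaf (nat_lit 488772354)) (.leaf (nat_lit 730192128))) (.leaf (nat_lit
    2000987140)))) (.node (.node (.node (.leaf (nat_lit 237045253)) (.leaf (nat_lit 2559308802)))
    (.leaf (nat_lit 1599469580))) (.node (.node (.leaf (nat_lit 845368066)) (.leaf (nat_lit
    1319627008))) (.leaf (nat_lit 2369320201))))) (.node (.node (.node (.node (.leaf (nat_lit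
    145788428)) (.leaf (nat_lit 3001559044))) (.leaf (nat_lit 1422062856))) (.node (.node (.leaf
    (nat_lit 732007431)) (.leaf (nat_lit 284381696))) (.leaf (nat_lit 2195208203)))) (.node (.node
    (.node (.leaf (nat_lit 420581900)) (.leaf (nat_lit 2687251457))) (.leaf (nat_lit 1798568457)))
    (.node (.node (.leaf (nat_lit 1065497609)) (.leaf (nat_lit 314718464))) (.leaf (nat_lit
    2602969353)))))) (.node (.node (.node (.node (.node (.leaf (nat_lit 47207942)) (.leaf (nat_lit
    2069547784))) (.leaf (nat_lit 1335022858))) (.node (.node (.leaf (nat_lit 642860552)) (.leaf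
    (nat_lit 489998848))) (.leaf (nat_lit 2100616449)))) (.node (.node (.node (.leaf (nat_lit
    343990794)) (.leaf (nat_lit 2575058690))) (.leaf (nat_lit 1047940353))) (.node (.node (.leaf
    (nat_lit 962720519)) (.leaf (nat_lit 193459200))) (.leaf (nat_lit 2496221451))))) (.node (.node
    (.node (.node (.leaf (nat_lit 107005700)) (.leaf (nat_lit 2292943624))) (.leaf (nat_lit
    900046602))) (.node (.node (.leaf (nat_lit 810657026)) (.leaf (nat_lit 1325767424))) (.leaf
    (nat_lit 2262343427)))) (.node (.node (.node (.leaf (nat_lit 239194630)) (.leaf (nat_lit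
    755366912))) (.leaf (nat_lit 1900483842))) (.node (.node (.leaf (nat_lit 946098178)) (.leaf
    (nat_lit 363929609))) (.leaf (nat_lit 2704719620)))))))) (.node (.node (.node (.node (.node
    (.node (.node (.leaf (nat_lit 16779017)) (.leaf (nat_lit 2777308684))) (.leaf (nat_lit
    708089605))) (.node (.node (.leaf (nat_lit 270663942)) (.leaf (nat_lit 416670976))) (.leaf
    (nat_lit 1973902091)))) (.node (.node (.node (.leaf (nat_lit 125892872)) (.leaf (nat_lit
    3188267523))) (.leaf (nat_lit 1499849221))) (.node (.node (.leaf (nat_lit 869387524)) (.leaf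
    (nat_lit 1047896576))) (.leaf (nat_lit 2381680641))))) (.node (.node (.node (.node (.leaf
    (nat_lit 119571211)) (.leaf (nat_lit 2978484483))) (.leaf (nat_lit 799356673))) (.node (.node
    (.leaf (nat_lit 712081160)) (.leaf (nat_lit 244900096))) (.leaf (nat_lit 2183463432)))) (.node
    (.node (.node (.leaf (nat_lit 230785801)) (.leaf (nat_lit 3164212999))) (.leaf (nat_lit
    1044814342))) (.node (.node (.leaf (nat_lit 1040327427)) (.leaf (nat_lit 136349193))) (.leaf
    (nat_lit 2576750855)))))) (.node (.node (.node (.node (.node (.leaf (nat_lit 74467339)) (.leaf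
    (nat_lit 2873767684))) (.leaf (nat_lit 1308942854))) (.node (.node (.leaf (nat_lit 623982340))
    (.leaf (nat_lit 812136448))) (.leaf (nat_lit 2075445505)))) (.node (.node (.node (.leaf
    (nat_lit 325138187)) (.leaf (nat_lit 3272356098))) (.leaf (nat_lit 1665370626))) (.node (.node
    (.leaf (nat_lit 933462795)) (.leaf (nat_lit 581054208))) (.leaf (nat_lit 1555641858))))) (.node
    (.node (.node (.node (.leaf (nat_lit 194034180)) (.leaf (nat_lit 2300279297))) (.leaf (nat_lit
    1486051081))) (.node (.node (.leaf (nat_lit 786624267)) (.leaf (nat_lit 244670464))) (.leaf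
    (nat_lit 2287288068)))) (.node (.node (.node (.leaf (nat_lit 246531080)) (.leaf (nat_lit
    1286975744))) (.leaf (nat_lit 1873214220))) (.node (.node (.leaf (nat_lit 1129594891)) (.leaf
    (nat_lit 100698634))) (.leaf (nat_lit 2665085191))))))) (.node (.node (.node (.node (.node
    (.node (.leaf (nat_lit 46142468)) (.leaf (nat_lit 2840017153))) (.leaf (nat_lit 1268969732)))
    (.node (.node (.leaf (nat_lit 576786690)) (.leaf (nat_lit 725147904))) (.leaf (nat_lit
    2028255233)))) (.node (.node (.node (.leaf (nat_lit 293636873)) (.leaf (nat_lit 3176924936)))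
    (.leaf (nat_lit 1478888709))) (.node (.node (.leaf (nat_lit 890462220)) (.leaf (nat_lit
    1319621120))) (.leaf (nat_lit 1537805063))))) (.node (.node (.node (.node (.leaf (nat_lit
    164645380)) (.leaf (nat_lit 3023783436))) (.leaf (nat_lit 1447230730))) (.node (.node (.leaf
    (nat_lit 751932168)) (.leaf (nat_lit 641478656))) (.leaf (nat_lit 2233802759)))) (.node (.node
    (.node (.leaf (nat_lit 436315148)) (.leaf (nat_lit 3226165508))) (.leaf (nat_lit 1825839367)))
    (.node (.node (.leaf (nat_lit 1093815818)) (.leaf (nat_lit 339813896))) (.leaf (nat_lit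
    2218380553)))))) (.node (.node (.node (.node (.node (.leaf (nat_lit 55600903)) (.leaf (nat_lit
    2924978952))) (.leaf (nat_lit 808783364))) (.node (.node (.leaf (nat_lit 661736456)) (.leaf
    (nat_lit 283472128))) (.leaf (nat_lit 2044194569)))) (.node (.node (.node (.leaf (nat_lit
    181492483)) (.leaf (nat_lit 3026916361))) (.leaf (nat_lit 1720955650))) (.node (.node (.leaf
    (nat_lit 988939527)) (.leaf (nat_lit 145927936))) (.leaf (nat_lit 2528505347))))) (.node (.node
    (.node (.node (.leaf (nat_lit 135321866)) (.leaf (nat_lit 3126371843))) (.leaf (nat_lit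
    876984071))) (.node (.node (.leaf (nat_lit 828485124)) (.leaf (nat_lit 1517698048))) (.leaf
    (nat_lit 2342870273)))) (.node (.node (.node (.leaf (nat_lit 505537284)) (.leaf (nat_lit
    785779200))) (.leaf (nat_lit 1187457543))) (.node (.leaf (nat_lit 1185050882)) (.leaf (nat_lit
    2731158786))))))))) (.node (.node (.node (.node (.node (.node (.node (.node (.leaf (nat_lit
    11535620)) (.leaf (nat_lit 2771843336))) (.leaf (nat_lit 1221821959))) (.node (.node (.leaf
    (nat_lit 356645380)) (.leaf (nat_lit 729408768))) (.leaf (nat_lit 1922517772)))) (.node (.node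
    (.node (.leaf (nat_lit 250671371)) (.leaf (nat_lit 3173585162))) (.leaf (nat_lit 1505089283)))
    (.node (.node (.leaf (nat_lit 857852164)) (.leaf (nat_lit 260799488))) (.leaf (nat_lit
    2352535046))))) (.node (.node (.node (.node (.leaf (nat_lit 104888838)) (.leaf (nat_lit
    2965889283))) (.leaf (nat_lit 1388505858))) (.node (.node (.leaf (nat_lit 698448391)) (.leaf
    (nat_lit 2144926464))) (.leaf (nat_lit 1419253761)))) (.node (.node (.node (.leaf (nat_lit
    231831817)) (.leaf (nat_lit 2820336384))) (.leaf (nat_lit 1761858314))) (.node (.node (.leaf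
    (nat_lit 1024709899)) (.leaf (nat_lit 206680832))) (.leaf (nat_lit 2549714443)))))) (.node
    (.node (.node (.node (.node (.leaf (nat_lit 68165384)) (.leaf (nat_lit 2218437894))) (.leaf
    (nat_lit 1299365633))) (.node (.node (.leaf (nat_lit 612446472)) (.leaf (nat_lit 167340032)))
    (.leaf (nat_lit 2008526854)))) (.node (.node (.node (.leaf (nat_lit 318805251)) (.leaf (nat_lit
    3256624140))) (.leaf (nat_lit 942025222))) (.node (.node (.leaf (nat_lit 516126983)) (.leaf
    (nat_lit 304194816))) (.leaf (nat_lit 2459511564))))) (.node (.node (.node (.node (.leaf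
    (nat_lit 183546380)) (.leaf (nat_lit 3067635208))) (.leaf (nat_lit 1477648387))) (.node (.node
    (.leaf (nat_lit 780246531)) (.leaf (nat_lit 131576320))) (.leaf (nat_lit 1401451526)))) (.node
    (.node (.node (.leaf (nat_lit 344046598)) (.leaf (nat_lit 669734400))) (.leaf (nat_lit
    1135013637))) (.node (.node (.leaf (nat_lit 1129472260)) (.leaf (nat_lit 152069383))) (.leaf
    (nat_lit 2355751425))))))) (.node (.node (.node (.node (.node (.node (.leaf (nat_lit 33563913))
    (.leaf (nat_lit 2793047555))) (.leaf (nat_lit 729068292))) (.node (.node (.leaf (nat_lit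
    565251585)) (.leaf (nat_lit 486732292))) (.leaf (nat_lit 1294434314)))) (.node (.node (.node
    (.leaf (nat_lit 283184900)) (.leaf (nat_lit 3214670860))) (.leaf (nat_lit 1602617867))) (.node
    (.node (.leaf (nat_lit 893506825)) (.leaf (nat_lit 141828096))) (.leaf (nat_lit 2418386178)))))
    (.node (.node (.node (.node (.leaf (nat_lit 154178571)) (.leaf (nat_lit 2994420747))) (.leaf
    (nat_lit 800413702))) (.node (.node (.leaf (nat_lit 741445640)) (.leaf (nat_lit 2116618496)))
    (.leaf (nat_lit 2218071042)))) (.node (.node (.node (.leaf (nat_lit 253859842)) (.leaf (nat_lit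
    3186351105))) (.leaf (nat_lit 1812378121))) (.node (.node (.leaf (nat_lit 1080180738)) (.leaf
    (nat_lit 277948417))) (.leaf (nat_lit 2616603914)))))) (.node (.node (.node (.node (.node
    (.leaf (nat_lit 77618433)) (.leaf (nat_lit 2910509068))) (.leaf (nat_lit 1345651714))) (.node
    (.node (.leaf (nat_lit 350383369)) (.leaf (nat_lit 799545600))) (.leaf (nat_lit 2116346625))))
    (.node (.node (.node (.leaf (nat_lit 348213516)) (.leaf (nat_lit 2803649280))) (.leaf (nat_lit
    980835338))) (.node (.node (.leaf (nat_lit 977402122)) (.leaf (nat_lit 334123776))) (.leaf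
    (nat_lit 2513001732))))) (.node (.node (.node (.node (.leaf (nat_lit 219177474)) (.leaf
    (nat_lit 3110836231))) (.leaf (nat_lit 1523793417))) (.node (.node (.leaf (nat_lit 737349121))
    (.leaf (nat_lit 441944832))) (.leaf (nat_lit 2330285057)))) (.node (.node (.node (.leaf
    (nat_lit 478272524)) (.leaf (nat_lit 746804736))) (.leaf (nat_lit 1201086473))) (.node (.leaf
    (nat_lit 1170496780)) (.leaf (nat_lit 2718354433)))))))) (.node (.node (.node (.node (.node
    (.node (.node (.leaf (nat_lit 22025990)) (.leaf (nat_lit 1937402882))) (.leaf (nat_lit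
    970236419))) (.node (.node (.leaf (nat_lit 477235717)) (.leaf (nat_lit 993721088))) (.leaf
    (nat_lit 1331128070)))) (.node (.node (.node (.leaf (nat_lit 268466945)) (.leaf (nat_lit
    3199803145))) (.leaf (nat_lit 1587931916))) (.node (.node (.leaf (nat_lit 876823819)) (.leaf
    (nat_lit 1315429888))) (.leaf (nat_lit 2377705737))))) (.node (.node (.node (.node (.leaf
    (nat_lit 115378184)) (.leaf (nat_lit 2183864842))) (.leaf (nat_lit 797262086))) (.node (.node
    (.leaf (nat_lit 413314821)) (.leaf (nat_lit 851692032))) (.leaf (nat_lit 2195205636)))) (.node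
    (.node (.node (.leaf (nat_lit 279022345)) (.leaf (nat_lit 2704918026))) (.leaf (nat_lit
    1783884808))) (.node (.node (.leaf (nat_lit 1050815236)) (.leaf (nat_lit 164667402))) (.leaf
    (nat_lit 2587238658)))))) (.node (.node (.node (.node (.node (.leaf (nat_lit 47206404)) (.leaf
    (nat_lit 2886170883))) (.leaf (nat_lit 1308945676))) (.node (.node (.leaf (nat_lit 634543628))
    (.leaf (nat_lit 448359680))) (.leaf (nat_lit 2086109185)))) (.node (.node (.node (.leaf
    (nat_lit 336667393)) (.leaf (nat_lit 3283893772))) (.leaf (nat_lit 1677955586))) (.node (.node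
    (.leaf (nat_lit 576949253)) (.leaf (nat_lit 304229632))) (.leaf (nat_lit 1732854278))))) (.node
    (.node (.node (.node (.leaf (nat_lit 99664389)) (.leaf (nat_lit 2288748038))) (.leaf (nat_lit
    869635073))) (.node (.node (.leaf (nat_lit 795015947)) (.leaf (nat_lit 281593344))) (.leaf
    (nat_lit 2180551430)))) (.node (.node (.node (.leaf (nat_lit 481353986)) (.leaf (nat_lit
    224019456))) (.leaf (nat_lit 1155991045))) (.node (.node (.leaf (nat_lit 1145325836)) (.leaf
    (nat_lit 163608327))) (.leaf (nat_lit 2691081476))))))) (.node (.node (.node (.node (.node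
    (.node (.leaf (nat_lit 50344459)) (.leaf (nat_lit 2157592064))) (.leaf (nat_lit 794084361)))
    (.node (.node (.leaf (nat_lit 587274503)) (.leaf (nat_lit 1307896832))) (.leaf (nat_lit
    2035783691)))) (.node (.node (.node (.leaf (nat_lit 303074568)) (.leaf (nat_lit 3224113153)))
    (.leaf (nat_lit 1199970052))) (.node (.node (.leaf (nat_lit 916667138)) (.leaf (nat_lit
    2889944842))) (.leaf (nat_lit 2437485836))))) (.node (.node (.node (.node (.leaf (nat_lit
    170958087)) (.leaf (nat_lit 2240500742))) (.leaf (nat_lit 1458766594))) (.node (.node (.leaf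
    (nat_lit 762419208)) (.leaf (nat_lit 1014676736))) (.leaf (nat_lit 2234015243)))) (.node (.node
    (.node (.leaf (nat_lit 402762757)) (.leaf (nat_lit 2871779584))) (.leaf (nat_lit 1121376514)))
    (.node (.node (.leaf (nat_lit 1086593283)) (.leaf (nat_lit 1057052682))) (.leaf (nat_lit
    1710872582)))))) (.node (.node (.node (.node (.node (.leaf (nat_lit 58748165)) (.leaf (nat_lit
    2939662088))) (.leaf (nat_lit 1362434311))) (.node (.node (.leaf (nat_lit 671175944)) (.leaf
    (nat_lit 888475648))) (.leaf (nat_lit 1459093001)))) (.node (.node (.node (.leaf (nat_lit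
    373338119)) (.leaf (nat_lit 1875572480))) (.leaf (nat_lit 1731621890))) (.node (.node (.leaf
    (nat_lit 842250499)) (.leaf (nat_lit 199753472))) (.leaf (nat_lit 2541089540))))) (.node (.node
    (.node (.node (.leaf (nat_lit 139517961)) (.leaf (nat_lit 3140012807))) (.leaf (nat_lit
    1523958020))) (.node (.node (.leaf (nat_lit 838976008)) (.leaf (nat_lit 1519049472))) (.leaf
    (nat_lit 2354413570)))) (.node (.node (.node (.leaf (nat_lit 346155521)) (.leaf (nat_lit
    488093440))) (.leaf (nat_lit 1925657867))) (.node (.leaf (nat_lit 665088773)) (.leaf (nat_lit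
    1915370249))))))))))) (.node (.node (.node (.node (.node (.node (.node (.node (.node (.node
    (.leaf (nat_lit 2097675)) (.leaf (nat_lit 2754233092))) (.leaf (nat_lit 1202879234))) (.node
    (.node (.leaf (nat_lit 281145090)) (.leaf (nat_lit 668611328))) (.leaf (nat_lit 1914125836))))
    (.node (.node (.node (.leaf (nat_lit 120645639)) (.leaf (nat_lit 3154706183))) (.leaf (nat_lit
    1551222796))) (.node (.node (.leaf (nat_lit 847365130)) (.leaf (nat_lit 437820160))) (.leaf
    (nat_lit 1486408710))))) (.node (.node (.node (.node (.leaf (nat_lit 59798022)) (.leaf (nat_lit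
    2095774983))) (.leaf (nat_lit 1376970247))) (.node (.node (.leaf (nat_lit 682719241)) (.leaf
    (nat_lit 287675136))) (.leaf (nat_lit 1988625669)))) (.node (.node (.node (.leaf (nat_lit
    379630600)) (.leaf (nat_lit 2071395334))) (.leaf (nat_lit 1742110476))) (.node (.node (.leaf
    (nat_lit 1010962177)) (.leaf (nat_lit 364111616))) (.leaf (nat_lit 2492038915)))))) (.node
    (.node (.node (.node (.node (.leaf (nat_lit 27277064)) (.leaf (nat_lit 2727873287))) (.leaf
    (nat_lit 747948806))) (.node (.node (.leaf (nat_lit 598810884)) (.leaf (nat_lit 838517504)))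
    (.leaf (nat_lit 2036834309)))) (.node (.node (.node (.leaf (nat_lit 308318209)) (.leaf (nat_lit
    3246999809))) (.leaf (nat_lit 1641249545))) (.node (.node (.leaf (nat_lit 922870019)) (.leaf
    (nat_lit 479267841))) (.leaf (nat_lit 2447749898))))) (.node (.node (.node (.node (.leaf
    (nat_lit 176181002)) (.leaf (nat_lit 2241551367))) (.leaf (nat_lit 1414886924))) (.node (.node
    (.leaf (nat_lit 764599564)) (.leaf (nat_lit 135337728))) (.leaf (nat_lit 2254777858)))) (.node
    (.node (.node (.leaf (nat_lit 456214276)) (.leaf (nat_lit 777209088))) (.leaf (nat_lit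
    1847865866))) (.node (.node (.leaf (nat_lit 1113741828)) (.leaf (nat_lit 2705413386))) (.leaf
    (nat_lit 2650338817))))))) (.node (.node (.node (.node (.node (.node (.leaf (nat_lit 29367554))
    (.leaf (nat_lit 2808553735))) (.leaf (nat_lit 1151641860))) (.node (.node (.leaf (nat_lit
    553783556)) (.leaf (nat_lit 806671360))) (.leaf (nat_lit 1970761988)))) (.node (.node (.node
    (.leaf (nat_lit 273710082)) (.leaf (nat_lit 3207328516))) (.leaf (nat_lit 899019525))) (.node
    (.node (.leaf (nat_lit 874727942)) (.leaf (nat_lit 131322624))) (.leaf (nat_lit 2373513481)))))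
    (.node (.node (.node (.node (.leaf (nat_lit 69242122)) (.leaf (nat_lit 2994416389))) (.leaf
    (nat_lit 1418917123))) (.node (.node (.leaf (nat_lit 445822977)) (.leaf (nat_lit 491084800)))
    (.leaf (nat_lit 2189964555)))) (.node (.node (.node (.leaf (nat_lit 418484226)) (.leaf (nat_lit
    2708194816))) (.leaf (nat_lit 1795421194))) (.node (.node (.leaf (nat_lit 1062351369)) (.leaf
    (nat_lit 303470336))) (.leaf (nat_lit 2589568523)))))) (.node (.node (.node (.node (.node
    (.leaf (nat_lit 88097283)) (.leaf (nat_lit 2894776588))) (.leaf (nat_lit 1330828297))) (.node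
    (.node (.leaf (nat_lit 459432707)) (.leaf (nat_lit 122098688))) (.leaf (nat_lit 2096421634))))
    (.node (.node (.node (.leaf (nat_lit 225527299)) (.leaf (nat_lit 3229369605))) (.leaf (nat_lit
    1687393795))) (.node (.node (.leaf (nat_lit 957583878)) (.leaf (nat_lit 296896256))) (.leaf
    (nat_lit 1575570949))))) (.node (.node (.node (.node (.leaf (nat_lit 207642121)) (.leaf
    (nat_lit 2219487754))) (.leaf (nat_lit 859151365))) (.node (.node (.leaf (nat_lit 441647621))
    (.leaf (nat_lit 63347968))) (.leaf (nat_lit 2312500743)))) (.node (.node (.node (.leaf (nat_lit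
    240242694)) (.leaf (nat_lit 1469671168))) (.leaf (nat_lit 1899253770))) (.node (.node (.leaf
    (nat_lit 653545221)) (.leaf (nat_lit 360782858))) (.leaf (nat_lit 2701571850)))))))) (.node
    (.node (.node (.node (.node (.node (.node (.leaf (nat_lit 8392454)) (.leaf (nat_lit
    1953127430))) (.leaf (nat_lit 1230150921))) (.node (.node (.leaf (nat_lit 273809416)) (.leaf
    (nat_lit 1190835712))) (.leaf (nat_lit 1223120649)))) (.node (.node (.node (.leaf (nat_lit
    258012930)) (.leaf (nat_lit 2448153603))) (.leaf (nat_lit 1577275913))) (.node (.node (.leaf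
    (nat_lit 867290115)) (.leaf (nat_lit 439531776))) (.leaf (nat_lit 2360925196))))) (.node (.node
    (.node (.node (.leaf (nat_lit 131105035)) (.leaf (nat_lit 2975488777))) (.leaf (nat_lit
    1393898763))) (.node (.node (.leaf (nat_lit 708935172)) (.leaf (nat_lit 495235840))) (.leaf
    (nat_lit 1432887298)))) (.node (.node (.node (.leaf (nat_lit 402703362)) (.leaf (nat_lit
    3084538372))) (.leaf (nat_lit 1040619525))) (.node (.node (.leaf (nat_lit 1037181443)) (.leaf
    (nat_lit 131100937))) (.leaf (nat_lit 2572556042)))))) (.node (.node (.node (.node (.node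
    (.leaf (nat_lit 73408777)) (.leaf (nat_lit 2636820995))) (.leaf (nat_lit 1303699204))) (.node
    (.node (.leaf (nat_lit 615665668)) (.leaf (nat_lit 476785664))) (.leaf (nat_lit 2070394892))))
    (.node (.node (.node (.leaf (nat_lit 294728961)) (.leaf (nat_lit 3270223361))) (.leaf (nat_lit
    957755652))) (.node (.node (.leaf (nat_lit 940697609)) (.leaf (nat_lit 376576000))) (.leaf
    (nat_lit 2469773831))))) (.node (.node (.node (.node (.leaf (nat_lit 191936514)) (.leaf
    (nat_lit 2267772678))) (.leaf (nat_lit 1483940361))) (.node (.node (.leaf (nat_lit 784510467))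
    (.leaf (nat_lit 282633984))) (.leaf (nat_lit 1451786248)))) (.node (.node (.node (.leaf
    (nat_lit 274842117)) (.leaf (nat_lit 431595776))) (.leaf (nat_lit 1867970309))) (.node (.node
    (.leaf (nat_lit 761543938)) (.leaf (nat_lit 143047168))) (.leaf (nat_lit 2672199683)))))))
    (.node (.node (.node (.node (.node (.node (.leaf (nat_lit 44045060)) (.leaf (nat_lit
    2835822084))) (.leaf (nat_lit 728020996))) (.node (.node (.leaf (nat_lit 571613698)) (.leaf
    (nat_lit 1265071360))) (.leaf (nat_lit 2026157833)))) (.node (.node (.node (.leaf (nat_lit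
    280040971)) (.leaf (nat_lit 3226035719))) (.leaf (nat_lit 1517685508))) (.node (.node (.leaf
    (nat_lit 888364556)) (.leaf (nat_lit 75599360))) (.leaf (nat_lit 2406025484))))) (.node (.node
    (.node (.node (.leaf (nat_lit 154180108)) (.leaf (nat_lit 3025680897))) (.leaf (nat_lit
    1441095692))) (.node (.node (.leaf (nat_lit 748866315)) (.leaf (nat_lit 433629184))) (.leaf
    (nat_lit 1382567426)))) (.node (.node (.node (.leaf (nat_lit 221356297)) (.leaf (nat_lit
    3233503237))) (.leaf (nat_lit 1818675467))) (.node (.node (.leaf (nat_lit 1089736716)) (.leaf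
    (nat_lit 141711872))) (.leaf (nat_lit 2625227019)))))) (.node (.node (.node (.node (.node
    (.leaf (nat_lit 100688908)) (.leaf (nat_lit 2040193285))) (.leaf (nat_lit 804588548))) (.node
    (.node (.leaf (nat_lit 659639300)) (.leaf (nat_lit 809858048))) (.leaf (nat_lit 2127881987))))
    (.node (.node (.node (.leaf (nat_lit 361801223)) (.leaf (nat_lit 2990240008))) (.leaf (nat_lit
    1580623108))) (.node (.node (.leaf (nat_lit 539208713)) (.leaf (nat_lit 1312179968))) (.leaf
    (nat_lit 2525358852))))) (.node (.node (.node (.node (.leaf (nat_lit 223401733)) (.leaf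
    (nat_lit 3123225603))) (.leaf (nat_lit 878031880))) (.node (.node (.leaf (nat_lit 453186566))
    (.leaf (nat_lit 482904064))) (.leaf (nat_lit 1440265734)))) (.node (.node (.node (.leaf
    (nat_lit 503439628)) (.leaf (nat_lit 560476416))) (.leaf (nat_lit 1921276419))) (.node (.leaf
    (nat_lit 1181904905)) (.leaf (nat_lit 1892296970))))))))) (.node (.node (.node (.node (.node
    (.node (.node (.node (.leaf (nat_lit 8390408)) (.leaf (nat_lit 2768697352))) (.leaf (nat_lit
    1219664132))) (.node (.node (.leaf (nat_lit 528611596)) (.leaf (nat_lit 169019392))) (.leaf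
    (nat_lit 1955883779)))) (.node (.node (.node (.leaf (nat_lit 242281996)) (.leaf (nat_lit
    3167472900))) (.leaf (nat_lit 1565740554))) (.node (.node (.leaf (nat_lit 488845057)) (.leaf
    (nat_lit 749110272))) (.leaf (nat_lit 1582879754))))) (.node (.node (.node (.node (.leaf
    (nat_lit 124811275)) (.leaf (nat_lit 2111506437))) (.leaf (nat_lit 1373972748))) (.node (.node
    (.leaf (nat_lit 695301896)) (.leaf (nat_lit 2103163904))) (.leaf (nat_lit 2167936002)))) (.node
    (.node (.node (.leaf (nat_lit 391214603)) (.leaf (nat_lit 2754277633))) (.leaf (nat_lit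
    1757663496))) (.node (.node (.leaf (nat_lit 1025645826)) (.leaf (nat_lit 379257088))) (.leaf
    (nat_lit 2432273157)))))) (.node (.node (.node (.node (.node (.leaf (nat_lit 66076428)) (.leaf
    (nat_lit 2862046727))) (.leaf (nat_lit 1296218627))) (.node (.node (.leaf (nat_lit 338839048))
    (.leaf (nat_lit 262886400))) (.leaf (nat_lit 2061812490)))) (.node (.node (.node (.leaf
    (nat_lit 316707847)) (.leaf (nat_lit 3248235017))) (.leaf (nat_lit 1197877509))) (.node (.node
    (.leaf (nat_lit 887322379)) (.leaf (nat_lit 183852288))) (.leaf (nat_lit 2443781899))))) (.node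
    (.node (.node (.node (.leaf (nat_lit 93368585)) (.leaf (nat_lit 3063439362))) (.leaf (nat_lit
    967147015))) (.node (.node (.leaf (nat_lit 778149129)) (.leaf (nat_lit 132576512))) (.leaf
    (nat_lit 2268411143)))) (.node (.node (.node (.leaf (nat_lit 463553793)) (.leaf (nat_lit
    773445120))) (.leaf (nat_lit 1858362890))) (.node (.node (.leaf (nat_lit 647246337)) (.leaf
    (nat_lit 310438920))) (.leaf (nat_lit 2659612162))))))) (.node (.node (.node (.node (.node
    (.node (.leaf (nat_lit 36709378)) (.leaf (nat_lit 2811920897))) (.leaf (nat_lit 1259522049)))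
    (.node (.node (.leaf (nat_lit 563154179)) (.leaf (nat_lit 496303872))) (.leaf (nat_lit
    1260879111)))) (.node (.node (.node (.leaf (nat_lit 276892683)) (.leaf (nat_lit 3216583425)))
    (.leaf (nat_lit 1610832644))) (.node (.node (.leaf (nat_lit 494096645)) (.leaf (nat_lit
    133239552))) (.leaf (nat_lit 2415239939))))) (.node (.node (.node (.node (.leaf (nat_lit
    148935179)) (.leaf (nat_lit 3013095169))) (.leaf (nat_lit 1432549380))) (.node (.node (.leaf
    (nat_lit 738377996)) (.leaf (nat_lit 1257825024))) (.leaf (nat_lit 2214930433)))) (.node (.node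
    (.node (.leaf (nat_lit 420582923)) (.leaf (nat_lit 3212570378))) (.leaf (nat_lit 1111932170)))
    (.node (.node (.leaf (nat_lit 1077034505)) (.leaf (nat_lit 1208051204))) (.leaf (nat_lit
    2611360520)))))) (.node (.node (.node (.node (.node (.leaf (nat_lit 47209479)) (.leaf (nat_lit
    2908207111))) (.leaf (nat_lit 790954244))) (.node (.node (.leaf (nat_lit 355625480)) (.leaf
    (nat_lit 2149108224))) (.leaf (nat_lit 2113200642)))) (.node (.node (.node (.leaf (nat_lit
    352362506)) (.leaf (nat_lit 1651264000))) (.leaf (nat_lit 1702076170))) (.node (.node (.leaf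
    (nat_lit 747871751)) (.leaf (nat_lit 305628928))) (.leaf (nat_lit 2510677000))))) (.node (.node
    (.node (.node (.leaf (nat_lit 107007495)) (.leaf (nat_lit 3105592588))) (.leaf (nat_lit
    1520645890))) (.node (.node (.leaf (nat_lit 735251458)) (.leaf (nat_lit 482814464))) (.leaf
    (nat_lit 2285414915)))) (.node (.node (.node (.leaf (nat_lit 243390985)) (.leaf (nat_lit
    504556032))) (.leaf (nat_lit 1910789641))) (.node (.node (.leaf (nat_lit 1167223818)) (.leaf
    (nat_lit 282136329))) (.leaf (nat_lit 2714163975)))))))) (.node (.node (.node (.node (.node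
    (.node (.node (.leaf (nat_lit 16782596)) (.leaf (nat_lit 1910138889))) (.leaf (nat_lit
    777297927))) (.node (.node (.leaf (nat_lit 485623809)) (.leaf (nat_lit 449958410))) (.leaf
    (nat_lit 1363633414)))) (.node (.node (.node (.leaf (nat_lit 266369545)) (.leaf (nat_lit
    2447107589))) (.leaf (nat_lit 901114118))) (.node (.node (.leaf (nat_lit 496190214)) (.leaf
    (nat_lit 1319695872))) (.leaf (nat_lit 2390071041))))) (.node (.node (.node (.node (.leaf
    (nat_lit 115377927)) (.leaf (nat_lit 2179669766))) (.leaf (nat_lit 808795911))) (.node (.node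
    (.leaf (nat_lit 719423495)) (.leaf (nat_lit 476389376))) (.leaf (nat_lit 1428695303)))) (.node
    (.node (.node (.leaf (nat_lit 223447303)) (.leaf (nat_lit 1067040768))) (.leaf (nat_lit
    1042718983))) (.node (.node (.leaf (nat_lit 1048716810)) (.leaf (nat_lit 78708224))) (.leaf
    (nat_lit 2585141002)))))) (.node (.node (.node (.node (.node (.leaf (nat_lit 81798915)) (.leaf
    (nat_lit 2054864129))) (.leaf (nat_lit 1320339208))) (.node (.node (.leaf (nat_lit 631397132))
    (.leaf (nat_lit 1323949824))) (.leaf (nat_lit 2077737733)))) (.node (.node (.node (.leaf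
    (nat_lit 335583746)) (.leaf (nat_lit 3269212932))) (.leaf (nat_lit 960904454))) (.node (.node
    (.leaf (nat_lit 950136073)) (.leaf (nat_lit 372980736))) (.leaf (nat_lit 1555644166))))) (.node
    (.node (.node (.node (.leaf (nat_lit 200326924)) (.leaf (nat_lit 2965078536))) (.leaf (nat_lit
    914723082))) (.node (.node (.leaf (nat_lit 797112578)) (.leaf (nat_lit 282798080))) (.leaf
    (nat_lit 2299872260)))) (.node (.node (.node (.leaf (nat_lit 248629511)) (.leaf (nat_lit
    222970624))) (.leaf (nat_lit 1883523330))) (.node (.node (.leaf (nat_lit 1133790977)) (.leaf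
    (nat_lit 186716423))) (.leaf (nat_lit 1845100803))))))) (.node (.node (.node (.node (.node
    (.node (.leaf (nat_lit 29372677)) (.leaf (nat_lit 2848410890))) (.leaf (nat_lit 1276293634)))
    (.node (.node (.leaf (nat_lit 305278215)) (.leaf (nat_lit 720087296))) (.leaf (nat_lit
    2036824835)))) (.node (.node (.node (.leaf (nat_lit 178331145)) (.leaf (nat_lit 3189509639)))
    (.leaf (nat_lit 1538659329))) (.node (.node (.leaf (nat_lit 914479873)) (.leaf (nat_lit
    138512128))) (.leaf (nat_lit 1607013122))))) (.node (.node (.node (.node (.leaf (nat_lit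
    79733258)) (.leaf (nat_lit 2236305669))) (.leaf (nat_lit 1455620609))) (.node (.node (.leaf
    (nat_lit 528667653)) (.leaf (nat_lit 541557760))) (.leaf (nat_lit 2244289288)))) (.node (.node
    (.node (.leaf (nat_lit 221358598)) (.leaf (nat_lit 2515187456))) (.leaf (nat_lit 1836326151)))
    (.node (.node (.leaf (nat_lit 1102206215)) (.leaf (nat_lit 109075978))) (.leaf (nat_lit
    2639681795)))))) (.node (.node (.node (.node (.node (.leaf (nat_lit 104884999)) (.leaf (nat_lit
    2934417922))) (.leaf (nat_lit 1366483209))) (.node (.node (.leaf (nat_lit 669078275)) (.leaf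
    (nat_lit 239198464))) (.leaf (nat_lit 2085091594)))) (.node (.node (.node (.leaf (nat_lit
    302080258)) (.leaf (nat_lit 1281824000))) (.leaf (nat_lit 1550217481))) (.node (.node (.leaf
    (nat_lit 994293511)) (.leaf (nat_lit 232163328))) (.leaf (nat_lit 2536076044))))) (.node (.node
    (.node (.node (.leaf (nat_lit 116448774)) (.leaf (nat_lit 3104550155))) (.leaf (nat_lit
    1533394188))) (.node (.node (.leaf (nat_lit 758324742)) (.leaf (nat_lit 2398859776))) (.leaf
    (nat_lit 2351267585)))) (.node (.node (.node (.leaf (nat_lit 512815874)) (.leaf (nat_lit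
    472362240))) (.leaf (nat_lit 1174876933))) (.node (.leaf (nat_lit 1192391944)) (.leaf (nat_lit
    2742695948)))))))))) (.node (.node (.node (.node (.node (.node (.node (.node (.node (.leaf
    (nat_lit 4195589)) (.leaf (nat_lit 2761574924))) (.leaf (nat_lit 686064392))) (.node (.node
    (.leaf (nat_lit 521270284)) (.leaf (nat_lit 849882624))) (.leaf (nat_lit 1918321164)))) (.node
    (.node (.node (.leaf (nat_lit 125889284)) (.leaf (nat_lit 3161000714))) (.leaf (nat_lit
    1559448329))) (.node (.node (.leaf (nat_lit 851559940)) (.leaf (nat_lit 1677260032))) (.leaf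
    (nat_lit 2366010115))))) (.node (.node (.node (.node (.leaf (nat_lit 99644678)) (.leaf (nat_lit
    2956448519))) (.leaf (nat_lit 826615561))) (.node (.node (.leaf (nat_lit 389189895)) (.leaf
    (nat_lit 1302684160))) (.leaf (nat_lit 2159545868)))) (.node (.node (.node (.leaf (nat_lit
    199323656)) (.leaf (nat_lit 2937787648))) (.leaf (nat_lit 1665565701))) (.node (.node (.leaf
    (nat_lit 875809281)) (.leaf (nat_lit 283865088))) (.leaf (nat_lit 2526643467)))))) (.node
    (.node (.node (.node (.node (.leaf (nat_lit 60832524)) (.leaf (nat_lit 2854705412))) (.leaf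
    (nat_lit 1290994698))) (.node (.node (.leaf (nat_lit 606153735)) (.leaf (nat_lit 276231424)))
    (.leaf (nat_lit 2053423363)))) (.node (.node (.node (.leaf (nat_lit 312513287)) (.leaf (nat_lit
    3253293314))) (.leaf (nat_lit 1646492930))) (.node (.node (.leaf (nat_lit 926016002)) (.leaf
    (nat_lit 74549504))) (.leaf (nat_lit 1610162945))))) (.node (.node (.node (.node (.leaf
    (nat_lit 180399362)) (.leaf (nat_lit 3056097537))) (.leaf (nat_lit 1471352580))) (.node (.node
    (.leaf (nat_lit 703783169)) (.leaf (nat_lit 126288640))) (.leaf (nat_lit 2261069832)))) (.node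
    (.node (.node (.leaf (nat_lit 409056771)) (.leaf (nat_lit 1219041792))) (.leaf (nat_lit
    1854158090))) (.node (.node (.leaf (nat_lit 1085549570)) (.leaf (nat_lit 174107912))) (.leaf
    (nat_lit 2654540553))))))) (.node (.node (.node (.node (.node (.node (.leaf (nat_lit 20979970))
    (.leaf (nat_lit 1948941064))) (.leaf (nat_lit 721726981))) (.node (.node (.leaf (nat_lit
    501355777)) (.leaf (nat_lit 1445525760))) (.leaf (nat_lit 1403483654)))) (.node (.node (.node
    (.leaf (nat_lit 133236741)) (.leaf (nat_lit 3212388099))) (.leaf (nat_lit 1605747201))) (.node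
    (.node (.leaf (nat_lit 881020172)) (.leaf (nat_lit 1315505664))) (.leaf (nat_lit
    2408947459))))) (.node (.node (.node (.node (.leaf (nat_lit 70291466)) (.leaf (nat_lit
    3004779015))) (.leaf (nat_lit 800411401))) (.node (.node (.leaf (nat_lit 731036422)) (.leaf
    (nat_lit 277988864))) (.leaf (nat_lit 2208653064)))) (.node (.node (.node (.leaf (nat_lit
    422662916)) (.leaf (nat_lit 2718680073))) (.leaf (nat_lit 1800670473))) (.node (.node (.leaf
    (nat_lit 1066662668)) (.leaf (nat_lit 102139648))) (.leaf (nat_lit 2605066753)))))) (.node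
    (.node (.node (.node (.node (.leaf (nat_lit 72374277)) (.leaf (nat_lit 2900853252))) (.leaf
    (nat_lit 815070218))) (.node (.node (.leaf (nat_lit 644957960)) (.leaf (nat_lit 580056832)))
    (.leaf (nat_lit 1387779849)))) (.node (.node (.node (.leaf (nat_lit 348167938)) (.leaf (nat_lit
    3300497415))) (.leaf (nat_lit 973492227))) (.node (.node (.leaf (nat_lit 526620933)) (.leaf
    (nat_lit 192123392))) (.leaf (nat_lit 2504385025))))) (.node (.node (.node (.node (.leaf
    (nat_lit 102811909)) (.leaf (nat_lit 3103296002))) (.leaf (nat_lit 1513305090))) (.node (.node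
    (.leaf (nat_lit 813803271)) (.leaf (nat_lit 133530112))) (.leaf (nat_lit 2319798274)))) (.node
    (.node (.node (.leaf (nat_lit 490802951)) (.leaf (nat_lit 408399360))) (.leaf (nat_lit
    1905546247))) (.node (.node (.leaf (nat_lit 1128551173)) (.leaf (nat_lit 106981380))) (.leaf
    (nat_lit 2707866376)))))))) (.node (.node (.node (.node (.node (.node (.node (.leaf (nat_lit
    16781580)) (.leaf (nat_lit 2787575048))) (.leaf (nat_lit 971282693))) (.node (.node (.leaf
    (nat_lit 537002502)) (.leaf (nat_lit 346483200))) (.leaf (nat_lit 1978962178)))) (.node (.node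
    (.node (.leaf (nat_lit 262202883)) (.leaf (nat_lit 3190364681))) (.leaf (nat_lit 1581630723)))
    (.node (.node (.leaf (nat_lit 870530820)) (.leaf (nat_lit 1675182848))) (.leaf (nat_lit
    2358829317))))) (.node (.node (.node (.node (.leaf (nat_lit 88114184)) (.leaf (nat_lit
    2606438916))) (.leaf (nat_lit 1257584901))) (.node (.node (.leaf (nat_lit 715227396)) (.leaf
    (nat_lit 116452864))) (.leaf (nat_lit 2184518913)))) (.node (.node (.node (.leaf (nat_lit
    208765957)) (.leaf (nat_lit 1665575936))) (.leaf (nat_lit 1115069444))) (.node (.node (.leaf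
    (nat_lit 1040442124)) (.leaf (nat_lit 107055104))) (.leaf (nat_lit 1655282691)))))) (.node
    (.node (.node (.node (.node (.leaf (nat_lit 56642049)) (.leaf (nat_lit 2877779464))) (.leaf
    (nat_lit 1314047490))) (.node (.node (.leaf (nat_lit 331502857)) (.leaf (nat_lit 81394688)))
    (.leaf (nat_lit 2078591753)))) (.node (.node (.node (.leaf (nat_lit 329333515)) (.leaf (nat_lit
    3161208068))) (.leaf (nat_lit 1664497419))) (.node (.node (.leaf (nat_lit 939754763)) (.leaf
    (nat_lit 311136256))) (.leaf (nat_lit 1564031240))))) (.node (.node (.node (.node (.leaf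
    (nat_lit 95468552)) (.leaf (nat_lit 2348514567))) (.leaf (nat_lit 861244677))) (.node (.node
    (.leaf (nat_lit 790732809)) (.leaf (nat_lit 278445056))) (.leaf (nat_lit 2293579786)))) (.node
    (.node (.node (.leaf (nat_lit 272745731)) (.leaf (nat_lit 722845440))) (.leaf (nat_lit
    1178009091))) (.node (.node (.leaf (nat_lit 1143227140)) (.leaf (nat_lit 105936133))) (.leaf
    (nat_lit 1836710915))))))) (.node (.node (.node (.node (.node (.node (.leaf (nat_lit 48239873))
    (.leaf (nat_lit 2753206018))) (.leaf (nat_lit 1272099073))) (.node (.node (.leaf (nat_lit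
    288499717)) (.leaf (nat_lit 2680857600))) (.leaf (nat_lit 2030539019)))) (.node (.node (.node
    (.leaf (nat_lit 155261187)) (.leaf (nat_lit 3193702663))) (.leaf (nat_lit 1626717443))) (.node
    (.node (.leaf (nat_lit 909236482)) (.leaf (nat_lit 2118680320))) (.leaf (nat_lit
    2429929731))))) (.node (.node (.node (.node (.leaf (nat_lit 105946628)) (.leaf (nat_lit
    2222672645))) (.leaf (nat_lit 1359308292))) (.node (.node (.leaf (nat_lit 732089857)) (.leaf
    (nat_lit 2099764480))) (.leaf (nat_lit 2237158923)))) (.node (.node (.node (.leaf (nat_lit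
    443600899)) (.leaf (nat_lit 3060531968))) (.leaf (nat_lit 1115082497))) (.node (.node (.leaf
    (nat_lit 1095913226)) (.leaf (nat_lit 338764807))) (.leaf (nat_lit 2634438145)))))) (.node
    (.node (.node (.node (.node (.leaf (nat_lit 80766977)) (.leaf (nat_lit 2926241804))) (.leaf
    (nat_lit 1360191233))) (.node (.node (.leaf (nat_lit 435321096)) (.leaf (nat_lit 1291182336)))
    (.leaf (nat_lit 2134173960)))) (.node (.node (.node (.leaf (nat_lit 365996803)) (.leaf (nat_lit
    2770000896))) (.leaf (nat_lit 1543924489))) (.node (.node (.leaf (nat_lit 879997185)) (.leaf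
    (nat_lit 303176448))) (.leaf (nat_lit 1609133578))))) (.node (.node (.node (.node (.leaf
    (nat_lit 229671178)) (.leaf (nat_lit 2345379850))) (.leaf (nat_lit 876984582))) (.node (.node
    (.leaf (nat_lit 750983427)) (.leaf (nat_lit 860587520))) (.leaf (nat_lit 2344140044)))) (.node
    (.node (.node (.leaf (nat_lit 507630855)) (.leaf (nat_lit 2226748160))) (.leaf (nat_lit
    1926519811))) (.node (.leaf (nat_lit 1168403468)) (.leaf (nat_lit 2729062155))))))))) (.node
    (.node (.node (.node (.node (.node (.node (.node (.leaf (nat_lit 12585996)) (.leaf (nat_lit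
    2776038408))) (.leaf (nat_lit 1224907780))) (.node (.node (.leaf (nat_lit 466746625)) (.leaf
    (nat_lit 1312359168))) (.leaf (nat_lit 1960267275)))) (.node (.node (.node (.leaf (nat_lit
    253817611)) (.leaf (nat_lit 3176912396))) (.leaf (nat_lit 907401992))) (.node (.node (.leaf
    (nat_lit 857945612)) (.leaf (nat_lit 1320926720))) (.leaf (nat_lit 2375387908))))) (.node
    (.node (.node (.node (.leaf (nat_lit 65043466)) (.leaf (nat_lit 2970084612))) (.leaf (nat_lit
    1389702667))) (.node (.node (.leaf (nat_lit 701594376)) (.leaf (nat_lit 2094613248))) (.leaf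
    (nat_lit 1354242823)))) (.node (.node (.node (.leaf (nat_lit 254900740)) (.leaf (nat_lit
    2793071876))) (.leaf (nat_lit 1744211975))) (.node (.node (.leaf (nat_lit 1031937544)) (.leaf
    (nat_lit 116469248))) (.leaf (nat_lit 2487848972)))))) (.node (.node (.node (.node (.node
    (.leaf (nat_lit 34619910)) (.leaf (nat_lit 2869388807))) (.leaf (nat_lit 751098377))) (.node
    (.node (.leaf (nat_lit 615664396)) (.leaf (nat_lit 263352576))) (.leaf (nat_lit 1282912774))))
    (.node (.node (.node (.leaf (nat_lit 318845195)) (.leaf (nat_lit 2531010565))) (.leaf (nat_lit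
    1299590407))) (.node (.node (.leaf (nat_lit 511932933)) (.leaf (nat_lit 156301568))) (.leaf
    (nat_lit 2427006220))))) (.node (.node (.node (.node (.leaf (nat_lit 91272455)) (.leaf (nat_lit
    3070781444))) (.leaf (nat_lit 1002799620))) (.node (.node (.leaf (nat_lit 440592645)) (.leaf
    (nat_lit 438667520))) (.leaf (nat_lit 2274703363)))) (.node (.node (.node (.leaf (nat_lit
    467720707)) (.leaf (nat_lit 397153024))) (.leaf (nat_lit 1656156682))) (.node (.node (.leaf
    (nat_lit 1132618243)) (.leaf (nat_lit 153117191))) (.leaf (nat_lit 1742335237))))))) (.node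
    (.node (.node (.node (.node (.node (.leaf (nat_lit 33564170)) (.leaf (nat_lit 2829529352)))
    (.leaf (nat_lit 1263709705))) (.node (.node (.leaf (nat_lit 568397322)) (.leaf (nat_lit
    904212736))) (.leaf (nat_lit 2005369612)))) (.node (.node (.node (.leaf (nat_lit 286331396))
    (.leaf (nat_lit 3219736840))) (.leaf (nat_lit 927335690))) (.node (.node (.leaf (nat_lit
    896652802)) (.leaf (nat_lit 114916352))) (.leaf (nat_lit 2421532932))))) (.node (.node (.node
    (.node (.leaf (nat_lit 156276226)) (.leaf (nat_lit 3019388163))) (.leaf (nat_lit 1437792519)))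
    (.node (.node (.leaf (nat_lit 742573316)) (.leaf (nat_lit 2092536064))) (.leaf (nat_lit
    2222475276)))) (.node (.node (.node (.leaf (nat_lit 398564102)) (.leaf (nat_lit 2711342336)))
    (.leaf (nat_lit 1816399624))) (.node (.node (.leaf (nat_lit 1083328010)) (.leaf (nat_lit
    372336392))) (.leaf (nat_lit 2620798984)))))) (.node (.node (.node (.node (.node (.leaf
    (nat_lit 99626755)) (.leaf (nat_lit 2913655564))) (.leaf (nat_lit 1350753026))) (.node (.node
    (.leaf (nat_lit 650276876)) (.leaf (nat_lit 283342080))) (.leaf (nat_lit 2118640908)))) (.node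
    (.node (.node (.leaf (nat_lit 355528969)) (.leaf (nat_lit 2579078152))) (.leaf (nat_lit
    1704353548))) (.node (.node (.leaf (nat_lit 979499528)) (.leaf (nat_lit 154891520))) (.leaf
    (nat_lit 2519066632))))) (.node (.node (.node (.node (.leaf (nat_lit 216060683)) (.leaf
    (nat_lit 3115031308))) (.leaf (nat_lit 918925065))) (.node (.node (.leaf (nat_lit 638783493))
    (.leaf (nat_lit 412150025))) (.leaf (nat_lit 2201530625)))) (.node (.node (.node (.leaf
    (nat_lit 250732040)) (.leaf (nat_lit 1719123712))) (.leaf (nat_lit 1915160579))) (.node (.leaf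
    (nat_lit 1175612936)) (.leaf (nat_lit 2721501194)))))))) (.node (.node (.node (.node (.node
    (.node (.node (.leaf (nat_lit 22026244)) (.leaf (nat_lit 2803310338))) (.leaf (nat_lit
    1246996226))) (.node (.node (.leaf (nat_lit 550569988)) (.leaf (nat_lit 908599808))) (.leaf
    (nat_lit 1991547913)))) (.node (.node (.node (.leaf (nat_lit 238092547)) (.leaf (nat_lit
    3202949378))) (.leaf (nat_lit 1549135110))) (.node (.node (.leaf (nat_lit 879874564)) (.leaf
    (nat_lit 1691980544))) (.leaf (nat_lit 2394479369))))) (.node (.node (.node (.node (.leaf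
    (nat_lit 144719618)) (.leaf (nat_lit 2988123148))) (.leaf (nat_lit 1400193793))) (.node (.node
    (.leaf (nat_lit 417510154)) (.leaf (nat_lit 1518918656))) (.leaf (nat_lit 1398288644)))) (.node
    (.node (.node (.leaf (nat_lit 416336135)) (.leaf (nat_lit 1788473088))) (.leaf (nat_lit
    1788080385))) (.node (.node (.leaf (nat_lit 1055010314)) (.leaf (nat_lit 47910912))) (.leaf
    (nat_lit 2591433475)))))) (.node (.node (.node (.node (.node (.leaf (nat_lit 85993475)) (.leaf
    (nat_lit 2056962823))) (.leaf (nat_lit 1325582849))) (.node (.node (.leaf (nat_lit 457334788))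
    (.leaf (nat_lit 536508416))) (.leaf (nat_lit 2090129415)))) (.node (.node (.node (.leaf
    (nat_lit 185680641)) (.leaf (nat_lit 3241951493))) (.leaf (nat_lit 1025917705))) (.node (.node
    (.leaf (nat_lit 526618116)) (.leaf (nat_lit 137637120))) (.leaf (nat_lit 2488653575))))) (.node
    (.node (.node (.node (.leaf (nat_lit 168870659)) (.leaf (nat_lit 1999286272))) (.leaf (nat_lit
    992318980))) (.node (.node (.leaf (nat_lit 803316489)) (.leaf (nat_lit 442185728))) (.leaf
    (nat_lit 1464374792)))) (.node (.node (.node (.leaf (nat_lit 243387394)) (.leaf (nat_lit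
    463924480))) (.leaf (nat_lit 1160186632))) (.node (.node (.leaf (nat_lit 649349894)) (.leaf
    (nat_lit 375457795))) (.leaf (nat_lit 1796868359))))))) (.node (.node (.node (.node (.node
    (.node (.leaf (nat_lit 48247820)) (.leaf (nat_lit 1914176520))) (.leaf (nat_lit 1282585352)))
    (.node (.node (.leaf (nat_lit 298988038)) (.leaf (nat_lit 1454869504))) (.leaf (nat_lit
    1312267011)))) (.node (.node (.node (.leaf (nat_lit 305171978)) (.leaf (nat_lit 3209433603)))
    (.leaf (nat_lit 944118026))) (.node (.node (.leaf (nat_lit 918770439)) (.leaf (nat_lit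
    135299588))) (.leaf (nat_lit 2440409351))))) (.node (.node (.node (.node (.leaf (nat_lit
    171993857)) (.leaf (nat_lit 2249938698))) (.leaf (nat_lit 1354068226))) (.node (.node (.leaf
    (nat_lit 436394245)) (.leaf (nat_lit 236406528))) (.leaf (nat_lit 2248685320)))) (.node (.node
    (.node (.leaf (nat_lit 449949196)) (.leaf (nat_lit 2880173568))) (.leaf (nat_lit 1841571335)))
    (.node (.node (.leaf (nat_lit 1106518028)) (.leaf (nat_lit 299105280))) (.leaf (nat_lit
    2163858181)))))) (.node (.node (.node (.node (.node (.leaf (nat_lit 116405769)) (.leaf (nat_lit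
    2943857155))) (.leaf (nat_lit 1370823691))) (.node (.node (.leaf (nat_lit 390235143)) (.leaf
    (nat_lit 797450752))) (.leaf (nat_lit 2149905155)))) (.node (.node (.node (.leaf (nat_lit
    338781697)) (.leaf (nat_lit 2044355072))) (.leaf (nat_lit 1735817218))) (.node (.node (.leaf
    (nat_lit 1002572554)) (.leaf (nat_lit 386670592))) (.leaf (nat_lit 2544235785))))) (.node
    (.node (.node (.node (.leaf (nat_lit 233890053)) (.leaf (nat_lit 3144213511))) (.leaf (nat_lit
    923124489))) (.node (.node (.leaf (nat_lit 841073412)) (.leaf (nat_lit 2134602496))) (.leaf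
    (nat_lit 1617479427)))) (.node (.node (.node (.leaf (nat_lit 509733900)) (.leaf (nat_lit
    414477824))) (.leaf (nat_lit 1939103748))) (.node (.leaf (nat_lit 780432903)) (.leaf (nat_lit
    2746891787)))))))))))))) (.node (.node (.node (.node (.node (.node (.node (.node (.node (.node
    (.node (.node (.node (.leaf (nat_lit 3)) (.leaf (nat_lit 1903836929))) (.leaf (nat_lit
    939816710))) (.node (.node (.leaf (nat_lit 517010951)) (.leaf (nat_lit 733177856))) (.leaf
    (nat_lit 1941201417)))) (.node (.node (.node (.leaf (nat_lit 238055170)) (.leaf (nat_lit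
    3144398853))) (.leaf (nat_lit 893764355))) (.node (.node (.leaf (nat_lit 477307657)) (.leaf
    (nat_lit 2125165056))) (.leaf (nat_lit 2358608386))))) (.node (.node (.node (.node (.leaf
    (nat_lit 117454346)) (.leaf (nat_lit 2930440203))) (.leaf (nat_lit 1372775689))) (.node (.node
    (.leaf (nat_lit 368215303)) (.leaf (nat_lit 1314261760))) (.leaf (nat_lit 2150105860)))) (.node
    (.node (.node (.leaf (nat_lit 372336137)) (.leaf (nat_lit 2814039040))) (.leaf (nat_lit
    1737735170))) (.node (.node (.leaf (nat_lit 562281737)) (.leaf (nat_lit 357813760))) (.leaf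
    (nat_lit 1601796870)))))) (.node (.node (.node (.node (.node (.leaf (nat_lit 48247818)) (.leaf
    (nat_lit 1913128199))) (.leaf (nat_lit 1277478667))) (.node (.node (.leaf (nat_lit 592518403))
    (.leaf (nat_lit 1312111360))) (.leaf (nat_lit 1435999241)))) (.node (.node (.node (.leaf
    (nat_lit 186721027)) (.leaf (nat_lit 3212579591))) (.leaf (nat_lit 1638103556))) (.node (.node
    (.leaf (nat_lit 917728524)) (.leaf (nat_lit 117472258))) (.leaf (nat_lit 1531516934))))) (.node
    (.node (.node (.node (.leaf (nat_lit 83928326)) (.leaf (nat_lit 3046659335))) (.leaf (nat_lit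
    1462961412))) (.node (.node (.leaf (nat_lit 446880265)) (.leaf (nat_lit 473596928))) (.leaf
    (nat_lit 2250581508)))) (.node (.node (.node (.leaf (nat_lit 433171979)) (.leaf (nat_lit
    2460603136))) (.leaf (nat_lit 1819729158))) (.node (.node (.leaf (nat_lit 1074012421)) (.leaf
    (nat_lit 90225664))) (.leaf (nat_lit 2647023619))))))) (.node (.node (.node (.node (.node
    (.node (.leaf (nat_lit 23074828)) (.leaf (nat_lit 2167042308))) (.leaf (nat_lit 833922568)))
    (.node (.node (.leaf (nat_lit 541199618)) (.leaf (nat_lit 565527552))) (.leaf (nat_lit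
    1702325252)))) (.node (.node (.node (.leaf (nat_lit 260112898)) (.leaf (nat_lit 3203133195)))
    (.leaf (nat_lit 897969669))) (.node (.node (.leaf (nat_lit 871581445)) (.leaf (nat_lit
    1693028864))) (.leaf (nat_lit 1513679877))))) (.node (.node (.node (.node (.leaf (nat_lit
    81824264)) (.leaf (nat_lit 2993168899))) (.leaf (nat_lit 807748616))) (.node (.node (.leaf
    (nat_lit 721597452)) (.leaf (nat_lit 844636160))) (.leaf (nat_lit 1352151557)))) (.node (.node
    (.node (.leaf (nat_lit 413240587)) (.leaf (nat_lit 1748414981))) (.leaf (nat_lit 1791226375)))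
    (.node (.node (.leaf (nat_lit 1056059651)) (.leaf (nat_lit 84979200))) (.leaf (nat_lit
    2592712971)))))) (.node (.node (.node (.node (.node (.leaf (nat_lit 81809932)) (.leaf (nat_lit
    2010825738))) (.leaf (nat_lit 1326631426))) (.node (.node (.leaf (nat_lit 638665991)) (.leaf
    (nat_lit 539654912))) (.leaf (nat_lit 1303890440)))) (.node (.node (.node (.leaf (nat_lit
    319898636)) (.leaf (nat_lit 3290186247))) (.leaf (nat_lit 1668695046))) (.node (.node (.leaf
    (nat_lit 565415684)) (.leaf (nat_lit 119810048))) (.leaf (nat_lit 1571374853))))) (.node (.node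
    (.node (.node (.leaf (nat_lit 109102090)) (.leaf (nat_lit 2219486976))) (.leaf (nat_lit
    860198660))) (.node (.node (.leaf (nat_lit 804365066)) (.leaf (nat_lit 484152064))) (.leaf
    (nat_lit 2306165256)))) (.node (.node (.node (.leaf (nat_lit 247581960)) (.leaf (nat_lit
    219617024))) (.leaf (nat_lit 1892961794))) (.node (.node (.leaf (nat_lit 1153591556)) (.leaf
    (nat_lit 1079015945))) (.leaf (nat_lit 1796868614)))))))) (.node (.node (.node (.node (.node
    (.node (.node (.leaf (nat_lit 12586251)) (.leaf (nat_lit 1919571972))) (.leaf (nat_lit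
    972328962))) (.node (.node (.leaf (nat_lit 530709769)) (.leaf (nat_lit 419822848))) (.leaf
    (nat_lit 1959218955)))) (.node (.node (.node (.leaf (nat_lit 255882761)) (.leaf (nat_lit
    2522601224))) (.leaf (nat_lit 1573081345))) (.node (.node (.leaf (nat_lit 860043020)) (.leaf
    (nat_lit 864437248))) (.leaf (nat_lit 1582881033))))) (.node (.node (.node (.node (.leaf
    (nat_lit 61897734)) (.leaf (nat_lit 2151354631))) (.leaf (nat_lit 1392700682))) (.node (.node
    (.leaf (nat_lit 400727302)) (.leaf (nat_lit 2091630848))) (.leaf (nat_lit 1354243080)))) (.node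
    (.node (.node (.leaf (nat_lit 397460225)) (.leaf (nat_lit 3065678085))) (.leaf (nat_lit
    1765004552))) (.node (.node (.leaf (nat_lit 1032986883)) (.leaf (nat_lit 248660736))) (.leaf
    (nat_lit 2486800652)))))) (.node (.node (.node (.node (.node (.leaf (nat_lit 67125771)) (.leaf
    (nat_lit 2870437633))) (.leaf (nat_lit 751098634))) (.node (.node (.leaf (nat_lit 615664651))
    (.leaf (nat_lit 280761856))) (.leaf (nat_lit 2053616395)))) (.node (.node (.node (.leaf
    (nat_lit 183578882)) (.leaf (nat_lit 3263965451))) (.leaf (nat_lit 947269125))) (.node (.node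
    (.leaf (nat_lit 935454468)) (.leaf (nat_lit 3127970058))) (.leaf (nat_lit 1540959749)))))
    (.node (.node (.node (.node (.leaf (nat_lit 190862856)) (.leaf (nat_lit 3071830276))) (.leaf
    (nat_lit 847610628))) (.node (.node (.leaf (nat_lit 782343689)) (.leaf (nat_lit 507039744)))
    (.leaf (nat_lit 2276800770)))) (.node (.node (.node (.leaf (nat_lit 467779332)) (.leaf (nat_lit
    396102400))) (.leaf (nat_lit 1866744329))) (.node (.node (.leaf (nat_lit 1132738820)) (.leaf
    (nat_lit 113271042))) (.leaf (nat_lit 2666955015))))))) (.node (.node (.node (.node (.node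
    (.node (.leaf (nat_lit 19932935)) (.leaf (nat_lit 2830578184))) (.leaf (nat_lit 1264758282)))
    (.node (.node (.leaf (nat_lit 285351429)) (.leaf (nat_lit 1000873984))) (.leaf (nat_lit
    1273463811)))) (.node (.node (.node (.leaf (nat_lit 288391177)) (.leaf (nat_lit 3221828355)))
    (.leaf (nat_lit 1001784837))) (.node (.node (.leaf (nat_lit 898749960)) (.leaf (nat_lit
    93430528))) (.leaf (nat_lit 1615398146))))) (.node (.node (.node (.node (.leaf (nat_lit
    76584711)) (.leaf (nat_lit 2206941190))) (.leaf (nat_lit 799365894))) (.node (.node (.leaf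
    (nat_lit 745640202)) (.leaf (nat_lit 2121896704))) (.leaf (nat_lit 1971865859)))) (.node (.node
    (.node (.leaf (nat_lit 431070212)) (.leaf (nat_lit 3212453634))) (.leaf (nat_lit 1817448452)))
    (.node (.node (.leaf (nat_lit 615778821)) (.leaf (nat_lit 305209863))) (.leaf (nat_lit
    2617885707)))))) (.node (.node (.node (.node (.node (.leaf (nat_lit 100675332)) (.leaf (nat_lit
    2034949126))) (.leaf (nat_lit 1351801607))) (.node (.node (.leaf (nat_lit 652374284)) (.leaf
    (nat_lit 867734016))) (.leaf (nat_lit 2048386569)))) (.node (.node (.node (.leaf (nat_lit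
    342971404)) (.leaf (nat_lit 2910556672))) (.leaf (nat_lit 1703305228))) (.node (.node (.leaf
    (nat_lit 980548355)) (.leaf (nat_lit 2887481088))) (.leaf (nat_lit 2520115463))))) (.node
    (.node (.node (.node (.leaf (nat_lit 105960454)) (.leaf (nat_lit 2544606216))) (.leaf (nat_lit
    893759236))) (.node (.node (.leaf (nat_lit 464720135)) (.leaf (nat_lit 416344073))) (.leaf
    (nat_lit 1440264709)))) (.node (.node (.node (.leaf (nat_lit 485613067)) (.leaf (nat_lit
    1288225280))) (.leaf (nat_lit 1872175875))) (.node (.leaf (nat_lit 813982212)) (.leaf (nat_lit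
    2722550793))))))))) (.node (.node (.node (.node (.node (.node (.node (.node (.leaf (nat_lit
    3147272)) (.leaf (nat_lit 1925860102))) (.leaf (nat_lit 693404680))) (.node (.node (.leaf
    (nat_lit 522319116)) (.leaf (nat_lit 838350592))) (.leaf (nat_lit 1950640130)))) (.node (.node
    (.node (.leaf (nat_lit 247493129)) (.leaf (nat_lit 3163098121))) (.leaf (nat_lit 1560496906)))
    (.node (.node (.leaf (nat_lit 851571720)) (.leaf (nat_lit 134772736))) (.leaf (nat_lit
    1487458565))))) (.node (.node (.node (.node (.leaf (nat_lit 122702595)) (.leaf (nat_lit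
    2957497096))) (.leaf (nat_lit 803546884))) (.node (.node (.leaf (nat_lit 684888074)) (.leaf
    (nat_lit 749189632))) (.leaf (nat_lit 2155351820)))) (.node (.node (.node (.leaf (nat_lit
    197227017)) (.leaf (nat_lit 2058881799))) (.leaf (nat_lit 1047954695))) (.node (.node (.leaf
    (nat_lit 1019352579)) (.leaf (nat_lit 198769920))) (.leaf (nat_lit 2532935179)))))) (.node
    (.node (.node (.node (.node (.leaf (nat_lit 31472645)) (.leaf (nat_lit 2855754247))) (.leaf
    (nat_lit 1276432396))) (.node (.node (.leaf (nat_lit 321012225)) (.leaf (nat_lit 969188608)))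
    (.leaf (nat_lit 2054471940)))) (.node (.node (.node (.leaf (nat_lit 313561864)) (.leaf (nat_lit
    2520522243))) (.leaf (nat_lit 942023688))) (.node (.node (.leaf (nat_lit 927064833)) (.leaf
    (nat_lit 161611520))) (.leaf (nat_lit 2440635403))))) (.node (.node (.node (.node (.leaf
    (nat_lit 182472967)) (.leaf (nat_lit 2727043847))) (.leaf (nat_lit 1472401412))) (.node (.node
    (.leaf (nat_lit 642966022)) (.leaf (nat_lit 125067008))) (.leaf (nat_lit 2258136075)))) (.node
    (.node (.node (.leaf (nat_lit 461428226)) (.leaf (nat_lit 697033472))) (.leaf (nat_lit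
    1131866118))) (.node (.node (.leaf (nat_lit 636759301)) (.leaf (nat_lit 108655360))) (.leaf
    (nat_lit 2436490249))))))) (.node (.node (.node (.node (.node (.node (.leaf (nat_lit 17834504))
    (.leaf (nat_lit 2764733445))) (.leaf (nat_lit 1256383489))) (.node (.node (.leaf (nat_lit
    290592264)) (.leaf (nat_lit 1718092288))) (.leaf (nat_lit 2004157449)))) (.node (.node (.node
    (.leaf (nat_lit 276891916)) (.leaf (nat_lit 3211523852))) (.leaf (nat_lit 1532361734))) (.node
    (.node (.leaf (nat_lit 564350471)) (.leaf (nat_lit 1320749312))) (.leaf (nat_lit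
    2409996036))))) (.node (.node (.node (.node (.leaf (nat_lit 76582916)) (.leaf (nat_lit
    3005827848))) (.leaf (nat_lit 1427306243))) (.node (.node (.leaf (nat_lit 726842379)) (.leaf
    (nat_lit 480584448))) (.leaf (nat_lit 2210728962)))) (.node (.node (.node (.leaf (nat_lit
    415339525)) (.leaf (nat_lit 2556176128))) (.leaf (nat_lit 1803813121))) (.node (.node (.leaf
    (nat_lit 1070741507)) (.leaf (nat_lit 130062336))) (.leaf (nat_lit 2606115330)))))) (.node
    (.node (.node (.node (.node (.leaf (nat_lit 93334530)) (.leaf (nat_lit 2901902343))) (.leaf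
    (nat_lit 938802438))) (.node (.node (.leaf (nat_lit 346187526)) (.leaf (nat_lit 952666368)))
    (.leaf (nat_lit 2097666060)))) (.node (.node (.node (.leaf (nat_lit 237063178)) (.leaf (nat_lit
    3301545992))) (.leaf (nat_lit 1696832771))) (.node (.node (.leaf (nat_lit 537106947)) (.leaf
    (nat_lit 746262016))) (.leaf (nat_lit 2503562249))))) (.node (.node (.node (.node (.leaf
    (nat_lit 209766918)) (.leaf (nat_lit 2983956482))) (.leaf (nat_lit 1514353671))) (.node (.node
    (.leaf (nat_lit 813893900)) (.leaf (nat_lit 2404060416))) (.leaf (nat_lit 2321895432)))) (.node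
    (.node (.node (.leaf (nat_lit 492889097)) (.leaf (nat_lit 940137216))) (.leaf (nat_lit
    1172773381))) (.node (.node (.leaf (nat_lit 651449350)) (.leaf (nat_lit 102784515))) (.leaf
    (nat_lit 1833572104)))))))) (.node (.node (.node (.node (.node (.node (.node (.leaf (nat_lit
    19925250)) (.leaf (nat_lit 2773115655))) (.leaf (nat_lit 759470340))) (.node (.node (.leaf
    (nat_lit 541131268)) (.leaf (nat_lit 569720576))) (.leaf (nat_lit 1979146251)))) (.node (.node
    (.node (.leaf (nat_lit 136379141)) (.leaf (nat_lit 3183206916))) (.leaf (nat_lit 896918789)))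
    (.node (.node (.leaf (nat_lit 872533769)) (.leaf (nat_lit 1751889408))) (.leaf (nat_lit
    2384826883))))) (.node (.node (.node (.node (.leaf (nat_lit 137397509)) (.leaf (nat_lit
    2981631748))) (.leaf (nat_lit 1274362371))) (.node (.node (.leaf (nat_lit 715239176)) (.leaf
    (nat_lit 251375104))) (.leaf (nat_lit 2186609416)))) (.node (.node (.node (.leaf (nat_lit
    401704204)) (.leaf (nat_lit 1069137152))) (.leaf (nat_lit 1043766537))) (.node (.node (.leaf
    (nat_lit 1041490956)) (.leaf (nat_lit 102871808))) (.leaf (nat_lit 2571738124)))))) (.node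
    (.node (.node (.node (.node (.leaf (nat_lit 77613836)) (.leaf (nat_lit 2878828290))) (.leaf
    (nat_lit 750052871))) (.node (.node (.leaf (nat_lit 331503114)) (.leaf (nat_lit 1260965888)))
    (.leaf (nat_lit 2079640330)))) (.node (.node (.node (.leaf (nat_lit 328285196)) (.leaf (nat_lit
    3279516426))) (.leaf (nat_lit 1665546251))) (.node (.node (.leaf (nat_lit 945940996)) (.leaf
    (nat_lit 94614016))) (.leaf (nat_lit 1552497157))))) (.node (.node (.node (.node (.leaf
    (nat_lit 96517126)) (.leaf (nat_lit 2348514824))) (.leaf (nat_lit 1480953100))) (.node (.node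
    (.leaf (nat_lit 790819595)) (.leaf (nat_lit 261603840))) (.leaf (nat_lit 2294628616)))) (.node
    (.node (.node (.leaf (nat_lit 245483015)) (.leaf (nat_lit 1235883264))) (.leaf (nat_lit
    1189543690))) (.node (.node (.leaf (nat_lit 1145202185)) (.leaf (nat_lit 187741191))) (.leaf
    (nat_lit 2681659395))))))) (.node (.node (.node (.node (.node (.node (.leaf (nat_lit 26226182))
    (.leaf (nat_lit 2844212994))) (.leaf (nat_lit 738508035))) (.node (.node (.leaf (nat_lit
    539109635)) (.leaf (nat_lit 1235665671))) (.leaf (nat_lit 1275564550)))) (.node (.node (.node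
    (.leaf (nat_lit 183572742)) (.leaf (nat_lit 2479622661))) (.leaf (nat_lit 1582698508))) (.node
    (.node (.leaf (nat_lit 891511564)) (.leaf (nat_lit 2969272576))) (.leaf (nat_lit
    2429095435))))) (.node (.node (.node (.node (.leaf (nat_lit 165715723)) (.leaf (nat_lit
    2223721478))) (.leaf (nat_lit 1361405699))) (.node (.node (.leaf (nat_lit 451071745)) (.leaf
    (nat_lit 1508374784))) (.leaf (nat_lit 2239245831)))) (.node (.node (.node (.leaf (nat_lit
    259106569)) (.leaf (nat_lit 3198818057))) (.leaf (nat_lit 1828985603))) (.node (.node (.leaf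
    (nat_lit 630461700)) (.leaf (nat_lit 305204738))) (.leaf (nat_lit 2635486722)))))) (.node
    (.node (.node (.node (.node (.leaf (nat_lit 53504006)) (.leaf (nat_lit 2929173770))) (.leaf
    (nat_lit 1359286795))) (.node (.node (.leaf (nat_lit 662862348)) (.leaf (nat_lit 1568132608)))
    (.leaf (nat_lit 2136271620)))) (.node (.node (.node (.leaf (nat_lit 367045385)) (.leaf (nat_lit
    1900517376))) (.leaf (nat_lit 1723231234))) (.node (.node (.leaf (nat_lit 859025924)) (.leaf
    (nat_lit 91544320))) (.leaf (nat_lit 1602842374))))) (.node (.node (.node (.node (.leaf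
    (nat_lit 206625803)) (.leaf (nat_lit 2545658120))) (.leaf (nat_lit 907393540))) (.node (.node
    (.leaf (nat_lit 802363915)) (.leaf (nat_lit 1506161152))) (.leaf (nat_lit 2014887429)))) (.node
    (.node (.node (.leaf (nat_lit 490857739)) (.leaf (nat_lit 1977227008))) (.leaf (nat_lit
    1926704908))) (.node (.leaf (nat_lit 1148480779)) (.leaf (nat_lit 1855598854)))))))))) (.node
    (.node (.node (.node (.node (.node (.node (.node (.node (.leaf (nat_lit 2097922)) (.leaf
    (nat_lit 2227848193))) (.leaf (nat_lit 1203929865))) (.node (.node (.leaf (nat_lit 262270984))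
    (.leaf (nat_lit 466355200))) (.leaf (nat_lit 1944534795)))) (.node (.node (.node (.leaf
    (nat_lit 120645896)) (.leaf (nat_lit 2489041158))) (.leaf (nat_lit 1554204930))) (.node (.node
    (.leaf (nat_lit 548612358)) (.leaf (nat_lit 957860864))) (.leaf (nat_lit 2362803458))))) (.node
    (.node (.node (.node (.leaf (nat_lit 100692481)) (.leaf (nat_lit 2095775240))) (.leaf (nat_lit
    783622664))) (.node (.node (.leaf (nat_lit 381848840)) (.leaf (nat_lit 567786752))) (.leaf
    (nat_lit 2154301186)))) (.node (.node (.node (.leaf (nat_lit 189885193)) (.leaf (nat_lit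
    1289161216))) (.leaf (nat_lit 1040613384))) (.node (.node (.leaf (nat_lit 1007928587)) (.leaf
    (nat_lit 310628864))) (.leaf (nat_lit 2551576586)))))) (.node (.node (.node (.node (.node
    (.leaf (nat_lit 28325638)) (.leaf (nat_lit 2604258055))) (.leaf (nat_lit 1287828745))) (.node
    (.node (.leaf (nat_lit 600909831)) (.leaf (nat_lit 293010944))) (.leaf (nat_lit 2048179970))))
    (.node (.node (.node (.leaf (nat_lit 308353801)) (.leaf (nat_lit 3248048642))) (.leaf (nat_lit
    1642298122))) (.node (.node (.leaf (nat_lit 879980555)) (.leaf (nat_lit 57785600))) (.leaf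
    (nat_lit 1599676167))))) (.node (.node (.node (.node (.leaf (nat_lit 173058052)) (.leaf
    (nat_lit 2241551624))) (.leaf (nat_lit 1462073099))) (.node (.node (.leaf (nat_lit 445832713))
    (.leaf (nat_lit 287799552))) (.leaf (nat_lit 2255826439)))) (.node (.node (.node (.leaf
    (nat_lit 414299148)) (.leaf (nat_lit 772349952))) (.leaf (nat_lit 1848914697))) (.node (.node
    (.leaf (nat_lit 632563463)) (.leaf (nat_lit 282136074))) (.leaf (nat_lit 2427052042)))))))
    (.node (.node (.node (.node (.node (.node (.leaf (nat_lit 30415882)) (.leaf (nat_lit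
    2809602567))) (.leaf (nat_lit 1253222914))) (.node (.node (.leaf (nat_lit 555813130)) (.leaf
    (nat_lit 1268219648))) (.leaf (nat_lit 1253536266)))) (.node (.node (.node (.leaf (nat_lit
    263259397)) (.leaf (nat_lit 2565600008))) (.leaf (nat_lit 1600346121))) (.node (.node (.leaf
    (nat_lit 883111170)) (.leaf (nat_lit 416394752))) (.leaf (nat_lit 1590227466))))) (.node (.node
    (.node (.node (.leaf (nat_lit 146836740)) (.leaf (nat_lit 2192256006))) (.leaf (nat_lit
    1419965700))) (.node (.node (.leaf (nat_lit 457357576)) (.leaf (nat_lit 524628224))) (.leaf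
    (nat_lit 2201499142)))) (.node (.node (.node (.leaf (nat_lit 398561283)) (.leaf (nat_lit
    3277460995))) (.leaf (nat_lit 1796470018))) (.node (.node (.leaf (nat_lit 1063399946)) (.leaf
    (nat_lit 310523136))) (.leaf (nat_lit 2600871937)))))) (.node (.node (.node (.node (.node
    (.leaf (nat_lit 74470661)) (.leaf (nat_lit 2896657668))) (.leaf (nat_lit 1330968075))) (.node
    (.node (.leaf (nat_lit 640801802)) (.leaf (nat_lit 408598016))) (.leaf (nat_lit 2097470465))))
    (.node (.node (.node (.leaf (nat_lit 166807046)) (.leaf (nat_lit 3167503877))) (.leaf (nat_lit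
    1091980035))) (.node (.node (.leaf (nat_lit 536056579)) (.leaf (nat_lit 301645312))) (.leaf
    (nat_lit 2499140616))))) (.node (.node (.node (.node (.leaf (nat_lit 165725700)) (.leaf
    (nat_lit 2678818823))) (.leaf (nat_lit 860200198))) (.node (.node (.leaf (nat_lit 804455173))
    (.leaf (nat_lit 168217856))) (.leaf (nat_lit 2312674827)))) (.node (.node (.node (.leaf
    (nat_lit 250728710)) (.leaf (nat_lit 514596352))) (.leaf (nat_lit 1897337605))) (.node (.node
    (.leaf (nat_lit 837046023)) (.leaf (nat_lit 295771396))) (.leaf (nat_lit 2702620680))))))))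
    (.node (.node (.node (.node (.node (.node (.node (.leaf (nat_lit 10489611)) (.leaf (nat_lit
    2782331137))) (.leaf (nat_lit 1231199747))) (.node (.node (.leaf (nat_lit 278003714)) (.leaf
    (nat_lit 417509376))) (.leaf (nat_lit 1972669441)))) (.node (.node (.node (.leaf (nat_lit
    260077319)) (.leaf (nat_lit 3186169866))) (.leaf (nat_lit 1578324490))) (.node (.node (.leaf
    (nat_lit 867382791)) (.leaf (nat_lit 284715008))) (.leaf (nat_lit 1623776518))))) (.node (.node
    (.node (.node (.leaf (nat_lit 135299586)) (.leaf (nat_lit 2732267013))) (.leaf (nat_lit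
    1398992642))) (.node (.node (.leaf (nat_lit 709983753)) (.leaf (nat_lit 437565440))) (.leaf
    (nat_lit 2182414855)))) (.node (.node (.node (.leaf (nat_lit 207716615)) (.leaf (nat_lit
    2894743811))) (.leaf (nat_lit 1771297540))) (.node (.node (.leaf (nat_lit 1038230020)) (.leaf
    (nat_lit 135300105))) (.leaf (nat_lit 1640601095)))))) (.node (.node (.node (.node (.node
    (.leaf (nat_lit 74457603)) (.leaf (nat_lit 2871643395))) (.leaf (nat_lit 1309852682))) (.node
    (.node (.leaf (nat_lit 326258954)) (.leaf (nat_lit 548088320))) (.leaf (nat_lit 1444395267))))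
    (.node (.node (.node (.leaf (nat_lit 158414342)) (.leaf (nat_lit 3263966988))) (.leaf (nat_lit
    1021719044))) (.node (.node (.leaf (nat_lit 940802571)) (.leaf (nat_lit 301673216))) (.leaf
    (nat_lit 2470822408))))) (.node (.node (.node (.node (.leaf (nat_lit 178305027)) (.leaf
    (nat_lit 3080221444))) (.leaf (nat_lit 1484988938))) (.node (.node (.leaf (nat_lit 738389252))
    (.leaf (nat_lit 118185984))) (.leaf (nat_lit 2284141832)))) (.node (.node (.node (.leaf
    (nat_lit 471924739)) (.leaf (nat_lit 501557504))) (.leaf (nat_lit 1871987714))) (.node (.node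
    (.leaf (nat_lit 1138910211)) (.leaf (nat_lit 100693513))) (.leaf (nat_lit 2675347202)))))))
    (.node (.node (.node (.node (.node (.node (.leaf (nat_lit 36710921)) (.leaf (nat_lit
    2836041996))) (.leaf (nat_lit 732215562))) (.node (.node (.leaf (nat_lit 573711372)) (.leaf
    (nat_lit 1405739264))) (.leaf (nat_lit 1288145924)))) (.node (.node (.node (.leaf (nat_lit
    291575556)) (.leaf (nat_lit 3177973000))) (.leaf (nat_lit 925240330))) (.node (.node (.leaf
    (nat_lit 844324613)) (.leaf (nat_lit 171001344))) (.leaf (nat_lit 1594427905))))) (.node (.node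
    (.node (.node (.leaf (nat_lit 163596546)) (.leaf (nat_lit 3002811659))) (.leaf (nat_lit
    1445133322))) (.node (.node (.leaf (nat_lit 461556743)) (.leaf (nat_lit 412658944))) (.leaf
    (nat_lit 2231705351)))) (.node (.node (.node (.leaf (nat_lit 437363211)) (.leaf (nat_lit
    3052146944))) (.leaf (nat_lit 1822870028))) (.node (.node (.leaf (nat_lit 1088688395)) (.leaf
    (nat_lit 144968960))) (.leaf (nat_lit 2629193481)))))) (.node (.node (.node (.node (.node
    (.leaf (nat_lit 102786316)) (.leaf (nat_lit 2922879236))) (.leaf (nat_lit 1355996425))) (.node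
    (.node (.leaf (nat_lit 660687879)) (.leaf (nat_lit 859305984))) (.leaf (nat_lit 2121788939))))
    (.node (.node (.node (.leaf (nat_lit 176249352)) (.leaf (nat_lit 2989191688))) (.leaf (nat_lit
    1718858242))) (.node (.node (.leaf (nat_lit 983805196)) (.leaf (nat_lit 298987264))) (.leaf
    (nat_lit 2513004555))))) (.node (.node (.node (.node (.leaf (nat_lit 219207692)) (.leaf
    (nat_lit 2329649927))) (.leaf (nat_lit 1528149259))) (.node (.node (.leaf (nat_lit 827436547))
    (.leaf (nat_lit 480808704))) (.leaf (nat_lit 2340772867)))) (.node (.node (.node (.leaf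
    (nat_lit 488759563)) (.leaf (nat_lit 719704576))) (.leaf (nat_lit 1922324996))) (.node (.leaf
    (nat_lit 1167353612)) (.leaf (nat_lit 1850354440))))))))) (.node (.node (.node (.node (.node
    (.node (.node (.node (.leaf (nat_lit 9439500)) (.leaf (nat_lit 2769746179))) (.leaf (nat_lit
    1220712714))) (.node (.node (.leaf (nat_lit 444725762)) (.leaf (nat_lit 257695488))) (.leaf
    (nat_lit 1956052737)))) (.node (.node (.node (.leaf (nat_lit 241233676)) (.leaf (nat_lit
    3170439176))) (.leaf (nat_lit 1566789385))) (.node (.node (.leaf (nat_lit 489893890)) (.leaf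
    (nat_lit 1751733760))) (.leaf (nat_lit 2370360580))))) (.node (.node (.node (.node (.leaf
    (nat_lit 126892289)) (.leaf (nat_lit 2114652422))) (.leaf (nat_lit 808790531))) (.node (.node
    (.leaf (nat_lit 407017479)) (.leaf (nat_lit 1453974272))) (.leaf (nat_lit 1652036867)))) (.node
    (.node (.node (.leaf (nat_lit 393265409)) (.leaf (nat_lit 2906287362))) (.leaf (nat_lit
    1026985222))) (.node (.node (.leaf (nat_lit 1026694407)) (.leaf (nat_lit 195461888))) (.leaf
    (nat_lit 2564162049)))))) (.node (.node (.node (.node (.node (.leaf (nat_lit 66071304)) (.leaf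
    (nat_lit 2864144391))) (.leaf (nat_lit 757388545))) (.node (.node (.leaf (nat_lit 611397895))
    (.leaf (nat_lit 537222656))) (.leaf (nat_lit 2062861315)))) (.node (.node (.node (.leaf
    (nat_lit 313601547)) (.leaf (nat_lit 2523669257))) (.leaf (nat_lit 1137060099))) (.node (.node
    (.leaf (nat_lit 561215495)) (.leaf (nat_lit 150078464))) (.leaf (nat_lit 2449025291))))) (.node
    (.node (.node (.node (.leaf (nat_lit 184594700)) (.leaf (nat_lit 3019598344))) (.leaf (nat_lit
    842366724))) (.node (.node (.leaf (nat_lit 765650436)) (.leaf (nat_lit 281133824))) (.leaf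
    (nat_lit 1433957121)))) (.node (.node (.node (.leaf (nat_lit 448903948)) (.leaf (nat_lit
    1152119296))) (.leaf (nat_lit 1860450314))) (.node (.node (.leaf (nat_lit 648295170)) (.leaf
    (nat_lit 161509384))) (.leaf (nat_lit 2660661252))))))) (.node (.node (.node (.node (.node
    (.node (.leaf (nat_lit 33563659)) (.leaf (nat_lit 2823236616))) (.leaf (nat_lit 728019459)))
    (.node (.node (.leaf (nat_lit 563217922)) (.leaf (nat_lit 451007241))) (.leaf (nat_lit
    2006416907)))) (.node (.node (.node (.leaf (nat_lit 134286597)) (.leaf (nat_lit 3217632002)))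
    (.leaf (nat_lit 1594228747))) (.node (.node (.leaf (nat_lit 838029827)) (.leaf (nat_lit
    859210496))) (.leaf (nat_lit 2416288516))))) (.node (.node (.node (.node (.leaf (nat_lit
    154158089)) (.leaf (nat_lit 2996517387))) (.leaf (nat_lit 1414878731))) (.node (.node (.leaf
    (nat_lit 421708038)) (.leaf (nat_lit 719501572))) (.leaf (nat_lit 2214084875)))) (.node (.node
    (.node (.leaf (nat_lit 273782537)) (.leaf (nat_lit 3194744323))) (.leaf (nat_lit 1811154945)))
    (.node (.node (.leaf (nat_lit 1078083082)) (.leaf (nat_lit 278167296))) (.leaf (nat_lit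
    2610543365)))))) (.node (.node (.node (.node (.node (.leaf (nat_lit 97529351)) (.leaf (nat_lit
    2113590787))) (.leaf (nat_lit 792003075))) (.node (.node (.leaf (nat_lit 645032454)) (.leaf
    (nat_lit 441781248))) (.leaf (nat_lit 2108153858)))) (.node (.node (.node (.leaf (nat_lit
    212946948)) (.leaf (nat_lit 2573841920))) (.leaf (nat_lit 1703124993))) (.node (.node (.leaf
    (nat_lit 973207561)) (.leaf (nat_lit 304581376))) (.leaf (nat_lit 2511725832))))) (.node (.node
    (.node (.node (.leaf (nat_lit 216059660)) (.leaf (nat_lit 2995492354))) (.leaf (nat_lit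
    1509272332))) (.node (.node (.leaf (nat_lit 764611851)) (.leaf (nat_lit 437749760))) (.leaf
    (nat_lit 2263395075)))) (.node (.node (.node (.leaf (nat_lit 243391242)) (.leaf (nat_lit
    849702912))) (.leaf (nat_lit 1911838218))) (.node (.node (.leaf (nat_lit 652499206)) (.leaf
    (nat_lit 106989315))) (.leaf (nat_lit 2715426306)))))))) (.node (.node (.node (.node (.node
    (.node (.node (.leaf (nat_lit 22025739)) (.leaf (nat_lit 2795969032))) (.leaf (nat_lit
    1242735369))) (.node (.node (.leaf (nat_lit 545392908)) (.leaf (nat_lit 891646976))) (.leaf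
    (nat_lit 1254581770)))) (.node (.node (.node (.leaf (nat_lit 224460291)) (.leaf (nat_lit
    3194742539))) (.leaf (nat_lit 1533405444))) (.node (.node (.leaf (nat_lit 876728329)) (.leaf
    (nat_lit 966259712))) (.leaf (nat_lit 2390288386))))) (.node (.node (.node (.node (.leaf
    (nat_lit 141584387)) (.leaf (nat_lit 2180718597))) (.leaf (nat_lit 808796168))) (.node (.node
    (.leaf (nat_lit 433237506)) (.leaf (nat_lit 480459008))) (.leaf (nat_lit 2192901385)))) (.node
    (.node (.node (.leaf (nat_lit 412191244)) (.leaf (nat_lit 1069955594))) (.leaf (nat_lit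
    1055302151))) (.node (.node (.leaf (nat_lit 953411589)) (.leaf (nat_lit 103860480))) (.leaf
    (nat_lit 1847173382)))))) (.node (.node (.node (.node (.node (.leaf (nat_lit 81809156)) (.leaf
    (nat_lit 2017115655))) (.leaf (nat_lit 1321388041))) (.node (.node (.leaf (nat_lit 634469121))
    (.leaf (nat_lit 1324998656))) (.leaf (nat_lit 2084883972)))) (.node (.node (.node (.leaf
    (nat_lit 309411843)) (.leaf (nat_lit 3245095941))) (.leaf (nat_lit 1675858178))) (.node (.node
    (.leaf (nat_lit 951184650)) (.leaf (nat_lit 369265152))) (.leaf (nat_lit 2483628040))))) (.node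
    (.node (.node (.node (.leaf (nat_lit 202398729)) (.leaf (nat_lit 3091759369))) (.leaf (nat_lit
    1495492618))) (.node (.node (.leaf (nat_lit 441645575)) (.leaf (nat_lit 539727360))) (.leaf
    (nat_lit 2179502597)))) (.node (.node (.node (.leaf (nat_lit 480305160)) (.leaf (nat_lit
    204055296))) (.leaf (nat_lit 1154942214))) (.node (.node (.leaf (nat_lit 655640579)) (.leaf
    (nat_lit 73431816))) (.leaf (nat_lit 1779040776))))))) (.node (.node (.node (.node (.node
    (.node (.leaf (nat_lit 32518403)) (.leaf (nat_lit 2849460234))) (.leaf (nat_lit 1278390792)))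
    (.node (.node (.leaf (nat_lit 305278472)) (.leaf (nat_lit 457981696))) (.leaf (nat_lit
    1280808709)))) (.node (.node (.node (.leaf (nat_lit 299966210)) (.leaf (nat_lit 3237559556)))
    (.leaf (nat_lit 1560679682))) (.node (.node (.leaf (nat_lit 913533195)) (.leaf (nat_lit
    56731648))) (.leaf (nat_lit 2433291019))))) (.node (.node (.node (.node (.leaf (nat_lit
    170937347)) (.leaf (nat_lit 2238403075))) (.leaf (nat_lit 1455755011))) (.node (.node (.leaf
    (nat_lit 759354636)) (.leaf (nat_lit 1517807872))) (.leaf (nat_lit 2231917579)))) (.node (.node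
    (.node (.leaf (nat_lit 356625158)) (.leaf (nat_lit 2219568896))) (.leaf (nat_lit 1837374728)))
    (.node (.node (.leaf (nat_lit 629414920)) (.leaf (nat_lit 286329866))) (.leaf (nat_lit
    2640730628)))))) (.node (.node (.node (.node (.node (.leaf (nat_lit 112225284)) (.leaf (nat_lit
    2936515336))) (.leaf (nat_lit 1141184518))) (.node (.node (.leaf (nat_lit 502431242)) (.leaf
    (nat_lit 284361728))) (.leaf (nat_lit 2142563842)))) (.node (.node (.node (.leaf (nat_lit
    303129089)) (.leaf (nat_lit 1292532992))) (.leaf (nat_lit 1729524226))) (.node (.node (.leaf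
    (nat_lit 557037577)) (.leaf (nat_lit 199440384))) (.leaf (nat_lit 2472113158))))) (.node (.node
    (.node (.node (.leaf (nat_lit 140566282)) (.leaf (nat_lit 3136865288))) (.leaf (nat_lit
    1529200396))) (.node (.node (.leaf (nat_lit 502472455)) (.leaf (nat_lit 417443072))) (.leaf
    (nat_lit 2352316162)))) (.node (.node (.node (.leaf (nat_lit 356641029)) (.leaf (nat_lit
    444001280))) (.leaf (nat_lit 1185362952))) (.node (.leaf (nat_lit 1193440771)) (.leaf (nat_lit
    2744666881))))))))))) (.node (.node (.node (.node (.node (.node (.node (.node (.node (.node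
    (.leaf (nat_lit 1048835)) (.leaf (nat_lit 2752986625))) (.leaf (nat_lit 1199864066))) (.node
    (.node (.leaf (nat_lit 261221894)) (.leaf (nat_lit 733261312))) (.leaf (nat_lit 1185365254))))
    (.node (.node (.node (.leaf (nat_lit 237037067)) (.leaf (nat_lit 3149643014))) (.leaf (nat_lit
    1548961793))) (.node (.node (.leaf (nat_lit 845267972)) (.leaf (nat_lit 1510672128))) (.leaf
    (nat_lit 1567148548))))) (.node (.node (.node (.node (.leaf (nat_lit 92303623)) (.leaf (nat_lit
    2949103361))) (.leaf (nat_lit 792010244))) (.node (.node (.leaf (nat_lit 681665288)) (.leaf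
    (nat_lit 868452608))) (.leaf (nat_lit 1701315588)))) (.node (.node (.node (.leaf (nat_lit
    376514051)) (.leaf (nat_lit 2159734784))) (.leaf (nat_lit 1044806663))) (.node (.node (.leaf
    (nat_lit 1007816194)) (.leaf (nat_lit 357658112))) (.leaf (nat_lit 2543418892)))))) (.node
    (.node (.node (.node (.node (.leaf (nat_lit 55586314)) (.leaf (nat_lit 2646223880))) (.leaf
    (nat_lit 728025350))) (.node (.node (.leaf (nat_lit 596713476)) (.leaf (nat_lit 233261312)))
    (.leaf (nat_lit 1277664769)))) (.node (.node (.node (.leaf (nat_lit 306257673)) (.leaf (nat_lit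
    2513179905))) (.leaf (nat_lit 1637227276))) (.node (.node (.leaf (nat_lit 891514375)) (.leaf
    (nat_lit 124812804))) (.leaf (nat_lit 2443778828))))) (.node (.node (.node (.node (.leaf
    (nat_lit 173057798)) (.leaf (nat_lit 2727041542))) (.leaf (nat_lit 1464169732))) (.node (.node
    (.leaf (nat_lit 767734785)) (.leaf (nat_lit 117507328))) (.leaf (nat_lit 2021155842)))) (.node
    (.node (.node (.leaf (nat_lit 435270155)) (.leaf (nat_lit 2631655424))) (.leaf (nat_lit
    1845766920))) (.node (.node (.leaf (nat_lit 635708422)) (.leaf (nat_lit 2672846084))) (.leaf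
    (nat_lit 1721359878))))))) (.node (.node (.node (.node (.node (.node (.leaf (nat_lit 29363457))
    (.leaf (nat_lit 1945793544))) (.leaf (nat_lit 1164224519))) (.node (.node (.leaf (nat_lit
    286396422)) (.leaf (nat_lit 1283843072))) (.leaf (nat_lit 1252486921)))) (.node (.node (.node
    (.leaf (nat_lit 272661505)) (.leaf (nat_lit 3207144451))) (.leaf (nat_lit 1594224900))) (.node
    (.node (.leaf (nat_lit 881019147)) (.leaf (nat_lit 132372224))) (.leaf (nat_lit 1607003658)))))
    (.node (.node (.node (.node (.leaf (nat_lit 145773057)) (.leaf (nat_lit 2195400966))) (.leaf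
    (nat_lit 1370834434))) (.node (.node (.leaf (nat_lit 416462602)) (.leaf (nat_lit 286455040)))
    (.leaf (nat_lit 2187867147)))) (.node (.node (.node (.leaf (nat_lit 410095366)) (.leaf (nat_lit
    1806307840))) (.leaf (nat_lit 1794372617))) (.node (.node (.leaf (nat_lit 628355847)) (.leaf
    (nat_lit 302681600))) (.leaf (nat_lit 2597725703)))))) (.node (.node (.node (.node (.node
    (.leaf (nat_lit 82858764)) (.leaf (nat_lit 2015021063))) (.leaf (nat_lit 1290072842))) (.node
    (.node (.leaf (nat_lit 640763394)) (.leaf (nat_lit 503494400))) (.leaf (nat_lit 2094498058))))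
    (.node (.node (.node (.leaf (nat_lit 266421507)) (.leaf (nat_lit 3227272198))) (.leaf (nat_lit
    1683375627))) (.node (.node (.leaf (nat_lit 522424585)) (.leaf (nat_lit 193173760))) (.leaf
    (nat_lit 2495994627))))) (.node (.node (.node (.node (.leaf (nat_lit 203474188)) (.leaf
    (nat_lit 2851818496))) (.leaf (nat_lit 1504915722))) (.node (.node (.leaf (nat_lit 726860038))
    (.leaf (nat_lit 550189568))) (.leaf (nat_lit 1428724485)))) (.node (.node (.node (.leaf
    (nat_lit 485548551)) (.leaf (nat_lit 475551488))) (.leaf (nat_lit 1897156362))) (.node (.node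
    (.leaf (nat_lit 1155688714)) (.leaf (nat_lit 107226368))) (.leaf (nat_lit 1808403720))))))))
    (.node (.node (.node (.node (.node (.node (.node (.leaf (nat_lit 10489345)) (.leaf (nat_lit
    1953127170))) (.leaf (nat_lit 788828935))) (.node (.node (.leaf (nat_lit 535887879)) (.leaf
    (nat_lit 242532864))) (.leaf (nat_lit 1965511686)))) (.node (.node (.node (.leaf (nat_lit
    166786309)) (.leaf (nat_lit 2446055941))) (.leaf (nat_lit 1575178503))) (.node (.node (.leaf
    (nat_lit 866241288)) (.leaf (nat_lit 863503104))) (.leaf (nat_lit 2372459275))))) (.node (.node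
    (.node (.node (.leaf (nat_lit 134232584)) (.leaf (nat_lit 2147161096))) (.leaf (nat_lit
    795161346))) (.node (.node (.leaf (nat_lit 705789188)) (.leaf (nat_lit 503895040))) (.leaf
    (nat_lit 2180317448)))) (.node (.node (.node (.leaf (nat_lit 399605260)) (.leaf (nat_lit
    2897893121))) (.leaf (nat_lit 1738970625))) (.node (.node (.leaf (nat_lit 1036132616)) (.leaf
    (nat_lit 117517056))) (.leaf (nat_lit 1726583556)))))) (.node (.node (.node (.node (.node
    (.leaf (nat_lit 68174603)) (.leaf (nat_lit 2870595587))) (.leaf (nat_lit 1302650371))) (.node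
    (.node (.leaf (nat_lit 328355590)) (.leaf (nat_lit 499667200))) (.leaf (nat_lit 2070201860))))
    (.node (.node (.node (.leaf (nat_lit 320942859)) (.leaf (nat_lit 3269029378))) (.leaf (nat_lit
    1128673286))) (.node (.node (.leaf (nat_lit 934510348)) (.leaf (nat_lit 320307456))) (.leaf
    (nat_lit 2455318540))))) (.node (.node (.node (.node (.leaf (nat_lit 187741963)) (.leaf
    (nat_lit 3076026113))) (.leaf (nat_lit 853902601))) (.node (.node (.leaf (nat_lit 442690307))
    (.leaf (nat_lit 116457728))) (.leaf (nat_lit 1452834311)))) (.node (.node (.node (.leaf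
    (nat_lit 469876996)) (.leaf (nat_lit 1697011456))) (.leaf (nat_lit 1166472708))) (.node (.node
    (.leaf (nat_lit 1136812807)) (.leaf (nat_lit 1805667081))) (.leaf (nat_lit 2612654337)))))))
    (.node (.node (.node (.node (.node (.node (.leaf (nat_lit 42996483)) (.leaf (nat_lit
    2833724419))) (.leaf (nat_lit 1262794508))) (.node (.node (.leaf (nat_lit 541204486)) (.leaf
    (nat_lit 1019545344))) (.leaf (nat_lit 2023011842)))) (.node (.node (.node (.leaf (nat_lit
    280040716)) (.leaf (nat_lit 3224095752))) (.leaf (nat_lit 1621319938))) (.node (.node (.leaf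
    (nat_lit 902944520)) (.leaf (nat_lit 164712448))) (.leaf (nat_lit 2409170956))))) (.node (.node
    (.node (.node (.leaf (nat_lit 155228428)) (.leaf (nat_lit 3023583233))) (.leaf (nat_lit
    1427463691))) (.node (.node (.leaf (nat_lit 748786185)) (.leaf (nat_lit 218725376))) (.leaf
    (nat_lit 1369984006)))) (.node (.node (.node (.leaf (nat_lit 430022150)) (.leaf (nat_lit
    2241610752))) (.leaf (nat_lit 1820594951))) (.node (.node (.leaf (nat_lit 615779847)) (.leaf
    (nat_lit 128081408))) (.leaf (nat_lit 1687799557)))))) (.node (.node (.node (.node (.node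
    (.leaf (nat_lit 99640076)) (.leaf (nat_lit 2039144454))) (.leaf (nat_lit 803539715))) (.node
    (.node (.leaf (nat_lit 645034763)) (.leaf (nat_lit 283444736))) (.leaf (nat_lit 2124735751))))
    (.node (.node (.node (.leaf (nat_lit 175200008)) (.leaf (nat_lit 2332744202))) (.leaf (nat_lit
    1213621000))) (.node (.node (.leaf (nat_lit 538159625)) (.leaf (nat_lit 1020918528))) (.leaf
    (nat_lit 2523261444))))) (.node (.node (.node (.node (.leaf (nat_lit 222352902)) (.leaf
    (nat_lit 3120079363))) (.leaf (nat_lit 1529036802))) (.node (.node (.leaf (nat_lit 452137734))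
    (.leaf (nat_lit 506698240))) (.leaf (nat_lit 2337626116)))) (.node (.node (.node (.leaf
    (nat_lit 500293637)) (.leaf (nat_lit 916783616))) (.leaf (nat_lit 1918313986))) (.node (.leaf
    (nat_lit 1133798661)) (.leaf (nat_lit 2711234307))))))))) (.node (.node (.node (.node (.node
    (.node (.node (.node (.leaf (nat_lit 8389636)) (.leaf (nat_lit 1893354756))) (.leaf (nat_lit
    1216518153))) (.node (.node (.leaf (nat_lit 398587653)) (.leaf (nat_lit 101999104))) (.leaf
    (nat_lit 1953786371)))) (.node (.node (.node (.leaf (nat_lit 235990275)) (.leaf (nat_lit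
    3166244355))) (.leaf (nat_lit 1549128460))) (.node (.node (.leaf (nat_lit 854706183)) (.leaf
    (nat_lit 1048972032))) (.leaf (nat_lit 1489556230))))) (.node (.node (.node (.node (.leaf
    (nat_lit 124794889)) (.leaf (nat_lit 2108360198))) (.leaf (nat_lit 825567497))) (.node (.node
    (.leaf (nat_lit 690131979)) (.leaf (nat_lit 2028455168))) (.leaf (nat_lit 2166684418)))) (.node
    (.node (.node (.leaf (nat_lit 387019787)) (.leaf (nat_lit 2799398144))) (.leaf (nat_lit
    1045858567))) (.node (.node (.leaf (nat_lit 950259205)) (.leaf (nat_lit 378209536))) (.leaf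
    (nat_lit 2538178827)))))) (.node (.node (.node (.node (.node (.leaf (nat_lit 59784715)) (.leaf
    (nat_lit 2855970306))) (.leaf (nat_lit 756339202))) (.node (.node (.leaf (nat_lit 604128267))
    (.leaf (nat_lit 499599104))) (.leaf (nat_lit 1282910986)))) (.node (.node (.node (.leaf
    (nat_lit 314621449)) (.leaf (nat_lit 3255392007))) (.leaf (nat_lit 940975878))) (.node (.node
    (.leaf (nat_lit 868447749)) (.leaf (nat_lit 154271744))) (.leaf (nat_lit 2444830219))))) (.node
    (.node (.node (.node (.leaf (nat_lit 92319754)) (.leaf (nat_lit 3060293123))) (.leaf (nat_lit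
    1474502403))) (.node (.node (.leaf (nat_lit 777100548)) (.leaf (nat_lit 124847616))) (.leaf
    (nat_lit 1401450250)))) (.node (.node (.node (.leaf (nat_lit 462531337)) (.leaf (nat_lit
    1219088896))) (.leaf (nat_lit 1650912009))) (.node (.node (.leaf (nat_lit 1090793477)) (.leaf
    (nat_lit 160461832))) (.leaf (nat_lit 2349458946))))))) (.node (.node (.node (.node (.node
    (.node (.leaf (nat_lit 32514827)) (.leaf (nat_lit 2820090627))) (.leaf (nat_lit 1259515139)))
    (.node (.node (.leaf (nat_lit 562105348)) (.leaf (nat_lit 2083046656))) (.leaf (nat_lit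
    1346861833)))) (.node (.node (.node (.leaf (nat_lit 247532289)) (.leaf (nat_lit 2564552712)))
    (.leaf (nat_lit 1592131083))) (.node (.node (.leaf (nat_lit 889312265)) (.leaf (nat_lit
    138468096))) (.leaf (nat_lit 2411265028))))) (.node (.node (.node (.node (.leaf (nat_lit
    75534593)) (.leaf (nat_lit 3008986378))) (.leaf (nat_lit 799364106))) (.node (.node (.leaf
    (nat_lit 738299655)) (.leaf (nat_lit 134424832))) (.leaf (nat_lit 2213875716)))) (.node (.node
    (.node (.leaf (nat_lit 425773832)) (.leaf (nat_lit 3289109255))) (.leaf (nat_lit 1806959114)))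
    (.node (.node (.leaf (nat_lit 1074937098)) (.leaf (nat_lit 155258113))) (.leaf (nat_lit
    2609261572)))))) (.node (.node (.node (.node (.node (.leaf (nat_lit 95431938)) (.leaf (nat_lit
    2903167755))) (.leaf (nat_lit 787808259))) (.node (.node (.leaf (nat_lit 647055367)) (.leaf
    (nat_lit 1021871616))) (.leaf (nat_lit 2111103240)))) (.node (.node (.node (.leaf (nat_lit
    351313929)) (.leaf (nat_lit 2599177738))) (.leaf (nat_lit 1699108107))) (.node (.node (.leaf
    (nat_lit 970061576)) (.leaf (nat_lit 863567104))) (.leaf (nat_lit 1720276739))))) (.node (.node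
    (.node (.node (.leaf (nat_lit 136367113)) (.leaf (nat_lit 3108541193))) (.leaf (nat_lit
    1518548490))) (.node (.node (.leaf (nat_lit 816949507)) (.leaf (nat_lit 342634752))) (.leaf
    (nat_lit 2324035848)))) (.node (.node (.node (.leaf (nat_lit 494998023)) (.leaf (nat_lit
    239413248))) (.leaf (nat_lit 1908692231))) (.node (.node (.leaf (nat_lit 1164203778)) (.leaf
    (nat_lit 126896649))) (.leaf (nat_lit 2713110532)))))))) (.node (.node (.node (.node (.node
    (.node (.node (.leaf (nat_lit 20976651)) (.leaf (nat_lit 1900701192))) (.leaf (nat_lit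
    707042566))) (.node (.node (.leaf (nat_lit 541198092)) (.leaf (nat_lit 929570560))) (.leaf
    (nat_lit 1247240970)))) (.node (.node (.node (.leaf (nat_lit 265320714)) (.leaf (nat_lit
    3193510913))) (.leaf (nat_lit 1573251077))) (.node (.node (.leaf (nat_lit 495141382)) (.leaf
    (nat_lit 864638720))) (.leaf (nat_lit 2387973634))))) (.node (.node (.node (.node (.leaf
    (nat_lit 114329099)) (.leaf (nat_lit 2983729412))) (.leaf (nat_lit 1406476035))) (.node (.node
    (.leaf (nat_lit 429042690)) (.leaf (nat_lit 435279882))) (.leaf (nat_lit 2189755400)))) (.node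
    (.node (.node (.leaf (nat_lit 410090244)) (.leaf (nat_lit 2705966346))) (.leaf (nat_lit
    1774624268))) (.node (.node (.leaf (nat_lit 1047668233)) (.leaf (nat_lit 109716736))) (.leaf
    (nat_lit 1661575177)))))) (.node (.node (.node (.node (.node (.leaf (nat_lit 80750088)) (.leaf
    (nat_lit 2881975553))) (.leaf (nat_lit 793045258))) (.node (.node (.leaf (nat_lit 630274314))
    (.leaf (nat_lit 1257824256))) (.leaf (nat_lit 1465368842)))) (.node (.node (.node (.leaf
    (nat_lit 333494794)) (.leaf (nat_lit 3235657990))) (.leaf (nat_lit 1048984325))) (.node (.node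
    (.leaf (nat_lit 934512651)) (.leaf (nat_lit 336302848))) (.leaf (nat_lit 2480261383))))) (.node
    (.node (.node (.node (.leaf (nat_lit 181452293)) (.leaf (nat_lit 2942009350))) (.leaf (nat_lit
    1493378569))) (.node (.node (.leaf (nat_lit 442693384)) (.leaf (nat_lit 286800384))) (.leaf
    (nat_lit 1455984136)))) (.node (.node (.node (.leaf (nat_lit 274843650)) (.leaf (nat_lit
    817213440))) (.leaf (nat_lit 1879507211))) (.node (.node (.leaf (nat_lit 835995143)) (.leaf
    (nat_lit 183569927))) (.leaf (nat_lit 2684787969))))))) (.node (.node (.node (.node (.node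
    (.node (.leaf (nat_lit 49295372)) (.leaf (nat_lit 2845480713))) (.leaf (nat_lit 1271185157)))
    (.node (.node (.leaf (nat_lit 571616012)) (.leaf (nat_lit 414988800))) (.leaf (nat_lit
    2034734348)))) (.node (.node (.node (.leaf (nat_lit 298880008)) (.leaf (nat_lit 3182169351)))
    (.leaf (nat_lit 1630758659))) (.node (.node (.leaf (nat_lit 893609228)) (.leaf (nat_lit
    2817641476))) (.leaf (nat_lit 2434117383))))) (.node (.node (.node (.node (.leaf (nat_lit
    168839945)) (.leaf (nat_lit 2785758985))) (.leaf (nat_lit 1260743173))) (.node (.node (.leaf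
    (nat_lit 755159564)) (.leaf (nat_lit 791120896))) (.leaf (nat_lit 1381521930)))) (.node (.node
    (.node (.leaf (nat_lit 265398274)) (.leaf (nat_lit 2858164992))) (.leaf (nat_lit 1833180163)))
    (.node (.node (.leaf (nat_lit 1099175948)) (.leaf (nat_lit 1061232132))) (.leaf (nat_lit
    2637693953)))))) (.node (.node (.node (.node (.node (.leaf (nat_lit 103836171)) (.leaf (nat_lit
    2916805638))) (.leaf (nat_lit 1217729796))) (.node (.node (.leaf (nat_lit 447905025)) (.leaf
    (nat_lit 580393984))) (.leaf (nat_lit 2139417857)))) (.node (.node (.node (.leaf (nat_lit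
    301031430)) (.leaf (nat_lit 1885004800))) (.leaf (nat_lit 998665990))) (.node (.node (.leaf
    (nat_lit 996280586)) (.leaf (nat_lit 152298752))) (.leaf (nat_lit 2530832652))))) (.node (.node
    (.node (.node (.leaf (nat_lit 111205633)) (.leaf (nat_lit 3023809539))) (.leaf (nat_lit
    1539523338))) (.node (.node (.leaf (nat_lit 835826177)) (.leaf (nat_lit 1021636608))) (.leaf
    (nat_lit 1565048835)))) (.node (.node (.node (.leaf (nat_lit 257025799)) (.leaf (nat_lit
    466022656))) (.leaf (nat_lit 1875325446))) (.node (.leaf (nat_lit 1144286987)) (.leaf (nat_lit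
    2741430273)))))))))) (.node (.node (.node (.node (.node (.node (.node (.node (.node (.leaf
    (nat_lit 4195330)) (.leaf (nat_lit 2760307969))) (.leaf (nat_lit 693403914))) (.node (.node
    (.leaf (nat_lit 521269771)) (.leaf (nat_lit 242558464))) (.leaf (nat_lit 1942438150)))) (.node
    (.node (.node (.leaf (nat_lit 233892364)) (.leaf (nat_lit 3158033420))) (.leaf (nat_lit
    1558399498))) (.node (.node (.leaf (nat_lit 477309446)) (.leaf (nat_lit 550018816))) (.leaf
    (nat_lit 1489555205))))) (.node (.node (.node (.node (.leaf (nat_lit 120615947)) (.leaf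
    (nat_lit 2954350852))) (.leaf (nat_lit 782574855))) (.node (.node (.leaf (nat_lit 390237962))
    (.leaf (nat_lit 1260967936))) (.leaf (nat_lit 2160391687)))) (.node (.node (.node (.leaf
    (nat_lit 383826184)) (.leaf (nat_lit 2025493504))) (.leaf (nat_lit 1049002503))) (.node (.node
    (.leaf (nat_lit 997443851)) (.leaf (nat_lit 177721600))) (.leaf (nat_lit 2527691787))))))
    (.node (.node (.node (.node (.node (.leaf (nat_lit 60824329)) (.leaf (nat_lit 2852607491)))
    (.leaf (nat_lit 1273285900))) (.node (.node (.leaf (nat_lit 603007498)) (.leaf (nat_lit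
    246885376))) (.leaf (nat_lit 2051325959)))) (.node (.node (.node (.leaf (nat_lit 199305225))
    (.leaf (nat_lit 2501647365))) (.leaf (nat_lit 936779781))) (.node (.node (.leaf (nat_lit
    923933704)) (.leaf (nat_lit 132148997))) (.leaf (nat_lit 2451120651))))) (.node (.node (.node
    (.node (.leaf (nat_lit 83929863)) (.leaf (nat_lit 2309709831))) (.leaf (nat_lit 1470302723)))
    (.node (.node (.leaf (nat_lit 771857159)) (.leaf (nat_lit 248576512))) (.leaf (nat_lit
    2257923847)))) (.node (.node (.node (.leaf (nat_lit 458337289)) (.leaf (nat_lit 1218177280)))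
    (.leaf (nat_lit 1130816774))) (.node (.node (.leaf (nat_lit 1117936644)) (.leaf (nat_lit
    364952072))) (.leaf (nat_lit 2463752714))))))) (.node (.node (.node (.node (.node (.node (.leaf
    (nat_lit 32514050)) (.leaf (nat_lit 2811700228))) (.leaf (nat_lit 1255320322))) (.node (.node
    (.leaf (nat_lit 489821185)) (.leaf (nat_lit 1452924672))) (.leaf (nat_lit 2002038281)))) (.node
    (.node (.node (.leaf (nat_lit 274794244)) (.leaf (nat_lit 2471228677))) (.leaf (nat_lit
    1603664395))) (.node (.node (.leaf (nat_lit 882068492)) (.leaf (nat_lit 541635584))) (.leaf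
    (nat_lit 2404972036))))) (.node (.node (.node (.node (.leaf (nat_lit 149963017)) (.leaf
    (nat_lit 2310745863))) (.leaf (nat_lit 796216325))) (.node (.node (.leaf (nat_lit 416463366))
    (.leaf (nat_lit 525677824))) (.leaf (nat_lit 2208631300)))) (.node (.node (.node (.leaf
    (nat_lit 422628097)) (.leaf (nat_lit 3279558658))) (.leaf (nat_lit 1799618314))) (.node (.node
    (.leaf (nat_lit 1065613579)) (.leaf (nat_lit 283797504))) (.leaf (nat_lit 2604017930))))))
    (.node (.node (.node (.node (.node (.leaf (nat_lit 90199819)) (.leaf (nat_lit 2215300106)))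
    (.leaf (nat_lit 1330968844))) (.node (.node (.leaf (nat_lit 510813442)) (.leaf (nat_lit
    205847808))) (.leaf (nat_lit 2102713608)))) (.node (.node (.node (.leaf (nat_lit 346070536))
    (.leaf (nat_lit 3298399748))) (.leaf (nat_lit 1693686787))) (.node (.node (.leaf (nat_lit
    526620424)) (.leaf (nat_lit 596344576))) (.leaf (nat_lit 2493075979))))) (.node (.node (.node
    (.node (.leaf (nat_lit 113297417)) (.leaf (nat_lit 2292943878))) (.leaf (nat_lit 864395271)))
    (.node (.node (.leaf (nat_lit 809698827)) (.leaf (nat_lit 482924032))) (.leaf (nat_lit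
    2312675334)))) (.node (.node (.node (.leaf (nat_lit 488755980)) (.leaf (nat_lit 1134134784)))
    (.leaf (nat_lit 1903448842))) (.node (.node (.leaf (nat_lit 1159883274)) (.leaf (nat_lit
    94393863))) (.leaf (nat_lit 2705768451)))))))) (.node (.node (.node (.node (.node (.node (.node
    (.leaf (nat_lit 17827594)) (.leaf (nat_lit 2785477635))) (.leaf (nat_lit 781490183))) (.node
    (.node (.leaf (nat_lit 535953675)) (.leaf (nat_lit 347533312))) (.leaf (nat_lit 1973902342))))
    (.node (.node (.node (.leaf (nat_lit 261159179)) (.leaf (nat_lit 3189316100))) (.leaf (nat_lit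
    929424138))) (.node (.node (.leaf (nat_lit 490946053)) (.leaf (nat_lit 565606144))) (.leaf
    (nat_lit 2382729218))))) (.node (.node (.node (.node (.leaf (nat_lit 137390850)) (.leaf
    (nat_lit 2979534082))) (.leaf (nat_lit 803551240))) (.node (.node (.leaf (nat_lit 713129991))
    (.leaf (nat_lit 2014892288))) (.leaf (nat_lit 2177376770)))) (.node (.node (.node (.leaf
    (nat_lit 222397187)) (.leaf (nat_lit 1666625280))) (.leaf (nat_lit 1044814601))) (.node (.node
    (.leaf (nat_lit 1042424586)) (.leaf (nat_lit 134250249))) (.leaf (nat_lit 2573834763))))))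
    (.node (.node (.node (.node (.node (.leaf (nat_lit 73419020)) (.leaf (nat_lit 2874815747)))
    (.leaf (nat_lit 757392138))) (.node (.node (.leaf (nat_lit 604132098)) (.leaf (nat_lit
    234569216))) (.leaf (nat_lit 2076494082)))) (.node (.node (.node (.leaf (nat_lit 329291529))
    (.leaf (nat_lit 3275321602))) (.leaf (nat_lit 954610951))) (.node (.node (.leaf (nat_lit
    644056066)) (.leaf (nat_lit 146993664))) (.leaf (nat_lit 2471048962))))) (.node (.node (.node
    (.node (.leaf (nat_lit 176208386)) (.leaf (nat_lit 2296085251))) (.leaf (nat_lit 896895753)))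
    (.node (.node (.leaf (nat_lit 722661381)) (.leaf (nat_lit 239646976))) (.leaf (nat_lit
    2288551691)))) (.node (.node (.node (.leaf (nat_lit 475062017)) (.leaf (nat_lit 500506112)))
    (.leaf (nat_lit 1876182274))) (.node (.node (.leaf (nat_lit 1143105027)) (.leaf (nat_lit
    104892681))) (.leaf (nat_lit 2678494729))))))) (.node (.node (.node (.node (.node (.node (.leaf
    (nat_lit 45100043)) (.leaf (nat_lit 2799342854))) (.leaf (nat_lit 723827462))) (.node (.node
    (.leaf (nat_lit 520234500)) (.leaf (nat_lit 724876032))) (.leaf (nat_lit 1299681289)))) (.node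
    (.node (.node (.leaf (nat_lit 183572483)) (.leaf (nat_lit 2478573573))) (.leaf (nat_lit
    1479937542))) (.node (.node (.leaf (nat_lit 889413900)) (.leaf (nat_lit 1316475904))) (.leaf
    (nat_lit 2428046348))))) (.node (.node (.node (.node (.leaf (nat_lit 104897797)) (.leaf
    (nat_lit 3029878025))) (.leaf (nat_lit 1448279553))) (.node (.node (.leaf (nat_lit 425905414))
    (.leaf (nat_lit 48717056))) (.leaf (nat_lit 2235900164)))) (.node (.node (.node (.leaf (nat_lit
    438412556)) (.leaf (nat_lit 2246850560))) (.leaf (nat_lit 1826888199))) (.node (.node (.leaf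
    (nat_lit 627315460)) (.leaf (nat_lit 282328576))) (.leaf (nat_lit 2633389313)))))) (.node
    (.node (.node (.node (.node (.leaf (nat_lit 79718146)) (.leaf (nat_lit 2055923205))) (.leaf
    (nat_lit 1343557132))) (.node (.node (.leaf (nat_lit 647132939)) (.leaf (nat_lit 1293401088)))
    (.leaf (nat_lit 1319628805)))) (.node (.node (.node (.leaf (nat_lit 195124226)) (.leaf (nat_lit
    3003846921))) (.leaf (nat_lit 1721087242))) (.node (.node (.leaf (nat_lit 989048843)) (.leaf
    (nat_lit 379994368))) (.leaf (nat_lit 1599695877))))) (.node (.node (.node (.node (.leaf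
    (nat_lit 215013900)) (.leaf (nat_lit 3126568452))) (.leaf (nat_lit 876984328))) (.node (.node
    (.leaf (nat_lit 829533953)) (.leaf (nat_lit 1693159168))) (.leaf (nat_lit 2343918850)))) (.node
    (.node (.node (.leaf (nat_lit 506532104)) (.leaf (nat_lit 1974220288))) (.leaf (nat_lit
    1187457800))) (.node (.leaf (nat_lit 1186099713)) (.leaf (nat_lit 2732002314))))))))) (.node
    (.node (.node (.node (.node (.node (.node (.node (.leaf (nat_lit 8391426)) (.leaf (nat_lit
    2773940996))) (.leaf (nat_lit 1218743819))) (.node (.node (.leaf (nat_lit 529660683)) (.leaf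
    (nat_lit 725215488))) (.leaf (nat_lit 1959033863)))) (.node (.node (.node (.leaf (nat_lit
    143716873)) (.leaf (nat_lit 3175682823))) (.leaf (nat_lit 1569935362))) (.node (.node (.leaf
    (nat_lit 859949322)) (.leaf (nat_lit 281770496))) (.leaf (nat_lit 2372458244))))) (.node (.node
    (.node (.node (.leaf (nat_lit 128989449)) (.leaf (nat_lit 2118847750))) (.leaf (nat_lit
    1389554697))) (.node (.node (.leaf (nat_lit 405969672)) (.leaf (nat_lit 1483108352))) (.leaf
    (nat_lit 1355290887)))) (.node (.node (.node (.leaf (nat_lit 253851907)) (.leaf (nat_lit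
    2906296835))) (.leaf (nat_lit 1762907145))) (.node (.node (.leaf (nat_lit 1029840386)) (.leaf
    (nat_lit 317100544))) (.leaf (nat_lit 2564394764)))))) (.node (.node (.node (.node (.node
    (.leaf (nat_lit 41959681)) (.leaf (nat_lit 1999285767))) (.leaf (nat_lit 754243331))) (.node
    (.node (.leaf (nat_lit 327305477)) (.leaf (nat_lit 258108928))) (.leaf (nat_lit 1403498498))))
    (.node (.node (.node (.leaf (nat_lit 193015818)) (.leaf (nat_lit 3172738308))) (.leaf (nat_lit
    1656979969))) (.node (.node (.leaf (nat_lit 658733314)) (.leaf (nat_lit 294756864))) (.leaf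
    (nat_lit 2462431490))))) (.node (.node (.node (.node (.leaf (nat_lit 188765698)) (.leaf
    (nat_lit 2939907334))) (.leaf (nat_lit 959807751))) (.node (.node (.leaf (nat_lit 776136716))
    (.leaf (nat_lit 271699968))) (.leaf (nat_lit 2271557128)))) (.node (.node (.node (.leaf
    (nat_lit 465681668)) (.leaf (nat_lit 1470879488))) (.leaf (nat_lit 1858531596))) (.node (.node
    (.leaf (nat_lit 1130520841)) (.leaf (nat_lit 138438146))) (.leaf (nat_lit 2663808002)))))))
    (.node (.node (.node (.node (.node (.node (.leaf (nat_lit 39850500)) (.leaf (nat_lit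
    2826598403))) (.leaf (nat_lit 784643076))) (.node (.node (.leaf (nat_lit 566300162)) (.leaf
    (nat_lit 1017650432))) (.leaf (nat_lit 2009563404)))) (.node (.node (.node (.leaf (nat_lit
    133238793)) (.leaf (nat_lit 3162242311))) (.leaf (nat_lit 1615027721))) (.node (.node (.leaf
    (nat_lit 894555402)) (.leaf (nat_lit 142876416))) (.leaf (nat_lit 2419435265))))) (.node (.node
    (.node (.node (.leaf (nat_lit 156255745)) (.leaf (nat_lit 3017290759))) (.leaf (nat_lit
    1420122379))) (.node (.node (.leaf (nat_lit 434291458)) (.leaf (nat_lit 473048832))) (.leaf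
    (nat_lit 2219328780)))) (.node (.node (.node (.leaf (nat_lit 429968392)) (.leaf (nat_lit
    3169581321))) (.leaf (nat_lit 1088864518))) (.node (.node (.leaf (nat_lit 1081229570)) (.leaf
    (nat_lit 277118976))) (.leaf (nat_lit 1688846343)))))) (.node (.node (.node (.node (.node
    (.leaf (nat_lit 97541644)) (.leaf (nat_lit 2117785860))) (.leaf (nat_lit 1348655624))) (.node
    (.node (.leaf (nat_lit 651324939)) (.leaf (nat_lit 508774144))) (.leaf (nat_lit 2118443783))))
    (.node (.node (.node (.leaf (nat_lit 354459906)) (.leaf (nat_lit 2845592576))) (.leaf (nat_lit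
    1706450188))) (.node (.node (.leaf (nat_lit 978450951)) (.leaf (nat_lit 315249152))) (.leaf
    (nat_lit 2515920643))))) (.node (.node (.node (.node (.leaf (nat_lit 220226055)) (.leaf
    (nat_lit 3113785354))) (.leaf (nat_lit 1524841994))) (.node (.node (.leaf (nat_lit 639831814))
    (.leaf (nat_lit 484071680))) (.leaf (nat_lit 2332382727)))) (.node (.node (.node (.leaf
    (nat_lit 500229639)) (.leaf (nat_lit 741721344))) (.leaf (nat_lit 1201086730))) (.node (.leaf
    (nat_lit 1173515778)) (.leaf (nat_lit 2713329926)))))))) (.node (.node (.node (.node (.node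
    (.node (.node (.leaf (nat_lit 17831684)) (.leaf (nat_lit 2800164354))) (.leaf (nat_lit
    1245881602))) (.node (.node (.leaf (nat_lit 292686600)) (.leaf (nat_lit 508755456))) (.leaf
    (nat_lit 1255630858)))) (.node (.node (.node (.leaf (nat_lit 268496387)) (.leaf (nat_lit
    3200851969))) (.leaf (nat_lit 1589859843))) (.node (.node (.leaf (nat_lit 878825987)) (.leaf
    (nat_lit 966345728))) (.leaf (nat_lit 1509485062))))) (.node (.node (.node (.node (.leaf
    (nat_lit 143671041)) (.leaf (nat_lit 2182816521))) (.leaf (nat_lit 1399144965))) (.node (.node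
    (.leaf (nat_lit 722569476)) (.leaf (nat_lit 1491575296))) (.leaf (nat_lit 2194157324)))) (.node
    (.node (.node (.leaf (nat_lit 415287554)) (.leaf (nat_lit 1796637703))) (.leaf (nat_lit
    1059497477))) (.node (.node (.leaf (nat_lit 1051864329)) (.leaf (nat_lit 109180672))) (.leaf
    (nat_lit 2588287492)))))) (.node (.node (.node (.node (.node (.leaf (nat_lit 41963786)) (.leaf
    (nat_lit 2011873545))) (.leaf (nat_lit 749006341))) (.node (.node (.leaf (nat_lit 633495307))
    (.leaf (nat_lit 464089344))) (.leaf (nat_lit 1454884353)))) (.node (.node (.node (.leaf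
    (nat_lit 304169474)) (.leaf (nat_lit 3282845452))) (.leaf (nat_lit 963002625))) (.node (.node
    (.leaf (nat_lit 520326409)) (.leaf (nat_lit 334212096))) (.leaf (nat_lit 2387165955))))) (.node
    (.node (.node (.node (.leaf (nat_lit 152093191)) (.leaf (nat_lit 3095954945))) (.leaf (nat_lit
    949327111))) (.node (.node (.leaf (nat_lit 802267906)) (.leaf (nat_lit 282205696))) (.leaf
    (nat_lit 2304067847)))) (.node (.node (.node (.leaf (nat_lit 292670213)) (.leaf (nat_lit
    531046656))) (.leaf (nat_lit 1887718657))) (.node (.node (.leaf (nat_lit 711215617)) (.leaf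
    (nat_lit 372312323))) (.leaf (nat_lit 1791624961))))))) (.node (.node (.node (.node (.node
    (.node (.leaf (nat_lit 52441857)) (.leaf (nat_lit 1948780554))) (.leaf (nat_lit 1279575298)))
    (.node (.node (.leaf (nat_lit 309473543)) (.leaf (nat_lit 748227840))) (.leaf (nat_lit
    2038929676)))) (.node (.node (.node (.leaf (nat_lit 297869579)) (.leaf (nat_lit 3205239043)))
    (.leaf (nat_lit 1636006153))) (.node (.node (.leaf (nat_lit 851667714)) (.leaf (nat_lit
    2886799626))) (.leaf (nat_lit 2439360771))))) (.node (.node (.node (.node (.leaf (nat_lit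
    144745475)) (.leaf (nat_lit 2238403844))) (.leaf (nat_lit 1435856908))) (.node (.node (.leaf
    (nat_lit 511891206)) (.leaf (nat_lit 517417728))) (.leaf (nat_lit 1443389191)))) (.node (.node
    (.node (.leaf (nat_lit 449892615)) (.leaf (nat_lit 1998134528))) (.leaf (nat_lit 1833359883)))
    (.node (.node (.leaf (nat_lit 635706885)) (.leaf (nat_lit 1069636618))) (.leaf (nat_lit
    2643877124)))))) (.node (.node (.node (.node (.node (.leaf (nat_lit 114319106)) (.leaf (nat_lit
    2892690434))) (.leaf (nat_lit 1370678281))) (.node (.node (.leaf (nat_lit 365068551)) (.leaf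
    (nat_lit 797139456))) (.leaf (nat_lit 2147807492)))) (.node (.node (.node (.leaf (nat_lit
    371287051)) (.leaf (nat_lit 1892993287))) (.leaf (nat_lit 1017541897))) (.node (.node (.leaf
    (nat_lit 991148551)) (.leaf (nat_lit 360804096))) (.leaf (nat_lit 2542138370))))) (.node (.node
    (.node (.node (.leaf (nat_lit 129032196)) (.leaf (nat_lit 2378937096))) (.leaf (nat_lit
    1544929803))) (.node (.node (.leaf (nat_lit 486744065)) (.leaf (nat_lit 543512320))) (.leaf
    (nat_lit 2355462409)))) (.node (.node (.node (.leaf (nat_lit 255978248)) (.leaf (nat_lit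
    458771456))) (.leaf (nat_lit 1174877702))) (.node (.leaf (nat_lit 1196587010)) (.leaf (nat_lit
    2747899905)))))))))))) (.node (.node (.node (.node (.node (.node (.node (.node (.node (.node
    (.node (.leaf (nat_lit 12)) (.leaf (nat_lit 2752966915))) (.leaf (nat_lit 1164212235))) (.node
    (.node (.leaf (nat_lit 518059528)) (.leaf (nat_lit 720591616))) (.leaf (nat_lit 1184316422))))
    (.node (.node (.node (.leaf (nat_lit 240152328)) (.leaf (nat_lit 3149457160))) (.leaf (nat_lit
    1527104515))) (.node (.node (.leaf (nat_lit 844219395)) (.leaf (nat_lit 1751642624))) (.leaf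
    (nat_lit 1498991113))))) (.node (.node (.node (.node (.leaf (nat_lit 118503171)) (.leaf
    (nat_lit 2921003523))) (.leaf (nat_lit 790961411))) (.node (.node (.leaf (nat_lit 679567881))
    (.leaf (nat_lit 521702912))) (.leaf (nat_lit 2152002569)))) (.node (.node (.node (.leaf
    (nat_lit 375482123)) (.leaf (nat_lit 1900332546))) (.leaf (nat_lit 1009154565))) (.node (.node
    (.leaf (nat_lit 1005718793)) (.leaf (nat_lit 360098560))) (.leaf (nat_lit 2547382018))))))
    (.node (.node (.node (.node (.node (.leaf (nat_lit 51393804)) (.leaf (nat_lit 2642030599)))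
    (.leaf (nat_lit 1269090316))) (.node (.node (.leaf (nat_lit 594615815)) (.leaf (nat_lit
    349629440))) (.leaf (nat_lit 1276615941)))) (.node (.node (.node (.leaf (nat_lit 293675788))
    (.leaf (nat_lit 3207336967))) (.leaf (nat_lit 1140201986))) (.node (.node (.leaf (nat_lit
    919739144)) (.leaf (nat_lit 124840962))) (.leaf (nat_lit 2443555335))))) (.node (.node (.node
    (.node (.leaf (nat_lit 91268611)) (.leaf (nat_lit 3045729800))) (.leaf (nat_lit 1419080716)))
    (.node (.node (.leaf (nat_lit 438491907)) (.leaf (nat_lit 131544320))) (.leaf (nat_lit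
    2054710021)))) (.node (.node (.node (.leaf (nat_lit 439463947)) (.leaf (nat_lit 2748060416)))
    (.leaf (nat_lit 1830215169))) (.node (.node (.leaf (nat_lit 1087644163)) (.leaf (nat_lit
    679546634))) (.leaf (nat_lit 2405031170))))))) (.node (.node (.node (.node (.node (.node (.leaf
    (nat_lit 26221068)) (.leaf (nat_lit 2805407745))) (.leaf (nat_lit 1179952903))) (.node (.node
    (.leaf (nat_lit 552667146)) (.leaf (nat_lit 1018499072))) (.leaf (nat_lit 1994694148)))) (.node
    (.node (.node (.leaf (nat_lit 130089736)) (.leaf (nat_lit 2559307782))) (.leaf (nat_lit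
    1594054403))) (.node (.node (.leaf (nat_lit 493045763)) (.leaf (nat_lit 216182528))) (.leaf
    (nat_lit 1508437253))))) (.node (.node (.node (.node (.leaf (nat_lit 92310275)) (.leaf (nat_lit
    2994249479))) (.leaf (nat_lit 1345668357))) (.node (.node (.leaf (nat_lit 727812617)) (.leaf
    (nat_lit 524508672))) (.leaf (nat_lit 2185769739)))) (.node (.node (.node (.leaf (nat_lit
    221351426)) (.leaf (nat_lit 1747364102))) (.leaf (nat_lit 1785113868))) (.node (.node (.leaf
    (nat_lit 1059205386)) (.leaf (nat_lit 47940096))) (.leaf (nat_lit 2593762060)))))) (.node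
    (.node (.node (.node (.node (.leaf (nat_lit 87042052)) (.leaf (nat_lit 2892462855))) (.leaf
    (nat_lit 1327695625))) (.node (.node (.leaf (nat_lit 639714568)) (.leaf (nat_lit 248969472)))
    (.leaf (nat_lit 1361562633)))) (.node (.node (.node (.leaf (nat_lit 340827401)) (.leaf (nat_lit
    3177988870))) (.leaf (nat_lit 1683230217))) (.node (.node (.leaf (nat_lit 956428292)) (.leaf
    (nat_lit 109102848))) (.leaf (nat_lit 2493897225))))) (.node (.node (.node (.node (.leaf
    (nat_lit 206593539)) (.leaf (nat_lit 2880129280))) (.leaf (nat_lit 996514052))) (.node (.node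
    (.leaf (nat_lit 747831301)) (.leaf (nat_lit 563823104))) (.leaf (nat_lit 2308262666)))) (.node
    (.node (.node (.leaf (nat_lit 484499971)) (.leaf (nat_lit 445339392))) (.leaf (nat_lit
    1895058952))) (.node (.node (.leaf (nat_lit 1154640137)) (.leaf (nat_lit 103034880))) (.leaf
    (nat_lit 1804209157)))))))) (.node (.node (.node (.node (.node (.node (.node (.leaf (nat_lit
    14681603)) (.leaf (nat_lit 2778135815))) (.leaf (nat_lit 707039747))) (.node (.node (.leaf
    (nat_lit 347209219)) (.leaf (nat_lit 273105408))) (.leaf (nat_lit 1965327881)))) (.node (.node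
    (.node (.leaf (nat_lit 256931338)) (.leaf (nat_lit 3180926472))) (.leaf (nat_lit 1528158211)))
    (.node (.node (.leaf (nat_lit 865192711)) (.leaf (nat_lit 2407203840))) (.leaf (nat_lit
    1727584769))))) (.node (.node (.node (.node (.leaf (nat_lit 131104258)) (.leaf (nat_lit
    2147160839))) (.leaf (nat_lit 1394798082))) (.node (.node (.leaf (nat_lit 400727813)) (.leaf
    (nat_lit 2151240704))) (.leaf (nat_lit 1376263427)))) (.node (.node (.node (.leaf (nat_lit
    399557383)) (.leaf (nat_lit 3085587204))) (.leaf (nat_lit 1767101960))) (.node (.node (.leaf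
    (nat_lit 1035084039)) (.leaf (nat_lit 601263360))) (.leaf (nat_lit 1724486147)))))) (.node
    (.node (.node (.node (.node (.leaf (nat_lit 40911617)) (.leaf (nat_lit 2754261255))) (.leaf
    (nat_lit 744807427))) (.node (.node (.leaf (nat_lit 618739203)) (.leaf (nat_lit 478695424)))
    (.leaf (nat_lit 1282913285)))) (.node (.node (.node (.leaf (nat_lit 321950984)) (.leaf (nat_lit
    3265883393))) (.leaf (nat_lit 1132867333))) (.node (.node (.leaf (nat_lit 937551626)) (.leaf
    (nat_lit 338817280))) (.leaf (nat_lit 2464755467))))) (.node (.node (.node (.node (.leaf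
    (nat_lit 190887435)) (.leaf (nat_lit 3073078027))) (.leaf (nat_lit 857048070))) (.node (.node
    (.leaf (nat_lit 779282956)) (.leaf (nat_lit 283251200))) (.leaf (nat_lit 2278898178)))) (.node
    (.node (.node (.leaf (nat_lit 341950210)) (.leaf (nat_lit 816116992))) (.leaf (nat_lit
    1163326723))) (.node (.node (.leaf (nat_lit 642005513)) (.leaf (nat_lit 174107655))) (.leaf
    (nat_lit 2621042689))))))) (.node (.node (.node (.node (.node (.node (.leaf (nat_lit 40904716))
    (.leaf (nat_lit 2821360651))) (.leaf (nat_lit 1265807108))) (.node (.node (.leaf (nat_lit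
    565321483)) (.leaf (nat_lit 476591104))) (.leaf (nat_lit 2019865858)))) (.node (.node (.node
    (.leaf (nat_lit 275846155)) (.leaf (nat_lit 3222012164))) (.leaf (nat_lit 1619222530))) (.node
    (.node (.leaf (nat_lit 900847362)) (.leaf (nat_lit 93035008))) (.leaf (nat_lit 2423630340)))))
    (.node (.node (.node (.node (.leaf (nat_lit 158373899)) (.leaf (nat_lit 3015393542))) (.leaf
    (nat_lit 1439889923))) (.node (.node (.leaf (nat_lit 742574092)) (.leaf (nat_lit 108452352)))
    (.leaf (nat_lit 1854425603)))) (.node (.node (.node (.leaf (nat_lit 216112390)) (.leaf (nat_lit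
    3045850368))) (.leaf (nat_lit 1818497543))) (.node (.node (.leaf (nat_lit 1086475009)) (.leaf
    (nat_lit 298916097))) (.leaf (nat_lit 2610545921)))))) (.node (.node (.node (.node (.node
    (.leaf (nat_lit 102772490)) (.leaf (nat_lit 2918684167))) (.leaf (nat_lit 769985032))) (.node
    (.node (.leaf (nat_lit 651325964)) (.leaf (nat_lit 1019944704))) (.leaf (nat_lit 2122638344))))
    (.node (.node (.node (.leaf (nat_lit 357611267)) (.leaf (nat_lit 2301287178))) (.leaf (nat_lit
    1713614343))) (.node (.node (.leaf (nat_lit 981651464)) (.leaf (nat_lit 277528832))) (.leaf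
    (nat_lit 2521164040))))) (.node (.node (.node (.node (.leaf (nat_lit 107009285)) (.leaf
    (nat_lit 3115031811))) (.leaf (nat_lit 894808067))) (.node (.node (.leaf (nat_lit 464720392))
    (.leaf (nat_lit 278425344))) (.leaf (nat_lit 2336577539)))) (.node (.node (.node (.leaf
    (nat_lit 471981836)) (.leaf (nat_lit 790839808))) (.leaf (nat_lit 1172776198))) (.node (.leaf
    (nat_lit 1163158284)) (.leaf (nat_lit 1839867146))))))))) (.node (.node (.node (.node (.node
    (.node (.node (.node (.leaf (nat_lit 4195846)) (.leaf (nat_lit 1932152066))) (.leaf (nat_lit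
    1214420995))) (.node (.node (.leaf (nat_lit 523367948)) (.leaf (nat_lit 814310912))) (.leaf
    (nat_lit 1952737540)))) (.node (.node (.node (.leaf (nat_lit 234941444)) (.leaf (nat_lit
    3163277579))) (.leaf (nat_lit 1554370828))) (.node (.node (.leaf (nat_lit 853657348)) (.leaf
    (nat_lit 221504768))) (.leaf (nat_lit 1595462153))))) (.node (.node (.node (.node (.leaf
    (nat_lit 87062023)) (.leaf (nat_lit 2136671495))) (.leaf (nat_lit 804595715))) (.node (.node
    (.leaf (nat_lit 676500233)) (.leaf (nat_lit 1261789952))) (.leaf (nat_lit 1642598403)))) (.node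
    (.node (.node (.leaf (nat_lit 388068107)) (.leaf (nat_lit 1402626816))) (.leaf (nat_lit
    1046906631))) (.node (.node (.leaf (nat_lit 951307526)) (.leaf (nat_lit 195622656))) (.leaf
    (nat_lit 1629063175)))))) (.node (.node (.node (.node (.node (.leaf (nat_lit 62930181)) (.leaf
    (nat_lit 2857851656))) (.leaf (nat_lit 1294120964))) (.node (.node (.leaf (nat_lit 606225164))
    (.leaf (nat_lit 1267043072))) (.leaf (nat_lit 2056569348)))) (.node (.node (.node (.leaf
    (nat_lit 156314629)) (.leaf (nat_lit 3247185675))) (.leaf (nat_lit 1650687490))) (.node (.node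
    (.leaf (nat_lit 879981832)) (.leaf (nat_lit 71544064))) (.leaf (nat_lit 1605969154))))) (.node
    (.node (.node (.node (.leaf (nat_lit 92319497)) (.leaf (nat_lit 3059244035))) (.leaf (nat_lit
    1153793025))) (.node (.node (.leaf (nat_lit 776051971)) (.leaf (nat_lit 482471424))) (.leaf
    (nat_lit 2263167240)))) (.node (.node (.node (.leaf (nat_lit 462477057)) (.leaf (nat_lit
    407520512))) (.leaf (nat_lit 1855384066))) (.node (.node (.leaf (nat_lit 636759558)) (.leaf
    (nat_lit 160460551))) (.leaf (nat_lit 2377770241))))))) (.node (.node (.node (.node (.node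
    (.node (.leaf (nat_lit 35660299)) (.leaf (nat_lit 2816944643))) (.leaf (nat_lit 1258466314)))
    (.node (.node (.leaf (nat_lit 561056771)) (.leaf (nat_lit 729338880))) (.leaf (nat_lit
    2007281416)))) (.node (.node (.node (.leaf (nat_lit 232851969)) (.leaf (nat_lit 3212572676)))
    (.leaf (nat_lit 902167813))) (.node (.node (.leaf (nat_lit 856903429)) (.leaf (nat_lit
    438875648))) (.leaf (nat_lit 2390293253))))) (.node (.node (.node (.node (.leaf (nat_lit
    72388870)) (.leaf (nat_lit 3005953029))) (.leaf (nat_lit 1424314892))) (.node (.node (.leaf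
    (nat_lit 722648587)) (.leaf (nat_lit 131131904))) (.leaf (nat_lit 2211778049)))) (.node (.node
    (.node (.leaf (nat_lit 224498951)) (.leaf (nat_lit 2556154628))) (.leaf (nat_lit 1077328135)))
    (.node (.node (.leaf (nat_lit 611581443)) (.leaf (nat_lit 133209090))) (.leaf (nat_lit
    2607164163)))))) (.node (.node (.node (.node (.node (.leaf (nat_lit 92297484)) (.leaf (nat_lit
    2904008712))) (.leaf (nat_lit 1341315081))) (.node (.node (.leaf (nat_lit 472016905)) (.leaf
    (nat_lit 570619392))) (.leaf (nat_lit 2109006082)))) (.node (.node (.node (.leaf (nat_lit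
    350265096)) (.leaf (nat_lit 2599177481))) (.leaf (nat_lit 978735881))) (.node (.node (.leaf
    (nat_lit 759405573)) (.leaf (nat_lit 864614400))) (.leaf (nat_lit 2506482184))))) (.node (.node
    (.node (.node (.leaf (nat_lit 211864331)) (.leaf (nat_lit 3105591819))) (.leaf (nat_lit
    1516451082))) (.node (.node (.leaf (nat_lit 815900679)) (.leaf (nat_lit 353118720))) (.leaf
    (nat_lit 2323992841)))) (.node (.node (.node (.leaf (nat_lit 492951307)) (.leaf (nat_lit
    432465152))) (.leaf (nat_lit 1907643650))) (.node (.node (.leaf (nat_lit 1164078081)) (.leaf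
    (nat_lit 2690672132))) (.leaf (nat_lit 2711013129)))))))) (.node (.node (.node (.node (.node
    (.node (.node (.leaf (nat_lit 18879242)) (.leaf (nat_lit 2789682952))) (.leaf (nat_lit
    1237491970))) (.node (.node (.leaf (nat_lit 270664969)) (.leaf (nat_lit 492112896))) (.leaf
    (nat_lit 1982108681)))) (.node (.node (.node (.leaf (nat_lit 264272137)) (.leaf (nat_lit
    3162235650))) (.leaf (nat_lit 1584616456))) (.node (.node (.leaf (nat_lit 501432586)) (.leaf
    (nat_lit 1316371200))) (.leaf (nat_lit 2385044228))))) (.node (.node (.node (.node (.leaf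
    (nat_lit 139491847)) (.leaf (nat_lit 2211126279))) (.leaf (nat_lit 1312111620))) (.node (.node
    (.leaf (nat_lit 716288264)) (.leaf (nat_lit 558349568))) (.leaf (nat_lit 1371022849)))) (.node
    (.node (.node (.leaf (nat_lit 397510156)) (.leaf (nat_lit 1063895808))) (.leaf (nat_lit
    1776541962))) (.node (.node (.leaf (nat_lit 1023665420)) (.leaf (nat_lit 265736960))) (.leaf
    (nat_lit 2581994754)))))) (.node (.node (.node (.node (.node (.leaf (nat_lit 44059655)) (.leaf
    (nat_lit 2854927110))) (.leaf (nat_lit 1317193473))) (.node (.node (.leaf (nat_lit 600987395))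
    (.leaf (nat_lit 1292425984))) (.leaf (nat_lit 2048376844)))) (.node (.node (.node (.leaf
    (nat_lit 333486338)) (.leaf (nat_lit 3280565257))) (.leaf (nat_lit 1671662344))) (.node (.node
    (.leaf (nat_lit 935560971)) (.leaf (nat_lit 377170176))) (.leaf (nat_lit 2479212547))))) (.node
    (.node (.node (.node (.leaf (nat_lit 194034956)) (.leaf (nat_lit 2940960517))) (.leaf (nat_lit
    851807753))) (.node (.node (.leaf (nat_lit 793878786)) (.leaf (nat_lit 281159424))) (.leaf
    (nat_lit 1455983879)))) (.node (.node (.node (.leaf (nat_lit 245483272)) (.leaf (nat_lit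
    969665536))) (.leaf (nat_lit 1149698053))) (.node (.node (.leaf (nat_lit 652494083)) (.leaf
    (nat_lit 99641866))) (.leaf (nat_lit 2680815115))))))) (.node (.node (.node (.node (.node
    (.node (.leaf (nat_lit 24129287)) (.leaf (nat_lit 2805635084))) (.leaf (nat_lit 723828229)))
    (.node (.node (.leaf (nat_lit 576858635)) (.leaf (nat_lit 411663104))) (.leaf (nat_lit
    1276613382)))) (.node (.node (.node (.leaf (nat_lit 296782850)) (.leaf (nat_lit 3189508872)))
    (.leaf (nat_lit 1629709828))) (.node (.node (.leaf (nat_lit 497247237)) (.leaf (nat_lit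
    1048944896))) (.leaf (nat_lit 2428047115))))) (.node (.node (.node (.node (.leaf (nat_lit
    126918661)) (.leaf (nat_lit 2766884362))) (.leaf (nat_lit 1452474378))) (.node (.node (.leaf
    (nat_lit 747819019)) (.leaf (nat_lit 544565760))) (.leaf (nat_lit 2241143305)))) (.node (.node
    (.node (.leaf (nat_lit 401713158)) (.leaf (nat_lit 3226166282))) (.leaf (nat_lit 1831082761)))
    (.node (.node (.leaf (nat_lit 1097078284)) (.leaf (nat_lit 1070671619))) (.leaf (nat_lit
    2633617925)))))) (.node (.node (.node (.node (.node (.leaf (nat_lit 100690183)) (.leaf (nat_lit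
    2931271431))) (.leaf (nat_lit 1363337225))) (.node (.node (.leaf (nat_lit 666980097)) (.leaf
    (nat_lit 1568039936))) (.leaf (nat_lit 1467479561)))) (.node (.node (.node (.leaf (nat_lit
    367091467)) (.leaf (nat_lit 1271555328))) (.leaf (nat_lit 1726199298))) (.node (.node (.leaf
    (nat_lit 994183428)) (.leaf (nat_lit 194196480))) (.leaf (nat_lit 1608085513))))) (.node (.node
    (.node (.node (.leaf (nat_lit 230722312)) (.leaf (nat_lit 3116083717))) (.leaf (nat_lit
    916830985))) (.node (.node (.leaf (nat_lit 833796355)) (.leaf (nat_lit 288017408))) (.leaf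
    (nat_lit 2277031692)))) (.node (.node (.node (.leaf (nat_lit 427943426)) (.leaf (nat_lit
    830016768))) (.leaf (nat_lit 1892102405))) (.node (.leaf (nat_lit 1147432459)) (.leaf (nat_lit
    1858745093)))))))))) (.node (.node (.node (.node (.node (.node (.node (.node (.node (.leaf
    (nat_lit 2097930)) (.leaf (nat_lit 2758210561))) (.leaf (nat_lit 1205108236))) (.node (.node
    (.leaf (nat_lit 518123531)) (.leaf (nat_lit 1157189120))) (.leaf (nat_lit 1946445321)))) (.node
    (.node (.node (.leaf (nat_lit 138471945)) (.leaf (nat_lit 2463875847))) (.leaf (nat_lit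
    1556302088))) (.node (.node (.leaf (nat_lit 848505356)) (.leaf (nat_lit 1303789568))) (.leaf
    (nat_lit 1488506373))))) (.node (.node (.node (.node (.leaf (nat_lit 116421380)) (.leaf
    (nat_lit 2098921221))) (.leaf (nat_lit 1380116226))) (.node (.node (.leaf (nat_lit 682790412))
    (.leaf (nat_lit 563639040))) (.leaf (nat_lit 2158294529)))) (.node (.node (.node (.leaf
    (nat_lit 380726284)) (.leaf (nat_lit 1897382407))) (.leaf (nat_lit 1669759238))) (.node (.node
    (.leaf (nat_lit 579061507)) (.leaf (nat_lit 361350656))) (.leaf (nat_lit 2553674504))))))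
    (.node (.node (.node (.node (.node (.leaf (nat_lit 58731527)) (.leaf (nat_lit 2585385480)))
    (.leaf (nat_lit 1288877322))) (.node (.node (.leaf (nat_lit 601958408)) (.leaf (nat_lit
    655645184))) (.leaf (nat_lit 1411883529)))) (.node (.node (.node (.leaf (nat_lit 180430602))
    (.leaf (nat_lit 3250146306))) (.leaf (nat_lit 1203117830))) (.node (.node (.leaf (nat_lit
    923918596)) (.leaf (nat_lit 483461121))) (.leaf (nat_lit 2450895881))))) (.node (.node (.node
    (.node (.leaf (nat_lit 177229825)) (.leaf (nat_lit 2241551878))) (.leaf (nat_lit 1469253892)))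
    (.node (.node (.leaf (nat_lit 445832970)) (.leaf (nat_lit 133876224))) (.leaf (nat_lit
    1446537224)))) (.node (.node (.node (.leaf (nat_lit 458282241)) (.leaf (nat_lit 1366990336)))
    (.leaf (nat_lit 1849963274))) (.node (.node (.leaf (nat_lit 1114908684)) (.leaf (nat_lit
    363904264))) (.leaf (nat_lit 2462703882))))))) (.node (.node (.node (.node (.node (.node (.leaf
    (nat_lit 31464972)) (.leaf (nat_lit 1951037448))) (.leaf (nat_lit 1254271745))) (.node (.node
    (.leaf (nat_lit 473043718)) (.leaf (nat_lit 1307109376))) (.leaf (nat_lit 1984393988)))) (.node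
    (.node (.node (.leaf (nat_lit 274758915)) (.leaf (nat_lit 2470179846))) (.leaf (nat_lit
    1602443524))) (.node (.node (.leaf (nat_lit 879971084)) (.leaf (nat_lit 1049286912))) (.leaf
    (nat_lit 2404752899))))) (.node (.node (.node (.node (.leaf (nat_lit 74485254)) (.leaf (nat_lit
    2998611212))) (.leaf (nat_lit 795167494))) (.node (.node (.leaf (nat_lit 717404427)) (.leaf
    (nat_lit 240246784))) (.leaf (nat_lit 2205693956)))) (.node (.node (.node (.leaf (nat_lit
    421579272)) (.leaf (nat_lit 2710320133))) (.leaf (nat_lit 1788260876))) (.node (.node (.leaf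
    (nat_lit 609482500)) (.leaf (nat_lit 286351616))) (.leaf (nat_lit 2601993482)))))) (.node
    (.node (.node (.node (.node (.leaf (nat_lit 46159369)) (.leaf (nat_lit 2886388491))) (.leaf
    (nat_lit 1332017164))) (.node (.node (.leaf (nat_lit 639788043)) (.leaf (nat_lit 503630080)))
    (.leaf (nat_lit 1308086792)))) (.node (.node (.node (.leaf (nat_lit 241256458)) (.leaf (nat_lit
    2580301576))) (.leaf (nat_lit 1691589379))) (.node (.node (.leaf (nat_lit 961671938)) (.leaf
    (nat_lit 189263104))) (.leaf (nat_lit 2501238276))))) (.node (.node (.node (.node (.leaf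
    (nat_lit 166774531)) (.leaf (nat_lit 3099100936))) (.leaf (nat_lit 1508220674))) (.node (.node
    (.leaf (nat_lit 798163980)) (.leaf (nat_lit 1327864320))) (.leaf (nat_lit 2314554881)))) (.node
    (.node (.node (.leaf (nat_lit 485609989)) (.leaf (nat_lit 166461440))) (.leaf (nat_lit
    1901351170))) (.node (.node (.leaf (nat_lit 654594053)) (.leaf (nat_lit 364978186))) (.leaf
    (nat_lit 1815745034)))))))) (.node (.node (.node (.node (.node (.node (.node (.leaf (nat_lit
    15732232)) (.leaf (nat_lit 1952079365))) (.leaf (nat_lit 1232248579))) (.node (.node (.leaf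
    (nat_lit 535953669)) (.leaf (nat_lit 256645120))) (.leaf (nat_lit 1974767370)))) (.node (.node
    (.node (.leaf (nat_lit 261125896)) (.leaf (nat_lit 2539380482))) (.leaf (nat_lit 929423881)))
    (.node (.node (.leaf (nat_lit 868430343)) (.leaf (nat_lit 577225984))) (.leaf (nat_lit
    2358828548))))) (.node (.node (.node (.node (.leaf (nat_lit 65045253)) (.leaf (nat_lit
    2977581833))) (.leaf (nat_lit 803550983))) (.node (.node (.leaf (nat_lit 701670923)) (.leaf
    (nat_lit 557980928))) (.leaf (nat_lit 2180522251)))) (.node (.node (.node (.leaf (nat_lit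
    405849353)) (.leaf (nat_lit 3161067527))) (.leaf (nat_lit 1772346372))) (.node (.node (.leaf
    (nat_lit 1036246790)) (.leaf (nat_lit 101768192))) (.leaf (nat_lit 2575759625)))))) (.node
    (.node (.node (.node (.node (.leaf (nat_lit 72370188)) (.leaf (nat_lit 2872751116))) (.leaf
    (nat_lit 757391881))) (.node (.node (.leaf (nat_lit 619860491)) (.leaf (nat_lit 474693888)))
    (.leaf (nat_lit 2030549516)))) (.node (.node (.node (.leaf (nat_lit 321992454)) (.leaf (nat_lit
    3273224194))) (.leaf (nat_lit 1664336137))) (.node (.node (.leaf (nat_lit 645104385)) (.leaf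
    (nat_lit 437399552))) (.leaf (nat_lit 1559836167))))) (.node (.node (.node (.node (.leaf
    (nat_lit 195058180)) (.leaf (nat_lit 2342222338))) (.leaf (nat_lit 901089545))) (.node (.node
    (.leaf (nat_lit 787586826)) (.leaf (nat_lit 122394624))) (.leaf (nat_lit 2286239491)))) (.node
    (.node (.node (.leaf (nat_lit 474013192)) (.leaf (nat_lit 768978688))) (.leaf (nat_lit
    1874084872))) (.node (.node (.leaf (nat_lit 1141007619)) (.leaf (nat_lit 113271562))) (.leaf
    (nat_lit 2677444865))))))) (.node (.node (.node (.node (.node (.node (.leaf (nat_lit 45099788))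
    (.leaf (nat_lit 2838139650))) (.leaf (nat_lit 742701574))) (.node (.node (.leaf (nat_lit
    575799299)) (.leaf (nat_lit 2018109440))) (.leaf (nat_lit 2017955084)))) (.node (.node (.node
    (.leaf (nat_lit 233903873)) (.leaf (nat_lit 3228305156))) (.leaf (nat_lit 1624466185))) (.node
    (.node (.leaf (nat_lit 497246214)) (.leaf (nat_lit 1320672256))) (.leaf (nat_lit
    2427825415))))) (.node (.node (.node (.node (.leaf (nat_lit 163600906)) (.leaf (nat_lit
    3003860491))) (.leaf (nat_lit 1390764812))) (.node (.node (.leaf (nat_lit 739429387)) (.leaf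
    (nat_lit 248793088))) (.leaf (nat_lit 1378373894)))) (.node (.node (.node (.leaf (nat_lit
    439460868)) (.leaf (nat_lit 3053194496))) (.leaf (nat_lit 1824967692))) (.node (.node (.leaf
    (nat_lit 626266627)) (.leaf (nat_lit 319890951))) (.leaf (nat_lit 2631291137)))))) (.node
    (.node (.node (.node (.node (.leaf (nat_lit 108015879)) (.leaf (nat_lit 2915755010))) (.leaf
    (nat_lit 1357045002))) (.node (.node (.leaf (nat_lit 648181259)) (.leaf (nat_lit 967134208)))
    (.leaf (nat_lit 2129129220)))) (.node (.node (.node (.leaf (nat_lit 357653260)) (.leaf (nat_lit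
    3011187465))) (.leaf (nat_lit 1719907073))) (.node (.node (.leaf (nat_lit 987898122)) (.leaf
    (nat_lit 864638976))) (.leaf (nat_lit 2435410438))))) (.node (.node (.node (.node (.leaf
    (nat_lit 218159372)) (.leaf (nat_lit 3122373643))) (.leaf (nat_lit 1534279943))) (.node (.node
    (.leaf (nat_lit 827506178)) (.leaf (nat_lit 1519095296))) (.leaf (nat_lit 1443412229)))) (.node
    (.node (.node (.leaf (nat_lit 506521604)) (.leaf (nat_lit 1273547008))) (.leaf (nat_lit
    1923373575))) (.node (.leaf (nat_lit 1184002305)) (.leaf (nat_lit 2731991554))))))))) (.node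
    (.node (.node (.node (.node (.node (.node (.node (.leaf (nat_lit 7342593)) (.leaf (nat_lit
    2767868421))) (.leaf (nat_lit 948210951))) (.node (.node (.leaf (nat_lit 415365635)) (.leaf
    (nat_lit 425065216))) (.leaf (nat_lit 1957981188)))) (.node (.node (.node (.leaf (nat_lit
    252736514)) (.leaf (nat_lit 3172536585))) (.leaf (nat_lit 931518218))) (.node (.node (.leaf
    (nat_lit 544420103)) (.leaf (nat_lit 261847808))) (.leaf (nat_lit 2372241923))))) (.node (.node
    (.node (.node (.leaf (nat_lit 126908930)) (.leaf (nat_lit 2964840451))) (.leaf (nat_lit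
    1387457026))) (.node (.node (.leaf (nat_lit 696424716)) (.leaf (nat_lit 2142828032))) (.leaf
    (nat_lit 2172976897)))) (.node (.node (.node (.leaf (nat_lit 395362825)) (.leaf (nat_lit
    1874361347))) (.leaf (nat_lit 1032228617))) (.node (.node (.leaf (nat_lit 571725061)) (.leaf
    (nat_lit 203525120))) (.leaf (nat_lit 2564394498)))))) (.node (.node (.node (.node (.node
    (.leaf (nat_lit 40910850)) (.leaf (nat_lit 2866242818))) (.leaf (nat_lit 1286919691))) (.node
    (.node (.leaf (nat_lit 610420491)) (.leaf (nat_lit 351011840))) (.leaf (nat_lit 2063909892))))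
    (.node (.node (.node (.leaf (nat_lit 312553227)) (.leaf (nat_lit 3258721291))) (.leaf (nat_lit
    1652959749))) (.node (.node (.leaf (nat_lit 932308487)) (.leaf (nat_lit 163641344))) (.leaf
    (nat_lit 2461382660))))) (.node (.node (.node (.node (.leaf (nat_lit 161526275)) (.leaf
    (nat_lit 3065736204))) (.leaf (nat_lit 998604804))) (.node (.node (.leaf (nat_lit 438494980))
    (.leaf (nat_lit 131140096))) (.leaf (nat_lit 1435005954)))) (.node (.node (.node (.leaf
    (nat_lit 465623299)) (.leaf (nat_lit 646667776))) (.leaf (nat_lit 1139207945))) (.node (.node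
    (.leaf (nat_lit 756298759)) (.leaf (nat_lit 103834881))) (.leaf (nat_lit 2466900489)))))))
    (.node (.node (.node (.node (.node (.node (.leaf (nat_lit 26223877)) (.leaf (nat_lit
    2825334273))) (.leaf (nat_lit 1260696331))) (.node (.node (.leaf (nat_lit 525474306)) (.leaf
    (nat_lit 558178304))) (.leaf (nat_lit 2013573386)))) (.node (.node (.node (.leaf (nat_lit
    284196612)) (.leaf (nat_lit 2557213704))) (.leaf (nat_lit 1612930051))) (.node (.node (.leaf
    (nat_lit 854807299)) (.leaf (nat_lit 32810496))) (.leaf (nat_lit 1519976710))))) (.node (.node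
    (.node (.node (.leaf (nat_lit 72389642)) (.leaf (nat_lit 2209037318))) (.leaf (nat_lit
    1434646536))) (.node (.node (.leaf (nat_lit 433242625)) (.leaf (nat_lit 2112423424))) (.leaf
    (nat_lit 1364738566)))) (.node (.node (.node (.leaf (nat_lit 353474566)) (.leaf (nat_lit
    3197887493))) (.leaf (nat_lit 1796653065))) (.node (.node (.leaf (nat_lit 1079139849)) (.leaf
    (nat_lit 152301056))) (.leaf (nat_lit 2615555337)))))) (.node (.node (.node (.node (.node
    (.leaf (nat_lit 56646914)) (.leaf (nat_lit 2074793992))) (.leaf (nat_lit 1346558466))) (.node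
    (.node (.leaf (nat_lit 651249929)) (.leaf (nat_lit 809718272))) (.leaf (nat_lit 1316479234))))
    (.node (.node (.node (.leaf (nat_lit 353411329)) (.leaf (nat_lit 2804620032))) (.leaf (nat_lit
    1707319818))) (.node (.node (.leaf (nat_lit 974365452)) (.leaf (nat_lit 336222464))) (.leaf
    (nat_lit 2513823236))))) (.node (.node (.node (.node (.leaf (nat_lit 218137097)) (.leaf
    (nat_lit 3112736515))) (.leaf (nat_lit 1508224012))) (.node (.node (.leaf (nat_lit 763563531))
    (.leaf (nat_lit 479671040))) (.leaf (nat_lit 2320018700)))) (.node (.node (.node (.leaf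
    (nat_lit 251780102)) (.leaf (nat_lit 767775744))) (.leaf (nat_lit 1912887049))) (.node (.leaf
    (nat_lit 1171418376)) (.leaf (nat_lit 2713329410)))))))) (.node (.node (.node (.node (.node
    (.node (.node (.leaf (nat_lit 14685961)) (.leaf (nat_lit 2798066440))) (.leaf (nat_lit
    1190437384))) (.node (.node (.leaf (nat_lit 292686343)) (.leaf (nat_lit 888497920))) (.leaf
    (nat_lit 1987352841)))) (.node (.node (.node (.leaf (nat_lit 264306444)) (.leaf (nat_lit
    3198754562))) (.leaf (nat_lit 1588811016))) (.node (.node (.leaf (nat_lit 500385034)) (.leaf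
    (nat_lit 965209344))) (.leaf (nat_lit 1508436230))))) (.node (.node (.node (.node (.leaf
    (nat_lit 119572487)) (.leaf (nat_lit 2988973578))) (.leaf (nat_lit 1398096133))) (.node (.node
    (.leaf (nat_lit 434286337)) (.leaf (nat_lit 474090240))) (.leaf (nat_lit 2196047364)))) (.node
    (.node (.node (.leaf (nat_lit 410094347)) (.leaf (nat_lit 1750511878))) (.leaf (nat_lit
    1054254087))) (.node (.node (.leaf (nat_lit 1015277825)) (.leaf (nat_lit 143709952))) (.leaf
    (nat_lit 2586258441)))))) (.node (.node (.node (.node (.node (.leaf (nat_lit 41963529)) (.leaf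
    (nat_lit 2007678725))) (.leaf (nat_lit 756346122))) (.node (.node (.leaf (nat_lit 632446475))
    (.leaf (nat_lit 1312416256))) (.leaf (nat_lit 2085078283)))) (.node (.node (.node (.leaf
    (nat_lit 311509257)) (.leaf (nat_lit 3286859777))) (.leaf (nat_lit 1677080323))) (.node (.node
    (.leaf (nat_lit 581143555)) (.leaf (nat_lit 304658432))) (.leaf (nat_lit 2485507074))))) (.node
    (.node (.node (.node (.leaf (nat_lit 126927363)) (.leaf (nat_lit 3093857289))) (.leaf (nat_lit
    1474663435))) (.node (.node (.leaf (nat_lit 799210252)) (.leaf (nat_lit 483102720))) (.leaf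
    (nat_lit 2301137676)))) (.node (.node (.node (.leaf (nat_lit 240241154)) (.leaf (nat_lit
    210385152))) (.leaf (nat_lit 1163331076))) (.node (.node (.leaf (nat_lit 1149520139)) (.leaf
    (nat_lit 156268296))) (.leaf (nat_lit 2690032644))))))) (.node (.node (.node (.node (.node
    (.node (.leaf (nat_lit 31470081)) (.leaf (nat_lit 2160737024))) (.leaf (nat_lit 1275380747)))
    (.node (.node (.leaf (nat_lit 310521603)) (.leaf (nat_lit 830781184))) (.leaf (nat_lit
    1281857537)))) (.node (.node (.node (.leaf (nat_lit 298917899)) (.leaf (nat_lit 2484867078)))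
    (.leaf (nat_lit 1634957572))) (.node (.node (.leaf (nat_lit 892561927)) (.leaf (nat_lit
    551206656))) (.leaf (nat_lit 1538856200))))) (.node (.node (.node (.node (.leaf (nat_lit
    167813895)) (.leaf (nat_lit 3041415428))) (.leaf (nat_lit 811953670))) (.node (.node (.leaf
    (nat_lit 661837314)) (.leaf (nat_lit 540214016))) (.leaf (nat_lit 2244500998)))) (.node (.node
    (.node (.leaf (nat_lit 447851524)) (.leaf (nat_lit 2870736640))) (.leaf (nat_lit 1838423560)))
    (.node (.node (.leaf (nat_lit 1104416515)) (.leaf (nat_lit 361364224))) (.leaf (nat_lit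
    2642828289)))))) (.node (.node (.node (.node (.node (.leaf (nat_lit 114308611)) (.leaf (nat_lit
    2925195787))) (.leaf (nat_lit 1139087621))) (.node (.node (.leaf (nat_lit 364019463)) (.leaf
    (nat_lit 284529664))) (.leaf (nat_lit 2145710083)))) (.node (.node (.node (.leaf (nat_lit
    301032195)) (.leaf (nat_lit 2071611392))) (.leaf (nat_lit 1732491522))) (.node (.node (.leaf
    (nat_lit 998488331)) (.leaf (nat_lit 362195200))) (.leaf (nat_lit 2540264449))))) (.node (.node
    (.node (.node (.leaf (nat_lit 234909193)) (.leaf (nat_lit 2379985160))) (.leaf (nat_lit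
    889569539))) (.node (.node (.leaf (nat_lit 545464065)) (.leaf (nat_lit 1517999872))) (.leaf
    (nat_lit 1529398281)))) (.node (.node (.node (.leaf (nat_lit 513864455)) (.leaf (nat_lit
    502769920))) (.leaf (nat_lit 1876374789))) (.node (.leaf (nat_lit 1194489603)) (.leaf (nat_lit
    2746673668))))))))))) (.node (.node (.node (.node (.node (.node (.node (.node (.node (.node
    (.leaf (nat_lit 2097669)) (.leaf (nat_lit 2755064324))) (.leaf (nat_lit 935623173))) (.node
    (.node (.leaf (nat_lit 260173574)) (.leaf (nat_lit 218775296))) (.leaf (nat_lit 1861697028))))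
    (.node (.node (.node (.leaf (nat_lit 243298311)) (.leaf (nat_lit 2506866437))) (.leaf (nat_lit
    886425608))) (.node (.node (.leaf (nat_lit 476260105)) (.leaf (nat_lit 577139712))) (.leaf
    (nat_lit 2361754881))))) (.node (.node (.node (.node (.leaf (nat_lit 118518276)) (.leaf
    (nat_lit 2950154247))) (.leaf (nat_lit 1375921666))) (.node (.node (.leaf (nat_lit 394431241))
    (.leaf (nat_lit 133376512))) (.leaf (nat_lit 1992819972)))) (.node (.node (.node (.leaf
    (nat_lit 191981831)) (.leaf (nat_lit 1868019458))) (.leaf (nat_lit 1744028425))) (.node (.node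
    (.leaf (nat_lit 1008976652)) (.leaf (nat_lit 178579968))) (.leaf (nat_lit 2497281798))))))
    (.node (.node (.node (.node (.node (.leaf (nat_lit 57678088)) (.leaf (nat_lit 2162829575)))
    (.leaf (nat_lit 781503234))) (.node (.node (.leaf (nat_lit 591542791)) (.leaf (nat_lit
    839565312))) (.leaf (nat_lit 2047131393)))) (.node (.node (.node (.leaf (nat_lit 307276810))
    (.leaf (nat_lit 2498500362))) (.leaf (nat_lit 1636178956))) (.node (.node (.leaf (nat_lit
    917729029)) (.leaf (nat_lit 577408512))) (.leaf (nat_lit 2446701321))))) (.node (.node (.node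
    (.node (.leaf (nat_lit 173057804)) (.leaf (nat_lit 3049805319))) (.leaf (nat_lit 1466107651)))
    (.node (.node (.leaf (nat_lit 440589574)) (.leaf (nat_lit 135767040))) (.leaf (nat_lit
    2022204673)))) (.node (.node (.node (.leaf (nat_lit 448901897)) (.leaf (nat_lit 781402112)))
    (.leaf (nat_lit 1138155785))) (.node (.node (.leaf (nat_lit 1086596357)) (.leaf (nat_lit
    2704364809))) (.leaf (nat_lit 2359942913))))))) (.node (.node (.node (.node (.node (.node
    (.leaf (nat_lit 30412034)) (.leaf (nat_lit 2807722249))) (.leaf (nat_lit 1157933320))) (.node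
    (.node (.leaf (nat_lit 554764548)) (.leaf (nat_lit 718477824))) (.leaf (nat_lit 1366782214))))
    (.node (.node (.node (.leaf (nat_lit 272691204)) (.leaf (nat_lit 3208193028))) (.leaf (nat_lit
    1597200136))) (.node (.node (.leaf (nat_lit 495143429)) (.leaf (nat_lit 482595328))) (.leaf
    (nat_lit 1512632582))))) (.node (.node (.node (.node (.leaf (nat_lit 147865610)) (.leaf
    (nat_lit 2998413059))) (.leaf (nat_lit 796215302))) (.node (.node (.leaf (nat_lit 416462853))
    (.leaf (nat_lit 495278848))) (.leaf (nat_lit 1352152326)))) (.node (.node (.node (.leaf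
    (nat_lit 419482114)) (.leaf (nat_lit 2707146752))) (.leaf (nat_lit 1787211532))) (.node (.node
    (.leaf (nat_lit 1057223692)) (.leaf (nat_lit 298227200))) (.leaf (nat_lit 2597957132))))))
    (.node (.node (.node (.node (.node (.leaf (nat_lit 71324678)) (.leaf (nat_lit 2015021320)))
    (.leaf (nat_lit 972354565))) (.node (.node (.leaf (nat_lit 637690635)) (.leaf (nat_lit
    250892800))) (.leaf (nat_lit 2095387145)))) (.node (.node (.node (.leaf (nat_lit 340870667))
    (.leaf (nat_lit 3243001094))) (.leaf (nat_lit 1663453185))) (.node (.node (.leaf (nat_lit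
    523473413)) (.leaf (nat_lit 297453824))) (.leaf (nat_lit 2498092039))))) (.node (.node (.node
    (.node (.leaf (nat_lit 206593793)) (.leaf (nat_lit 2219487497))) (.leaf (nat_lit 868588553)))
    (.node (.node (.leaf (nat_lit 452133385)) (.leaf (nat_lit 479964160))) (.leaf (nat_lit
    1425579270)))) (.node (.node (.node (.leaf (nat_lit 485609484)) (.leaf (nat_lit 1468622080)))
    (.leaf (nat_lit 1896288774))) (.node (.node (.leaf (nat_lit 1156737539)) (.leaf (nat_lit
    309402628))) (.leaf (nat_lit 2700523273)))))))) (.node (.node (.node (.node (.node (.node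
    (.node (.leaf (nat_lit 14683908)) (.leaf (nat_lit 1881824261))) (.leaf (nat_lit 1225036812)))
    (.node (.node (.leaf (nat_lit 536936456)) (.leaf (nat_lit 1188738304))) (.leaf (nat_lit
    1970571785)))) (.node (.node (.node (.leaf (nat_lit 259028738)) (.leaf (nat_lit 3183205387)))
    (.leaf (nat_lit 1571151627))) (.node (.node (.leaf (nat_lit 854800907)) (.leaf (nat_lit
    1320525056))) (.leaf (nat_lit 1622727685))))) (.node (.node (.node (.node (.leaf (nat_lit
    135281409)) (.leaf (nat_lit 2754286849))) (.leaf (nat_lit 797259013))) (.node (.node (.leaf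
    (nat_lit 436380423)) (.leaf (nat_lit 495152640))) (.leaf (nat_lit 2181366274)))) (.node (.node
    (.node (.leaf (nat_lit 401663753)) (.leaf (nat_lit 2815093251))) (.leaf (nat_lit 1770248963)))
    (.node (.node (.leaf (nat_lit 1036147722)) (.leaf (nat_lit 135295242))) (.leaf (nat_lit
    1644794883)))))) (.node (.node (.node (.node (.node (.leaf (nat_lit 71320843)) (.leaf (nat_lit
    2757407240))) (.leaf (nat_lit 750051075))) (.node (.node (.leaf (nat_lit 329404419)) (.leaf
    (nat_lit 549136384))) (.leaf (nat_lit 2072299268)))) (.node (.node (.node (.leaf (nat_lit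
    324048388)) (.leaf (nat_lit 3265015308))) (.leaf (nat_lit 1021718789))) (.node (.node (.leaf
    (nat_lit 939701256)) (.leaf (nat_lit 549619456))) (.leaf (nat_lit 1558786568))))) (.node (.node
    (.node (.node (.leaf (nat_lit 192960258)) (.leaf (nat_lit 3078123530))) (.leaf (nat_lit
    843417093))) (.node (.node (.leaf (nat_lit 721611782)) (.leaf (nat_lit 537434624))) (.leaf
    (nat_lit 2282044424)))) (.node (.node (.node (.leaf (nat_lit 279036417)) (.leaf (nat_lit
    970458368))) (.leaf (nat_lit 1167521539))) (.node (.node (.leaf (nat_lit 661929217)) (.leaf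
    (nat_lit 141998336))) (.leaf (nat_lit 2671150851))))))) (.node (.node (.node (.node (.node
    (.node (.leaf (nat_lit 22030593)) (.leaf (nat_lit 2778369793))) (.leaf (nat_lit 732215305)))
    (.node (.node (.leaf (nat_lit 572592130)) (.leaf (nat_lit 731048960))) (.leaf (nat_lit
    1267174152)))) (.node (.node (.node (.leaf (nat_lit 274798092)) (.leaf (nat_lit 2525758471)))
    (.leaf (nat_lit 925240073))) (.node (.node (.leaf (nat_lit 861101574)) (.leaf (nat_lit
    418097664))) (.leaf (nat_lit 2425728004))))) (.node (.node (.node (.node (.leaf (nat_lit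
    76585477)) (.leaf (nat_lit 3012248587))) (.leaf (nat_lit 1443035908))) (.node (.node (.leaf
    (nat_lit 424856330)) (.leaf (nat_lit 434675200))) (.leaf (nat_lit 2229607432)))) (.node (.node
    (.node (.leaf (nat_lit 437308937)) (.leaf (nat_lit 3219871747))) (.leaf (nat_lit 1096206600)))
    (.node (.node (.leaf (nat_lit 1087639563)) (.leaf (nat_lit 168213760))) (.leaf (nat_lit
    2626275596)))))) (.node (.node (.node (.node (.node (.leaf (nat_lit 103834628)) (.leaf (nat_lit
    2068504834))) (.leaf (nat_lit 1354042379))) (.node (.node (.leaf (nat_lit 643986443)) (.leaf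
    (nat_lit 1579885568))) (.leaf (nat_lit 2126833155)))) (.node (.node (.node (.leaf (nat_lit
    360753411)) (.leaf (nat_lit 2991289096))) (.leaf (nat_lit 1507222787))) (.node (.node (.leaf
    (nat_lit 985792521)) (.leaf (nat_lit 1312285952))) (.leaf (nat_lit 2522441484))))) (.node
    (.node (.node (.node (.leaf (nat_lit 110155530)) (.leaf (nat_lit 3120275724))) (.leaf (nat_lit
    1531133960))) (.node (.node (.leaf (nat_lit 825431044)) (.leaf (nat_lit 506809344))) (.leaf
    (nat_lit 2338675459)))) (.node (.node (.node (.leaf (nat_lit 249684232)) (.leaf (nat_lit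
    848648448))) (.leaf (nat_lit 1174873858))) (.node (.leaf (nat_lit 1179936258)) (.leaf (nat_lit
    2727796994))))))))) (.node (.node (.node (.node (.node (.node (.node (.node (.leaf (nat_lit
    7342088)) (.leaf (nat_lit 2767648775))) (.leaf (nat_lit 722766343))) (.node (.node (.leaf
    (nat_lit 529595400)) (.leaf (nat_lit 428429568))) (.leaf (nat_lit 1879525377)))) (.node (.node
    (.node (.leaf (nat_lit 249590529)) (.leaf (nat_lit 3168341764))) (.leaf (nat_lit 1482019843)))
    (.node (.node (.leaf (nat_lit 557002498)) (.leaf (nat_lit 1047923712))) (.leaf (nat_lit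
    1587074057))))) (.node (.node (.node (.node (.leaf (nat_lit 66091018)) (.leaf (nat_lit
    2137720840))) (.leaf (nat_lit 807741700))) (.node (.node (.leaf (nat_lit 694253319)) (.leaf
    (nat_lit 1508435712))) (.leaf (nat_lit 2168781826)))) (.node (.node (.node (.leaf (nat_lit
    392216330)) (.leaf (nat_lit 2812775171))) (.leaf (nat_lit 1026984709))) (.node (.node (.leaf
    (nat_lit 571724038)) (.leaf (nat_lit 178345728))) (.leaf (nat_lit 1630112520)))))) (.node
    (.node (.node (.node (.node (.leaf (nat_lit 65027844)) (.leaf (nat_lit 2858067970))) (.leaf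
    (nat_lit 758436609))) (.node (.node (.leaf (nat_lit 610349064)) (.leaf (nat_lit 539316480)))
    (.leaf (nat_lit 2056760588)))) (.node (.node (.node (.leaf (nat_lit 296824067)) (.leaf (nat_lit
    3257490945))) (.leaf (nat_lit 1140205830))) (.node (.node (.leaf (nat_lit 930211073)) (.leaf
    (nat_lit 76612096))) (.leaf (nat_lit 2454267654))))) (.node (.node (.node (.node (.leaf
    (nat_lit 185619721)) (.leaf (nat_lit 3061540866))) (.leaf (nat_lit 857046529))) (.node (.node
    (.leaf (nat_lit 722658561)) (.leaf (nat_lit 135736320))) (.leaf (nat_lit 2267362314)))) (.node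
    (.node (.node (.leaf (nat_lit 419543562)) (.leaf (nat_lit 1473893376))) (.leaf (nat_lit
    1168567306))) (.node (.node (.leaf (nat_lit 668217863)) (.leaf (nat_lit 161510151))) (.leaf
    (nat_lit 2658742026))))))) (.node (.node (.node (.node (.node (.node (.leaf (nat_lit 37753090))
    (.leaf (nat_lit 1930068486))) (.leaf (nat_lit 780448001))) (.node (.node (.leaf (nat_lit
    522328065)) (.leaf (nat_lit 495119872))) (.leaf (nat_lit 2010427399)))) (.node (.node (.node
    (.leaf (nat_lit 133237766)) (.leaf (nat_lit 3198941707))) (.leaf (nat_lit 1548091137))) (.node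
    (.node (.leaf (nat_lit 889409803)) (.leaf (nat_lit 235990273))) (.leaf (nat_lit 2414191112)))))
    (.node (.node (.node (.node (.leaf (nat_lit 152080908)) (.leaf (nat_lit 3012046082))) (.leaf
    (nat_lit 1431641089))) (.node (.node (.leaf (nat_lit 739348232)) (.leaf (nat_lit 561193216)))
    (.leaf (nat_lit 2213036043)))) (.node (.node (.node (.leaf (nat_lit 417437186)) (.leaf (nat_lit
    3211520266))) (.leaf (nat_lit 1809057028))) (.node (.node (.leaf (nat_lit 623116801)) (.leaf
    (nat_lit 1207001860))) (.leaf (nat_lit 1666824453)))))) (.node (.node (.node (.node (.node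
    (.leaf (nat_lit 96480519)) (.leaf (nat_lit 2070598919))) (.leaf (nat_lit 765788421))) (.node
    (.node (.leaf (nat_lit 648103944)) (.leaf (nat_lit 892877824))) (.leaf (nat_lit 2112152065))))
    (.node (.node (.node (.leaf (nat_lit 341921548)) (.leaf (nat_lit 2591665664))) (.leaf (nat_lit
    973493765))) (.node (.node (.leaf (nat_lit 971110403)) (.leaf (nat_lit 294094848))) (.leaf
    (nat_lit 1592350977))))) (.node (.node (.node (.node (.leaf (nat_lit 216031495)) (.leaf
    (nat_lit 2991297796))) (.leaf (nat_lit 915777801))) (.node (.node (.leaf (nat_lit 767757323))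
    (.leaf (nat_lit 243955456))) (.leaf (nat_lit 2326090241)))) (.node (.node (.node (.leaf
    (nat_lit 497083657)) (.leaf (nat_lit 244655872))) (.leaf (nat_lit 1905728779))) (.node (.node
    (.leaf (nat_lit 651450373)) (.leaf (nat_lit 143262976))) (.leaf (nat_lit 1839864839))))))))
    (.node (.node (.node (.node (.node (.node (.node (.leaf (nat_lit 12588294)) (.leaf (nat_lit
    2793871625))) (.leaf (nat_lit 1218748421))) (.node (.node (.leaf (nat_lit 479332357)) (.leaf
    (nat_lit 434229769))) (.leaf (nat_lit 1254581513)))) (.node (.node (.node (.leaf (nat_lit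
    205585670)) (.leaf (nat_lit 2460739081))) (.leaf (nat_lit 1586713858))) (.node (.node (.leaf
    (nat_lit 875679748)) (.leaf (nat_lit 1747515392))) (.leaf (nat_lit 2389022215))))) (.node
    (.node (.node (.node (.leaf (nat_lit 141573633)) (.leaf (nat_lit 2985827591))) (.leaf (nat_lit
    1408430599))) (.node (.node (.leaf (nat_lit 413314310)) (.leaf (nat_lit 482680576))) (.leaf
    (nat_lit 2190804227)))) (.node (.node (.node (.leaf (nat_lit 412141575)) (.leaf (nat_lit
    1666448394))) (.leaf (nat_lit 1779687943))) (.node (.node (.leaf (nat_lit 1021568780)) (.leaf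
    (nat_lit 267834880))) (.leaf (nat_lit 1852416004)))))) (.node (.node (.node (.node (.node
    (.leaf (nat_lit 77614347)) (.leaf (nat_lit 2178596106))) (.leaf (nat_lit 1316284939))) (.node
    (.node (.leaf (nat_lit 632371714)) (.leaf (nat_lit 1306894080))) (.leaf (nat_lit 2083835138))))
    (.node (.node (.node (.leaf (nat_lit 334570499)) (.leaf (nat_lit 3283712770))) (.leaf (nat_lit
    1674809601))) (.node (.node (.leaf (nat_lit 565414150)) (.leaf (nat_lit 333564160))) (.leaf
    (nat_lit 2482358791))))) (.node (.node (.node (.node (.leaf (nat_lit 200301571)) (.leaf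
    (nat_lit 3088810508))) (.leaf (nat_lit 1494427394))) (.node (.node (.leaf (nat_lit 798073346))
    (.leaf (nat_lit 581644288))) (.leaf (nat_lit 2287505419)))) (.node (.node (.node (.leaf
    (nat_lit 479256583)) (.leaf (nat_lit 231322624))) (.leaf (nat_lit 1875313420))) (.node (.node
    (.leaf (nat_lit 654591750)) (.leaf (nat_lit 183570696))) (.leaf (nat_lit 1829372165)))))))
    (.node (.node (.node (.node (.node (.node (.leaf (nat_lit 44052737)) (.leaf (nat_lit
    1961532169))) (.leaf (nat_lit 1275262217))) (.node (.node (.leaf (nat_lit 584128519)) (.leaf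
    (nat_lit 210477824))) (.leaf (nat_lit 1419220489)))) (.node (.node (.node (.leaf (nat_lit
    295771659)) (.leaf (nat_lit 3220966917))) (.leaf (nat_lit 1606816780))) (.node (.node (.leaf
    (nat_lit 899901196)) (.leaf (nat_lit 136345604))) (.leaf (nat_lit 2436214786))))) (.node (.node
    (.node (.node (.leaf (nat_lit 169888522)) (.leaf (nat_lit 3038269444))) (.leaf (nat_lit
    1402301196))) (.node (.node (.leaf (nat_lit 469947399)) (.leaf (nat_lit 563447296))) (.leaf
    (nat_lit 2232965899)))) (.node (.node (.node (.leaf (nat_lit 446746632)) (.leaf (nat_lit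
    2525668361))) (.leaf (nat_lit 1106695690))) (.node (.node (.leaf (nat_lit 632560134)) (.leaf
    (nat_lit 97541641))) (.leaf (nat_lit 2629424130)))))) (.node (.node (.node (.node (.node (.leaf
    (nat_lit 100690699)) (.leaf (nat_lit 2058022149))) (.leaf (nat_lit 1362433548))) (.node (.node
    (.leaf (nat_lit 668044035)) (.leaf (nat_lit 490958848))) (.leaf (nat_lit 2140466434)))) (.node
    (.node (.node (.leaf (nat_lit 186736903)) (.leaf (nat_lit 1953167616))) (.leaf (nat_lit
    1729345537))) (.node (.node (.leaf (nat_lit 868464385)) (.leaf (nat_lit 231114496))) (.leaf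
    (nat_lit 2536894472))))) (.node (.node (.node (.node (.leaf (nat_lit 140566025)) (.leaf
    (nat_lit 3134763267))) (.leaf (nat_lit 1540572161))) (.node (.node (.leaf (nat_lit 836874754))
    (.leaf (nat_lit 2404102400))) (.leaf (nat_lit 1578680582)))) (.node (.node (.node (.leaf
    (nat_lit 349300737)) (.leaf (nat_lit 457894144))) (.leaf (nat_lit 1185362695))) (.node (.leaf
    (nat_lit 935620609)) (.leaf (nat_lit 2743527432)))))))))) (.node (.node (.node (.node (.node
    (.node (.node (.node (.node (.leaf (nat_lit 3147015)) (.leaf (nat_lit 2762405128))) (.leaf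
    (nat_lit 1211271944))) (.node (.node (.leaf (nat_lit 524351747)) (.leaf (nat_lit 848833024)))
    (.leaf (nat_lit 1185366533)))) (.node (.node (.node (.leaf (nat_lit 233892611)) (.leaf (nat_lit
    3159952132))) (.leaf (nat_lit 1544932876))) (.node (.node (.leaf (nat_lit 841165575)) (.leaf
    (nat_lit 523481600))) (.leaf (nat_lit 1610141705))))) (.node (.node (.node (.node (.leaf
    (nat_lit 122697729)) (.leaf (nat_lit 2955406600))) (.leaf (nat_lit 1383262217))) (.node (.node
    (.leaf (nat_lit 689009415)) (.leaf (nat_lit 750237952))) (.leaf (nat_lit 2162489345)))) (.node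
    (.node (.node (.leaf (nat_lit 385923592)) (.leaf (nat_lit 1955050757))) (.leaf (nat_lit
    1685488646))) (.node (.node (.leaf (nat_lit 1000589835)) (.leaf (nat_lit 287010304))) (.leaf
    (nat_lit 2438563078)))))) (.node (.node (.node (.node (.node (.leaf (nat_lit 60832523)) (.leaf
    (nat_lit 1973068038))) (.leaf (nat_lit 811912970))) (.node (.node (.leaf (nat_lit 316817673))
    (.leaf (nat_lit 253175808))) (.leaf (nat_lit 1278715142)))) (.node (.node (.node (.leaf
    (nat_lit 157362438)) (.leaf (nat_lit 2525764865))) (.leaf (nat_lit 937828614))) (.node (.node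
    (.leaf (nat_lit 925055235)) (.leaf (nat_lit 412330496))) (.leaf (nat_lit 1548296962))))) (.node
    (.node (.node (.node (.leaf (nat_lit 181424386)) (.leaf (nat_lit 2241552645))) (.leaf (nat_lit
    1470461959))) (.node (.node (.leaf (nat_lit 771940620)) (.leaf (nat_lit 125900032))) (.leaf
    (nat_lit 2259184395)))) (.node (.node (.node (.leaf (nat_lit 410105356)) (.leaf (nat_lit
    823732736))) (.leaf (nat_lit 1853109513))) (.node (.node (.leaf (nat_lit 1089743878)) (.leaf
    (nat_lit 175155720))) (.leaf (nat_lit 2433344265))))))) (.node (.node (.node (.node (.node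
    (.node (.leaf (nat_lit 17834247)) (.leaf (nat_lit 2813797640))) (.leaf (nat_lit 788835843)))
    (.node (.node (.leaf (nat_lit 483529990)) (.leaf (nat_lit 2026497024))) (.leaf (nat_lit
    1271363075)))) (.node (.node (.node (.leaf (nat_lit 136382471)) (.leaf (nat_lit 3191600651)))
    (.leaf (nat_lit 1591081739))) (.node (.node (.leaf (nat_lit 877874436)) (.leaf (nat_lit
    1319689472))) (.leaf (nat_lit 2407898632))))) (.node (.node (.node (.node (.leaf (nat_lit
    151011594)) (.leaf (nat_lit 2193305862))) (.leaf (nat_lit 1425208841))) (.node (.node (.leaf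
    (nat_lit 417512197)) (.leaf (nat_lit 1014337280))) (.leaf (nat_lit 1440233992)))) (.node (.node
    (.node (.leaf (nat_lit 280072969)) (.leaf (nat_lit 3278512132))) (.leaf (nat_lit 1090958601)))
    (.node (.node (.leaf (nat_lit 1068643849)) (.leaf (nat_lit 103188992))) (.leaf (nat_lit
    1849275142)))))) (.node (.node (.node (.node (.node (.leaf (nat_lit 92285953)) (.leaf (nat_lit
    2899853322))) (.leaf (nat_lit 1338168842))) (.node (.node (.leaf (nat_lit 345138693)) (.leaf
    (nat_lit 790768135))) (.leaf (nat_lit 2104811265)))) (.node (.node (.node (.leaf (nat_lit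
    342969099)) (.leaf (nat_lit 2591836680))) (.leaf (nat_lit 1694735369))) (.node (.node (.leaf
    (nat_lit 965866506)) (.leaf (nat_lit 187928832))) (.leaf (nat_lit 1730761476))))) (.node (.node
    (.node (.node (.leaf (nat_lit 209766667)) (.leaf (nat_lit 2292944389))) (.leaf (nat_lit
    1487249929))) (.node (.node (.leaf (nat_lit 792921868)) (.leaf (nat_lit 521631744))) (.leaf
    (nat_lit 2317918988)))) (.node (.node (.node (.leaf (nat_lit 287429639)) (.leaf (nat_lit
    402106880))) (.leaf (nat_lit 1168578566))) (.node (.node (.leaf (nat_lit 1160932098)) (.leaf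
    (nat_lit 284231945))) (.leaf (nat_lit 1817842951)))))))) (.node (.node (.node (.node (.node
    (.node (.node (.leaf (nat_lit 16781574)) (.leaf (nat_lit 1897554183))) (.leaf (nat_lit
    1233426690))) (.node (.node (.leaf (nat_lit 271712773)) (.leaf (nat_lit 347876864))) (.leaf
    (nat_lit 1977913601)))) (.node (.node (.node (.leaf (nat_lit 259062284)) (.leaf (nat_lit
    3160137985))) (.leaf (nat_lit 1569055750))) (.node (.node (.leaf (nat_lit 871485188)) (.leaf
    (nat_lit 1319631616))) (.leaf (nat_lit 2383778052))))) (.node (.node (.node (.node (.leaf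
    (nat_lit 111182850)) (.leaf (nat_lit 2980582914))) (.leaf (nat_lit 1402138633))) (.node (.node
    (.leaf (nat_lit 714240007)) (.leaf (nat_lit 495280896))) (.leaf (nat_lit 1416110854)))) (.node
    (.node (.node (.leaf (nat_lit 223446020)) (.leaf (nat_lit 2623146496))) (.leaf (nat_lit
    1773575179))) (.node (.node (.leaf (nat_lit 1043473411)) (.leaf (nat_lit 177296896))) (.leaf
    (nat_lit 2579896842)))))) (.node (.node (.node (.node (.node (.leaf (nat_lit 50350597)) (.leaf
    (nat_lit 2864363265))) (.leaf (nat_lit 1280631817))) (.node (.node (.leaf (nat_lit 626079753))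
    (.leaf (nat_lit 80388864))) (.leaf (nat_lit 2077586442)))) (.node (.node (.node (.leaf (nat_lit
    159464202)) (.leaf (nat_lit 3276551435))) (.leaf (nat_lit 1668516609))) (.node (.node (.leaf
    (nat_lit 944892419)) (.leaf (nat_lit 310496256))) (.leaf (nat_lit 2476066056))))) (.node (.node
    (.node (.node (.leaf (nat_lit 197155336)) (.leaf (nat_lit 3084417799))) (.leaf (nat_lit
    874876162))) (.node (.node (.leaf (nat_lit 740487427)) (.leaf (nat_lit 240695040))) (.leaf
    (nat_lit 2289601036)))) (.node (.node (.node (.leaf (nat_lit 471975179)) (.leaf (nat_lit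
    764787712))) (.leaf (nat_lit 1149697542))) (.node (.node (.leaf (nat_lit 1144153604)) (.leaf
    (nat_lit 110130441))) (.leaf (nat_lit 2680593154))))))) (.node (.node (.node (.node (.node
    (.node (.leaf (nat_lit 47197451)) (.leaf (nat_lit 2843164162))) (.leaf (nat_lit 724876293)))
    (.node (.node (.leaf (nat_lit 287451146)) (.leaf (nat_lit 1726473728))) (.leaf (nat_lit
    1299681546)))) (.node (.node (.node (.leaf (nat_lit 293673227)) (.leaf (nat_lit 2479622406)))
    (.leaf (nat_lit 1586892556))) (.node (.node (.leaf (nat_lit 855859715)) (.leaf (nat_lit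
    1511516160))) (.leaf (nat_lit 1586040067))))) (.node (.node (.node (.node (.leaf (nat_lit
    80780809)) (.leaf (nat_lit 3031975431))) (.leaf (nat_lit 1398105612))) (.node (.node (.leaf
    (nat_lit 450022914)) (.leaf (nat_lit 2098715648))) (.leaf (nat_lit 1382569482)))) (.node (.node
    (.node (.leaf (nat_lit 437364236)) (.leaf (nat_lit 3182124807))) (.leaf (nat_lit 1827065612)))
    (.node (.node (.leaf (nat_lit 1092883468)) (.leaf (nat_lit 318841864))) (.leaf (nat_lit
    2154417667)))))) (.node (.node (.node (.node (.node (.leaf (nat_lit 55601160)) (.leaf (nat_lit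
    2060118022))) (.leaf (nat_lit 1349849100))) (.node (.node (.leaf (nat_lit 653424907)) (.leaf
    (nat_lit 1293279232))) (.leaf (nat_lit 1319629318)))) (.node (.node (.node (.leaf (nat_lit
    178347012)) (.leaf (nat_lit 1893177600))) (.leaf (nat_lit 1723053313))) (.node (.node (.leaf
    (nat_lit 841199874)) (.leaf (nat_lit 302412800))) (.leaf (nat_lit 2531651082))))) (.node (.node
    (.node (.node (.leaf (nat_lit 131128074)) (.leaf (nat_lit 3129517834))) (.leaf (nat_lit
    917879049))) (.node (.node (.leaf (nat_lit 756226309)) (.leaf (nat_lit 479760640))) (.leaf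
    (nat_lit 2346016513)))) (.node (.node (.node (.leaf (nat_lit 496100359)) (.leaf (nat_lit
    2225699328))) (.leaf (nat_lit 1866935297))) (.node (.leaf (nat_lit 1185180683)) (.leaf (nat_lit
    2733256460))))))))) (.node (.node (.node (.node (.node (.node (.node (.node (.leaf (nat_lit
    9440260)) (.leaf (nat_lit 2766820875))) (.leaf (nat_lit 1223984642))) (.node (.node (.leaf
    (nat_lit 533790209)) (.leaf (nat_lit 1323889152))) (.leaf (nat_lit 1206341127)))) (.node (.node
    (.node (.leaf (nat_lit 143717130)) (.leaf (nat_lit 3177780483))) (.leaf (nat_lit 1572032520)))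
    (.node (.node (.leaf (nat_lit 862046724)) (.leaf (nat_lit 863388416))) (.leaf (nat_lit
    1570297865))))) (.node (.node (.node (.node (.leaf (nat_lit 130038026)) (.leaf (nat_lit
    2969035780))) (.leaf (nat_lit 836054538))) (.node (.node (.leaf (nat_lit 399678469)) (.leaf
    (nat_lit 1301622528))) (.leaf (nat_lit 2176122887)))) (.node (.node (.node (.leaf (nat_lit
    210860547)) (.leaf (nat_lit 2938792452))) (.leaf (nat_lit 1762032903))) (.node (.node (.leaf
    (nat_lit 1027856139)) (.leaf (nat_lit 607556864))) (.leaf (nat_lit 1724485638)))))) (.node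
    (.node (.node (.node (.node (.leaf (nat_lit 67125765)) (.leaf (nat_lit 2866458379))) (.leaf
    (nat_lit 1302511881))) (.node (.node (.leaf (nat_lit 322063113)) (.leaf (nat_lit 658199040)))
    (.leaf (nat_lit 2066007048)))) (.node (.node (.node (.leaf (nat_lit 299970822)) (.leaf (nat_lit
    3263785993))) (.leaf (nat_lit 1638280459))) (.node (.node (.leaf (nat_lit 657684993)) (.leaf
    (nat_lit 134256128))) (.leaf (nat_lit 1544105221))))) (.node (.node (.node (.node (.leaf
    (nat_lit 189814279)) (.leaf (nat_lit 3069895431))) (.leaf (nat_lit 846561795))) (.node (.node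
    (.leaf (nat_lit 768796934)) (.leaf (nat_lit 125243648))) (.leaf (nat_lit 2273654532)))) (.node
    (.node (.node (.leaf (nat_lit 266452225)) (.leaf (nat_lit 223081472))) (.leaf (nat_lit
    1863774722))) (.node (.node (.leaf (nat_lit 1130641163)) (.leaf (nat_lit 114319873))) (.leaf
    (nat_lit 1745480970))))))) (.node (.node (.node (.node (.node (.node (.leaf (nat_lit 37758473))
    (.leaf (nat_lit 2825554188))) (.leaf (nat_lit 743748609))) (.node (.node (.leaf (nat_lit
    285351174)) (.leaf (nat_lit 1480040448))) (.leaf (nat_lit 2014806795)))) (.node (.node (.node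
    (.leaf (nat_lit 287342596)) (.leaf (nat_lit 2496396808))) (.leaf (nat_lit 1616076298))) (.node
    (.node (.leaf (nat_lit 895604225)) (.leaf (nat_lit 416852224))) (.leaf (nat_lit 1632175113)))))
    (.node (.node (.node (.node (.leaf (nat_lit 157304322)) (.leaf (nat_lit 2331721222))) (.leaf
    (nat_lit 1342528001))) (.node (.node (.leaf (nat_lit 743543044)) (.leaf (nat_lit 2088341504)))
    (.leaf (nat_lit 2223314184)))) (.node (.node (.node (.leaf (nat_lit 431017219)) (.leaf (nat_lit
    3216644105))) (.leaf (nat_lit 1096205058))) (.node (.node (.leaf (nat_lit 611584009)) (.leaf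
    (nat_lit 375480328))) (.leaf (nat_lit 2613690891)))))) (.node (.node (.node (.node (.node
    (.leaf (nat_lit 50355718)) (.leaf (nat_lit 2073746184))) (.leaf (nat_lit 1345652491))) (.node
    (.node (.leaf (nat_lit 653422596)) (.leaf (nat_lit 286487296))) (.leaf (nat_lit 1323820296))))
    (.node (.node (.node (.leaf (nat_lit 250696457)) (.leaf (nat_lit 2777313034))) (.leaf (nat_lit
    1708547851))) (.node (.node (.leaf (nat_lit 970171659)) (.leaf (nat_lit 98616320))) (.leaf
    (nat_lit 2515099916))))) (.node (.node (.node (.node (.leaf (nat_lit 220254988)) (.leaf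
    (nat_lit 3115883521))) (.leaf (nat_lit 1525890825))) (.node (.node (.leaf (nat_lit 644026369))
    (.leaf (nat_lit 243447296))) (.leaf (nat_lit 2333431304)))) (.node (.node (.node (.leaf
    (nat_lit 501278216)) (.leaf (nat_lit 801495040))) (.leaf (nat_lit 1168581125))) (.node (.leaf
    (nat_lit 1171546123)) (.leaf (nat_lit 1831477766)))))))) (.node (.node (.node (.node (.node
    (.node (.node (.leaf (nat_lit 16783363)) (.leaf (nat_lit 2801430540))) (.leaf (nat_lit
    1165272327))) (.node (.node (.leaf (nat_lit 283249669)) (.leaf (nat_lit 892870912))) (.leaf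
    (nat_lit 1990498824)))) (.node (.node (.node (.leaf (nat_lit 132186373)) (.leaf (nat_lit
    3159092483))) (.leaf (nat_lit 1590029572))) (.node (.node (.leaf (nat_lit 878915841)) (.leaf
    (nat_lit 1680426496))) (.leaf (nat_lit 2372463369))))) (.node (.node (.node (.node (.leaf
    (nat_lit 79726851)) (.leaf (nat_lit 2990220299))) (.leaf (nat_lit 807748359))) (.node (.node
    (.leaf (nat_lit 724666634)) (.leaf (nat_lit 862162944))) (.leaf (nat_lit 2199193348)))) (.node
    (.node (.node (.leaf (nat_lit 356617219)) (.leaf (nat_lit 1071003913))) (.leaf (nat_lit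
    1786161163))) (.node (.node (.leaf (nat_lit 1053027596)) (.leaf (nat_lit 83929856))) (.leaf
    (nat_lit 1648993797)))))) (.node (.node (.node (.node (.node (.leaf (nat_lit 84955404)) (.leaf
    (nat_lit 2886386444))) (.leaf (nat_lit 1311043340))) (.node (.node (.leaf (nat_lit 408051715))
    (.leaf (nat_lit 537556736))) (.leaf (nat_lit 2089080834)))) (.node (.node (.node (.leaf
    (nat_lit 191972106)) (.leaf (nat_lit 3290006276))) (.leaf (nat_lit 1664500485))) (.node (.node
    (.leaf (nat_lit 520326666)) (.leaf (nat_lit 186326528))) (.leaf (nat_lit 2487805699))))) (.node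
    (.node (.node (.node (.leaf (nat_lit 109101833)) (.leaf (nat_lit 3097098757))) (.leaf (nat_lit
    866489865))) (.node (.node (.leaf (nat_lit 720567556)) (.leaf (nat_lit 570111744))) (.leaf
    (nat_lit 2305116424)))) (.node (.node (.node (.leaf (nat_lit 247581703)) (.leaf (nat_lit
    411447040))) (.leaf (nat_lit 1890864392))) (.node (.node (.leaf (nat_lit 1143229189)) (.leaf
    (nat_lit 103195392))) (.leaf (nat_lit 2694228743))))))) (.node (.node (.node (.node (.node
    (.node (.leaf (nat_lit 38810626)) (.leaf (nat_lit 2152363520))) (.leaf (nat_lit 1278526987)))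
    (.node (.node (.leaf (nat_lit 588395020)) (.leaf (nat_lit 1453821184))) (.leaf (nat_lit
    2041888010)))) (.node (.node (.node (.leaf (nat_lit 185672196)) (.leaf (nat_lit 3212579336)))
    (.leaf (nat_lit 1637054730))) (.node (.node (.leaf (nat_lit 908291079)) (.leaf (nat_lit
    135326981))) (.leaf (nat_lit 1595479553))))) (.node (.node (.node (.node (.leaf (nat_lit
    172007431)) (.leaf (nat_lit 3044561930))) (.leaf (nat_lit 1358262534))) (.node (.node (.leaf
    (nat_lit 763549956)) (.leaf (nat_lit 520565760))) (.leaf (nat_lit 2207801352)))) (.node (.node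
    (.node (.leaf (nat_lit 450941192)) (.leaf (nat_lit 2851856896))) (.leaf (nat_lit 1773591298)))
    (.node (.node (.leaf (nat_lit 1107449352)) (.leaf (nat_lit 1069636361))) (.leaf (nat_lit
    2645974787)))))) (.node (.node (.node (.node (.node (.leaf (nat_lit 104885762)) (.leaf (nat_lit
    2069558789))) (.leaf (nat_lit 1371726858))) (.node (.node (.leaf (nat_lit 675372290)) (.leaf
    (nat_lit 931865856))) (.leaf (nat_lit 1459093770)))) (.node (.node (.node (.leaf (nat_lit
    375435521)) (.leaf (nat_lit 2797301504))) (.leaf (nat_lit 1736686338))) (.node (.node (.leaf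
    (nat_lit 999537420)) (.leaf (nat_lit 181724928))) (.leaf (nat_lit 2514057478))))) (.node (.node
    (.node (.node (.leaf (nat_lit 130081027)) (.leaf (nat_lit 3137058049))) (.leaf (nat_lit
    1546864393))) (.node (.node (.leaf (nat_lit 525541639)) (.leaf (nat_lit 2133554176))) (.leaf
    (nat_lit 1496893194)))) (.node (.node (.node (.leaf (nat_lit 515962113)) (.leaf (nat_lit
    210993152))) (.leaf (nat_lit 1929852939))) (.node (.leaf (nat_lit 1197635841)) (.leaf (nat_lit
    2749819907))))))))))))) (.node (.node (.node (.node (.node (.node (.node (.node (.node (.node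
    (.node (.node (.leaf (nat_lit 7)) (.leaf (nat_lit 1958363145))) (.leaf (nat_lit 762607363)))
    (.node (.node (.leaf (nat_lit 260173061)) (.leaf (nat_lit 410273280))) (.leaf (nat_lit
    1655126788)))) (.node (.node (.node (.leaf (nat_lit 239103751)) (.leaf (nat_lit 3145447686)))
    (.leaf (nat_lit 1547912970))) (.node (.node (.leaf (nat_lit 477307914)) (.leaf (nat_lit
    1747446528))) (.leaf (nat_lit 1543031050))))) (.node (.node (.node (.node (.leaf (nat_lit
    116420619)) (.leaf (nat_lit 2918906116))) (.leaf (nat_lit 1370823942))) (.node (.node (.leaf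
    (nat_lit 677470215)) (.leaf (nat_lit 858100992))) (.leaf (nat_lit 2146960139)))) (.node (.node
    (.node (.leaf (nat_lit 376484353)) (.leaf (nat_lit 2929413888))) (.leaf (nat_lit 1737871626)))
    (.node (.node (.leaf (nat_lit 1004669962)) (.leaf (nat_lit 84206336))) (.leaf (nat_lit
    2315877383)))))) (.node (.node (.node (.node (.node (.leaf (nat_lit 55580674)) (.leaf (nat_lit
    2844223496))) (.leaf (nat_lit 767870978))) (.node (.node (.leaf (nat_lit 593566980)) (.leaf
    (nat_lit 1403487232))) (.leaf (nat_lit 2043985410)))) (.node (.node (.node (.leaf (nat_lit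
    151069445)) (.leaf (nat_lit 3210482435))) (.leaf (nat_lit 939923973))) (.node (.node (.leaf
    (nat_lit 853765377)) (.leaf (nat_lit 581598976))) (.leaf (nat_lit 1595480325))))) (.node (.node
    (.node (.node (.leaf (nat_lit 174083594)) (.leaf (nat_lit 3046768393))) (.leaf (nat_lit
    1356165889))) (.node (.node (.leaf (nat_lit 766613770)) (.leaf (nat_lit 246486784))) (.leaf
    (nat_lit 2205704712)))) (.node (.node (.node (.leaf (nat_lit 440512267)) (.leaf (nat_lit
    2630612992))) (.leaf (nat_lit 1776737796))) (.node (.node (.leaf (nat_lit 632562181)) (.leaf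
    (nat_lit 185667335))) (.leaf (nat_lit 2645154827))))))) (.node (.node (.node (.node (.node
    (.node (.leaf (nat_lit 27266050)) (.leaf (nat_lit 2573890050))) (.leaf (nat_lit 1249027843)))
    (.node (.node (.leaf (nat_lit 281153033)) (.leaf (nat_lit 809866240))) (.leaf (nat_lit
    1239903494)))) (.node (.node (.node (.leaf (nat_lit 270598667)) (.leaf (nat_lit 3205047047)))
    (.leaf (nat_lit 1592127244))) (.node (.node (.leaf (nat_lit 880923145)) (.leaf (nat_lit
    1511792640))) (.leaf (nat_lit 2395339530))))) (.node (.node (.node (.node (.leaf (nat_lit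
    80775683)) (.leaf (nat_lit 2191206149))) (.leaf (nat_lit 1408582667))) (.node (.node (.leaf
    (nat_lit 725792004)) (.leaf (nat_lit 1491780864))) (.leaf (nat_lit 2201290504)))) (.node (.node
    (.node (.leaf (nat_lit 222400008)) (.leaf (nat_lit 1687418887))) (.leaf (nat_lit 1792275209)))
    (.node (.node (.leaf (nat_lit 1057108228)) (.leaf (nat_lit 47909632))) (.leaf (nat_lit
    2591664652)))))) (.node (.node (.node (.node (.node (.leaf (nat_lit 86001409)) (.leaf (nat_lit
    2178598153))) (.leaf (nat_lit 1327680257))) (.node (.node (.leaf (nat_lit 515006722)) (.leaf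
    (nat_lit 263477760))) (.leaf (nat_lit 2005388041)))) (.node (.node (.node (.leaf (nat_lit
    187778058)) (.leaf (nat_lit 3292103939))) (.leaf (nat_lit 1683198983))) (.node (.node (.leaf
    (nat_lit 569609989)) (.leaf (nat_lit 172237312))) (.leaf (nat_lit 1593395201))))) (.node (.node
    (.node (.node (.leaf (nat_lit 102810627)) (.leaf (nat_lit 2223680768))) (.leaf (nat_lit
    863344644))) (.node (.node (.leaf (nat_lit 786628364)) (.leaf (nat_lit 239206656))) (.leaf
    (nat_lit 2307214083)))) (.node (.node (.node (.leaf (nat_lit 477220098)) (.leaf (nat_lit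
    982091008))) (.leaf (nat_lit 1894010375))) (.node (.node (.leaf (nat_lit 650398726)) (.leaf
    (nat_lit 106179584))) (.leaf (nat_lit 1797917445)))))))) (.node (.node (.node (.node (.node
    (.node (.node (.leaf (nat_lit 12586244)) (.leaf (nat_lit 2769967115))) (.leaf (nat_lit
    1227004938))) (.node (.node (.leaf (nat_lit 534839041)) (.leaf (nat_lit 343682816))) (.leaf
    (nat_lit 1964278280)))) (.node (.node (.node (.leaf (nat_lit 222360580)) (.leaf (nat_lit
    3179877895))) (.leaf (nat_lit 1569053707))) (.node (.node (.leaf (nat_lit 482555914)) (.leaf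
    (nat_lit 864550656))) (.leaf (nat_lit 2376436739))))) (.node (.node (.node (.node (.leaf
    (nat_lit 131086849)) (.leaf (nat_lit 2151354888))) (.leaf (nat_lit 1393749505))) (.node (.node
    (.leaf (nat_lit 399678982)) (.leaf (nat_lit 2096690432))) (.leaf (nat_lit 1415060738)))) (.node
    (.node (.node (.leaf (nat_lit 398508802)) (.leaf (nat_lit 3070921730))) (.leaf (nat_lit
    1766053383))) (.node (.node (.leaf (nat_lit 1034035460)) (.leaf (nat_lit 313953280))) (.leaf
    (nat_lit 2422837766)))))) (.node (.node (.node (.node (.node (.leaf (nat_lit 36717320)) (.leaf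
    (nat_lit 2637869317))) (.leaf (nat_lit 1300552460))) (.node (.node (.leaf (nat_lit 616713228))
    (.leaf (nat_lit 280432896))) (.leaf (nat_lit 2068104456)))) (.node (.node (.node (.leaf
    (nat_lit 163656199)) (.leaf (nat_lit 3264979970))) (.leaf (nat_lit 1660126466))) (.node (.node
    (.leaf (nat_lit 936503049)) (.leaf (nat_lit 116423426))) (.leaf (nat_lit 2464534787))))) (.node
    (.node (.node (.node (.leaf (nat_lit 189838860)) (.leaf (nat_lit 3072029196))) (.leaf (nat_lit
    870679553))) (.node (.node (.leaf (nat_lit 769845763)) (.leaf (nat_lit 442863872))) (.leaf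
    (nat_lit 2277849352)))) (.node (.node (.node (.leaf (nat_lit 432127756)) (.leaf (nat_lit
    1699316992))) (.leaf (nat_lit 1867792906))) (.node (.node (.leaf (nat_lit 1133750024)) (.leaf
    (nat_lit 148922632))) (.leaf (nat_lit 2619993858))))))) (.node (.node (.node (.node (.node
    (.node (.leaf (nat_lit 41947656)) (.leaf (nat_lit 2815068939))) (.leaf (nat_lit 1263842827)))
    (.node (.node (.leaf (nat_lit 569446145)) (.leaf (nat_lit 438529792))) (.leaf (nat_lit
    2018817034)))) (.node (.node (.node (.leaf (nat_lit 285283084)) (.leaf (nat_lit 3221836039)))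
    (.leaf (nat_lit 1574307596))) (.node (.node (.leaf (nat_lit 899798785)) (.leaf (nat_lit
    244020480))) (.leaf (nat_lit 2411267596))))) (.node (.node (.node (.node (.leaf (nat_lit
    76584968)) (.leaf (nat_lit 3021485571))) (.leaf (nat_lit 809851912))) (.node (.node (.leaf
    (nat_lit 744670987)) (.leaf (nat_lit 44523776))) (.leaf (nat_lit 2225412105)))) (.node (.node
    (.node (.leaf (nat_lit 433114375)) (.leaf (nat_lit 3048997376))) (.leaf (nat_lit 1815528716)))
    (.node (.node (.leaf (nat_lit 1085426186)) (.leaf (nat_lit 293673223))) (.leaf (nat_lit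
    2621851912)))))) (.node (.node (.node (.node (.node (.leaf (nat_lit 101723913)) (.leaf (nat_lit
    2917635331))) (.leaf (nat_lit 1348798731))) (.node (.node (.leaf (nat_lit 349336074)) (.leaf
    (nat_lit 505608704))) (.leaf (nat_lit 2121589764)))) (.node (.node (.node (.leaf (nat_lit
    198268161)) (.leaf (nat_lit 2914750720))) (.leaf (nat_lit 981885190))) (.node (.node (.leaf
    (nat_lit 981596932)) (.leaf (nat_lit 162232320))) (.leaf (nat_lit 2500420353))))) (.node (.node
    (.node (.node (.leaf (nat_lit 223372042)) (.leaf (nat_lit 2320211205))) (.leaf (nat_lit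
    918925322))) (.node (.node (.leaf (nat_lit 773001483)) (.leaf (nat_lit 115499008))) (.leaf
    (nat_lit 1441313541)))) (.node (.node (.node (.leaf (nat_lit 273800964)) (.leaf (nat_lit
    240458496))) (.leaf (nat_lit 1918130433))) (.node (.leaf (nat_lit 664036105)) (.leaf (nat_lit
    1834624006))))))))) (.node (.node (.node (.node (.node (.node (.node (.node (.leaf (nat_lit
    6292993)) (.leaf (nat_lit 2759478274))) (.leaf (nat_lit 1213371914))) (.node (.node (.leaf
    (nat_lit 526448905)) (.leaf (nat_lit 247163392))) (.leaf (nat_lit 1915175948)))) (.node (.node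
    (.node (.leaf (nat_lit 120646661)) (.leaf (nat_lit 3164146698))) (.leaf (nat_lit 911593475)))
    (.node (.node (.leaf (nat_lit 841166091)) (.leaf (nat_lit 133724672))) (.leaf (nat_lit
    2368047105))))) (.node (.node (.node (.node (.leaf (nat_lit 122713602)) (.leaf (nat_lit
    2103116806))) (.leaf (nat_lit 826615818))) (.node (.node (.leaf (nat_lit 690058497)) (.leaf
    (nat_lit 439462144))) (.leaf (nat_lit 2164587018)))) (.node (.node (.node (.leaf (nat_lit
    389069578)) (.leaf (nat_lit 2062026503))) (.leaf (nat_lit 1047954952))) (.node (.node (.leaf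
    (nat_lit 1020402441)) (.leaf (nat_lit 194575872))) (.leaf (nat_lit 1614382854)))))) (.node
    (.node (.node (.node (.node (.leaf (nat_lit 63970312)) (.leaf (nat_lit 1981457416))) (.leaf
    (nat_lit 809816330))) (.node (.node (.leaf (nat_lit 607202312)) (.leaf (nat_lit 401894656)))
    (.leaf (nat_lit 2017961729)))) (.node (.node (.node (.leaf (nat_lit 159460097)) (.leaf (nat_lit
    3254342145))) (.leaf (nat_lit 1649638913))) (.node (.node (.leaf (nat_lit 560165891)) (.leaf
    (nat_lit 71404032))) (.leaf (nat_lit 1610163462))))) (.node (.node (.node (.node (.leaf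
    (nat_lit 179351051)) (.leaf (nat_lit 2247844869))) (.leaf (nat_lit 1367702539))) (.node (.node
    (.leaf (nat_lit 468902664)) (.leaf (nat_lit 234944256))) (.leaf (nat_lit 1450732807)))) (.node
    (.node (.node (.leaf (nat_lit 422688780)) (.leaf (nat_lit 397032448))) (.leaf (nat_lit
    1646717193))) (.node (.node (.leaf (nat_lit 1122131208)) (.leaf (nat_lit 99218944))) (.leaf
    (nat_lit 2656465155))))))) (.node (.node (.node (.node (.node (.node (.leaf (nat_lit 20980225))
    (.leaf (nat_lit 2815895815))) (.leaf (nat_lit 731164425))) (.node (.node (.leaf (nat_lit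
    482481669)) (.leaf (nat_lit 1720188928))) (.leaf (nat_lit 2004318210)))) (.node (.node (.node
    (.leaf (nat_lit 278953475)) (.leaf (nat_lit 3212561410))) (.leaf (nat_lit 1527118850))) (.node
    (.node (.leaf (nat_lit 888263682)) (.leaf (nat_lit 746124032))) (.leaf (nat_lit 1579743745)))))
    (.node (.node (.node (.node (.leaf (nat_lit 152060420)) (.leaf (nat_lit 2982884099))) (.leaf
    (nat_lit 1428354820))) (.node (.node (.leaf (nat_lit 725794059)) (.leaf (nat_lit 282182656)))
    (.leaf (nat_lit 1388854275)))) (.node (.node (.node (.leaf (nat_lit 402756612)) (.leaf (nat_lit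
    3174843136))) (.leaf (nat_lit 1803816969))) (.node (.node (.leaf (nat_lit 1071790337)) (.leaf
    (nat_lit 124858880))) (.leaf (nat_lit 1956230410)))))) (.node (.node (.node (.node (.node
    (.leaf (nat_lit 75520262)) (.leaf (nat_lit 2904000260))) (.leaf (nat_lit 1329921287))) (.node
    (.node (.leaf (nat_lit 466774021)) (.leaf (nat_lit 1048087296))) (.leaf (nat_lit 2107957255))))
    (.node (.node (.node (.leaf (nat_lit 168905991)) (.leaf (nat_lit 2578205702))) (.leaf (nat_lit
    1218859521))) (.node (.node (.leaf (nat_lit 969012999)) (.leaf (nat_lit 1311236352))) (.leaf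
    (nat_lit 2505433607))))) (.node (.node (.node (.node (.leaf (nat_lit 212885514)) (.leaf
    (nat_lit 3105395209))) (.leaf (nat_lit 1515402505))) (.node (.node (.leaf (nat_lit 515049734))
    (.leaf (nat_lit 1314576640))) (.leaf (nat_lit 2317919755)))) (.node (.node (.node (.leaf
    (nat_lit 493937674)) (.leaf (nat_lit 511449088))) (.leaf (nat_lit 1906768899))) (.node (.node
    (.leaf (nat_lit 1162106123)) (.leaf (nat_lit 78678026))) (.leaf (nat_lit 2709133324))))))))
    (.node (.node (.node (.node (.node (.node (.node (.leaf (nat_lit 19927819)) (.leaf (nat_lit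
    2789673732))) (.leaf (nat_lit 1236443146))) (.node (.node (.leaf (nat_lit 540148747)) (.leaf
    (nat_lit 442713600))) (.leaf (nat_lit 1248289034)))) (.node (.node (.node (.leaf (nat_lit
    258013964)) (.leaf (nat_lit 2450252549))) (.leaf (nat_lit 1583567879))) (.node (.node (.leaf
    (nat_lit 493043716)) (.leaf (nat_lit 1751710976))) (.leaf (nat_lit 1625874945))))) (.node
    (.node (.node (.node (.leaf (nat_lit 115377419)) (.leaf (nat_lit 2607487746))) (.leaf (nat_lit
    1311062787))) (.node (.node (.leaf (nat_lit 704817931)) (.leaf (nat_lit 244628224))) (.leaf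
    (nat_lit 1349002502)))) (.node (.node (.node (.leaf (nat_lit 407957002)) (.leaf (nat_lit
    1671868416))) (.leaf (nat_lit 1121361155))) (.node (.node (.leaf (nat_lit 1045570825)) (.leaf
    (nat_lit 78038272))) (.leaf (nat_lit 2575932684)))))) (.node (.node (.node (.node (.node (.leaf
    (nat_lit 49302278)) (.leaf (nat_lit 2879044107))) (.leaf (nat_lit 750053128))) (.node (.node
    (.leaf (nat_lit 330454533)) (.leaf (nat_lit 750316032))) (.leaf (nat_lit 1303887622)))) (.node
    (.node (.node (.leaf (nat_lit 332437761)) (.leaf (nat_lit 3278649099))) (.leaf (nat_lit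
    953563399))) (.node (.node (.leaf (nat_lit 938706443)) (.leaf (nat_lit 306916608))) (.leaf
    (nat_lit 2450078471))))) (.node (.node (.node (.node (.leaf (nat_lit 198204163)) (.leaf
    (nat_lit 3086515463))) (.leaf (nat_lit 856001796))) (.node (.node (.leaf (nat_lit 438498054))
    (.leaf (nat_lit 119698176))) (.leaf (nat_lit 1414040582)))) (.node (.node (.node (.leaf
    (nat_lit 474072587)) (.leaf (nat_lit 1368782848))) (.leaf (nat_lit 1879328521))) (.node (.node
    (.leaf (nat_lit 1146250762)) (.leaf (nat_lit 84955399))) (.leaf (nat_lit 1829371394)))))))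
    (.node (.node (.node (.node (.node (.node (.leaf (nat_lit 48243459)) (.leaf (nat_lit
    2757400581))) (.leaf (nat_lit 1273147657))) (.node (.node (.leaf (nat_lit 580004354)) (.leaf
    (nat_lit 415857152))) (.leaf (nat_lit 2032486665)))) (.node (.node (.node (.leaf (nat_lit
    181475849)) (.leaf (nat_lit 3218868998))) (.leaf (nat_lit 1628661251))) (.node (.node (.leaf
    (nat_lit 910285065)) (.leaf (nat_lit 745212160))) (.leaf (nat_lit 1536757512))))) (.node (.node
    (.node (.node (.leaf (nat_lit 122724356)) (.leaf (nat_lit 3035122178))) (.leaf (nat_lit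
    1323657220))) (.node (.node (.leaf (nat_lit 425905925)) (.leaf (nat_lit 2119728896))) (.leaf
    (nat_lit 1423464456)))) (.node (.node (.node (.leaf (nat_lit 444649476)) (.leaf (nat_lit
    3059484170))) (.leaf (nat_lit 1829149697))) (.node (.node (.leaf (nat_lit 1096962055)) (.leaf
    (nat_lit 304156418))) (.leaf (nat_lit 2155467011)))))) (.node (.node (.node (.node (.node
    (.leaf (nat_lit 110113283)) (.leaf (nat_lit 2930222599))) (.leaf (nat_lit 1233457924))) (.node
    (.node (.leaf (nat_lit 665931268)) (.leaf (nat_lit 555249152))) (.leaf (nat_lit 2137320449))))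
    (.node (.node (.node (.leaf (nat_lit 368093962)) (.leaf (nat_lit 1282870272))) (.leaf (nat_lit
    1541827849))) (.node (.node (.leaf (nat_lit 559133450)) (.leaf (nat_lit 173197824))) (.leaf
    (nat_lit 2517200641))))) (.node (.node (.node (.node (.leaf (nat_lit 140565505)) (.leaf
    (nat_lit 3130759940))) (.leaf (nat_lit 1523956236))) (.node (.node (.leaf (nat_lit 833728769))
    (.leaf (nat_lit 1507209472))) (.leaf (nat_lit 2348116737)))) (.node (.node (.node (.leaf
    (nat_lit 508628488)) (.leaf (nat_lit 901042688))) (.leaf (nat_lit 1927753740))) (.node (.leaf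
    (nat_lit 1188326916)) (.leaf (nat_lit 1856647686)))))))))) (.node (.node (.node (.node (.node
    (.node (.node (.node (.node (.leaf (nat_lit 2097932)) (.leaf (nat_lit 2756330756))) (.leaf
    (nat_lit 1204059403))) (.node (.node (.leaf (nat_lit 261222405)) (.leaf (nat_lit 274227456)))
    (.leaf (nat_lit 1850162950)))) (.node (.node (.node (.leaf (nat_lit 239134987)) (.leaf (nat_lit
    2490089989))) (.leaf (nat_lit 1555253511))) (.node (.node (.leaf (nat_lit 839067915)) (.leaf
    (nat_lit 1675087104))) (.leaf (nat_lit 1732824324))))) (.node (.node (.node (.node (.leaf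
    (nat_lit 62944009)) (.leaf (nat_lit 2952253447))) (.leaf (nat_lit 1379067649))) (.node (.node
    (.leaf (nat_lit 685861890)) (.leaf (nat_lit 904121344))) (.leaf (nat_lit 2157245704)))) (.node
    (.node (.node (.leaf (nat_lit 381728265)) (.leaf (nat_lit 2257229056))) (.leaf (nat_lit
    1746128130))) (.node (.node (.leaf (nat_lit 1008977419)) (.leaf (nat_lit 199640064))) (.leaf
    (nat_lit 2552625927)))))) (.node (.node (.node (.node (.node (.leaf (nat_lit 58734604)) (.leaf
    (nat_lit 2734283778))) (.leaf (nat_lit 1284819974))) (.node (.node (.leaf (nat_lit 312622341))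
    (.leaf (nat_lit 241649664))) (.leaf (nat_lit 2009571588)))) (.node (.node (.node (.leaf
    (nat_lit 308356866)) (.leaf (nat_lit 3008109064))) (.leaf (nat_lit 1191583489))) (.node (.node
    (.leaf (nat_lit 922964487)) (.leaf (nat_lit 135296006))) (.leaf (nat_lit 2449847300))))) (.node
    (.node (.node (.node (.leaf (nat_lit 84977670)) (.leaf (nat_lit 3051902729))) (.leaf (nat_lit
    1468205060))) (.node (.node (.leaf (nat_lit 766696972)) (.leaf (nat_lit 487226368))) (.leaf
    (nat_lit 2024302337)))) (.node (.node (.node (.leaf (nat_lit 289518602)) (.leaf (nat_lit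
    827540480))) (.leaf (nat_lit 1135010564))) (.node (.node (.leaf (nat_lit 1115838984)) (.leaf
    (nat_lit 278038528))) (.leaf (nat_lit 2652269316))))))) (.node (.node (.node (.node (.node
    (.node (.leaf (nat_lit 13639175)) (.leaf (nat_lit 1923774209))) (.leaf (nat_lit 825535239)))
    (.node (.node (.leaf (nat_lit 551686668)) (.leaf (nat_lit 746965248))) (.leaf (nat_lit
    1999937794)))) (.node (.node (.node (.leaf (nat_lit 268502284)) (.leaf (nat_lit 2467034119)))
    (.leaf (nat_lit 1601394698))) (.node (.node (.leaf (nat_lit 875776774)) (.leaf (nat_lit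
    121663490))) (.leaf (nat_lit 2402655495))))) (.node (.node (.node (.node (.leaf (nat_lit
    93359619)) (.leaf (nat_lit 3000510467))) (.leaf (nat_lit 1372932609))) (.node (.node (.leaf
    (nat_lit 446871810)) (.leaf (nat_lit 554904576))) (.leaf (nat_lit 2205485315)))) (.node (.node
    (.node (.leaf (nat_lit 412193026)) (.leaf (nat_lit 3278502919))) (.leaf (nat_lit 1797518850)))
    (.node (.node (.leaf (nat_lit 1058272780)) (.leaf (nat_lit 283206144))) (.leaf (nat_lit
    2601103618)))))) (.node (.node (.node (.node (.node (.leaf (nat_lit 70276356)) (.leaf (nat_lit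
    2896672008))) (.leaf (nat_lit 1332925700))) (.node (.node (.leaf (nat_lit 351429639)) (.leaf
    (nat_lit 413240580))) (.leaf (nat_lit 1308086535)))) (.node (.node (.node (.leaf (nat_lit
    343973378)) (.leaf (nat_lit 3295408641))) (.leaf (nat_lit 1690539779))) (.node (.node (.leaf
    (nat_lit 960730123)) (.leaf (nat_lit 306888448))) (.leaf (nat_lit 2500189447))))) (.node (.node
    (.node (.node (.leaf (nat_lit 208690698)) (.leaf (nat_lit 3096152587))) (.leaf (nat_lit
    1489346057))) (.node (.node (.leaf (nat_lit 790823692)) (.leaf (nat_lit 525828352))) (.leaf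
    (nat_lit 2313550087)))) (.node (.node (.node (.leaf (nat_lit 487655169)) (.leaf (nat_lit
    416883968))) (.leaf (nat_lit 1900302593))) (.node (.node (.leaf (nat_lit 1157786116)) (.leaf
    (nat_lit 363928842))) (.leaf (nat_lit 2703670018)))))))) (.node (.node (.node (.node (.node
    (.node (.node (.leaf (nat_lit 8392449)) (.leaf (nat_lit 2783379972))) (.leaf (nat_lit
    805606919))) (.node (.node (.leaf (nat_lit 537985287)) (.leaf (nat_lit 255597312))) (.leaf
    (nat_lit 1973718793)))) (.node (.node (.node (.leaf (nat_lit 133232642)) (.leaf (nat_lit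
    3187218696))) (.leaf (nat_lit 1476780294))) (.node (.node (.leaf (nat_lit 857947147)) (.leaf
    (nat_lit 286811392))) (.leaf (nat_lit 2380631554))))) (.node (.node (.node (.node (.leaf
    (nat_lit 131105292)) (.leaf (nat_lit 2586515203))) (.leaf (nat_lit 798307845))) (.node (.node
    (.leaf (nat_lit 408069639)) (.leaf (nat_lit 506769920))) (.leaf (nat_lit 1352147202)))) (.node
    (.node (.node (.leaf (nat_lit 404800520)) (.leaf (nat_lit 3086637315))) (.leaf (nat_lit
    1121360137))) (.node (.node (.leaf (nat_lit 1004789249)) (.leaf (nat_lit 132148489))) (.leaf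
    (nat_lit 2575702273)))))) (.node (.node (.node (.node (.node (.leaf (nat_lit 75506180)) (.leaf
    (nat_lit 2743776003))) (.leaf (nat_lit 745857285))) (.node (.node (.leaf (nat_lit 622933763))
    (.leaf (nat_lit 242980864))) (.leaf (nat_lit 2074396682)))) (.node (.node (.node (.leaf
    (nat_lit 325138188)) (.leaf (nat_lit 3272175617))) (.leaf (nat_lit 1664322049))) (.node (.node
    (.leaf (nat_lit 942795015)) (.leaf (nat_lit 296884480))) (.leaf (nat_lit 2471871239))))) (.node
    (.node (.node (.node (.leaf (nat_lit 177256709)) (.leaf (nat_lit 2340124929))) (.leaf (nat_lit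
    843417606))) (.node (.node (.leaf (nat_lit 455273993)) (.leaf (nat_lit 244449024))) (.leaf
    (nat_lit 2285190664)))) (.node (.node (.node (.leaf (nat_lit 246530823)) (.leaf (nat_lit
    434325504))) (.leaf (nat_lit 1873036295))) (.node (.node (.leaf (nat_lit 1139958788)) (.leaf
    (nat_lit 102790662))) (.leaf (nat_lit 2666133511))))))) (.node (.node (.node (.node (.node
    (.node (.leaf (nat_lit 23079425)) (.leaf (nat_lit 2827653643))) (.leaf (nat_lit 1263843596)))
    (.node (.node (.leaf (nat_lit 575738113)) (.leaf (nat_lit 789130752))) (.leaf (nat_lit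
    2027206410)))) (.node (.node (.node (.leaf (nat_lit 275846924)) (.leaf (nat_lit 3226207756)))
    (.leaf (nat_lit 1503005702))) (.node (.node (.leaf (nat_lit 906090505)) (.leaf (nat_lit
    32919296))) (.leaf (nat_lit 1528367622))))) (.node (.node (.node (.node (.leaf (nat_lit
    156277772)) (.leaf (nat_lit 3025880578))) (.leaf (nat_lit 832922377))) (.node (.node (.leaf
    (nat_lit 445828098)) (.leaf (nat_lit 645672192))) (.leaf (nat_lit 2232753928)))) (.node (.node
    (.node (.leaf (nat_lit 435266316)) (.leaf (nat_lit 3043759104))) (.leaf (nat_lit 1099352837)))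
    (.node (.node (.leaf (nat_lit 624169481)) (.leaf (nat_lit 193347840))) (.leaf (nat_lit
    1987693316)))))) (.node (.node (.node (.node (.node (.leaf (nat_lit 52454922)) (.leaf (nat_lit
    2923928839))) (.leaf (nat_lit 807734531))) (.node (.node (.leaf (nat_lit 657618437)) (.leaf
    (nat_lit 843762944))) (.leaf (nat_lit 2129105153)))) (.node (.node (.node (.leaf (nat_lit
    194075394)) (.leaf (nat_lit 2973451017))) (.leaf (nat_lit 1532389130))) (.node (.node (.leaf
    (nat_lit 987999755)) (.leaf (nat_lit 860443904))) (.leaf (nat_lit 2434361605))))) (.node (.node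
    (.node (.node (.leaf (nat_lit 226544905)) (.leaf (nat_lit 2545656578))) (.leaf (nat_lit
    1532343810))) (.node (.node (.leaf (nat_lit 819139846)) (.leaf (nat_lit 863735040))) (.leaf
    (nat_lit 2341821444)))) (.node (.node (.node (.leaf (nat_lit 496099851)) (.leaf (nat_lit
    1263087360))) (.leaf (nat_lit 1887906054))) (.node (.leaf (nat_lit 656697350)) (.leaf (nat_lit
    2730942977))))))))) (.node (.node (.node (.node (.node (.node (.node (.node (.leaf (nat_lit
    10487043)) (.leaf (nat_lit 1884967169))) (.leaf (nat_lit 1221761539))) (.node (.node (.leaf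
    (nat_lit 448920069)) (.leaf (nat_lit 255977216))) (.leaf (nat_lit 1951877643)))) (.node (.node
    (.node (.leaf (nat_lit 249622539)) (.leaf (nat_lit 2435567365))) (.leaf (nat_lit 992335366)))
    (.node (.node (.leaf (nat_lit 546516998)) (.leaf (nat_lit 1692921344))) (.leaf (nat_lit
    1570297098))))) (.node (.node (.node (.node (.leaf (nat_lit 97548547)) (.leaf (nat_lit
    2144012808))) (.leaf (nat_lit 1384458757))) (.node (.node (.leaf (nat_lit 697399560)) (.leaf
    (nat_lit 1455023104))) (.leaf (nat_lit 1941444102)))) (.node (.node (.node (.leaf (nat_lit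
    394313986)) (.leaf (nat_lit 2810676996))) (.leaf (nat_lit 1028034053))) (.node (.node (.leaf
    (nat_lit 1026806796)) (.leaf (nat_lit 231835648))) (.leaf (nat_lit 2564383491)))))) (.node
    (.node (.node (.node (.node (.leaf (nat_lit 37765127)) (.leaf (nat_lit 2864360460))) (.leaf
    (nat_lit 1298316290))) (.node (.node (.leaf (nat_lit 370296581)) (.leaf (nat_lit 270231296)))
    (.leaf (nat_lit 1395109641)))) (.node (.node (.node (.leaf (nat_lit 160509704)) (.leaf (nat_lit
    3259588362))) (.leaf (nat_lit 1654882314))) (.node (.node (.leaf (nat_lit 888371211)) (.leaf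
    (nat_lit 133208832))) (.leaf (nat_lit 2458462732))))) (.node (.node (.node (.node (.leaf
    (nat_lit 93368842)) (.leaf (nat_lit 3065537539))) (.leaf (nat_lit 849707018))) (.node (.node
    (.leaf (nat_lit 778233611)) (.leaf (nat_lit 121701376))) (.leaf (nat_lit 1449686024)))) (.node
    (.node (.node (.leaf (nat_lit 411155210)) (.leaf (nat_lit 1251734272))) (.leaf (nat_lit
    1136061957))) (.node (.node (.leaf (nat_lit 821310214)) (.leaf (nat_lit 335601928))) (.leaf
    (nat_lit 2356799745))))))) (.node (.node (.node (.node (.node (.node (.leaf (nat_lit 27272195))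
    (.leaf (nat_lit 2824285442))) (.leaf (nat_lit 1261612298))) (.node (.node (.leaf (nat_lit
    563223044)) (.leaf (nat_lit 765676288))) (.leaf (nat_lit 1294434057)))) (.node (.node (.node
    (.leaf (nat_lit 277941515)) (.leaf (nat_lit 3179019270))) (.leaf (nat_lit 1611881224))) (.node
    (.node (.leaf (nat_lit 891507458)) (.leaf (nat_lit 523660288))) (.leaf (nat_lit 1568210945)))))
    (.node (.node (.node (.node (.leaf (nat_lit 73437958)) (.leaf (nat_lit 3015193347))) (.leaf
    (nat_lit 1433597959))) (.node (.node (.leaf (nat_lit 420659718)) (.leaf (nat_lit 2023204352)))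
    (.leaf (nat_lit 2217022218)))) (.node (.node (.node (.leaf (nat_lit 426834945)) (.leaf (nat_lit
    3203129609))) (.leaf (nat_lit 1811329289))) (.node (.node (.leaf (nat_lit 1079131905)) (.leaf
    (nat_lit 282139396))) (.leaf (nat_lit 2611592198)))))) (.node (.node (.node (.node (.node
    (.leaf (nat_lit 49306885)) (.leaf (nat_lit 2074793735))) (.leaf (nat_lit 766837254))) (.node
    (.node (.leaf (nat_lit 650201348)) (.leaf (nat_lit 508747520))) (.leaf (nat_lit 2115297800))))
    (.node (.node (.node (.leaf (nat_lit 169955334)) (.leaf (nat_lit 2572961536))) (.leaf (nat_lit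
    1705222401))) (.node (.node (.leaf (nat_lit 975304964)) (.leaf (nat_lit 284246528))) (.leaf
    (nat_lit 1585011461))))) (.node (.node (.node (.node (.leaf (nat_lit 213962763)) (.leaf
    (nat_lit 3110835980))) (.leaf (nat_lit 1521707273))) (.node (.node (.leaf (nat_lit 820095492))
    (.leaf (nat_lit 239761920))) (.leaf (nat_lit 2325261317)))) (.node (.node (.node (.leaf
    (nat_lit 492952332)) (.leaf (nat_lit 251154176))) (.leaf (nat_lit 1910972171))) (.node (.leaf
    (nat_lit 1169321218)) (.leaf (nat_lit 2717305604)))))))) (.node (.node (.node (.node (.node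
    (.node (.node (.leaf (nat_lit 13637125)) (.leaf (nat_lit 2797017863))) (.leaf (nat_lit
    1243784193))) (.node (.node (.leaf (nat_lit 480381190)) (.leaf (nat_lit 1476903680))) (.leaf
    (nat_lit 1966564868)))) (.node (.node (.node (.leaf (nat_lit 267418122)) (.leaf (nat_lit
    3197705729))) (.leaf (nat_lit 1575348737))) (.node (.node (.leaf (nat_lit 873677836)) (.leaf
    (nat_lit 863405568))) (.leaf (nat_lit 2391132426))))) (.node (.node (.node (.node (.leaf
    (nat_lit 141592578)) (.leaf (nat_lit 2987925001))) (.leaf (nat_lit 796213250))) (.node (.node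
    (.leaf (nat_lit 458403592)) (.leaf (nat_lit 247580672))) (.leaf (nat_lit 2193107979)))) (.node
    (.node (.node (.leaf (nat_lit 414238977)) (.leaf (nat_lit 1790571008))) (.leaf (nat_lit
    1055302408))) (.node (.node (.leaf (nat_lit 1049766659)) (.leaf (nat_lit 164668169))) (.leaf
    (nat_lit 2583273989)))))) (.node (.node (.node (.node (.node (.leaf (nat_lit 75517698)) (.leaf
    (nat_lit 2885122056))) (.leaf (nat_lit 1309993996))) (.node (.node (.leaf (nat_lit 635517698))
    (.leaf (nat_lit 1311367424))) (.leaf (nat_lit 2085933059)))) (.node (.node (.node (.leaf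
    (nat_lit 335591690)) (.leaf (nat_lit 2565618954))) (.leaf (nat_lit 960904965))) (.node (.node
    (.leaf (nat_lit 950242059)) (.leaf (nat_lit 376604928))) (.leaf (nat_lit 2458468616))))) (.node
    (.node (.node (.node (.leaf (nat_lit 202424587)) (.leaf (nat_lit 3092808201))) (.leaf (nat_lit
    1477808907))) (.node (.node (.leaf (nat_lit 800170504)) (.leaf (nat_lit 277556736))) (.leaf
    (nat_lit 2301969672)))) (.node (.node (.node (.leaf (nat_lit 479316492)) (.leaf (nat_lit
    669707520))) (.leaf (nat_lit 1866925316))) (.node (.node (.leaf (nat_lit 1150445322)) (.leaf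
    (nat_lit 73432071))) (.leaf (nat_lit 2687934979))))))) (.node (.node (.node (.node (.node
    (.node (.leaf (nat_lit 52434439)) (.leaf (nat_lit 2819267847))) (.leaf (nat_lit 1277477644)))
    (.node (.node (.leaf (nat_lit 298987009)) (.leaf (nat_lit 1839900160))) (.leaf (nat_lit
    2038742023)))) (.node (.node (.node (.leaf (nat_lit 302025991)) (.leaf (nat_lit 3223064322)))
    (.leaf (nat_lit 1631983115))) (.node (.node (.leaf (nat_lit 505637381)) (.leaf (nat_lit
    2886799881))) (.leaf (nat_lit 2437263367))))) (.node (.node (.node (.node (.leaf (nat_lit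
    167813899)) (.leaf (nat_lit 2239451910))) (.leaf (nat_lit 810904837))) (.node (.node (.leaf
    (nat_lit 470996487)) (.leaf (nat_lit 561235968))) (.leaf (nat_lit 1381522694)))) (.node (.node
    (.node (.leaf (nat_lit 352430849)) (.leaf (nat_lit 2223762944))) (.leaf (nat_lit 1122424834)))
    (.node (.node (.leaf (nat_lit 634658053)) (.leaf (nat_lit 287377418))) (.leaf (nat_lit
    2641779460)))))) (.node (.node (.node (.node (.node (.leaf (nat_lit 74476552)) (.leaf (nat_lit
    2069557514))) (.leaf (nat_lit 1367675655))) (.node (.node (.leaf (nat_lit 669088257)) (.leaf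
    (nat_lit 437396736))) (.leaf (nat_lit 2113403916)))) (.node (.node (.node (.leaf (nat_lit
    318857986)) (.leaf (nat_lit 2059020544))) (.leaf (nat_lit 1554412297))) (.node (.node (.leaf
    (nat_lit 999426570)) (.leaf (nat_lit 173442048))) (.leaf (nat_lit 2540040707))))) (.node (.node
    (.node (.node (.leaf (nat_lit 125886211)) (.leaf (nat_lit 2379984903))) (.leaf (nat_lit
    1541783563))) (.node (.node (.leaf (nat_lit 556998406)) (.leaf (nat_lit 958781184))) (.leaf
    (nat_lit 1720238858)))) (.node (.node (.node (.leaf (nat_lit 402778371)) (.leaf (nat_lit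
    415779328))) (.leaf (nat_lit 1175925766))) (.node (.leaf (nat_lit 1157919243)) (.leaf (nat_lit
    2744793604))))))))))) (.node (.node (.node (.node (.node (.node (.node (.node (.node (.node
    (.leaf (nat_lit 1048843)) (.leaf (nat_lit 2605335049))) (.leaf (nat_lit 1137998084))) (.node
    (.node (.leaf (nat_lit 262270727)) (.leaf (nat_lit 462697472))) (.leaf (nat_lit 1944347913))))
    (.node (.node (.node (.leaf (nat_lit 241231618)) (.leaf (nat_lit 2505817606))) (.leaf (nat_lit
    1551058951))) (.node (.node (.leaf (nat_lit 841164300)) (.leaf (nat_lit 581333504))) (.leaf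
    (nat_lit 1498991370))))) (.node (.node (.node (.node (.leaf (nat_lit 118514433)) (.leaf
    (nat_lit 2214263817))) (.leaf (nat_lit 779427334))) (.node (.node (.leaf (nat_lit 682715905))
    (.leaf (nat_lit 1507328256))) (.leaf (nat_lit 2152203531)))) (.node (.node (.node (.leaf
    (nat_lit 193030152)) (.leaf (nat_lit 2155540224))) (.leaf (nat_lit 1013349642))) (.node (.node
    (.leaf (nat_lit 1009913352)) (.leaf (nat_lit 363949312))) (.leaf (nat_lit 2549479426))))))
    (.node (.node (.node (.node (.node (.leaf (nat_lit 27276807)) (.leaf (nat_lit 2732068615)))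
    (.leaf (nat_lit 1285731338))) (.node (.node (.leaf (nat_lit 597762307)) (.leaf (nat_lit
    64690688))) (.leaf (nat_lit 2035785473)))) (.node (.node (.node (.leaf (nat_lit 306259202))
    (.leaf (nat_lit 2498500105))) (.leaf (nat_lit 943070218))) (.node (.node (.leaf (nat_lit
    921821188)) (.leaf (nat_lit 565873664))) (.leaf (nat_lit 2441681670))))) (.node (.node (.node
    (.node (.leaf (nat_lit 174106371)) (.leaf (nat_lit 3045808907))) (.leaf (nat_lit 1459975435)))
    (.node (.node (.leaf (nat_lit 768711172)) (.leaf (nat_lit 473041408))) (.leaf (nat_lit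
    1447585032)))) (.node (.node (.node (.leaf (nat_lit 226603782)) (.leaf (nat_lit 2745961216)))
    (.leaf (nat_lit 1841750027))) (.node (.node (.leaf (nat_lit 1090790404)) (.leaf (nat_lit
    2670747907))) (.leaf (nat_lit 2427051785))))))) (.node (.node (.node (.node (.node (.node
    (.leaf (nat_lit 27270153)) (.leaf (nat_lit 2747954437))) (.leaf (nat_lit 1251125506))) (.node
    (.node (.leaf (nat_lit 553776129)) (.leaf (nat_lit 1321575168))) (.leaf (nat_lit 1995927563))))
    (.node (.node (.node (.leaf (nat_lit 135332870)) (.leaf (nat_lit 3182162443))) (.leaf (nat_lit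
    1596151559))) (.node (.node (.leaf (nat_lit 494094596)) (.leaf (nat_lit 435337216))) (.leaf
    (nat_lit 2399509512))))) (.node (.node (.node (.node (.leaf (nat_lit 69241865)) (.leaf (nat_lit
    2997363972))) (.leaf (nat_lit 795166469))) (.node (.node (.leaf (nat_lit 723695372)) (.leaf
    (nat_lit 578262528))) (.leaf (nat_lit 1372075009)))) (.node (.node (.node (.leaf (nat_lit
    418450185)) (.leaf (nat_lit 1815744000))) (.leaf (nat_lit 1792454406))) (.node (.node (.leaf
    (nat_lit 1060369412)) (.leaf (nat_lit 151251200))) (.leaf (nat_lit 2598774280)))))) (.node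
    (.node (.node (.node (.node (.leaf (nat_lit 72372993)) (.leaf (nat_lit 2010826758))) (.leaf
    (nat_lit 1234498564))) (.node (.node (.leaf (nat_lit 348283654)) (.leaf (nat_lit 488813312)))
    (.leaf (nat_lit 2089274892)))) (.node (.node (.node (.leaf (nat_lit 341875978)) (.leaf (nat_lit
    3223077889))) (.leaf (nat_lit 1662404353))) (.node (.node (.leaf (nat_lit 958525706)) (.leaf
    (nat_lit 308987904))) (.leaf (nat_lit 2497043204))))) (.node (.node (.node (.node (.leaf
    (nat_lit 153142535)) (.leaf (nat_lit 2220538121))) (.leaf (nat_lit 860199685))) (.node (.node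
    (.leaf (nat_lit 718471427)) (.leaf (nat_lit 565920512))) (.leaf (nat_lit 2308480012)))) (.node
    (.node (.node (.leaf (nat_lit 486597128)) (.leaf (nat_lit 502817280))) (.leaf (nat_lit
    1884754188))) (.node (.node (.leaf (nat_lit 1154764299)) (.leaf (nat_lit 1798376714))) (.leaf
    (nat_lit 2699474441)))))))) (.node (.node (.node (.node (.node (.node (.node (.leaf (nat_lit
    14681857)) (.leaf (nat_lit 1955224325))) (.leaf (nat_lit 1229102340))) (.node (.node (.leaf
    (nat_lit 270663429)) (.leaf (nat_lit 249873152))) (.leaf (nat_lit 1969522946)))) (.node (.node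
    (.node (.leaf (nat_lit 257980161)) (.leaf (nat_lit 3183023881))) (.leaf (nat_lit 1576227080)))
    (.node (.node (.leaf (nat_lit 547568130)) (.leaf (nat_lit 2413494272))) (.leaf (nat_lit
    2378534153))))) (.node (.node (.node (.node (.leaf (nat_lit 133201932)) (.leaf (nat_lit
    2971341835))) (.leaf (nat_lit 804598792))) (.node (.node (.leaf (nat_lit 707886595)) (.leaf
    (nat_lit 568713216))) (.leaf (nat_lit 2179473164)))) (.node (.node (.node (.leaf (nat_lit
    397508363)) (.leaf (nat_lit 3087686147))) (.leaf (nat_lit 1051105032))) (.node (.node (.leaf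
    (nat_lit 1035197451)) (.leaf (nat_lit 187787520))) (.leaf (nat_lit 1912181766)))))) (.node
    (.node (.node (.node (.node (.leaf (nat_lit 72360196)) (.leaf (nat_lit 2641015302))) (.leaf
    (nat_lit 1307755274))) (.node (.node (.leaf (nat_lit 620836361)) (.leaf (nat_lit 926221568)))
    (.leaf (nat_lit 2069346060)))) (.node (.node (.node (.leaf (nat_lit 296825862)) (.leaf (nat_lit
    3270078217))) (.leaf (nat_lit 1662224649))) (.node (.node (.leaf (nat_lit 938704900)) (.leaf
    (nat_lit 369829632))) (.leaf (nat_lit 1558786311))))) (.node (.node (.node (.node (.leaf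
    (nat_lit 191933443)) (.leaf (nat_lit 3077074953))) (.leaf (nat_lit 1482891530))) (.node (.node
    (.leaf (nat_lit 778234636)) (.leaf (nat_lit 450079488))) (.leaf (nat_lit 1452834568)))) (.node
    (.node (.node (.leaf (nat_lit 257016065)) (.leaf (nat_lit 939097600))) (.leaf (nat_lit
    1190590218))) (.node (.node (.leaf (nat_lit 1127496715)) (.leaf (nat_lit 126897418))) (.leaf
    (nat_lit 2613703170))))))) (.node (.node (.node (.node (.node (.node (.leaf (nat_lit 32516361))
    (.leaf (nat_lit 2834773255))) (.leaf (nat_lit 768915201))) (.node (.node (.leaf (nat_lit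
    571543553)) (.leaf (nat_lit 784730368))) (.leaf (nat_lit 2024060423)))) (.node (.node (.node
    (.leaf (nat_lit 291537411)) (.leaf (nat_lit 2474377993))) (.leaf (nat_lit 1543899651))) (.node
    (.node (.leaf (nat_lit 897801483)) (.leaf (nat_lit 417047040))) (.leaf (nat_lit 1621690378)))))
    (.node (.node (.node (.node (.leaf (nat_lit 75536906)) (.leaf (nat_lit 2332771075))) (.leaf
    (nat_lit 1440046860))) (.node (.node (.leaf (nat_lit 745720332)) (.leaf (nat_lit 417902080)))
    (.leaf (nat_lit 1471696138)))) (.node (.node (.node (.leaf (nat_lit 436260356)) (.leaf (nat_lit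
    2238465280))) (.leaf (nat_lit 1819723787))) (.node (.node (.leaf (nat_lit 1086590731)) (.leaf
    (nat_lit 165068288))) (.leaf (nat_lit 1813628938)))))) (.node (.node (.node (.node (.node
    (.leaf (nat_lit 103827463)) (.leaf (nat_lit 2075844872))) (.leaf (nat_lit 1354947594))) (.node
    (.node (.leaf (nat_lit 354579464)) (.leaf (nat_lit 1018896384))) (.leaf (nat_lit 2125784328))))
    (.node (.node (.node (.leaf (nat_lit 199317505)) (.leaf (nat_lit 3075154952))) (.leaf (nat_lit
    992371717))) (.node (.node (.leaf (nat_lit 538159882)) (.leaf (nat_lit 1311131648))) (.leaf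
    (nat_lit 2516149771))))) (.node (.node (.node (.node (.leaf (nat_lit 212915724)) (.leaf
    (nat_lit 3120275460))) (.leaf (nat_lit 1530085383))) (.node (.node (.leaf (nat_lit 825408513))
    (.leaf (nat_lit 858292480))) (.leaf (nat_lit 1443411206)))) (.node (.node (.node (.leaf
    (nat_lit 489807883)) (.leaf (nat_lit 243604480))) (.leaf (nat_lit 1876370948))) (.node (.leaf
    (nat_lit 1127507203)) (.leaf (nat_lit 2725914635))))))))) (.node (.node (.node (.node (.node
    (.node (.node (.node (.leaf (nat_lit 8390668)) (.leaf (nat_lit 1922715142))) (.leaf (nat_lit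
    699697418))) (.node (.node (.leaf (nat_lit 528546823)) (.leaf (nat_lit 253880832))) (.leaf
    (nat_lit 1954834948)))) (.node (.node (.node (.leaf (nat_lit 121695494)) (.leaf (nat_lit
    3166424076))) (.leaf (nat_lit 930468873))) (.node (.node (.leaf (nat_lit 545468165)) (.leaf
    (nat_lit 1682439936))) (.leaf (nat_lit 2370144515))))) (.node (.node (.node (.node (.leaf
    (nat_lit 60847878)) (.leaf (nat_lit 2139817736))) (.leaf (nat_lit 782575877))) (.node (.node
    (.leaf (nat_lit 394433797)) (.leaf (nat_lit 2100017152))) (.leaf (nat_lit 2167733249)))) (.node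
    (.node (.node (.leaf (nat_lit 201422089)) (.leaf (nat_lit 2022343936))) (.leaf (nat_lit
    1045858824))) (.node (.node (.leaf (nat_lit 1023548426)) (.leaf (nat_lit 194413824))) (.leaf
    (nat_lit 2537130507)))))) (.node (.node (.node (.node (.node (.leaf (nat_lit 65026311)) (.leaf
    (nat_lit 2857019137))) (.leaf (nat_lit 1295169796))) (.node (.node (.leaf (nat_lit 338838791))
    (.leaf (nat_lit 132585984))) (.leaf (nat_lit 2055711756)))) (.node (.node (.node (.leaf
    (nat_lit 315659266)) (.leaf (nat_lit 3256441865))) (.leaf (nat_lit 1653833730))) (.node (.node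
    (.leaf (nat_lit 892565003)) (.leaf (nat_lit 73466624))) (.leaf (nat_lit 2456364812))))) (.node
    (.node (.node (.node (.leaf (nat_lit 155234308)) (.leaf (nat_lit 3061341953))) (.leaf (nat_lit
    840269317))) (.node (.node (.leaf (nat_lit 436397318)) (.leaf (nat_lit 479325952))) (.leaf
    (nat_lit 2266313737)))) (.node (.node (.node (.leaf (nat_lit 447855116)) (.leaf (nat_lit
    1151862272))) (.leaf (nat_lit 1857481730))) (.node (.node (.leaf (nat_lit 1039413513)) (.leaf
    (nat_lit 333507848))) (.leaf (nat_lit 2658563330))))))) (.node (.node (.node (.node (.node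
    (.node (.leaf (nat_lit 36707331)) (.leaf (nat_lit 2821139204))) (.leaf (nat_lit 802468101)))
    (.node (.node (.leaf (nat_lit 284301318)) (.leaf (nat_lit 1160490496))) (.leaf (nat_lit
    2008513538)))) (.node (.node (.node (.leaf (nat_lit 135334919)) (.leaf (nat_lit 3214485761)))
    (.leaf (nat_lit 1554382598))) (.node (.node (.leaf (nat_lit 890360842)) (.leaf (nat_lit
    140561408))) (.leaf (nat_lit 1717107714))))) (.node (.node (.node (.node (.leaf (nat_lit
    89166340)) (.leaf (nat_lit 3009948674))) (.leaf (nat_lit 1431500803))) (.node (.node (.leaf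
    (nat_lit 717406210)) (.leaf (nat_lit 579126272))) (.leaf (nat_lit 1385709313)))) (.node (.node
    (.node (.leaf (nat_lit 424777228)) (.leaf (nat_lit 3196843530))) (.leaf (nat_lit 1808008194)))
    (.node (.node (.leaf (nat_lit 1074004235)) (.leaf (nat_lit 196318720))) (.leaf (nat_lit
    2580133890)))))) (.node (.node (.node (.node (.node (.leaf (nat_lit 95443723)) (.leaf (nat_lit
    2072695815))) (.leaf (nat_lit 1343412489))) (.node (.node (.leaf (nat_lit 643983621)) (.leaf
    (nat_lit 1483195904))) (.leaf (nat_lit 1320672514)))) (.node (.node (.node (.leaf (nat_lit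
    253841158)) (.leaf (nat_lit 3303709447))) (.leaf (nat_lit 1701027593))) (.node (.node (.leaf
    (nat_lit 773037313)) (.leaf (nat_lit 109815040))) (.leaf (nat_lit 2509628423))))) (.node (.node
    (.node (.node (.leaf (nat_lit 214982914)) (.leaf (nat_lit 3109589770))) (.leaf (nat_lit
    1519597313))) (.node (.node (.leaf (nat_lit 817998084)) (.leaf (nat_lit 209429760))) (.leaf
    (nat_lit 2312677644)))) (.node (.node (.node (.leaf (nat_lit 495048964)) (.leaf (nat_lit
    838169856))) (.leaf (nat_lit 1909740808))) (.node (.node (.leaf (nat_lit 1126455043)) (.leaf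
    (nat_lit 127945482))) (.leaf (nat_lit 2714159363)))))))) (.node (.node (.node (.node (.node
    (.node (.node (.leaf (nat_lit 22022665)) (.leaf (nat_lit 2792822791))) (.leaf (nat_lit
    1240638209))) (.node (.node (.leaf (nat_lit 545326599)) (.leaf (nat_lit 479557376))) (.leaf
    (nat_lit 1984206082)))) (.node (.node (.node (.leaf (nat_lit 264305931)) (.leaf (nat_lit
    3158041859))) (.leaf (nat_lit 1581639691))) (.node (.node (.leaf (nat_lit 569590279)) (.leaf
    (nat_lit 1747696384))) (.leaf (nat_lit 1553523978))))) (.node (.node (.node (.node (.leaf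
    (nat_lit 89163272)) (.leaf (nat_lit 2275089928))) (.leaf (nat_lit 794115589))) (.node (.node
    (.leaf (nat_lit 717401356)) (.leaf (nat_lit 287656192))) (.leaf (nat_lit 1349003269)))) (.node
    (.node (.node (.leaf (nat_lit 410093570)) (.leaf (nat_lit 1749682432))) (.leaf (nat_lit
    1778639362))) (.node (.node (.leaf (nat_lit 954459910)) (.leaf (nat_lit 98182144))) (.leaf
    (nat_lit 1848221701)))))) (.node (.node (.node (.node (.node (.leaf (nat_lit 63982849)) (.leaf
    (nat_lit 2882020873))) (.leaf (nat_lit 1319290631))) (.node (.node (.leaf (nat_lit 627202316))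
    (.leaf (nat_lit 1275643392))) (.leaf (nat_lit 2044183052)))) (.node (.node (.node (.leaf
    (nat_lit 162610949)) (.leaf (nat_lit 3282663938))) (.leaf (nat_lit 1048984579))) (.node (.node
    (.leaf (nat_lit 569608451)) (.leaf (nat_lit 293744640))) (.leaf (nat_lit 2481309960))))) (.node
    (.node (.node (.node (.leaf (nat_lit 198229515)) (.leaf (nat_lit 2966126856))) (.leaf (nat_lit
    846565381))) (.node (.node (.leaf (nat_lit 797024769)) (.leaf (nat_lit 555428608))) (.leaf
    (nat_lit 2297774852)))) (.node (.node (.node (.leaf (nat_lit 238143493)) (.leaf (nat_lit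
    819313408))) (.leaf (nat_lit 1876361740))) (.node (.node (.leaf (nat_lit 1148348164)) (.leaf
    (nat_lit 303107585))) (.leaf (nat_lit 1837760515))))))) (.node (.node (.node (.node (.node
    (.node (.leaf (nat_lit 49295362)) (.leaf (nat_lit 1962580489))) (.leaf (nat_lit 1275245057)))
    (.node (.node (.leaf (nat_lit 363998217)) (.leaf (nat_lit 458850304))) (.leaf (nat_lit
    2036644865)))) (.node (.node (.node (.leaf (nat_lit 297868556)) (.leaf (nat_lit 3235633411)))
    (.leaf (nat_lit 1631807236))) (.node (.node (.leaf (nat_lit 900949516)) (.leaf (nat_lit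
    2831272195))) (.leaf (nat_lit 2435165960))))) (.node (.node (.node (.node (.leaf (nat_lit
    101753091)) (.leaf (nat_lit 3037220612))) (.leaf (nat_lit 1454571786))) (.node (.node (.leaf
    (nat_lit 758224388)) (.leaf (nat_lit 808794368))) (.leaf (nat_lit 2243240711)))) (.node (.node
    (.node (.leaf (nat_lit 220309765)) (.leaf (nat_lit 2523571465))) (.leaf (nat_lit 1106695433)))
    (.node (.node (.leaf (nat_lit 631511302)) (.leaf (nat_lit 309404935))) (.leaf (nat_lit
    2637812740)))))) (.node (.node (.node (.node (.node (.leaf (nat_lit 111167240)) (.leaf (nat_lit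
    2933369097))) (.leaf (nat_lit 1241847300))) (.node (.node (.leaf (nat_lit 401767683)) (.leaf
    (nat_lit 286603008))) (.leaf (nat_lit 1462237193)))) (.node (.node (.node (.leaf (nat_lit
    296837124)) (.leaf (nat_lit 1918351360))) (.leaf (nat_lit 1016492042))) (.node (.node (.leaf
    (nat_lit 997329411)) (.leaf (nat_lit 203852032))) (.leaf (nat_lit 2428072454))))) (.node (.node
    (.node (.node (.leaf (nat_lit 231771656)) (.leaf (nat_lit 3132861447))) (.leaf (nat_lit
    1538636811))) (.node (.node (.leaf (nat_lit 784538891)) (.leaf (nat_lit 1020650240))) (.leaf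
    (nat_lit 1497940234)))) (.node (.node (.node (.leaf (nat_lit 257026056)) (.leaf (nat_lit
    141145344))) (.leaf (nat_lit 1870082562))) (.node (.leaf (nat_lit 1190424580)) (.leaf (nat_lit
    2742478855)))))))))) (.node (.node (.node (.node (.node (.node (.node (.node (.node (.leaf
    (nat_lit 4195340)) (.leaf (nat_lit 2760313859))) (.leaf (nat_lit 1209303563))) (.node (.node
    (.leaf (nat_lit 260174601)) (.leaf (nat_lit 251994624))) (.leaf (nat_lit 1947664899)))) (.node
    (.node (.node (.leaf (nat_lit 138472202)) (.leaf (nat_lit 2527839234))) (.leaf (nat_lit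
    1537592836))) (.node (.node (.leaf (nat_lit 850511363)) (.leaf (nat_lit 523481856))) (.leaf
    (nat_lit 2365949697))))) (.node (.node (.node (.node (.leaf (nat_lit 61895684)) (.leaf (nat_lit
    2955399684))) (.leaf (nat_lit 1382213384))) (.node (.node (.leaf (nat_lit 687960583)) (.leaf
    (nat_lit 750321408))) (.leaf (nat_lit 2161440521)))) (.node (.node (.node (.leaf (nat_lit
    384875015)) (.leaf (nat_lit 1877456129))) (.leaf (nat_lit 1049002760))) (.node (.node (.leaf
    (nat_lit 857983233)) (.leaf (nat_lit 2794170112))) (.leaf (nat_lit 1632208136)))))) (.node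
    (.node (.node (.node (.node (.leaf (nat_lit 61872906)) (.leaf (nat_lit 2217385985))) (.leaf
    (nat_lit 1280626188))) (.node (.node (.leaf (nat_lit 604056324)) (.leaf (nat_lit 293053440)))
    (.leaf (nat_lit 2052374536)))) (.node (.node (.node (.leaf (nat_lit 310450692)) (.leaf (nat_lit
    3252244228))) (.leaf (nat_lit 947265802))) (.node (.node (.leaf (nat_lit 871592455)) (.leaf
    (nat_lit 161540352))) (.leaf (nat_lit 2452993284))))) (.node (.node (.node (.node (.leaf
    (nat_lit 180375809)) (.leaf (nat_lit 3055048713))) (.leaf (nat_lit 1221949953))) (.node (.node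
    (.leaf (nat_lit 696442886)) (.leaf (nat_lit 132187904))) (.leaf (nat_lit 2258135564)))) (.node
    (.node (.node (.leaf (nat_lit 459330818)) (.leaf (nat_lit 696957184))) (.leaf (nat_lit
    1142351370))) (.node (.node (.leaf (nat_lit 1113860875)) (.leaf (nat_lit 364953095))) (.leaf
    (nat_lit 2654367489))))))) (.node (.node (.node (.node (.node (.node (.leaf (nat_lit 30416900))
    (.leaf (nat_lit 1948940807))) (.leaf (nat_lit 1234480395))) (.node (.node (.leaf (nat_lit
    558959367)) (.leaf (nat_lit 806949632))) (.leaf (nat_lit 1402434821)))) (.node (.node (.node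
    (.leaf (nat_lit 245434114)) (.leaf (nat_lit 3211339267))) (.leaf (nat_lit 1605589507))) (.node
    (.node (.leaf (nat_lit 503532810)) (.leaf (nat_lit 1315320320))) (.leaf (nat_lit
    2359883266))))) (.node (.node (.node (.node (.leaf (nat_lit 76582659)) (.leaf (nat_lit
    3002806274))) (.leaf (nat_lit 1424160260))) (.node (.node (.leaf (nat_lit 720550411)) (.leaf
    (nat_lit 544404224))) (.leaf (nat_lit 2206743052)))) (.node (.node (.node (.leaf (nat_lit
    218206982)) (.leaf (nat_lit 2712417793))) (.leaf (nat_lit 1075229701))) (.node (.node (.leaf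
    (nat_lit 1064565260)) (.leaf (nat_lit 283879168))) (.leaf (nat_lit 1859760900)))))) (.node
    (.node (.node (.node (.node (.leaf (nat_lit 90199814)) (.leaf (nat_lit 2086325506))) (.leaf
    (nat_lit 934607365))) (.node (.node (.leaf (nat_lit 643909383)) (.leaf (nat_lit 284504832)))
    (.leaf (nat_lit 2103762434)))) (.node (.node (.node (.leaf (nat_lit 345065996)) (.leaf (nat_lit
    3298404104))) (.leaf (nat_lit 971394822))) (.node (.node (.leaf (nat_lit 964817929)) (.leaf
    (nat_lit 590052608))) (.leaf (nat_lit 2354664198))))) (.node (.node (.node (.node (.leaf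
    (nat_lit 210788106)) (.leaf (nat_lit 2293992709))) (.leaf (nat_lit 864395528))) (.node (.node
    (.leaf (nat_lit 812754434)) (.leaf (nat_lit 863301888))) (.leaf (nat_lit 2317700871)))) (.node
    (.node (.node (.leaf (nat_lit 486658822)) (.leaf (nat_lit 143300864))) (.leaf (nat_lit
    1852249859))) (.node (.node (.leaf (nat_lit 1150571012)) (.leaf (nat_lit 357638410))) (.leaf
    (nat_lit 2696549386)))))))) (.node (.node (.node (.node (.node (.node (.node (.leaf (nat_lit
    16781579)) (.leaf (nat_lit 1899651073))) (.leaf (nat_lit 1233313795))) (.node (.node (.leaf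
    (nat_lit 272761352)) (.leaf (nat_lit 349284096))) (.leaf (nat_lit 1249336586)))) (.node (.node
    (.node (.leaf (nat_lit 135330309)) (.leaf (nat_lit 2446057734))) (.leaf (nat_lit 1581470721)))
    (.node (.node (.leaf (nat_lit 870457095)) (.leaf (nat_lit 1049159424))) (.leaf (nat_lit
    1633214474))))) (.node (.node (.node (.node (.leaf (nat_lit 137397252)) (.leaf (nat_lit
    2172328198))) (.leaf (nat_lit 800405506))) (.node (.node (.leaf (nat_lit 714178819)) (.leaf
    (nat_lit 243583488))) (.leaf (nat_lit 2184512259)))) (.node (.node (.node (.leaf (nat_lit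
    396460812)) (.leaf (nat_lit 1062845184))) (.leaf (nat_lit 1774444554))) (.node (.node (.leaf
    (nat_lit 633594372)) (.leaf (nat_lit 180443648))) (.leaf (nat_lit 1658428169)))))) (.node
    (.node (.node (.node (.node (.leaf (nat_lit 77604103)) (.leaf (nat_lit 2739582468))) (.leaf
    (nat_lit 745857798))) (.node (.node (.leaf (nat_lit 608326661)) (.leaf (nat_lit 79298816)))
    (.leaf (nat_lit 2077542914)))) (.node (.node (.node (.leaf (nat_lit 329333260)) (.leaf (nat_lit
    3276370441))) (.leaf (nat_lit 954611208))) (.node (.node (.leaf (nat_lit 814973958)) (.leaf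
    (nat_lit 1048252672))) (.leaf (nat_lit 2475017479))))) (.node (.node (.node (.node (.leaf
    (nat_lit 95468295)) (.leaf (nat_lit 2338028545))) (.leaf (nat_lit 1487244299))) (.node (.node
    (.leaf (nat_lit 789684226)) (.leaf (nat_lit 271703296))) (.leaf (nat_lit 2291482628)))) (.node
    (.node (.node (.leaf (nat_lit 241288453)) (.leaf (nat_lit 433278208))) (.leaf (nat_lit
    1872166155))) (.node (.node (.leaf (nat_lit 832848391)) (.leaf (nat_lit 106989830))) (.leaf
    (nat_lit 1769601802))))))) (.node (.node (.node (.node (.node (.node (.leaf (nat_lit 20983049))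
    (.leaf (nat_lit 2842114562))) (.leaf (nat_lit 737459210))) (.node (.node (.leaf (nat_lit
    287450889)) (.leaf (nat_lit 1392052224))) (.leaf (nat_lit 1309118467)))) (.node (.node (.node
    (.leaf (nat_lit 294685450)) (.leaf (nat_lit 3230399746))) (.leaf (nat_lit 912658181))) (.node
    (.node (.leaf (nat_lit 862151173)) (.leaf (nat_lit 1316477440))) (.leaf (nat_lit
    2429922817))))) (.node (.node (.node (.node (.leaf (nat_lit 119577857)) (.leaf (nat_lit
    3030926602))) (.leaf (nat_lit 1449328130))) (.node (.node (.leaf (nat_lit 752980999)) (.leaf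
    (nat_lit 56058624))) (.leaf (nat_lit 2236948745)))) (.node (.node (.node (.leaf (nat_lit
    220309002)) (.leaf (nat_lit 3228260100))) (.leaf (nat_lit 1116130818))) (.node (.node (.leaf
    (nat_lit 1094864649)) (.leaf (nat_lit 318840583))) (.leaf (nat_lit 2632568587)))))) (.node
    (.node (.node (.node (.node (.leaf (nat_lit 98592523)) (.leaf (nat_lit 2066409225))) (.leaf
    (nat_lit 1350897420))) (.node (.node (.leaf (nat_lit 654473227)) (.leaf (nat_lit 1438160128)))
    (.leaf (nat_lit 1405612289)))) (.node (.node (.node (.leaf (nat_lit 360799244)) (.leaf (nat_lit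
    2783633408))) (.leaf (nat_lit 995518981))) (.node (.node (.leaf (nat_lit 892580102)) (.leaf
    (nat_lit 299266560))) (.leaf (nat_lit 2530602505))))) (.node (.node (.node (.node (.leaf
    (nat_lit 229664258)) (.leaf (nat_lit 3128469257))) (.leaf (nat_lit 1530247179))) (.node (.node
    (.leaf (nat_lit 730011652)) (.leaf (nat_lit 522432768))) (.leaf (nat_lit 2344967682)))) (.node
    (.node (.node (.leaf (nat_lit 505537548)) (.leaf (nat_lit 1815570944))) (.leaf (nat_lit
    1171729158))) (.node (.leaf (nat_lit 1169451788)) (.leaf (nat_lit 1849306631))))))))) (.node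
    (.node (.node (.node (.node (.node (.node (.node (.leaf (nat_lit 12584201)) (.leaf (nat_lit
    2774989828))) (.leaf (nat_lit 704941829))) (.node (.node (.leaf (nat_lit 266468360)) (.leaf
    (nat_lit 346134528))) (.leaf (nat_lit 1959218444)))) (.node (.node (.node (.leaf (nat_lit
    209777155)) (.leaf (nat_lit 3170620427))) (.leaf (nat_lit 1570983943))) (.node (.node (.leaf
    (nat_lit 860998147)) (.leaf (nat_lit 562609408))) (.leaf (nat_lit 1728632577))))) (.node (.node
    (.node (.node (.leaf (nat_lit 124812038)) (.leaf (nat_lit 2141916680))) (.leaf (nat_lit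
    1270164739))) (.node (.node (.leaf (nat_lit 700545799)) (.leaf (nat_lit 1302919424))) (.leaf
    (nat_lit 2175074056)))) (.node (.node (.node (.leaf (nat_lit 396411402)) (.leaf (nat_lit
    2939850754))) (.leaf (nat_lit 1762038028))) (.node (.node (.leaf (nat_lit 1007932931)) (.leaf
    (nat_lit 302235904))) (.leaf (nat_lit 2567308290)))))) (.node (.node (.node (.node (.node
    (.leaf (nat_lit 69214215)) (.leaf (nat_lit 2868340226))) (.leaf (nat_lit 1301463050))) (.node
    (.node (.leaf (nat_lit 328354309)) (.leaf (nat_lit 259739904))) (.leaf (nat_lit 1281863941))))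
    (.node (.node (.node (.leaf (nat_lit 319853828)) (.leaf (nat_lit 3262736905))) (.leaf (nat_lit
    1658028803))) (.node (.node (.leaf (nat_lit 933357064)) (.leaf (nat_lit 369236480))) (.leaf
    (nat_lit 2430151692))))) (.node (.node (.node (.node (.leaf (nat_lit 95466502)) (.leaf (nat_lit
    3069732867))) (.leaf (nat_lit 1478696969))) (.node (.node (.leaf (nat_lit 781295108)) (.leaf
    (nat_lit 55933440))) (.leaf (nat_lit 2269672966)))) (.node (.node (.node (.leaf (nat_lit
    268549385)) (.leaf (nat_lit 948539136))) (.leaf (nat_lit 1863608841))) (.node (.node (.leaf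
    (nat_lit 1131569418)) (.leaf (nat_lit 145778184))) (.leaf (nat_lit 1768549380))))))) (.node
    (.node (.node (.node (.node (.node (.leaf (nat_lit 29369862)) (.leaf (nat_lit 2811922437)))
    (.leaf (nat_lit 788837381))) (.node (.node (.leaf (nat_lit 567348745)) (.leaf (nat_lit
    909461760))) (.leaf (nat_lit 1360495114)))) (.node (.node (.node (.leaf (nat_lit 286294019))
    (.leaf (nat_lit 3219730692))) (.leaf (nat_lit 1515586563))) (.node (.node (.leaf (nat_lit
    890459397)) (.leaf (nat_lit 209331456))) (.leaf (nat_lit 2419463177))))) (.node (.node (.node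
    (.node (.leaf (nat_lit 95458569)) (.leaf (nat_lit 3018339336))) (.leaf (nat_lit 1436743940)))
    (.node (.node (.leaf (nat_lit 739427078)) (.leaf (nat_lit 2005458688))) (.leaf (nat_lit
    2222265607)))) (.node (.node (.node (.leaf (nat_lit 428972556)) (.leaf (nat_lit 3175873545)))
    (.leaf (nat_lit 1093059073))) (.node (.node (.leaf (nat_lit 1081236746)) (.leaf (nat_lit
    281099778))) (.leaf (nat_lit 2610544907)))))) (.node (.node (.node (.node (.node (.leaf
    (nat_lit 78667266)) (.leaf (nat_lit 2073745927))) (.leaf (nat_lit 1347749388))) (.node (.node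
    (.leaf (nat_lit 649228044)) (.leaf (nat_lit 506649088))) (.leaf (nat_lit 2110252033)))) (.node
    (.node (.node (.leaf (nat_lit 355508737)) (.leaf (nat_lit 2581229831))) (.leaf (nat_lit
    1705401868))) (.node (.node (.leaf (nat_lit 531866886)) (.leaf (nat_lit 300036608))) (.leaf
    (nat_lit 2516969220))))) (.node (.node (.node (.node (.leaf (nat_lit 221274632)) (.leaf
    (nat_lit 2308675845))) (.leaf (nat_lit 890613251))) (.node (.node (.leaf (nat_lit 775098123))
    (.leaf (nat_lit 480924160))) (.leaf (nat_lit 2182656005)))) (.node (.node (.node (.leaf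
    (nat_lit 243391749)) (.leaf (nat_lit 805898752))) (.leaf (nat_lit 1854349572))) (.node (.leaf
    (nat_lit 1169448715)) (.leaf (nat_lit 2720452617)))))))) (.node (.node (.node (.node (.node
    (.node (.node (.leaf (nat_lit 25168650)) (.leaf (nat_lit 2577035009))) (.leaf (nat_lit
    714384645))) (.node (.node (.leaf (nat_lit 503450369)) (.leaf (nat_lit 441676032))) (.leaf
    (nat_lit 1700227075)))) (.node (.node (.node (.leaf (nat_lit 268501250)) (.leaf (nat_lit
    3201900546))) (.leaf (nat_lit 1590013697))) (.node (.node (.leaf (nat_lit 490948102)) (.leaf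
    (nat_lit 957859584))) (.leaf (nat_lit 2394266369))))) (.node (.node (.node (.node (.leaf
    (nat_lit 86018312)) (.leaf (nat_lit 2991070986))) (.leaf (nat_lit 1350910468))) (.node (.node
    (.leaf (nat_lit 723618057)) (.leaf (nat_lit 844347904))) (.leaf (nat_lit 1352151050)))) (.node
    (.node (.node (.leaf (nat_lit 219253765)) (.leaf (nat_lit 1065993216))) (.leaf (nat_lit
    1071032073))) (.node (.node (.leaf (nat_lit 1053961737)) (.leaf (nat_lit 193030656))) (.leaf
    (nat_lit 2589336071)))))) (.node (.node (.node (.node (.node (.leaf (nat_lit 47206659)) (.leaf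
    (nat_lit 2011873802))) (.leaf (nat_lit 1324534026))) (.node (.node (.leaf (nat_lit 463626242))
    (.leaf (nat_lit 166436608))) (.leaf (nat_lit 2009581321)))) (.node (.node (.node (.leaf
    (nat_lit 318849804)) (.leaf (nat_lit 3288957444))) (.leaf (nat_lit 964051458))) (.node (.node
    (.leaf (nat_lit 951291148)) (.leaf (nat_lit 565328896))) (.leaf (nat_lit 2416526337))))) (.node
    (.node (.node (.node (.leaf (nat_lit 203452673)) (.leaf (nat_lit 2293991687))) (.leaf (nat_lit
    1480955147))) (.node (.node (.leaf (nat_lit 725810437)) (.leaf (nat_lit 562768128))) (.leaf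
    (nat_lit 2174260486)))) (.node (.node (.node (.leaf (nat_lit 252824324)) (.leaf (nat_lit
    981060352))) (.leaf (nat_lit 1889815815))) (.node (.node (.leaf (nat_lit 823413254)) (.leaf
    (nat_lit 107390208))) (.leaf (nat_lit 1797916680))))))) (.node (.node (.node (.node (.node
    (.node (.leaf (nat_lit 49296139)) (.leaf (nat_lit 1987745544))) (.leaf (nat_lit 1281536775)))
    (.node (.node (.leaf (nat_lit 589371912)) (.leaf (nat_lit 1323657472))) (.leaf (nat_lit
    2034735371)))) (.node (.node (.node (.leaf (nat_lit 153166345)) (.leaf (nat_lit 3223065094)))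
    (.leaf (nat_lit 936777731))) (.node (.node (.leaf (nat_lit 507735046)) (.leaf (nat_lit
    563792128))) (.leaf (nat_lit 1591285254))))) (.node (.node (.node (.node (.leaf (nat_lit
    137405441)) (.leaf (nat_lit 2250987018))) (.leaf (nat_lit 1460864004))) (.node (.node (.leaf
    (nat_lit 435345413)) (.leaf (nat_lit 126118144))) (.leaf (nat_lit 2248484100)))) (.node (.node
    (.node (.leaf (nat_lit 220310790)) (.leaf (nat_lit 2222713088))) (.leaf (nat_lit 1839651596)))
    (.node (.node (.leaf (nat_lit 630464263)) (.leaf (nat_lit 303296512))) (.leaf (nat_lit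
    2644925956)))))) (.node (.node (.node (.node (.node (.leaf (nat_lit 114322948)) (.leaf (nat_lit
    2893739265))) (.leaf (nat_lit 786766595))) (.node (.node (.leaf (nat_lit 365068808)) (.leaf
    (nat_lit 1327883008))) (.leaf (nat_lit 2078801921)))) (.node (.node (.node (.leaf (nat_lit
    185689352)) (.leaf (nat_lit 1288113920))) (.leaf (nat_lit 1735637761))) (.node (.node (.leaf
    (nat_lit 1001523977)) (.leaf (nat_lit 199841792))) (.leaf (nat_lit 2509862916))))) (.node
    (.node (.node (.node (.leaf (nat_lit 139518218)) (.leaf (nat_lit 3136009218))) (.leaf (nat_lit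
    890618372))) (.node (.node (.leaf (nat_lit 474161158)) (.leaf (nat_lit 1314595328))) (.leaf
    (nat_lit 1479067142)))) (.node (.node (.node (.leaf (nat_lit 345107202)) (.leaf (nat_lit
    535058176))) (.leaf (nat_lit 1936144140))) (.node (.leaf (nat_lit 1180988683)) (.leaf (nat_lit
    2747940100)))))))))))) (.node (.node (.node (.node (.node (.node (.node (.node (.node (.node
    (.node (.leaf (nat_lit 265)) (.leaf (nat_lit 1951023369))) (.leaf (nat_lit 1199798531))) (.node
    (.node (.leaf (nat_lit 517074444)) (.leaf (nat_lit 638205952))) (.leaf (nat_lit 1942426628))))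
    (.node (.node (.node (.leaf (nat_lit 239133964)) (.leaf (nat_lit 3148594181))) (.leaf (nat_lit
    1545978885))) (.node (.node (.leaf (nat_lit 522396935)) (.leaf (nat_lit 1514866688))) (.leaf
    (nat_lit 1579731461))))) (.node (.node (.node (.node (.leaf (nat_lit 58749190)) (.leaf (nat_lit
    2093677317))) (.leaf (nat_lit 1373824266))) (.node (.node (.leaf (nat_lit 680616711)) (.leaf
    (nat_lit 955813888))) (.leaf (nat_lit 1331168261)))) (.node (.node (.node (.leaf (nat_lit
    369190665)) (.leaf (nat_lit 1958006791))) (.leaf (nat_lit 1009154822))) (.node (.node (.leaf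
    (nat_lit 568573700)) (.leaf (nat_lit 382985984))) (.leaf (nat_lit 2548430849)))))) (.node
    (.node (.node (.node (.node (.leaf (nat_lit 27276548)) (.leaf (nat_lit 2644126214))) (.leaf
    (nat_lit 1284682761))) (.node (.node (.leaf (nat_lit 595664392)) (.leaf (nat_lit 651454976)))
    (.leaf (nat_lit 2045033991)))) (.node (.node (.node (.leaf (nat_lit 301016076)) (.leaf (nat_lit
    3243853571))) (.leaf (nat_lit 943069961))) (.node (.node (.leaf (nat_lit 916680197)) (.leaf
    (nat_lit 131102468))) (.leaf (nat_lit 1530468870))))) (.node (.node (.node (.node (.leaf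
    (nat_lit 175132425)) (.leaf (nat_lit 3047707912))) (.leaf (nat_lit 1464142849))) (.node (.node
    (.leaf (nat_lit 439540742)) (.leaf (nat_lit 135326464))) (.leaf (nat_lit 2252680455)))) (.node
    (.node (.node (.leaf (nat_lit 452047116)) (.leaf (nat_lit 2639931136))) (.leaf (nat_lit
    1830215429))) (.node (.node (.leaf (nat_lit 634659590)) (.leaf (nat_lit 185668104))) (.leaf
    (nat_lit 2649122050))))))) (.node (.node (.node (.node (.node (.node (.leaf (nat_lit 12589831))
    (.leaf (nat_lit 2803528457))) (.leaf (nat_lit 1250076675))) (.node (.node (.leaf (nat_lit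
    285347587)) (.leaf (nat_lit 478892032))) (.leaf (nat_lit 1974955521)))) (.node (.node (.node
    (.leaf (nat_lit 134284034)) (.leaf (nat_lit 2481713409))) (.leaf (nat_lit 1523970049))) (.node
    (.node (.leaf (nat_lit 881971722)) (.leaf (nat_lit 240375040))) (.leaf (nat_lit 2396578819)))))
    (.node (.node (.node (.node (.leaf (nat_lit 88115974)) (.leaf (nat_lit 2192254981))) (.leaf
    (nat_lit 1415771140))) (.node (.node (.leaf (nat_lit 724743692)) (.leaf (nat_lit 521359104)))
    (.leaf (nat_lit 1411920900)))) (.node (.node (.node (.leaf (nat_lit 418433537)) (.leaf (nat_lit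
    1808404736))) (.leaf (nat_lit 1792454155))) (.node (.node (.leaf (nat_lit 1060254211)) (.leaf
    (nat_lit 299532032))) (.leaf (nat_lit 2588519435)))))) (.node (.node (.node (.node (.node
    (.leaf (nat_lit 46158598)) (.leaf (nat_lit 2011875078))) (.leaf (nat_lit 1326773003))) (.node
    (.node (.leaf (nat_lit 638738956)) (.leaf (nat_lit 116854016))) (.leaf (nat_lit 2093468930))))
    (.node (.node (.node (.leaf (nat_lit 255935750)) (.leaf (nat_lit 3289137927))) (.leaf (nat_lit
    1684247560))) (.node (.node (.leaf (nat_lit 525570053)) (.leaf (nat_lit 319259392))) (.leaf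
    (nat_lit 2494945802))))) (.node (.node (.node (.node (.leaf (nat_lit 123782405)) (.leaf
    (nat_lit 2870691840))) (.leaf (nat_lit 869636617))) (.node (.node (.leaf (nat_lit 741539843))
    (.leaf (nat_lit 577455616))) (.leaf (nat_lit 1427675653)))) (.node (.node (.node (.leaf
    (nat_lit 481414668)) (.leaf (nat_lit 402150912))) (.leaf (nat_lit 1896107785))) (.node (.node
    (.leaf (nat_lit 651447555)) (.leaf (nat_lit 1112573699))) (.leaf (nat_lit 2697381129))))))))
    (.node (.node (.node (.node (.node (.node (.node (.leaf (nat_lit 10489356)) (.leaf (nat_lit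
    2776259078))) (.leaf (nat_lit 708088582))) (.node (.node (.leaf (nat_lit 534903305)) (.leaf
    (nat_lit 115973376))) (.leaf (nat_lit 1217876741)))) (.node (.node (.node (.leaf (nat_lit
    255915275)) (.leaf (nat_lit 2539378949))) (.leaf (nat_lit 901111045))) (.node (.node (.leaf
    (nat_lit 503527682)) (.leaf (nat_lit 1316333568))) (.leaf (nat_lit 2376653572))))) (.node
    (.node (.node (.node (.leaf (nat_lit 61898503)) (.leaf (nat_lit 2972390155))) (.leaf (nat_lit
    1395846663))) (.node (.node (.leaf (nat_lit 440573959)) (.leaf (nat_lit 1327033088))) (.leaf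
    (nat_lit 1357389319)))) (.node (.node (.node (.leaf (nat_lit 400605960)) (.leaf (nat_lit
    2767896578))) (.leaf (nat_lit 1768151303))) (.node (.node (.leaf (nat_lit 1035099145)) (.leaf
    (nat_lit 120662528))) (.leaf (nat_lit 2425983749)))))) (.node (.node (.node (.node (.node
    (.leaf (nat_lit 35668741)) (.leaf (nat_lit 2630529283))) (.leaf (nat_lit 745856260))) (.node
    (.node (.leaf (nat_lit 618808321)) (.leaf (nat_lit 478431488))) (.leaf (nat_lit 2069153283))))
    (.node (.node (.node (.leaf (nat_lit 320942860)) (.leaf (nat_lit 3266063106))) (.leaf (nat_lit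
    1654009611))) (.node (.node (.leaf (nat_lit 936607243)) (.leaf (nat_lit 94499584))) (.leaf
    (nat_lit 1561931782))))) (.node (.node (.node (.node (.leaf (nat_lit 94418693)) (.leaf (nat_lit
    3074126860))) (.leaf (nat_lit 1480797955))) (.node (.node (.leaf (nat_lit 450030346)) (.leaf
    (nat_lit 480563200))) (.leaf (nat_lit 2067299589)))) (.node (.node (.node (.leaf (nat_lit
    426885132)) (.leaf (nat_lit 206187520))) (.leaf (nat_lit 1866921478))) (.node (.node (.leaf
    (nat_lit 1135763978)) (.leaf (nat_lit 173058312))) (.leaf (nat_lit 2669052935))))))) (.node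
    (.node (.node (.node (.node (.node (.leaf (nat_lit 20981766)) (.leaf (nat_lit 1939508485)))
    (.leaf (nat_lit 806663942))) (.node (.node (.leaf (nat_lit 570494722)) (.leaf (nat_lit
    548742144))) (.leaf (nat_lit 1268221703)))) (.node (.node (.node (.leaf (nat_lit 290488580))
    (.leaf (nat_lit 3223925764))) (.leaf (nat_lit 1620271361))) (.node (.node (.leaf (nat_lit
    901895943)) (.leaf (nat_lit 93501696))) (.leaf (nat_lit 1724450565))))) (.node (.node (.node
    (.node (.leaf (nat_lit 75536649)) (.leaf (nat_lit 2209038853))) (.leaf (nat_lit 1440938500)))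
    (.node (.node (.leaf (nat_lit 746768644)) (.leaf (nat_lit 450403584))) (.leaf (nat_lit
    1472744202)))) (.node (.node (.node (.leaf (nat_lit 433167884)) (.leaf (nat_lit 3221971460)))
    (.leaf (nat_lit 1819546120))) (.node (.node (.leaf (nat_lit 1086590220)) (.leaf (nat_lit
    305209601))) (.leaf (nat_lit 2618934785)))))) (.node (.node (.node (.node (.node (.leaf
    (nat_lit 101736971)) (.leaf (nat_lit 2919732999))) (.leaf (nat_lit 1347750411))) (.node (.node
    (.leaf (nat_lit 354579207)) (.leaf (nat_lit 1622876672))) (.leaf (nat_lit 2123687172)))) (.node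
    (.node (.node (.leaf (nat_lit 175199751)) (.leaf (nat_lit 2302334986))) (.leaf (nat_lit
    1714663178))) (.node (.node (.leaf (nat_lit 980658444)) (.leaf (nat_lit 1048984064))) (.leaf
    (nat_lit 1589208069))))) (.node (.node (.node (.node (.leaf (nat_lit 224420873)) (.leaf
    (nat_lit 2330697224))) (.leaf (nat_lit 873836550))) (.node (.node (.leaf (nat_lit 825339139))
    (.leaf (nat_lit 277377280))) (.leaf (nat_lit 2303243275)))) (.node (.node (.node (.leaf
    (nat_lit 503375623)) (.leaf (nat_lit 839207424))) (.leaf (nat_lit 1918307332))) (.node (.leaf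
    (nat_lit 656696325)) (.leaf (nat_lit 2724649993))))))))) (.node (.node (.node (.node (.node
    (.node (.node (.node (.leaf (nat_lit 7341059)) (.leaf (nat_lit 1935297797))) (.leaf (nat_lit
    1215469572))) (.node (.node (.leaf (nat_lit 426899202)) (.leaf (nat_lit 1470340105))) (.leaf
    (nat_lit 1881622022)))) (.node (.node (.node (.leaf (nat_lit 248541706)) (.leaf (nat_lit
    2454440450))) (.leaf (nat_lit 1561711115))) (.node (.node (.leaf (nat_lit 524496392)) (.leaf
    (nat_lit 1048896768))) (.leaf (nat_lit 2369095682))))) (.node (.node (.node (.node (.leaf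
    (nat_lit 122713612)) (.leaf (nat_lit 2959595783))) (.leaf (nat_lit 783624197))) (.node (.node
    (.leaf (nat_lit 692155905)) (.leaf (nat_lit 720549892))) (.leaf (nat_lit 1889014025)))) (.node
    (.node (.node (.leaf (nat_lit 390118404)) (.leaf (nat_lit 1154796808))) (.leaf (nat_lit
    1046906888))) (.node (.node (.leaf (nat_lit 1021451018)) (.leaf (nat_lit 199817216))) (.leaf
    (nat_lit 2559966984)))))) (.node (.node (.node (.node (.node (.leaf (nat_lit 56638731)) (.leaf
    (nat_lit 2858900487))) (.leaf (nat_lit 735367685))) (.node (.node (.leaf (nat_lit 600982283))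
    (.leaf (nat_lit 418664192))) (.leaf (nat_lit 1282910729)))) (.node (.node (.node (.leaf
    (nat_lit 310455307)) (.leaf (nat_lit 2521571075))) (.leaf (nat_lit 1646667275))) (.node (.node
    (.leaf (nat_lit 928197123)) (.leaf (nat_lit 155247872))) (.leaf (nat_lit 2456139271))))) (.node
    (.node (.node (.node (.leaf (nat_lit 154185475)) (.leaf (nat_lit 3058394380))) (.leaf (nat_lit
    1472560391))) (.node (.node (.leaf (nat_lit 435348486)) (.leaf (nat_lit 235167232))) (.leaf
    (nat_lit 1418227201)))) (.node (.node (.node (.leaf (nat_lit 228702470)) (.leaf (nat_lit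
    1701208320))) (.leaf (nat_lit 1856264714))) (.node (.node (.leaf (nat_lit 1119104780)) (.leaf
    (nat_lit 333504519))) (.leaf (nat_lit 2657514244))))))) (.node (.node (.node (.node (.node
    (.node (.leaf (nat_lit 18883333)) (.leaf (nat_lit 2817993220))) (.leaf (nat_lit 1257549835)))
    (.node (.node (.leaf (nat_lit 550639371)) (.leaf (nat_lit 2080948992))) (.leaf (nat_lit
    2006415884)))) (.node (.node (.node (.leaf (nat_lit 278989572)) (.leaf (nat_lit 3188455435)))
    (.leaf (nat_lit 1608735240))) (.node (.node (.leaf (nat_lit 550719240)) (.leaf (nat_lit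
    957976576))) (.leaf (nat_lit 2411252481))))) (.node (.node (.node (.node (.leaf (nat_lit
    145789195)) (.leaf (nat_lit 2198549768))) (.leaf (nat_lit 1426412300))) (.node (.node (.leaf
    (nat_lit 735231756)) (.leaf (nat_lit 234999296))) (.leaf (nat_lit 2212826884)))) (.node (.node
    (.node (.leaf (nat_lit 416388353)) (.leaf (nat_lit 3177960198))) (.leaf (nat_lit 1805910280)))
    (.node (.node (.leaf (nat_lit 608435969)) (.leaf (nat_lit 73433089))) (.leaf (nat_lit
    2607396612)))))) (.node (.node (.node (.node (.node (.leaf (nat_lit 94383361)) (.leaf (nat_lit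
    2055918088))) (.leaf (nat_lit 765787910))) (.node (.node (.leaf (nat_lit 405956609)) (.leaf
    (nat_lit 517506048))) (.leaf (nat_lit 1321720839)))) (.node (.node (.node (.leaf (nat_lit
    349261324)) (.leaf (nat_lit 2848738567))) (.leaf (nat_lit 973493254))) (.node (.node (.leaf
    (nat_lit 771988482)) (.leaf (nat_lit 1323820288))) (.leaf (nat_lit 2415482625))))) (.node
    (.node (.node (.node (.leaf (nat_lit 102812422)) (.leaf (nat_lit 3104543500))) (.leaf (nat_lit
    1517499913))) (.node (.node (.leaf (nat_lit 711133698)) (.leaf (nat_lit 352070656))) (.leaf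
    (nat_lit 2313725964)))) (.node (.node (.node (.leaf (nat_lit 490854412)) (.leaf (nat_lit
    808664576))) (.leaf (nat_lit 1173822213))) (.node (.node (.leaf (nat_lit 944002563)) (.leaf
    (nat_lit 2688573955))) (.leaf (nat_lit 2710182411)))))))) (.node (.node (.node (.node (.node
    (.node (.node (.leaf (nat_lit 20973831)) (.leaf (nat_lit 1894409478))) (.leaf (nat_lit
    969186307))) (.node (.node (.leaf (nat_lit 543228675)) (.leaf (nat_lit 858093056))) (.leaf
    (nat_lit 1245143555)))) (.node (.node (.node (.leaf (nat_lit 204536837)) (.leaf (nat_lit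
    2452349955))) (.leaf (nat_lit 899016450))) (.node (.node (.leaf (nat_lit 494092547)) (.leaf
    (nat_lit 1677280256))) (.leaf (nat_lit 2386925057))))) (.node (.node (.node (.node (.leaf
    (nat_lit 140524804)) (.leaf (nat_lit 2304449542))) (.leaf (nat_lit 1406333441))) (.node (.node
    (.leaf (nat_lit 459451399)) (.leaf (nat_lit 120644352))) (.leaf (nat_lit 2185766661)))) (.node
    (.node (.node (.leaf (nat_lit 214009606)) (.leaf (nat_lit 2624195328))) (.leaf (nat_lit
    1116118532))) (.node (.node (.leaf (nat_lit 986965509)) (.leaf (nat_lit 80804864))) (.leaf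
    (nat_lit 2583043585)))))) (.node (.node (.node (.node (.node (.leaf (nat_lit 62934018)) (.leaf
    (nat_lit 2879044361))) (.leaf (nat_lit 1276438537))) (.node (.node (.leaf (nat_lit 329406469))
    (.leaf (nat_lit 1291370496))) (.leaf (nat_lit 2081737730)))) (.node (.node (.node (.leaf
    (nat_lit 307314180)) (.leaf (nat_lit 3225171971))) (.leaf (nat_lit 1666595339))) (.node (.node
    (.leaf (nat_lit 948038404)) (.leaf (nat_lit 375524352))) (.leaf (nat_lit 2445884423))))) (.node
    (.node (.node (.node (.leaf (nat_lit 199252740)) (.leaf (nat_lit 2347466760))) (.leaf (nat_lit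
    1492329738))) (.node (.node (.leaf (nat_lit 442693127)) (.leaf (nat_lit 277359616))) (.leaf
    (nat_lit 2285407499)))) (.node (.node (.node (.leaf (nat_lit 473024267)) (.leaf (nat_lit
    450054400))) (.leaf (nat_lit 1880377098))) (.node (.node (.leaf (nat_lit 653542918)) (.leaf
    (nat_lit 298919940))) (.leaf (nat_lit 2681863947))))))) (.node (.node (.node (.node (.node
    (.node (.leaf (nat_lit 50337032)) (.leaf (nat_lit 2609551622))) (.leaf (nat_lit 736411402)))
    (.node (.node (.leaf (nat_lit 518138371)) (.leaf (nat_lit 732666880))) (.leaf (nat_lit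
    2034547463)))) (.node (.node (.node (.leaf (nat_lit 297831431)) (.leaf (nat_lit 3180071940)))
    (.leaf (nat_lit 1540755974))) (.node (.node (.leaf (nat_lit 911333642)) (.leaf (nat_lit
    540272896))) (.leaf (nat_lit 1529417733))))) (.node (.node (.node (.node (.leaf (nat_lit
    115384322)) (.leaf (nat_lit 3036171521))) (.leaf (nat_lit 1404397836))) (.node (.node (.leaf
    (nat_lit 746770699)) (.leaf (nat_lit 541407744))) (.leaf (nat_lit 2238208268)))) (.node (.node
    (.node (.leaf (nat_lit 269592585)) (.leaf (nat_lit 2856068096))) (.leaf (nat_lit 1832131338)))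
    (.node (.node (.leaf (nat_lit 1099059463)) (.leaf (nat_lit 295771655))) (.leaf (nat_lit
    2637584387)))))) (.node (.node (.node (.node (.node (.leaf (nat_lit 111161860)) (.leaf (nat_lit
    2903173889))) (.leaf (nat_lit 1364385802))) (.node (.node (.leaf (nat_lit 410156035)) (.leaf
    (nat_lit 437379584))) (.leaf (nat_lit 2086139658)))) (.node (.node (.node (.leaf (nat_lit
    369143554)) (.leaf (nat_lit 1888982016))) (.leaf (nat_lit 1727248137))) (.node (.node (.leaf
    (nat_lit 995232009)) (.leaf (nat_lit 284255232))) (.leaf (nat_lit 2534797066))))) (.node (.node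
    (.node (.node (.leaf (nat_lit 203480331)) (.leaf (nat_lit 3064703749))) (.leaf (nat_lit
    910539523))) (.node (.node (.leaf (nat_lit 757275653)) (.leaf (nat_lit 286969088))) (.leaf
    (nat_lit 1497939977)))) (.node (.node (.node (.leaf (nat_lit 432137733)) (.leaf (nat_lit
    835267584))) (.leaf (nat_lit 1931763204))) (.node (.leaf (nat_lit 1190294531)) (.leaf (nat_lit
    2740381448)))))))))) (.node (.node (.node (.node (.node (.node (.node (.node (.node (.leaf
    (nat_lit 4194567)) (.leaf (nat_lit 1888110083))) (.leaf (nat_lit 1208125188))) (.node (.node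
    (.leaf (nat_lit 522254340)) (.leaf (nat_lit 1898724608))) (.leaf (nat_lit 1947494145)))) (.node
    (.node (.node (.leaf (nat_lit 124840451)) (.leaf (nat_lit 2526790401))) (.leaf (nat_lit
    1536544003))) (.node (.node (.leaf (nat_lit 501426690)) (.leaf (nat_lit 1680538880))) (.leaf
    (nat_lit 2364064771))))) (.node (.node (.node (.node (.leaf (nat_lit 121648906)) (.leaf
    (nat_lit 2106261512))) (.leaf (nat_lit 1376068619))) (.node (.node (.leaf (nat_lit 685864714))
    (.leaf (nat_lit 482553856))) (.leaf (nat_lit 2159343106)))) (.node (.node (.node (.leaf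
    (nat_lit 382777607)) (.leaf (nat_lit 2809844224))) (.leaf (nat_lit 1678147843))) (.node (.node
    (.leaf (nat_lit 555993094)) (.leaf (nat_lit 302132224))) (.leaf (nat_lit 2471068422))))))
    (.node (.node (.node (.node (.node (.leaf (nat_lit 58734852)) (.leaf (nat_lit 2850509826)))
    (.leaf (nat_lit 1285868805))) (.node (.node (.leaf (nat_lit 600981004)) (.leaf (nat_lit
    657620224))) (.leaf (nat_lit 2050277380)))) (.node (.node (.node (.leaf (nat_lit 310416129))
    (.leaf (nat_lit 3251195396))) (.leaf (nat_lit 1643411715))) (.node (.node (.leaf (nat_lit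
    869495042)) (.leaf (nat_lit 72461824))) (.leaf (nat_lit 2451944458))))) (.node (.node (.node
    (.node (.leaf (nat_lit 177252866)) (.leaf (nat_lit 2242600709))) (.leaf (nat_lit 1336244491)))
    (.node (.node (.leaf (nat_lit 442687236)) (.leaf (nat_lit 283606272))) (.leaf (nat_lit
    2025351170)))) (.node (.node (.node (.leaf (nat_lit 411153676)) (.leaf (nat_lit 1217939200)))
    (.leaf (nat_lit 1851012105))) (.node (.node (.leaf (nat_lit 1116887811)) (.leaf (nat_lit
    363903239))) (.leaf (nat_lit 2653318403))))))) (.node (.node (.node (.node (.node (.node (.leaf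
    (nat_lit 18882310)) (.leaf (nat_lit 1924823042))) (.leaf (nat_lit 825535496))) (.node (.node
    (.leaf (nat_lit 547492619)) (.leaf (nat_lit 1268150528))) (.leaf (nat_lit 1984394245)))) (.node
    (.node (.node (.leaf (nat_lit 274784257)) (.leaf (nat_lit 2482762753))) (.leaf (nat_lit
    1603492105))) (.node (.node (.leaf (nat_lit 885117705)) (.leaf (nat_lit 1316483328))) (.leaf
    (nat_lit 2404803585))))) (.node (.node (.node (.node (.leaf (nat_lit 81825281)) (.leaf (nat_lit
    2196450821))) (.leaf (nat_lit 811944968))) (.node (.node (.leaf (nat_lit 456309255)) (.leaf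
    (nat_lit 474293248))) (.leaf (nat_lit 2207582723)))) (.node (.node (.node (.leaf (nat_lit
    413241857)) (.leaf (nat_lit 3276414467))) (.leaf (nat_lit 1072083721))) (.node (.node (.leaf
    (nat_lit 597948425)) (.leaf (nat_lit 98696448))) (.leaf (nat_lit 1945743878)))))) (.node (.node
    (.node (.node (.node (.leaf (nat_lit 91237130)) (.leaf (nat_lit 2898755330))) (.leaf (nat_lit
    816118026))) (.node (.node (.leaf (nat_lit 351429896)) (.leaf (nat_lit 412192260))) (.leaf
    (nat_lit 2101665031)))) (.node (.node (.node (.leaf (nat_lit 345021959)) (.leaf (nat_lit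
    3297350920))) (.leaf (nat_lit 1692637956))) (.node (.node (.leaf (nat_lit 526620167)) (.leaf
    (nat_lit 300465664))) (.leaf (nat_lit 2502287108))))) (.node (.node (.node (.node (.leaf
    (nat_lit 204523276)) (.leaf (nat_lit 2679868165))) (.leaf (nat_lit 1509119498))) (.node (.node
    (.leaf (nat_lit 797115660)) (.leaf (nat_lit 480828160))) (.leaf (nat_lit 2315603465)))) (.node
    (.node (.node (.leaf (nat_lit 489743112)) (.leaf (nat_lit 757470208))) (.leaf (nat_lit
    1902400001))) (.node (.node (.leaf (nat_lit 1158834697)) (.leaf (nat_lit 94394120))) (.leaf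
    (nat_lit 2696549129)))))))) (.node (.node (.node (.node (.node (.node (.node (.leaf (nat_lit
    8392713)) (.leaf (nat_lit 2784428804))) (.leaf (nat_lit 1233297409))) (.node (.node (.leaf
    (nat_lit 519176450)) (.leaf (nat_lit 417730560))) (.leaf (nat_lit 1236753155)))) (.node (.node
    (.node (.leaf (nat_lit 260110604)) (.leaf (nat_lit 2548817927))) (.leaf (nat_lit 1506140675)))
    (.node (.node (.leaf (nat_lit 856898827)) (.leaf (nat_lit 1048944128))) (.leaf (nat_lit
    2369314572))))) (.node (.node (.node (.node (.leaf (nat_lit 127959815)) (.leaf (nat_lit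
    2777356298))) (.leaf (nat_lit 1397045003))) (.node (.node (.leaf (nat_lit 408069896)) (.leaf
    (nat_lit 238793728))) (.leaf (nat_lit 1356341768)))) (.node (.node (.node (.leaf (nat_lit
    207717126)) (.leaf (nat_lit 1792653568))) (.leaf (nat_lit 1115068937))) (.node (.node (.leaf
    (nat_lit 1041376004)) (.leaf (nat_lit 132154890))) (.leaf (nat_lit 2574883083)))))) (.node
    (.node (.node (.node (.node (.leaf (nat_lit 76554761)) (.leaf (nat_lit 2874633223))) (.leaf
    (nat_lit 744808965))) (.node (.node (.leaf (nat_lit 619860748)) (.leaf (nat_lit 473644800)))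
    (.leaf (nat_lit 1290255110)))) (.node (.node (.node (.leaf (nat_lit 327194371)) (.leaf (nat_lit
    3274273025))) (.leaf (nat_lit 1664496642))) (.node (.node (.leaf (nat_lit 943843592)) (.leaf
    (nat_lit 304822272))) (.leaf (nat_lit 2473968648))))) (.node (.node (.node (.node (.leaf
    (nat_lit 180402694)) (.leaf (nat_lit 3082319874))) (.leaf (nat_lit 1487086338))) (.node (.node
    (.leaf (nat_lit 438497029)) (.leaf (nat_lit 243621376))) (.leaf (nat_lit 2288336649)))) (.node
    (.node (.node (.leaf (nat_lit 473023500)) (.leaf (nat_lit 727036416))) (.leaf (nat_lit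
    1875133697))) (.node (.node (.leaf (nat_lit 1142056196)) (.leaf (nat_lit 112232969))) (.leaf
    (nat_lit 2675570953))))))) (.node (.node (.node (.node (.node (.node (.leaf (nat_lit 45100036))
    (.leaf (nat_lit 2812974083))) (.leaf (nat_lit 1270001673))) (.node (.node (.leaf (nat_lit
    524428805)) (.leaf (nat_lit 724099584))) (.leaf (nat_lit 2029304065)))) (.node (.node (.node
    (.leaf (nat_lit 152115209)) (.leaf (nat_lit 3229341192))) (.leaf (nat_lit 1493568771))) (.node
    (.node (.leaf (nat_lit 907139082)) (.leaf (nat_lit 1319623936))) (.leaf (nat_lit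
    1530465026))))) (.node (.node (.node (.node (.leaf (nat_lit 123772164)) (.leaf (nat_lit
    3027780617))) (.leaf (nat_lit 832922634))) (.node (.node (.leaf (nat_lit 446876929)) (.leaf
    (nat_lit 638333440))) (.leaf (nat_lit 1377325574)))) (.node (.node (.node (.leaf (nat_lit
    441503497)) (.leaf (nat_lit 3177931016))) (.leaf (nat_lit 1109839111))) (.node (.node (.leaf
    (nat_lit 624169738)) (.leaf (nat_lit 319888136))) (.leaf (nat_lit 2632340481)))))) (.node
    (.node (.node (.node (.node (.leaf (nat_lit 52455173)) (.leaf (nat_lit 2254103814))) (.leaf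
    (nat_lit 1355091461))) (.node (.node (.leaf (nat_lit 353531656)) (.leaf (nat_lit 283313664)))
    (.leaf (nat_lit 2042097410)))) (.node (.node (.node (.leaf (nat_lit 188832516)) (.leaf (nat_lit
    2974494729))) (.leaf (nat_lit 1720084738))) (.node (.node (.leaf (nat_lit 989988104)) (.leaf
    (nat_lit 152222208))) (.leaf (nat_lit 1598647045))))) (.node (.node (.node (.node (.leaf
    (nat_lit 227573002)) (.leaf (nat_lit 3121325323))) (.leaf (nat_lit 1531295499))) (.node (.node
    (.leaf (nat_lit 455284229)) (.leaf (nat_lit 864259328))) (.leaf (nat_lit 2326313483)))) (.node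
    (.node (.node (.leaf (nat_lit 495051531)) (.leaf (nat_lit 1723308800))) (.leaf (nat_lit
    1170680325))) (.node (.leaf (nat_lit 1184131586)) (.leaf (nat_lit 2728013067))))))))) (.node
    (.node (.node (.node (.node (.node (.node (.node (.leaf (nat_lit 10488580)) (.leaf (nat_lit
    1874481925))) (.leaf (nat_lit 1222810116))) (.node (.node (.leaf (nat_lit 531692807)) (.leaf
    (nat_lit 728360448))) (.leaf (nat_lit 1953975051)))) (.node (.node (.node (.leaf (nat_lit
    237039884)) (.leaf (nat_lit 3172717067))) (.leaf (nat_lit 1568886785))) (.node (.node (.leaf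
    (nat_lit 858900745)) (.leaf (nat_lit 282818816))) (.leaf (nat_lit 2349389313))))) (.node (.node
    (.node (.node (.leaf (nat_lit 126908940)) (.leaf (nat_lit 2966938375))) (.leaf (nat_lit
    1387605003))) (.node (.node (.leaf (nat_lit 697473547)) (.leaf (nat_lit 1506331392))) (.leaf
    (nat_lit 1345853446)))) (.node (.node (.node (.leaf (nat_lit 204568838)) (.leaf (nat_lit
    2903146753))) (.leaf (nat_lit 1032228874))) (.node (.node (.leaf (nat_lit 1028899843)) (.leaf
    (nat_lit 155440384))) (.leaf (nat_lit 2498334212)))))) (.node (.node (.node (.node (.node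
    (.leaf (nat_lit 37765384)) (.leaf (nat_lit 2850729219))) (.leaf (nat_lit 758437637))) (.node
    (.node (.leaf (nat_lit 339888136)) (.leaf (nat_lit 169436672))) (.leaf (nat_lit 1407692809))))
    (.node (.node (.node (.leaf (nat_lit 295776261)) (.leaf (nat_lit 3260639497))) (.leaf (nat_lit
    1655931137))) (.node (.node (.leaf (nat_lit 761493765)) (.leaf (nat_lit 155760384))) (.leaf
    (nat_lit 1613310728))))) (.node (.node (.node (.node (.leaf (nat_lit 187717121)) (.leaf
    (nat_lit 2906352898))) (.leaf (nat_lit 905281797))) (.node (.node (.leaf (nat_lit 439543813))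
    (.leaf (nat_lit 276940544))) (.leaf (nat_lit 2270508551)))) (.node (.node (.node (.leaf
    (nat_lit 255966209)) (.leaf (nat_lit 1222375424))) (.leaf (nat_lit 1862547722))) (.node (.node
    (.leaf (nat_lit 1128543492)) (.leaf (nat_lit 153117960))) (.leaf (nat_lit 2662758915)))))))
    (.node (.node (.node (.node (.node (.node (.leaf (nat_lit 37758218)) (.leaf (nat_lit
    2826383105))) (.leaf (nat_lit 1257550604))) (.node (.node (.leaf (nat_lit 521280262)) (.leaf
    (nat_lit 844447232))) (.leaf (nat_lit 2012708875)))) (.node (.node (.node (.leaf (nat_lit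
    283184907)) (.leaf (nat_lit 2556165123))) (.leaf (nat_lit 1613978883))) (.node (.node (.leaf
    (nat_lit 889410566)) (.leaf (nat_lit 205136384))) (.leaf (nat_lit 1521025542))))) (.node (.node
    (.node (.node (.leaf (nat_lit 73438213)) (.leaf (nat_lit 2344303624))) (.leaf (nat_lit
    1416976395))) (.node (.node (.leaf (nat_lit 740475660)) (.leaf (nat_lit 442807808))) (.leaf
    (nat_lit 2219119623)))) (.node (.node (.node (.leaf (nat_lit 428919815)) (.leaf (nat_lit
    3183205634))) (.leaf (nat_lit 1813253128))) (.node (.node (.leaf (nat_lit 624166402)) (.leaf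
    (nat_lit 276905986))) (.leaf (nat_lit 2617652739)))))) (.node (.node (.node (.node (.node
    (.leaf (nat_lit 98577928)) (.leaf (nat_lit 2912391426))) (.leaf (nat_lit 1347607047))) (.node
    (.node (.leaf (nat_lit 652298506)) (.leaf (nat_lit 800594432))) (.leaf (nat_lit 1317528070))))
    (.node (.node (.node (.leaf (nat_lit 252793097)) (.leaf (nat_lit 2801473536))) (.leaf (nat_lit
    977689606))) (.node (.node (.leaf (nat_lit 976462859)) (.leaf (nat_lit 311056896))) (.leaf
    (nat_lit 2514871818))))) (.node (.node (.node (.node (.leaf (nat_lit 218157314)) (.leaf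
    (nat_lit 3112933127))) (.leaf (nat_lit 919973129))) (.node (.node (.leaf (nat_lit 821144327))
    (.leaf (nat_lit 480719872))) (.leaf (nat_lit 2316873228)))) (.node (.node (.node (.leaf
    (nat_lit 484563979)) (.leaf (nat_lit 898921984))) (.leaf (nat_lit 1853300739))) (.node (.leaf
    (nat_lit 1172467201)) (.leaf (nat_lit 2719403010)))))))) (.node (.node (.node (.node (.node
    (.node (.node (.leaf (nat_lit 12588805)) (.leaf (nat_lit 2796186630))) (.leaf (nat_lit
    1244832777))) (.node (.node (.leaf (nat_lit 504498690)) (.leaf (nat_lit 992672768))) (.leaf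
    (nat_lit 1699178244)))) (.node (.node (.node (.leaf (nat_lit 131137541)) (.leaf (nat_lit
    2459691785))) (.leaf (nat_lit 1576397570))) (.node (.node (.leaf (nat_lit 498287876)) (.leaf
    (nat_lit 864453120))) (.leaf (nat_lit 2392221188))))) (.node (.node (.node (.node (.leaf
    (nat_lit 127961099)) (.leaf (nat_lit 2988122635))) (.leaf (nat_lit 1411576578))) (.node (.node
    (.leaf (nat_lit 718450438)) (.leaf (nat_lit 790832385))) (.leaf (nat_lit 2192059916)))) (.node
    (.node (.node (.leaf (nat_lit 414258953)) (.leaf (nat_lit 2705966601))) (.leaf (nat_lit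
    1054254344))) (.node (.node (.leaf (nat_lit 1034152460)) (.leaf (nat_lit 172007433))) (.leaf
    (nat_lit 2586419970)))))) (.node (.node (.node (.node (.node (.leaf (nat_lit 83906572)) (.leaf
    (nat_lit 2061156359))) (.leaf (nat_lit 1323485449))) (.node (.node (.leaf (nat_lit 636566279))
    (.leaf (nat_lit 432631296))) (.leaf (nat_lit 2086981891)))) (.node (.node (.node (.leaf
    (nat_lit 337681156)) (.leaf (nat_lit 3287035907))) (.leaf (nat_lit 1676034054))) (.node (.node
    (.leaf (nat_lit 524520454)) (.leaf (nat_lit 294792704))) (.leaf (nat_lit 2486556161))))) (.node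
    (.node (.node (.node (.leaf (nat_lit 122733062)) (.leaf (nat_lit 3094906121))) (.leaf (nat_lit
    1498623489))) (.node (.node (.leaf (nat_lit 801219329)) (.leaf (nat_lit 278011136))) (.leaf
    (nat_lit 2303018756)))) (.node (.node (.node (.leaf (nat_lit 290573058)) (.leaf (nat_lit
    981881856))) (.leaf (nat_lit 1886669833))) (.node (.node (.leaf (nat_lit 1151494152)) (.leaf
    (nat_lit 156268551))) (.leaf (nat_lit 2692130311))))))) (.node (.node (.node (.node (.node
    (.node (.leaf (nat_lit 53483016)) (.leaf (nat_lit 2156544256))) (.leaf (nat_lit 1279457545)))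
    (.node (.node (.leaf (nat_lit 585248779)) (.leaf (nat_lit 1306848512))) (.leaf (nat_lit
    2039790600)))) (.node (.node (.node (.leaf (nat_lit 150020360)) (.leaf (nat_lit 3239657473)))
    (.leaf (nat_lit 935728902))) (.node (.node (.leaf (nat_lit 917626116)) (.leaf (nat_lit
    2889944585))) (.leaf (nat_lit 1535710465))))) (.node (.node (.node (.node (.leaf (nat_lit
    170951937)) (.leaf (nat_lit 3042464266))) (.leaf (nat_lit 813002502))) (.node (.node (.leaf
    (nat_lit 470996744)) (.leaf (nat_lit 550749952))) (.leaf (nat_lit 2247435523)))) (.node (.node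
    (.node (.leaf (nat_lit 431074315)) (.leaf (nat_lit 1233499136))) (.leaf (nat_lit 1837553926)))
    (.node (.node (.leaf (nat_lit 1105352194)) (.leaf (nat_lit 1070684169))) (.leaf (nat_lit
    2001328137)))))) (.node (.node (.node (.node (.node (.leaf (nat_lit 93351175)) (.leaf (nat_lit
    2938827532))) (.leaf (nat_lit 1369629449))) (.node (.node (.leaf (nat_lit 364019720)) (.leaf
    (nat_lit 858304512))) (.leaf (nat_lit 2146758915)))) (.node (.node (.node (.leaf (nat_lit
    185689095)) (.leaf (nat_lit 2927316480))) (.leaf (nat_lit 1730573323))) (.node (.node (.leaf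
    (nat_lit 1000475395)) (.leaf (nat_lit 198391552))) (.leaf (nat_lit 1602844421))))) (.node
    (.node (.node (.node (.leaf (nat_lit 232841222)) (.leaf (nat_lit 2378936839))) (.leaf (nat_lit
    1545815562))) (.node (.node (.leaf (nat_lit 502472712)) (.leaf (nat_lit 1507514368))) (.leaf
    (nat_lit 2353579266)))) (.node (.node (.node (.leaf (nat_lit 511830539)) (.leaf (nat_lit
    428272128))) (.leaf (nat_lit 1867986177))) (.node (.leaf (nat_lit 1195538433)) (.leaf (nat_lit
    2747722499))))))))))) (.node (.node (.node (.node (.node (.node (.node (.node (.node (.node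
    (.leaf (nat_lit 2097668)) (.leaf (nat_lit 2228896513))) (.leaf (nat_lit 1201961730))) (.node
    (.node (.leaf (nat_lit 517074699)) (.leaf (nat_lit 273176576))) (.leaf (nat_lit 1945396490))))
    (.node (.node (.node (.leaf (nat_lit 240183307)) (.leaf (nat_lit 2508963846))) (.leaf (nat_lit
    1553156353))) (.node (.node (.leaf (nat_lit 848413959)) (.leaf (nat_lit 958817280))) (.leaf
    (nat_lit 1611189257))))) (.node (.node (.node (.node (.leaf (nat_lit 115372549)) (.leaf
    (nat_lit 2090532102))) (.leaf (nat_lit 783622407))) (.node (.node (.leaf (nat_lit 683764487))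
    (.leaf (nat_lit 567594752))) (.leaf (nat_lit 2154099969)))) (.node (.node (.node (.leaf
    (nat_lit 191982088)) (.leaf (nat_lit 2749032194))) (.leaf (nat_lit 1745077764))) (.node (.node
    (.leaf (nat_lit 1006879755)) (.leaf (nat_lit 365160448))) (.leaf (nat_lit 2550528009))))))
    (.node (.node (.node (.node (.node (.leaf (nat_lit 56637196)) (.leaf (nat_lit 2733115142)))
    (.leaf (nat_lit 739560195))) (.node (.node (.leaf (nat_lit 599859970)) (.leaf (nat_lit
    850053632))) (.leaf (nat_lit 1279762438)))) (.node (.node (.node (.leaf (nat_lit 306259467))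
    (.leaf (nat_lit 2513180678))) (.leaf (nat_lit 948313353))) (.node (.node (.leaf (nat_lit
    507736069)) (.leaf (nat_lit 129004290))) (.leaf (nat_lit 2446925323))))) (.node (.node (.node
    (.node (.leaf (nat_lit 86026250)) (.leaf (nat_lit 2725993477))) (.leaf (nat_lit 1357215233)))
    (.node (.node (.leaf (nat_lit 747822337)) (.leaf (nat_lit 477414400))) (.leaf (nat_lit
    2063099394)))) (.node (.node (.node (.leaf (nat_lit 457233410)) (.leaf (nat_lit 705235968)))
    (.leaf (nat_lit 1138156042))) (.node (.node (.leaf (nat_lit 1092888066)) (.leaf (nat_lit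
    303698688))) (.leaf (nat_lit 2651220228))))))) (.node (.node (.node (.node (.node (.node (.leaf
    (nat_lit 29367564)) (.leaf (nat_lit 1944745479))) (.leaf (nat_lit 1252174337))) (.node (.node
    (.leaf (nat_lit 287445254)) (.leaf (nat_lit 730004736))) (.leaf (nat_lit 1986490636)))) (.node
    (.node (.node (.leaf (nat_lit 272696578)) (.leaf (nat_lit 2461790982))) (.leaf (nat_lit
    1598248963))) (.node (.node (.leaf (nat_lit 878922252)) (.leaf (nat_lit 136565760))) (.leaf
    (nat_lit 2400773892))))) (.node (.node (.node (.node (.leaf (nat_lit 146836747)) (.leaf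
    (nat_lit 2191207174))) (.leaf (nat_lit 1346717958))) (.node (.node (.leaf (nat_lit 718452747))
    (.leaf (nat_lit 579210496))) (.leaf (nat_lit 2204436488)))) (.node (.node (.node (.leaf
    (nat_lit 411144198)) (.leaf (nat_lit 1806091017))) (.leaf (nat_lit 1069985802))) (.node (.node
    (.leaf (nat_lit 594801929)) (.leaf (nat_lit 111200256))) (.leaf (nat_lit 2599823105))))))
    (.node (.node (.node (.node (.node (.leaf (nat_lit 89139970)) (.leaf (nat_lit 2011875589)))
    (.leaf (nat_lit 973403396))) (.node (.node (.leaf (nat_lit 409101060)) (.leaf (nat_lit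
    402306304))) (.leaf (nat_lit 2095566594)))) (.node (.node (.node (.leaf (nat_lit 267470340))
    (.leaf (nat_lit 3224126722))) (.leaf (nat_lit 1688442372))) (.node (.node (.leaf (nat_lit
    959574529)) (.leaf (nat_lit 339179520))) (.leaf (nat_lit 1608076801))))) (.node (.node (.node
    (.node (.leaf (nat_lit 108054025)) (.leaf (nat_lit 2223677190))) (.leaf (nat_lit 1507013130)))
    (.node (.node (.leaf (nat_lit 791872012)) (.leaf (nat_lit 171366400))) (.leaf (nat_lit
    1604885767)))) (.node (.node (.node (.leaf (nat_lit 487645955)) (.leaf (nat_lit 969411840)))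
    (.leaf (nat_lit 1193743114))) (.node (.node (.leaf (nat_lit 1147424518)) (.leaf (nat_lit
    307306755))) (.leaf (nat_lit 1805258762)))))))) (.node (.node (.node (.node (.node (.node
    (.node (.leaf (nat_lit 11538181)) (.leaf (nat_lit 1942641667))) (.leaf (nat_lit 711234825)))
    (.node (.node (.leaf (nat_lit 535953420)) (.leaf (nat_lit 1198909184))) (.leaf (nat_lit
    1971620618)))) (.node (.node (.node (.leaf (nat_lit 132183814)) (.leaf (nat_lit 3185121289)))
    (.leaf (nat_lit 1475731461))) (.node (.node (.leaf (nat_lit 862141195)) (.leaf (nat_lit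
    278338816))) (.leaf (nat_lit 2379582730))))) (.node (.node (.node (.node (.leaf (nat_lit
    132153612)) (.leaf (nat_lit 2976384520))) (.leaf (nat_lit 1398081283))) (.node (.node (.leaf
    (nat_lit 664970248)) (.leaf (nat_lit 490264832))) (.leaf (nat_lit 1351098374)))) (.node (.node
    (.node (.leaf (nat_lit 342982666)) (.leaf (nat_lit 2884257540))) (.leaf (nat_lit 1122408457)))
    (.node (.node (.leaf (nat_lit 1007934726)) (.leaf (nat_lit 107011328))) (.leaf (nat_lit
    1637455110)))))) (.node (.node (.node (.node (.node (.leaf (nat_lit 34620937)) (.leaf (nat_lit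
    2866459145))) (.leaf (nat_lit 1304747788))) (.node (.node (.leaf (nat_lit 620908556)) (.leaf
    (nat_lit 928318976))) (.leaf (nat_lit 2073348105)))) (.node (.node (.node (.leaf (nat_lit
    325096967)) (.leaf (nat_lit 3271126794))) (.leaf (nat_lit 1663273226))) (.node (.node (.leaf
    (nat_lit 937656588)) (.leaf (nat_lit 301076736))) (.leaf (nat_lit 1557738247))))) (.node (.node
    (.node (.node (.leaf (nat_lit 95467525)) (.leaf (nat_lit 3079172354))) (.leaf (nat_lit
    852854537))) (.node (.node (.leaf (nat_lit 785489666)) (.leaf (nat_lit 433302784))) (.leaf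
    (nat_lit 2283093255)))) (.node (.node (.node (.leaf (nat_lit 237093382)) (.leaf (nat_lit
    205215744))) (.leaf (nat_lit 1146550022))) (.node (.node (.leaf (nat_lit 643054853)) (.leaf
    (nat_lit 127945737))) (.leaf (nat_lit 2673248516))))))) (.node (.node (.node (.node (.node
    (.node (.leaf (nat_lit 43002372)) (.leaf (nat_lit 1939509254))) (.leaf (nat_lit 1264891916)))
    (.node (.node (.leaf (nat_lit 573640711)) (.leaf (nat_lit 731252992))) (.leaf (nat_lit
    1267174405)))) (.node (.node (.node (.leaf (nat_lit 248583681)) (.leaf (nat_lit 3227072004)))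
    (.leaf (nat_lit 1580600076))) (.node (.node (.leaf (nat_lit 904005891)) (.leaf (nat_lit
    172052224))) (.leaf (nat_lit 2379811073))))) (.node (.node (.node (.node (.leaf (nat_lit
    162547969)) (.leaf (nat_lit 2341160199))) (.leaf (nat_lit 1444084745))) (.node (.node (.leaf
    (nat_lit 744672012)) (.leaf (nat_lit 413705216))) (.leaf (nat_lit 2230656519)))) (.node (.node
    (.node (.leaf (nat_lit 438357514)) (.leaf (nat_lit 2242656512))) (.leaf (nat_lit 1822692867)))
    (.node (.node (.leaf (nat_lit 1091718151)) (.leaf (nat_lit 142760704))) (.leaf (nat_lit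
    2628143625)))))) (.node (.node (.node (.node (.node (.leaf (nat_lit 105918473)) (.leaf (nat_lit
    2915754251))) (.leaf (nat_lit 771034117))) (.node (.node (.leaf (nat_lit 409105669)) (.leaf
    (nat_lit 1728761344))) (.leaf (nat_lit 2127031564)))) (.node (.node (.node (.leaf (nat_lit
    176249095)) (.leaf (nat_lit 3073057544))) (.leaf (nat_lit 993420550))) (.node (.node (.leaf
    (nat_lit 986841098)) (.leaf (nat_lit 298985984))) (.leaf (nat_lit 2524538884))))) (.node (.node
    (.node (.node (.leaf (nat_lit 107009798)) (.leaf (nat_lit 3115033094))) (.leaf (nat_lit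
    1530246156))) (.node (.node (.leaf (nat_lit 780342283)) (.leaf (nat_lit 483951616))) (.leaf
    (nat_lit 2339724036)))) (.node (.node (.node (.leaf (nat_lit 244441349)) (.leaf (nat_lit
    435380480))) (.leaf (nat_lit 1871128581))) (.node (.leaf (nat_lit 1177839366)) (.leaf (nat_lit
    2728845575))))))))) (.node (.node (.node (.node (.node (.node (.node (.node (.leaf (nat_lit
    9438217)) (.leaf (nat_lit 2767867916))) (.leaf (nat_lit 934578952))) (.node (.node (.leaf
    (nat_lit 400685314)) (.leaf (nat_lit 254928896))) (.leaf (nat_lit 1925662988)))) (.node (.node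
    (.node (.leaf (nat_lit 250639106)) (.leaf (nat_lit 3169390599))) (.leaf (nat_lit 1483068676)))
    (.node (.node (.leaf (nat_lit 855754760)) (.leaf (nat_lit 1681392384))) (.leaf (nat_lit
    2370166785))))) (.node (.node (.node (.node (.leaf (nat_lit 61896709)) (.leaf (nat_lit
    2962743047))) (.leaf (nat_lit 1386408202))) (.node (.node (.leaf (nat_lit 694327051)) (.leaf
    (nat_lit 2102115584))) (.leaf (nat_lit 2169830665)))) (.node (.node (.node (.leaf (nat_lit
    202470917)) (.leaf (nat_lit 2278184192))) (.leaf (nat_lit 1028033542))) (.node (.node (.leaf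
    (nat_lit 572772870)) (.leaf (nat_lit 380305920))) (.leaf (nat_lit 2563113219)))))) (.node
    (.node (.node (.node (.node (.leaf (nat_lit 58736395)) (.leaf (nat_lit 2863095559))) (.leaf
    (nat_lit 817157121))) (.node (.node (.leaf (nat_lit 609371660)) (.leaf (nat_lit 274423808)))
    (.leaf (nat_lit 1281863178)))) (.node (.node (.node (.leaf (nat_lit 160509447)) (.leaf (nat_lit
    3257670153))) (.leaf (nat_lit 1259743495))) (.node (.node (.leaf (nat_lit 931259650)) (.leaf
    (nat_lit 77116672))) (.leaf (nat_lit 2458236675))))) (.node (.node (.node (.node (.leaf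
    (nat_lit 151040262)) (.leaf (nat_lit 3017500931))) (.leaf (nat_lit 1475550985))) (.node (.node
    (.leaf (nat_lit 451077641)) (.leaf (nat_lit 269110528))) (.leaf (nat_lit 1449685767)))) (.node
    (.node (.node (.leaf (nat_lit 464574468)) (.leaf (nat_lit 465154816))) (.leaf (nat_lit
    1859401737))) (.node (.node (.leaf (nat_lit 1127374856)) (.leaf (nat_lit 335604743))) (.leaf
    (nat_lit 2465851402))))))) (.node (.node (.node (.node (.node (.node (.leaf (nat_lit 33563654))
    (.leaf (nat_lit 2822187785))) (.leaf (nat_lit 1260563721))) (.node (.node (.leaf (nat_lit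
    286398725)) (.leaf (nat_lit 474490368))) (.leaf (nat_lit 2007465227)))) (.node (.node (.node
    (.leaf (nat_lit 282099208)) (.leaf (nat_lit 3168533253))) (.leaf (nat_lit 1609957380))) (.node
    (.node (.leaf (nat_lit 891409665)) (.leaf (nat_lit 859410944))) (.leaf (nat_lit 1581842186)))))
    (.node (.node (.node (.node (.leaf (nat_lit 72389122)) (.leaf (nat_lit 3014144516))) (.leaf
    (nat_lit 1431655940))) (.node (.node (.leaf (nat_lit 718455041)) (.leaf (nat_lit 1300825344)))
    (.leaf (nat_lit 2215973379)))) (.node (.node (.node (.leaf (nat_lit 426822659)) (.leaf (nat_lit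
    3204178186))) (.leaf (nat_lit 1810106116))) (.node (.node (.leaf (nat_lit 606339849)) (.leaf
    (nat_lit 281110275))) (.leaf (nat_lit 2610543116)))))) (.node (.node (.node (.node (.node
    (.leaf (nat_lit 96492555)) (.leaf (nat_lit 2909245442))) (.leaf (nat_lit 1344461066))) (.node
    (.node (.leaf (nat_lit 647129612)) (.leaf (nat_lit 2145962752))) (.leaf (nat_lit 2107105030))))
    (.node (.node (.node (.leaf (nat_lit 171003914)) (.leaf (nat_lit 1656506624))) (.leaf (nat_lit
    1700157189))) (.node (.node (.leaf (nat_lit 972158980)) (.leaf (nat_lit 295143936))) (.leaf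
    (nat_lit 1593399810))))) (.node (.node (.node (.node (.leaf (nat_lit 217080072)) (.leaf
    (nat_lit 3110638852))) (.leaf (nat_lit 1512417804))) (.node (.node (.leaf (nat_lit 819046915))
    (.leaf (nat_lit 245004288))) (.leaf (nat_lit 2327138818)))) (.node (.node (.node (.leaf
    (nat_lit 494000652)) (.leaf (nat_lit 918883584))) (.leaf (nat_lit 1200037385))) (.node (.node
    (.leaf (nat_lit 1166301451)) (.leaf (nat_lit 105937156))) (.leaf (nat_lit 2715208193))))))))
    (.node (.node (.node (.node (.node (.node (.node (.leaf (nat_lit 23071242)) (.leaf (nat_lit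
    2794920202))) (.leaf (nat_lit 1233428492))) (.node (.node (.leaf (nat_lit 546375176)) (.leaf
    (nat_lit 854928384))) (.leaf (nat_lit 1965516035)))) (.node (.node (.node (.leaf (nat_lit
    142671369)) (.leaf (nat_lit 3195608074))) (.leaf (nat_lit 1574299909))) (.node (.node (.leaf
    (nat_lit 871580428)) (.leaf (nat_lit 1316551424))) (.leaf (nat_lit 1732830985))))) (.node
    (.node (.node (.node (.leaf (nat_lit 119572232)) (.leaf (nat_lit 2986876168))) (.leaf (nat_lit
    795164417))) (.node (.node (.leaf (nat_lit 717401605)) (.leaf (nat_lit 846904320))) (.leaf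
    (nat_lit 2191852804)))) (.node (.node (.node (.leaf (nat_lit 216107266)) (.leaf (nat_lit
    1670817536))) (.leaf (nat_lit 1097244931))) (.node (.node (.leaf (nat_lit 581167114)) (.leaf
    (nat_lit 79757056))) (.leaf (nat_lit 1851367683)))))) (.node (.node (.node (.node (.node (.leaf
    (nat_lit 45108741)) (.leaf (nat_lit 2883027969))) (.leaf (nat_lit 749005576))) (.node (.node
    (.leaf (nat_lit 633420295)) (.leaf (nat_lit 1507326464))) (.leaf (nat_lit 1460126474)))) (.node
    (.node (.node (.leaf (nat_lit 333529099)) (.leaf (nat_lit 3284762377))) (.leaf (nat_lit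
    1038499081))) (.node (.node (.leaf (nat_lit 519277065)) (.leaf (nat_lit 376125952))) (.leaf
    (nat_lit 2483407620))))) (.node (.node (.node (.node (.leaf (nat_lit 201350148)) (.leaf
    (nat_lit 3090710531))) (.leaf (nat_lit 1495476226))) (.node (.node (.leaf (nat_lit 793966859))
    (.leaf (nat_lit 281750016))) (.leaf (nat_lit 2300921095)))) (.node (.node (.node (.leaf
    (nat_lit 473024770)) (.leaf (nat_lit 646639872))) (.leaf (nat_lit 1882653707))) (.node (.node
    (.leaf (nat_lit 1149396745)) (.leaf (nat_lit 302059778))) (.leaf (nat_lit 2685848835)))))))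
    (.node (.node (.node (.node (.node (.node (.leaf (nat_lit 39858438)) (.leaf (nat_lit
    2847579147))) (.leaf (nat_lit 1277342215))) (.node (.node (.leaf (nat_lit 297938178)) (.leaf
    (nat_lit 410794752))) (.leaf (nat_lit 2037693442)))) (.node (.node (.node (.leaf (nat_lit
    299937033)) (.leaf (nat_lit 3191606792))) (.leaf (nat_lit 1632856068))) (.node (.node (.leaf
    (nat_lit 912484363)) (.leaf (nat_lit 136372485))) (.leaf (nat_lit 1533612806))))) (.node (.node
    (.node (.node (.leaf (nat_lit 102801924)) (.leaf (nat_lit 3039318026))) (.leaf (nat_lit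
    809856005))) (.node (.node (.leaf (nat_lit 700634113)) (.leaf (nat_lit 808944896))) (.leaf
    (nat_lit 2243451916)))) (.node (.node (.node (.leaf (nat_lit 428976651)) (.leaf (nat_lit
    2864456192))) (.leaf (nat_lit 1111938823))) (.node (.node (.leaf (nat_lit 633608962)) (.leaf
    (nat_lit 277910274))) (.leaf (nat_lit 2155468038)))))) (.node (.node (.node (.node (.node
    (.leaf (nat_lit 112222215)) (.leaf (nat_lit 2935466503))) (.leaf (nat_lit 823465737))) (.node
    (.node (.leaf (nat_lit 646086156)) (.leaf (nat_lit 495115008))) (.leaf (nat_lit 2141515265))))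
    (.node (.node (.node (.leaf (nat_lit 371240712)) (.leaf (nat_lit 1902613760))) (.leaf (nat_lit
    1729481225))) (.node (.node (.leaf (nat_lit 997420033)) (.leaf (nat_lit 174489856))) (.leaf
    (nat_lit 2429121285))))) (.node (.node (.node (.node (.leaf (nat_lit 124837380)) (.leaf
    (nat_lit 3021712641))) (.leaf (nat_lit 1541620738))) (.node (.node (.leaf (nat_lit 752033283))
    (.leaf (nat_lit 2399908608))) (.leaf (nat_lit 1533592073)))) (.node (.node (.node (.leaf
    (nat_lit 443672834)) (.leaf (nat_lit 475510016))) (.leaf (nat_lit 1924608779))) (.node (.leaf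
    (nat_lit 700739842)) (.leaf (nat_lit 2744576259)))))))))) (.node (.node (.node (.node (.node
    (.node (.node (.node (.node (.leaf (nat_lit 5244162)) (.leaf (nat_lit 2759477771))) (.leaf
    (nat_lit 685015814))) (.node (.node (.leaf (nat_lit 525400324)) (.leaf (nat_lit 241914624)))
    (.leaf (nat_lit 1949591553)))) (.node (.node (.node (.leaf (nat_lit 121694981)) (.leaf (nat_lit
    3162049540))) (.leaf (nat_lit 1538641667))) (.node (.node (.leaf (nat_lit 844311563)) (.leaf
    (nat_lit 491462144))) (.leaf (nat_lit 2366998274))))) (.node (.node (.node (.node (.leaf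
    (nat_lit 82867463)) (.leaf (nat_lit 2104165127))) (.leaf (nat_lit 782575366))) (.node (.node
    (.leaf (nat_lit 688034059)) (.leaf (nat_lit 860198400))) (.leaf (nat_lit 2163538177)))) (.node
    (.node (.node (.leaf (nat_lit 386972419)) (.leaf (nat_lit 1278497282))) (.leaf (nat_lit
    1676051460))) (.node (.node (.leaf (nat_lit 1018303747)) (.leaf (nat_lit 364225024))) (.leaf
    (nat_lit 2556820739)))))) (.node (.node (.node (.node (.node (.leaf (nat_lit 62921735)) (.leaf
    (nat_lit 2851774988))) (.leaf (nat_lit 1292023553))) (.node (.node (.leaf (nat_lit 333595143))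
    (.leaf (nat_lit 280427520))) (.leaf (nat_lit 2005378566)))) (.node (.node (.node (.leaf
    (nat_lit 161556999)) (.leaf (nat_lit 2523667974))) (.leaf (nat_lit 1647541511))) (.node (.node
    (.leaf (nat_lit 879981319)) (.leaf (nat_lit 74689024))) (.leaf (nat_lit 2454041864))))) (.node
    (.node (.node (.node (.leaf (nat_lit 178302219)) (.leaf (nat_lit 2725995016))) (.leaf (nat_lit
    1368750859))) (.node (.node (.leaf (nat_lit 697491717)) (.leaf (nat_lit 124848896))) (.leaf
    (nat_lit 1444441096)))) (.node (.node (.node (.leaf (nat_lit 460379649)) (.leaf (nat_lit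
    1223239424))) (.leaf (nat_lit 1141303306))) (.node (.node (.leaf (nat_lit 1121082631)) (.leaf
    (nat_lit 176205063))) (.leaf (nat_lit 2655416321))))))) (.node (.node (.node (.node (.node
    (.node (.leaf (nat_lit 34611467)) (.leaf (nat_lit 1934260993))) (.leaf (nat_lit 784641542)))
    (.node (.node (.leaf (nat_lit 545395979)) (.leaf (nat_lit 1444478976))) (.leaf (nat_lit
    2004135681)))) (.node (.node (.node (.leaf (nat_lit 277904648)) (.leaf (nat_lit 2460743429)))
    (.leaf (nat_lit 1606638084))) (.node (.node (.leaf (nat_lit 887215105)) (.leaf (nat_lit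
    750317312))) (.leaf (nat_lit 1569257737))))) (.node (.node (.node (.node (.leaf (nat_lit
    149983243)) (.leaf (nat_lit 3005753610))) (.leaf (nat_lit 1426257418))) (.node (.node (.leaf
    (nat_lit 719502091)) (.leaf (nat_lit 506569222))) (.leaf (nat_lit 2209680130)))) (.node (.node
    (.node (.leaf (nat_lit 423676674)) (.leaf (nat_lit 3157926153))) (.leaf (nat_lit 1801715719)))
    (.node (.node (.leaf (nat_lit 1069692675)) (.leaf (nat_lit 107382784))) (.leaf (nat_lit
    2601104389)))))) (.node (.node (.node (.node (.node (.leaf (nat_lit 88102923)) (.leaf (nat_lit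
    2212154890))) (.leaf (nat_lit 1339217667))) (.node (.node (.leaf (nat_lit 356673288)) (.leaf
    (nat_lit 956858880))) (.leaf (nat_lit 2104830985)))) (.node (.node (.node (.leaf (nat_lit
    347163650)) (.leaf (nat_lit 2581351175))) (.leaf (nat_lit 1695783946))) (.node (.node (.leaf
    (nat_lit 957585676)) (.leaf (nat_lit 1311236096))) (.leaf (nat_lit 2410238977))))) (.node
    (.node (.node (.node (.leaf (nat_lit 211836937)) (.leaf (nat_lit 2679869191))) (.leaf (nat_lit
    1512416002))) (.node (.node (.leaf (nat_lit 648218625)) (.leaf (nat_lit 2399865088))) (.leaf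
    (nat_lit 2320846855)))) (.node (.node (.node (.leaf (nat_lit 491840516)) (.leaf (nat_lit
    1244097536))) (.leaf (nat_lit 1170675970))) (.node (.node (.leaf (nat_lit 822366980)) (.leaf
    (nat_lit 101738244))) (.leaf (nat_lit 1817843208)))))))) (.node (.node (.node (.node (.node
    (.node (.node (.leaf (nat_lit 18876673)) (.leaf (nat_lit 1897554440))) (.leaf (nat_lit
    768907527))) (.node (.node (.leaf (nat_lit 537002507)) (.leaf (nat_lit 490929920))) (.leaf
    (nat_lit 1978097410)))) (.node (.node (.node (.leaf (nat_lit 237041155)) (.leaf (nat_lit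
    2457592329))) (.leaf (nat_lit 1582519298))) (.node (.node (.leaf (nat_lit 491994885)) (.leaf
    (nat_lit 965098752))) (.leaf (nat_lit 1627971850))))) (.node (.node (.node (.node (.leaf
    (nat_lit 138433800)) (.leaf (nat_lit 2782599690))) (.leaf (nat_lit 1273313540))) (.node (.node
    (.leaf (nat_lit 707963403)) (.leaf (nat_lit 121693952))) (.leaf (nat_lit 2185560839)))) (.node
    (.node (.node (.leaf (nat_lit 395412492)) (.leaf (nat_lit 1061797632))) (.leaf (nat_lit
    1042717701))) (.node (.node (.leaf (nat_lit 1041490699)) (.leaf (nat_lit 101823744))) (.leaf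
    (nat_lit 1946786821)))))) (.node (.node (.node (.node (.node (.leaf (nat_lit 78652680)) (.leaf
    (nat_lit 2876946444))) (.leaf (nat_lit 797238538))) (.node (.node (.leaf (nat_lit 329405702))
    (.leaf (nat_lit 81437696))) (.leaf (nat_lit 1302838789)))) (.node (.node (.node (.leaf (nat_lit
    330382092)) (.leaf (nat_lit 3278467849))) (.leaf (nat_lit 1008088841))) (.node (.node (.leaf
    (nat_lit 737379591)) (.leaf (nat_lit 335662336))) (.leaf (nat_lit 1552496902))))) (.node (.node
    (.node (.node (.leaf (nat_lit 196131852)) (.leaf (nat_lit 2930474242))) (.leaf (nat_lit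
    955616519))) (.node (.node (.leaf (nat_lit 437449221)) (.leaf (nat_lit 129032704))) (.leaf
    (nat_lit 1412991754)))) (.node (.node (.node (.leaf (nat_lit 475066371)) (.leaf (nat_lit
    1272299520))) (.leaf (nat_lit 1867972108))) (.node (.node (.leaf (nat_lit 650396421)) (.leaf
    (nat_lit 191936520))) (.leaf (nat_lit 2681641735))))))) (.node (.node (.node (.node (.node
    (.node (.leaf (nat_lit 43003393)) (.leaf (nat_lit 2754254598))) (.leaf (nat_lit 777305345)))
    (.node (.node (.leaf (nat_lit 579932673)) (.leaf (nat_lit 2685051648))) (.leaf (nat_lit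
    1405587718)))) (.node (.node (.node (.leaf (nat_lit 184621316)) (.leaf (nat_lit 3231448833)))
    (.leaf (nat_lit 1627612417))) (.node (.node (.leaf (nat_lit 908288770)) (.leaf (nat_lit
    2114486272))) (.leaf (nat_lit 2430971399))))) (.node (.node (.node (.node (.leaf (nat_lit
    166742538)) (.leaf (nat_lit 3033024008))) (.leaf (nat_lit 1450376962))) (.node (.node (.leaf
    (nat_lit 741527051)) (.leaf (nat_lit 1512568576))) (.leaf (nat_lit 2239046147)))) (.node (.node
    (.node (.leaf (nat_lit 355575557)) (.leaf (nat_lit 2474337801))) (.leaf (nat_lit 1828102148)))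
    (.node (.node (.leaf (nat_lit 623121674)) (.leaf (nat_lit 108027145))) (.leaf (nat_lit
    1703530501)))))) (.node (.node (.node (.node (.node (.leaf (nat_lit 63989762)) (.leaf (nat_lit
    2928336385))) (.leaf (nat_lit 1358237963))) (.node (.node (.leaf (nat_lit 663855880)) (.leaf
    (nat_lit 888392448))) (.leaf (nat_lit 1320678149)))) (.node (.node (.node (.leaf (nat_lit
    366042380)) (.leaf (nat_lit 1919613440))) (.leaf (nat_lit 1723186697))) (.node (.node (.leaf
    (nat_lit 992086025)) (.leaf (nat_lit 90495488))) (.leaf (nat_lit 1601793539))))) (.node (.node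
    (.node (.node (.leaf (nat_lit 230713092)) (.leaf (nat_lit 3130566657))) (.leaf (nat_lit
    1525004556))) (.node (.node (.leaf (nat_lit 832679938)) (.leaf (nat_lit 858296320))) (.leaf
    (nat_lit 2346218499)))) (.node (.node (.node (.leaf (nat_lit 508619012)) (.leaf (nat_lit
    2227798016))) (.leaf (nat_lit 1927568388))) (.node (.leaf (nat_lit 1188197123)) (.leaf (nat_lit
    2735137794))))))))) (.node (.node (.node (.node (.node (.node (.node (.node (.leaf (nat_lit
    13632778)) (.leaf (nat_lit 2767869707))) (.leaf (nat_lit 1223987204))) (.node (.node (.leaf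
    (nat_lit 530709772)) (.leaf (nat_lit 1311310848))) (.leaf (nat_lit 1962179848)))) (.node (.node
    (.node (.leaf (nat_lit 210825988)) (.leaf (nat_lit 3171669515))) (.leaf (nat_lit 1571150604)))
    (.node (.node (.leaf (nat_lit 863095305)) (.leaf (nat_lit 1319878400))) (.leaf (nat_lit
    2374555908))))) (.node (.node (.node (.node (.leaf (nat_lit 129006603)) (.leaf (nat_lit
    2969243660))) (.leaf (nat_lit 1264922117))) (.node (.node (.leaf (nat_lit 409115912)) (.leaf
    (nat_lit 1300574208))) (.leaf (nat_lit 1352145665)))) (.node (.node (.node (.leaf (nat_lit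
    205617669)) (.leaf (nat_lit 2925168132))) (.leaf (nat_lit 1763955975))) (.node (.node (.leaf
    (nat_lit 1027856385)) (.leaf (nat_lit 235028992))) (.leaf (nat_lit 2568357122)))))) (.node
    (.node (.node (.node (.node (.leaf (nat_lit 41959938)) (.leaf (nat_lit 1998237703))) (.leaf
    (nat_lit 1301600780))) (.node (.node (.leaf (nat_lit 616641034)) (.leaf (nat_lit 259158528)))
    (.leaf (nat_lit 2051518987)))) (.node (.node (.node (.leaf (nat_lit 193016073)) (.leaf (nat_lit
    2544642052))) (.leaf (nat_lit 1658075137))) (.node (.node (.leaf (nat_lit 762542598)) (.leaf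
    (nat_lit 295220736))) (.leaf (nat_lit 1564028163))))) (.node (.node (.node (.node (.leaf
    (nat_lit 96515330)) (.leaf (nat_lit 3068882956))) (.leaf (nat_lit 1476755980))) (.node (.node
    (.leaf (nat_lit 777185548)) (.leaf (nat_lit 287515392))) (.leaf (nat_lit 2272819468)))) (.node
    (.node (.node (.leaf (nat_lit 431078924)) (.leaf (nat_lit 267141120))) (.leaf (nat_lit
    1864772618))) (.node (.node (.leaf (nat_lit 758396935)) (.leaf (nat_lit 152068616))) (.leaf
    (nat_lit 2665905673))))))) (.node (.node (.node (.node (.node (.node (.leaf (nat_lit 25175554))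
    (.leaf (nat_lit 1954187784))) (.leaf (nat_lit 723825923))) (.node (.node (.leaf (nat_lit
    284302858)) (.leaf (nat_lit 505741312))) (.leaf (nat_lit 2017768457)))) (.node (.node (.node
    (.leaf (nat_lit 284234252)) (.leaf (nat_lit 3220779523))) (.leaf (nat_lit 1566967052))) (.node
    (.node (.leaf (nat_lit 897701383)) (.leaf (nat_lit 439918592))) (.leaf (nat_lit 2416510220)))))
    (.node (.node (.node (.node (.leaf (nat_lit 157324811)) (.leaf (nat_lit 2205892358))) (.leaf
    (nat_lit 809851655))) (.node (.node (.leaf (nat_lit 744591625)) (.leaf (nat_lit 2129236480)))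
    (.leaf (nat_lit 2219329547)))) (.node (.node (.node (.leaf (nat_lit 395418369)) (.leaf (nat_lit
    2726022144))) (.leaf (nat_lit 1090962440))) (.node (.node (.leaf (nat_lit 611584266)) (.leaf
    (nat_lit 375482119))) (.leaf (nat_lit 2612642571)))))) (.node (.node (.node (.node (.node
    (.leaf (nat_lit 75521799)) (.leaf (nat_lit 2910509835))) (.leaf (nat_lit 1349847042))) (.node
    (.node (.leaf (nat_lit 655444489)) (.leaf (nat_lit 931377408))) (.leaf (nat_lit 1320674561))))
    (.node (.node (.node (.leaf (nat_lit 356557314)) (.leaf (nat_lit 2575997191))) (.leaf (nat_lit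
    1711514626))) (.node (.node (.leaf (nat_lit 824419842)) (.leaf (nat_lit 154876160))) (.leaf
    (nat_lit 2499371522))))) (.node (.node (.node (.node (.leaf (nat_lit 222323465)) (.leaf
    (nat_lit 3116932354))) (.leaf (nat_lit 1523953414))) (.node (.node (.leaf (nat_lit 774049803))
    (.leaf (nat_lit 417392906))) (.leaf (nat_lit 2301145355)))) (.node (.node (.node (.leaf
    (nat_lit 500293132)) (.leaf (nat_lit 1721220608))) (.leaf (nat_lit 1916033026))) (.node (.leaf
    (nat_lit 1176661762)) (.leaf (nat_lit 1840915210)))))))) (.node (.node (.node (.node (.node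
    (.node (.node (.leaf (nat_lit 23074821)) (.leaf (nat_lit 2588569861))) (.leaf (nat_lit
    1247979012))) (.node (.node (.leaf (nat_lit 549588228)) (.leaf (nat_lit 853896192))) (.leaf
    (nat_lit 1992596490)))) (.node (.node (.node (.leaf (nat_lit 270564103)) (.leaf (nat_lit
    3197890060))) (.leaf (nat_lit 1544940802))) (.node (.node (.leaf (nat_lit 878921476)) (.leaf
    (nat_lit 860245248))) (.leaf (nat_lit 2394318851))))) (.node (.node (.node (.node (.leaf
    (nat_lit 143690242)) (.leaf (nat_lit 2992119815))) (.leaf (nat_lit 1409630987))) (.node (.node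
    (.leaf (nat_lit 723694347)) (.leaf (nat_lit 1517870336))) (.leaf (nat_lit 1374171394)))) (.node
    (.node (.node (.leaf (nat_lit 222399751)) (.leaf (nat_lit 1749461767))) (.leaf (nat_lit
    1789128968))) (.node (.node (.leaf (nat_lit 587460106)) (.leaf (nat_lit 188835840))) (.leaf
    (nat_lit 2592482057)))))) (.node (.node (.node (.node (.node (.leaf (nat_lit 81809925)) (.leaf
    (nat_lit 2889329927))) (.leaf (nat_lit 812969993))) (.node (.node (.leaf (nat_lit 499277834))
    (.leaf (nat_lit 262433280))) (.leaf (nat_lit 1303890183)))) (.node (.node (.node (.leaf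
    (nat_lit 339778564)) (.leaf (nat_lit 3291055107))) (.leaf (nat_lit 1681116673))) (.node (.node
    (.leaf (nat_lit 950242828)) (.leaf (nat_lit 168041728))) (.leaf (nat_lit 2489702152))))) (.node
    (.node (.node (.node (.leaf (nat_lit 101761796)) (.leaf (nat_lit 1986702848))) (.leaf (nat_lit
    1500720906))) (.node (.node (.leaf (nat_lit 441646598)) (.leaf (nat_lit 538679040))) (.leaf
    (nat_lit 2304284172)))) (.node (.node (.node (.leaf (nat_lit 480365579)) (.leaf (nat_lit
    456531712))) (.leaf (nat_lit 1891913217))) (.node (.node (.leaf (nat_lit 831802119)) (.leaf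
    (nat_lit 1081112842))) (.leaf (nat_lit 1791625477))))))) (.node (.node (.node (.node (.node
    (.node (.leaf (nat_lit 30422019)) (.leaf (nat_lit 1944585223))) (.leaf (nat_lit 728024840)))
    (.node (.node (.leaf (nat_lit 590420995)) (.leaf (nat_lit 744041472))) (.leaf (nat_lit
    2042936833)))) (.node (.node (.node (.leaf (nat_lit 153166602)) (.leaf (nat_lit 3241754881)))
    (.leaf (nat_lit 1636178187))) (.node (.node (.leaf (nat_lit 918764545)) (.leaf (nat_lit
    135297027))) (.leaf (nat_lit 1530468101))))) (.node (.node (.node (.node (.leaf (nat_lit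
    173035017)) (.leaf (nat_lit 2238404358))) (.leaf (nat_lit 1461912835))) (.node (.node (.leaf
    (nat_lit 743627010)) (.leaf (nat_lit 246891776))) (.leaf (nat_lit 2249532931)))) (.node (.node
    (.node (.leaf (nat_lit 221359621)) (.leaf (nat_lit 2879120128))) (.leaf (nat_lit 1842619912)))
    (.node (.node (.leaf (nat_lit 1102323723)) (.leaf (nat_lit 302248960))) (.leaf (nat_lit
    2639911692)))))) (.node (.node (.node (.node (.node (.leaf (nat_lit 63991561)) (.leaf (nat_lit
    2071656198))) (.leaf (nat_lit 1342512131))) (.node (.node (.leaf (nat_lit 674399244)) (.leaf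
    (nat_lit 438446336))) (.leaf (nat_lit 2079851009)))) (.node (.node (.node (.leaf (nat_lit
    372336140)) (.leaf (nat_lit 2083152128))) (.leaf (nat_lit 1561753610))) (.node (.node (.leaf
    (nat_lit 558087178)) (.leaf (nat_lit 364998656))) (.leaf (nat_lit 1600748037))))) (.node (.node
    (.node (.node (.leaf (nat_lit 117498118)) (.leaf (nat_lit 3145262088))) (.leaf (nat_lit
    1544930054))) (.node (.node (.leaf (nat_lit 840114692)) (.leaf (nat_lit 1020994304))) (.leaf
    (nat_lit 2357559809)))) (.node (.node (.node (.leaf (nat_lit 509733897)) (.leaf (nat_lit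
    219371776))) (.leaf (nat_lit 1938241796))) (.node (.leaf (nat_lit 1198684418)) (.leaf (nat_lit
    2750868484)))))))))))))))

/-- Certificate data. -/
def p2_just : Trie :=
    (.node (.node (.node (.node (.node (.node (.node (.node (.node (.node (.node (.node (.node
    (.node (.leaf (nat_lit 1)) (.leaf (nat_lit 55798459620566705045566))) (.leaf (nat_lit
    1152112259753967627))) (.node (.node (.leaf (nat_lit 576337486742159439)) (.leaf (nat_lit
    819140474160126676877705218))) (.leaf (nat_lit 0)))) (.node (.node (.node (.leaf (nat_lit 0))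
    (.leaf (nat_lit 0))) (.leaf (nat_lit 29543360975717846417456))) (.node (.node (.leaf (nat_lit
    0)) (.leaf (nat_lit 60905094769269731950594))) (.leaf (nat_lit 66022283928585095020599)))))
    (.node (.node (.node (.node (.leaf (nat_lit 2591842982035112263717)) (.leaf (nat_lit 0)))
    (.leaf (nat_lit 26434987486032775282734))) (.node (.node (.leaf (nat_lit 0)) (.leaf (nat_lit
    1347446979692601563693711362))) (.leaf (nat_lit 0)))) (.node (.node (.node (.leaf (nat_lit
    423136963780627318528278593)) (.leaf (nat_lit 56080834054761622994946))) (.leaf (nat_lit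
    1585170646818750514))) (.node (.node (.leaf (nat_lit 0)) (.leaf (nat_lit 3307150269896327170)))
    (.leaf (nat_lit 0)))))) (.node (.node (.node (.node (.node (.leaf (nat_lit
    45940195749496178874777653)) (.leaf (nat_lit 61499210183517529112578))) (.leaf (nat_lit
    1223609094271795220))) (.node (.node (.leaf (nat_lit 0)) (.leaf (nat_lit
    1340795535481936695829725186))) (.leaf (nat_lit 58735650283461795840051)))) (.node (.node
    (.node (.leaf (nat_lit 358610102560882695)) (.leaf (nat_lit 87274209469571602251784))) (.leaf
    (nat_lit 31332747366674876006439))) (.node (.node (.leaf (nat_lit 0)) (.leaf (nat_lit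
    345183132850454530))) (.leaf (nat_lit 0))))) (.node (.node (.node (.node (.leaf (nat_lit
    111048471087284227)) (.leaf (nat_lit 0))) (.leaf (nat_lit 1402229440677195617172455457)))
    (.node (.node (.leaf (nat_lit 0)) (.leaf (nat_lit 3073234041579896834))) (.leaf (nat_lit
    63393540986664237858857)))) (.node (.node (.node (.leaf (nat_lit 16353306319418057490457))
    (.leaf (nat_lit 86467308523370152394754))) (.leaf (nat_lit 1656812286158962708))) (.node (.node
    (.leaf (nat_lit 0)) (.leaf (nat_lit 255647257229159332711759874))) (.leaf (nat_lit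
    73133683356615158464553))))))) (.node (.node (.node (.node (.node (.node (.leaf (nat_lit
    581087779768938725423)) (.leaf (nat_lit 76675599522512825942028))) (.leaf (nat_lit
    38425312443129984647198))) (.node (.node (.leaf (nat_lit 11114496026511289810978)) (.leaf
    (nat_lit 30735135593957142233090))) (.leaf (nat_lit 1764901975750737927)))) (.node (.node
    (.node (.leaf (nat_lit 162843165336928273)) (.leaf (nat_lit 0))) (.leaf (nat_lit 0))) (.node
    (.node (.leaf (nat_lit 17995345495783345684523)) (.leaf (nat_lit 3199904481248673794))) (.leaf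
    (nat_lit 0))))) (.node (.node (.node (.node (.leaf (nat_lit 3546472544260719837261)) (.leaf
    (nat_lit 62139752799908313366597))) (.leaf (nat_lit 0))) (.node (.node (.leaf (nat_lit 0))
    (.leaf (nat_lit 3059722546913083394))) (.leaf (nat_lit 0)))) (.node (.node (.node (.leaf
    (nat_lit 8790134211231801868355)) (.leaf (nat_lit 2255262068427063298))) (.leaf (nat_lit 0)))
    (.node (.node (.leaf (nat_lit 34173238006116564271144)) (.leaf (nat_lit 3310809032276705282)))
    (.leaf (nat_lit 0)))))) (.node (.node (.node (.node (.node (.leaf (nat_lit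
    1955410888619228069958)) (.leaf (nat_lit 0))) (.leaf (nat_lit 1260892691756089423))) (.node
    (.node (.leaf (nat_lit 684423375287877682)) (.leaf (nat_lit 19671742665827903799298))) (.leaf
    (nat_lit 0)))) (.node (.node (.node (.leaf (nat_lit 394640007681409052)) (.leaf (nat_lit
    87900904358380646367273))) (.leaf (nat_lit 0))) (.node (.node (.leaf (nat_lit 0)) (.leaf
    (nat_lit 6999066467881218932738))) (.leaf (nat_lit 0))))) (.node (.node (.node (.node (.leaf
    (nat_lit 0)) (.leaf (nat_lit 78511900473514789109762))) (.leaf (nat_lit 886548315808858128)))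
    (.node (.node (.leaf (nat_lit 26757494040975900868614)) (.leaf (nat_lit 3112359724767641602)))
    (.leaf (nat_lit 62360555689241156452375)))) (.node (.node (.node (.leaf (nat_lit 0)) (.leaf
    (nat_lit 16761690814808424906754))) (.leaf (nat_lit 55424362610065431265289))) (.node (.node
    (.leaf (nat_lit 36594583569903697199127)) (.leaf (nat_lit 1088848087268589570))) (.leaf
    (nat_lit 0)))))))) (.node (.node (.node (.node (.node (.node (.node (.leaf (nat_lit
    10837332064337936)) (.leaf (nat_lit 0))) (.leaf (nat_lit 24285876354673826529314))) (.node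
    (.node (.leaf (nat_lit 551286988271549258909614145)) (.leaf (nat_lit
    3098210572104571093524938754))) (.leaf (nat_lit 1159026538625237014)))) (.node (.node (.node
    (.leaf (nat_lit 6908459209519807004718)) (.leaf (nat_lit 0))) (.leaf (nat_lit
    30115222286714085244951))) (.node (.node (.leaf (nat_lit 540318151536148483)) (.leaf (nat_lit
    3182730539119542274))) (.leaf (nat_lit 66331903729495703748651))))) (.node (.node (.node (.node
    (.leaf (nat_lit 5128273388936085307438)) (.leaf (nat_lit 0))) (.leaf (nat_lit 0))) (.node
    (.node (.leaf (nat_lit 737205491108806676)) (.leaf (nat_lit 60342343237380375511042))) (.leaf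
    (nat_lit 0)))) (.node (.node (.node (.leaf (nat_lit 10413436148668671655983)) (.leaf (nat_lit
    90313085934741055799328))) (.leaf (nat_lit 33610991334975584010261))) (.node (.node (.leaf
    (nat_lit 33509141145164429066266)) (.leaf (nat_lit 3487705040352663633412751362))) (.leaf
    (nat_lit 2075100044469600267)))))) (.node (.node (.node (.node (.node (.leaf (nat_lit
    2873129791048799944771)) (.leaf (nat_lit 63117296954656078102595))) (.leaf (nat_lit 0))) (.node
    (.node (.leaf (nat_lit 380996717648150544)) (.leaf (nat_lit 2965427020965740546))) (.leaf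
    (nat_lit 0)))) (.node (.node (.node (.leaf (nat_lit 7632537545224730378303)) (.leaf (nat_lit
    0))) (.leaf (nat_lit 0))) (.node (.node (.leaf (nat_lit 0)) (.leaf (nat_lit
    3421041252877737164982714370))) (.leaf (nat_lit 0))))) (.node (.node (.node (.node (.leaf
    (nat_lit 7660125747736205262867)) (.leaf (nat_lit 83113757812039534968862))) (.leaf (nat_lit
    0))) (.node (.node (.leaf (nat_lit 813017837355050208724254755)) (.leaf (nat_lit
    3049308900487725058))) (.leaf (nat_lit 0)))) (.node (.node (.node (.leaf (nat_lit 0)) (.leaf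
    (nat_lit 14972360035762253791234))) (.leaf (nat_lit 0))) (.node (.node (.leaf (nat_lit 0))
    (.leaf (nat_lit 256103355057831938))) (.leaf (nat_lit 52067524002266434699268))))))) (.node
    (.node (.node (.node (.node (.node (.leaf (nat_lit 0)) (.leaf (nat_lit
    77062995503834294583322))) (.leaf (nat_lit 39273869989411184377893))) (.node (.node (.leaf
    (nat_lit 629115801517031431)) (.leaf (nat_lit 41793965691011707633666))) (.leaf (nat_lit
    43028235600724358266884)))) (.node (.node (.node (.leaf (nat_lit 11169669195078813548574))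
    (.leaf (nat_lit 91560276576737358679811442409514))) (.leaf (nat_lit 0))) (.node (.node (.leaf
    (nat_lit 554955949836730385)) (.leaf (nat_lit 3446370200429755502464073730))) (.leaf (nat_lit
    49092815518826269704254))))) (.node (.node (.node (.node (.leaf (nat_lit 0)) (.leaf (nat_lit
    0))) (.leaf (nat_lit 44153105577424468508693))) (.node (.node (.leaf (nat_lit
    481486582868738051)) (.leaf (nat_lit 1861765350975209474))) (.leaf (nat_lit 0)))) (.node (.node
    (.node (.leaf (nat_lit 0)) (.leaf (nat_lit 75076428723820530171906))) (.leaf (nat_lit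
    34980704304785946509337))) (.node (.node (.leaf (nat_lit 0)) (.leaf (nat_lit
    643411033226084354))) (.leaf (nat_lit 0)))))) (.node (.node (.node (.node (.node (.leaf
    (nat_lit 125962985540812868)) (.leaf (nat_lit 0))) (.leaf (nat_lit 41810339241516800868364)))
    (.node (.node (.leaf (nat_lit 406612040040448003)) (.leaf (nat_lit 3008212033469546498)))
    (.leaf (nat_lit 0)))) (.node (.node (.node (.leaf (nat_lit 412936430923415563)) (.leaf (nat_lit
    2711812882923913218))) (.leaf (nat_lit 51301383575453955194892))) (.node (.node (.leaf (nat_lit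
    32199382908334799781914)) (.leaf (nat_lit 106201059918549262467074))) (.leaf (nat_lit
    48304269988432342876185))))) (.node (.node (.node (.node (.leaf (nat_lit 137790243142238211))
    (.leaf (nat_lit 65174332134037372731444))) (.leaf (nat_lit 29229757037240796774448))) (.node
    (.node (.leaf (nat_lit 0)) (.leaf (nat_lit 758249035562876930))) (.leaf (nat_lit 0)))) (.node
    (.node (.node (.leaf (nat_lit 9592597558263376183321)) (.leaf (nat_lit
    24822928930488933613570))) (.leaf (nat_lit 1710294181001429003))) (.node (.leaf (nat_lit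
    36401147774648352702522)) (.leaf (nat_lit 54078279061561736888366))))))))) (.node (.node (.node
    (.node (.node (.node (.node (.node (.leaf (nat_lit 0)) (.leaf (nat_lit 0))) (.leaf (nat_lit
    0))) (.node (.node (.leaf (nat_lit 584641389397147676)) (.leaf (nat_lit
    28244814325915742044162))) (.leaf (nat_lit 37420360661697621590067)))) (.node (.node (.node
    (.leaf (nat_lit 9260411901013810937896)) (.leaf (nat_lit 85272153252860830875677))) (.leaf
    (nat_lit 47252241619949459800070))) (.node (.node (.leaf (nat_lit
    20500621025980968149107238830111)) (.leaf (nat_lit 11204805906628526407682))) (.leaf (nat_lit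
    2025274300667396107))))) (.node (.node (.node (.node (.leaf (nat_lit 3611028266386131714123))
    (.leaf (nat_lit 60424154090299363360789))) (.leaf (nat_lit 41985597947731874349061))) (.node
    (.node (.leaf (nat_lit
    1485354531008532459762100852870777852594867737044646271278669153493296533469365648907794839736137259729420371))
    (.leaf (nat_lit 46331983824766239965186))) (.leaf (nat_lit 61659509887114468851721)))) (.node
    (.node (.node (.leaf (nat_lit 0)) (.leaf (nat_lit 2312119094599614466))) (.leaf (nat_lit 0)))
    (.node (.node (.leaf (nat_lit 31106708449313813626912)) (.leaf (nat_lit 3318968954743029762)))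
    (.leaf (nat_lit 48894582828860363178016)))))) (.node (.node (.node (.node (.node (.leaf
    (nat_lit 40394128764305425)) (.leaf (nat_lit 2070212534661947977369911331))) (.leaf (nat_lit
    40380682234491352317961))) (.node (.node (.leaf (nat_lit 21407817501612441796626)) (.leaf
    (nat_lit 745246968689364888021368834))) (.leaf (nat_lit 1903644116107357008121036833)))) (.node
    (.node (.node (.leaf (nat_lit 6493448424411778711570)) (.leaf (nat_lit
    87559602718961846910988))) (.leaf (nat_lit 0))) (.node (.node (.leaf (nat_lit
    934076883179628155841544245)) (.leaf (nat_lit 3249160901365989378))) (.leaf (nat_lit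
    46856157793083883454489))))) (.node (.node (.node (.node (.leaf (nat_lit
    7332688158853634916365)) (.leaf (nat_lit 0))) (.leaf (nat_lit 1205032681490134873416138787)))
    (.node (.node (.leaf (nat_lit 0)) (.leaf (nat_lit 174338243074358716162899970))) (.leaf
    (nat_lit 1953495973992988692)))) (.node (.node (.node (.leaf (nat_lit 16620789175328484556851))
    (.leaf (nat_lit 2817650261600894978))) (.leaf (nat_lit 1665538276724965383))) (.node (.node
    (.leaf (nat_lit 681906387013468177)) (.leaf (nat_lit 3595666903789406040289968130))) (.leaf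
    (nat_lit 2034428834480259136))))))) (.node (.node (.node (.node (.node (.node (.leaf (nat_lit
    0)) (.leaf (nat_lit 0))) (.leaf (nat_lit 875289018890353736782446625))) (.node (.node (.leaf
    (nat_lit 0)) (.leaf (nat_lit 59945558802890991271938))) (.leaf (nat_lit
    44982641282526436272198404866097)))) (.node (.node (.node (.leaf (nat_lit 167628514818916374))
    (.leaf (nat_lit 86268301077830112051270))) (.leaf (nat_lit 1484825852708519964))) (.node (.node
    (.leaf (nat_lit 29188250721524182614067)) (.leaf (nat_lit 1345186423549587342865203202)))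
    (.leaf (nat_lit 1563022745697752912612294689))))) (.node (.node (.node (.node (.leaf (nat_lit
    6147469932844518932518)) (.leaf (nat_lit 2493944430541799431))) (.leaf (nat_lit
    1341269216539574279))) (.node (.node (.leaf (nat_lit 0)) (.leaf (nat_lit 3065917745179787266)))
    (.leaf (nat_lit 1368730618954907659)))) (.node (.node (.node (.leaf (nat_lit
    8762466628679495778356)) (.leaf (nat_lit 2999622905072636007462894933889122365))) (.leaf
    (nat_lit 0))) (.node (.node (.leaf (nat_lit 34330040960526097514537)) (.leaf (nat_lit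
    10670084602567351009282))) (.leaf (nat_lit 50112108752687738322995)))))) (.node (.node (.node
    (.node (.node (.leaf (nat_lit 93239865802626051023831105)) (.leaf (nat_lit
    1919969974013150659816456236))) (.leaf (nat_lit 1153945420515377218))) (.node (.node (.leaf
    (nat_lit 692168120445566996)) (.leaf (nat_lit 21022974257502332583938))) (.leaf (nat_lit 0))))
    (.node (.node (.node (.leaf (nat_lit 13161959356006221938700)) (.leaf (nat_lit
    71630892551921247387669))) (.leaf (nat_lit 990980205092929552))) (.node (.node (.leaf (nat_lit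
    0)) (.leaf (nat_lit 3215384591355478018))) (.leaf (nat_lit 67549384900734517182515))))) (.node
    (.node (.node (.node (.leaf (nat_lit 138915868171173891)) (.leaf (nat_lit 0))) (.leaf (nat_lit
    32295970020470608731516958998543))) (.node (.node (.leaf (nat_lit 0)) (.leaf (nat_lit
    67388940937118909399042))) (.leaf (nat_lit 65192135689922234482707)))) (.node (.node (.node
    (.leaf (nat_lit 548330017889845276)) (.leaf (nat_lit 41632521111178475405314))) (.leaf (nat_lit
    0))) (.node (.node (.leaf (nat_lit 0)) (.leaf (nat_lit 3389484582507249666))) (.leaf (nat_lit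
    0)))))))) (.node (.node (.node (.node (.node (.node (.node (.leaf (nat_lit
    876234558807866540041)) (.leaf (nat_lit 0))) (.leaf (nat_lit 25959921616582898548814))) (.node
    (.node (.leaf (nat_lit 0)) (.leaf (nat_lit 29167159814313960734722))) (.leaf (nat_lit 0))))
    (.node (.node (.node (.leaf (nat_lit 0)) (.leaf (nat_lit 68596309558617490784261))) (.leaf
    (nat_lit 1466810904443224075))) (.node (.node (.leaf (nat_lit 944793094484150786443182115))
    (.leaf (nat_lit 3187801383667630082))) (.leaf (nat_lit 1612601783032522886409879596))))) (.node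
    (.node (.node (.node (.leaf (nat_lit 0)) (.leaf (nat_lit 2476910134979330098))) (.leaf (nat_lit
    0))) (.node (.node (.leaf (nat_lit 17806818617879695687801282822175)) (.leaf (nat_lit
    2993294340740218882))) (.leaf (nat_lit 41829268030463292932117)))) (.node (.node (.node (.leaf
    (nat_lit 0)) (.leaf (nat_lit 53221620100765684269058))) (.leaf (nat_lit 0))) (.node (.node
    (.leaf (nat_lit 0)) (.leaf (nat_lit 3336143034311114754))) (.leaf (nat_lit
    49678595488960940802095)))))) (.node (.node (.node (.node (.node (.leaf (nat_lit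
    57001702146048022)) (.leaf (nat_lit 78262079187471055388696))) (.leaf (nat_lit 0))) (.node
    (.node (.leaf (nat_lit 0)) (.leaf (nat_lit 8262423545192254734338))) (.leaf (nat_lit
    41238925352313351766021)))) (.node (.node (.node (.leaf (nat_lit 0)) (.leaf (nat_lit
    88214486903934832279558))) (.leaf (nat_lit 0))) (.node (.node (.leaf (nat_lit
    963653011815661636)) (.leaf (nat_lit 398901527577314396683370498))) (.leaf (nat_lit 0)))))
    (.node (.node (.node (.node (.leaf (nat_lit 7927608322154475749400)) (.leaf (nat_lit 0)))
    (.leaf (nat_lit 31946016175888284188750))) (.node (.node (.leaf (nat_lit 0)) (.leaf (nat_lit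
    10194941830976420118530))) (.leaf (nat_lit 64555710070971980513320)))) (.node (.node (.node
    (.leaf (nat_lit 0)) (.leaf (nat_lit 38330537033266819694594))) (.leaf (nat_lit 0))) (.node
    (.node (.leaf (nat_lit 1176911758833553004430622755)) (.leaf (nat_lit 223311889638227970)))
    (.leaf (nat_lit 1613624294053642257))))))) (.node (.node (.node (.node (.node (.node (.leaf
    (nat_lit 1697133811477279604744)) (.leaf (nat_lit 76832422462178281586701))) (.leaf (nat_lit
    39523354631606110453768))) (.node (.node (.leaf (nat_lit 20218248376709166596104)) (.leaf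
    (nat_lit 91148234289538675179522))) (.leaf (nat_lit 0)))) (.node (.node (.node (.leaf (nat_lit
    6023043361370242482222)) (.leaf (nat_lit 0))) (.leaf (nat_lit 30530291481212675620915))) (.node
    (.node (.leaf (nat_lit 29718611221208124031028)) (.leaf (nat_lit 3216791974828965890))) (.leaf
    (nat_lit 1432067436517130257))))) (.node (.node (.node (.node (.leaf (nat_lit
    102885421884768272)) (.leaf (nat_lit 2512240853783805972))) (.leaf (nat_lit
    43120093820554712383501))) (.node (.node (.leaf (nat_lit 0)) (.leaf (nat_lit
    60439097155956013989890))) (.leaf (nat_lit 67018493066405364070623796854826)))) (.node (.node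
    (.node (.leaf (nat_lit 15827572987151140454441)) (.leaf (nat_lit 74702881735249318051947)))
    (.leaf (nat_lit 52943803718553724715064))) (.node (.node (.leaf (nat_lit
    34855792307466401939494)) (.leaf (nat_lit 381780540589735938))) (.leaf (nat_lit
    2388737522773726392318427201)))))) (.node (.node (.node (.node (.node (.leaf (nat_lit
    3297422216838166806552)) (.leaf (nat_lit 79729268771312256614472))) (.leaf (nat_lit 0))) (.node
    (.node (.leaf (nat_lit 0)) (.leaf (nat_lit 47692453577226744692738))) (.leaf (nat_lit 0))))
    (.node (.node (.node (.leaf (nat_lit 8705324470345894341164675694634)) (.leaf (nat_lit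
    76344578197336331845634))) (.leaf (nat_lit 0))) (.node (.node (.leaf (nat_lit
    621386518241607683)) (.leaf (nat_lit 3305457563155431426))) (.leaf (nat_lit 0))))) (.node
    (.node (.node (.node (.leaf (nat_lit 4491914765179226882082)) (.leaf (nat_lit
    65414146844144892575795))) (.leaf (nat_lit 0))) (.node (.node (.leaf (nat_lit
    27578723604272785850420)) (.leaf (nat_lit 46198417073818149519362))) (.leaf (nat_lit 0))))
    (.node (.node (.node (.leaf (nat_lit 18493154248132571365405)) (.leaf (nat_lit
    63256723607061247754242))) (.leaf (nat_lit 0))) (.node (.leaf (nat_lit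
    23262049125194627481632)) (.leaf (nat_lit 0)))))))))) (.node (.node (.node (.node (.node (.node
    (.node (.node (.node (.leaf (nat_lit 0)) (.leaf (nat_lit 0))) (.leaf (nat_lit
    36866530761258496622604))) (.node (.node (.leaf (nat_lit 0)) (.leaf (nat_lit
    17075309118293222293506))) (.leaf (nat_lit 1150863351983767568)))) (.node (.node (.node (.leaf
    (nat_lit 0)) (.leaf (nat_lit 0))) (.leaf (nat_lit 47307578474342018908169))) (.node (.node
    (.leaf (nat_lit 17414256027271921074197)) (.leaf (nat_lit 3167248556406996994))) (.leaf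
    (nat_lit 66257583920387052470311))))) (.node (.node (.node (.node (.leaf (nat_lit
    4667102534872626036765)) (.leaf (nat_lit 0))) (.leaf (nat_lit 0))) (.node (.node (.leaf
    (nat_lit 0)) (.leaf (nat_lit 676946413507581065308667906))) (.leaf (nat_lit 0)))) (.node (.node
    (.node (.leaf (nat_lit 0)) (.leaf (nat_lit 39921490163996798681090))) (.leaf (nat_lit
    52020832490713679855646))) (.node (.node (.leaf (nat_lit 0)) (.leaf (nat_lit
    3318690683811921922))) (.leaf (nat_lit 70836980682275785211910)))))) (.node (.node (.node
    (.node (.node (.leaf (nat_lit 2467289317608054259736)) (.leaf (nat_lit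
    72981809596833915404389))) (.leaf (nat_lit 887995620875866111436128309))) (.node (.node (.leaf
    (nat_lit 417389165854966590514397237)) (.leaf (nat_lit 28475427070313863774210))) (.leaf
    (nat_lit 47097584320634652387163666448433)))) (.node (.node (.node (.leaf (nat_lit
    12518247037400825311361438646321)) (.leaf (nat_lit 87508883164277474787415))) (.leaf (nat_lit
    31314303015284497383428))) (.node (.node (.leaf (nat_lit 30751284786589147004955)) (.leaf
    (nat_lit 321820890172096514))) (.leaf (nat_lit 0))))) (.node (.node (.node (.node (.leaf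
    (nat_lit 3740181513407618547750)) (.leaf (nat_lit 0))) (.leaf (nat_lit 0))) (.node (.node
    (.leaf (nat_lit 0)) (.leaf (nat_lit 3070985231063449602))) (.leaf (nat_lit
    58523610402957950124090)))) (.node (.node (.node (.leaf (nat_lit 507233434339508235)) (.leaf
    (nat_lit 42241240019582543134722))) (.leaf (nat_lit 1660753064681930759))) (.node (.node (.leaf
    (nat_lit 0)) (.leaf (nat_lit 3634746372594026608360423426))) (.leaf (nat_lit
    68148458792886607216702))))))) (.node (.node (.node (.node (.node (.node (.leaf (nat_lit
    1287475472803188895712838746127)) (.leaf (nat_lit 76813952073527923507219))) (.leaf (nat_lit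
    38766580023380817412105))) (.node (.node (.leaf (nat_lit 650421737334528767231787052)) (.leaf
    (nat_lit 39391295566534290898946))) (.leaf (nat_lit 0)))) (.node (.node (.node (.leaf (nat_lit
    5460398666899748225076)) (.leaf (nat_lit 2799050877999615351802036268))) (.leaf (nat_lit 0)))
    (.node (.node (.leaf (nat_lit 22288516986617344156348302295082)) (.leaf (nat_lit
    103304818653948039856130))) (.leaf (nat_lit 0))))) (.node (.node (.node (.node (.leaf (nat_lit
    3094528018271126618150)) (.leaf (nat_lit 0))) (.leaf (nat_lit 1365961057332409064994635809)))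
    (.node (.node (.leaf (nat_lit 0)) (.leaf (nat_lit 3291661936999665086048239618))) (.leaf
    (nat_lit 41949174682104488984600)))) (.node (.node (.node (.leaf (nat_lit
    8661008128744590868538)) (.leaf (nat_lit 2603587575444799490))) (.leaf (nat_lit
    1623878743221207047))) (.node (.node (.leaf (nat_lit 34283921566921004351494)) (.leaf (nat_lit
    4038463653744113549314))) (.leaf (nat_lit 50093658349310482513971)))))) (.node (.node (.node
    (.node (.node (.leaf (nat_lit 111467522456420363)) (.leaf (nat_lit 78953842505204438859802)))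
    (.leaf (nat_lit 0))) (.node (.node (.leaf (nat_lit 19094306631328223059446115663887)) (.leaf
    (nat_lit 3179196099879544274383273986))) (.leaf (nat_lit 62670767404554150268026659078159))))
    (.node (.node (.node (.leaf (nat_lit 10081350280783750955054)) (.leaf (nat_lit 0))) (.leaf
    (nat_lit 0))) (.node (.node (.leaf (nat_lit 31913840758544436232200)) (.leaf (nat_lit
    403586492707299265509326850))) (.leaf (nat_lit 69674812442092324978707))))) (.node (.node
    (.node (.node (.leaf (nat_lit 4270546517249533083653)) (.leaf (nat_lit 2513790435034529794)))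
    (.leaf (nat_lit 888237303108075536))) (.node (.node (.leaf (nat_lit 0)) (.leaf (nat_lit
    3268053745722460405762))) (.leaf (nat_lit 0)))) (.node (.node (.node (.leaf (nat_lit
    10989982331548104589344)) (.leaf (nat_lit 31602099236389374853122))) (.leaf (nat_lit
    37355779604745541582886))) (.node (.node (.leaf (nat_lit 36562144564760421793819)) (.leaf
    (nat_lit 3384136222942298114))) (.leaf (nat_lit 2273542780678701063)))))))) (.node (.node
    (.node (.node (.node (.node (.node (.leaf (nat_lit 498071660796496248861)) (.leaf (nat_lit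
    2328273106549997634))) (.leaf (nat_lit 24359664457006010531845))) (.node (.node (.leaf (nat_lit
    18935904817294117896215)) (.leaf (nat_lit 502403514900740076342607874))) (.leaf (nat_lit
    38232043156313527746607)))) (.node (.node (.node (.leaf (nat_lit 323694799803654660583325749))
    (.leaf (nat_lit 68670094845933619707909))) (.leaf (nat_lit 45582818881515433426981))) (.node
    (.node (.leaf (nat_lit 30958979507619786501802737074218)) (.leaf (nat_lit
    18094696905941316730882))) (.leaf (nat_lit 46385733588532750123046))))) (.node (.node (.node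
    (.node (.leaf (nat_lit 0)) (.leaf (nat_lit 78567080267017827319862))) (.leaf (nat_lit
    41884651873567596806201))) (.node (.node (.leaf (nat_lit 742974929267458093)) (.leaf (nat_lit
    99006668175359317573634))) (.leaf (nat_lit 1399055863267138290153947189)))) (.node (.node
    (.node (.leaf (nat_lit 0)) (.leaf (nat_lit 75851160584714056826968))) (.leaf (nat_lit
    35589409985025750007868))) (.node (.node (.leaf (nat_lit 1083973225209028566262743073)) (.leaf
    (nat_lit 278476964984127490))) (.leaf (nat_lit 0)))))) (.node (.node (.node (.node (.node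
    (.leaf (nat_lit 94015519849578503)) (.leaf (nat_lit 2400350955653693519))) (.leaf (nat_lit 0)))
    (.node (.node (.leaf (nat_lit 0)) (.leaf (nat_lit 3134488354089379532833554434))) (.leaf
    (nat_lit 40805424614652514598916)))) (.node (.node (.node (.leaf (nat_lit
    12414856368718195392533)) (.leaf (nat_lit 2171239279618031632))) (.leaf (nat_lit
    31978398046657873903654))) (.node (.node (.leaf (nat_lit 0)) (.leaf (nat_lit
    460858800500675214552858626))) (.leaf (nat_lit 47400348987823529066563))))) (.node (.node
    (.node (.node (.leaf (nat_lit 7590951161284675174413)) (.leaf (nat_lit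
    70257017063596169942378668687375))) (.leaf (nat_lit 28335063208589613269040))) (.node (.node
    (.leaf (nat_lit 26347365999943820181562)) (.leaf (nat_lit 3310104216992818509692272642)))
    (.leaf (nat_lit 43507972127253277638677)))) (.node (.node (.node (.leaf (nat_lit
    356039533138968325533204545)) (.leaf (nat_lit 29236291756881317396482))) (.leaf (nat_lit 0)))
    (.node (.node (.leaf (nat_lit 35824265231104485818394)) (.leaf (nat_lit 320983586297741314)))
    (.leaf (nat_lit 0))))))) (.node (.node (.node (.node (.node (.node (.leaf (nat_lit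
    1706351976089626279965)) (.leaf (nat_lit 0))) (.leaf (nat_lit 0))) (.node (.node (.leaf
    (nat_lit 0)) (.leaf (nat_lit 39561911788890551943170))) (.leaf (nat_lit
    44642329647952467001349)))) (.node (.node (.node (.leaf (nat_lit 0)) (.leaf (nat_lit
    2651575227863138332))) (.leaf (nat_lit 0))) (.node (.node (.leaf (nat_lit 0)) (.leaf (nat_lit
    3213412531351715842))) (.leaf (nat_lit 0))))) (.node (.node (.node (.node (.leaf (nat_lit
    6942469140478262465535458738225)) (.leaf (nat_lit 65658491609907663667275))) (.leaf (nat_lit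
    43101643980118820061190))) (.node (.node (.leaf (nat_lit 0)) (.leaf (nat_lit
    99536968146236660187138))) (.leaf (nat_lit 1310184236115951633)))) (.node (.node (.node (.leaf
    (nat_lit 269808741728256016)) (.leaf (nat_lit 82916297772894743887874))) (.leaf (nat_lit
    1616701689660833858))) (.node (.node (.leaf (nat_lit 667550476006457361)) (.leaf (nat_lit
    6957701732170924752898))) (.leaf (nat_lit 50914567312325426217008)))))) (.node (.node (.node
    (.node (.node (.leaf (nat_lit 69387563193991171)) (.leaf (nat_lit 0))) (.leaf (nat_lit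
    41662766414938700447784))) (.node (.node (.leaf (nat_lit 561266335918411264343408675)) (.leaf
    (nat_lit 28862843581845295267842))) (.leaf (nat_lit 0)))) (.node (.node (.node (.leaf (nat_lit
    0)) (.leaf (nat_lit 2724331381151891501))) (.leaf (nat_lit 0))) (.node (.node (.leaf (nat_lit
    603371982293172240)) (.leaf (nat_lit 11578599640826080591874))) (.leaf (nat_lit
    70329686212491172053021))))) (.node (.node (.node (.node (.leaf (nat_lit 0)) (.leaf (nat_lit
    0))) (.leaf (nat_lit 0))) (.node (.node (.leaf (nat_lit 843251400938414899252690988)) (.leaf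
    (nat_lit 3029325242293157890))) (.leaf (nat_lit 44338100803680134692907)))) (.node (.node
    (.node (.leaf (nat_lit 18271791348760011014169)) (.leaf (nat_lit 30532197057476337795074)))
    (.leaf (nat_lit 56222744144505305497680))) (.node (.leaf (nat_lit 23013014843091287474224))
    (.leaf (nat_lit 0))))))))) (.node (.node (.node (.node (.node (.node (.node (.node (.leaf
    (nat_lit 7459494904856579)) (.leaf (nat_lit 55092881230300249784345))) (.leaf (nat_lit
    1166320780368281645))) (.node (.node (.leaf (nat_lit 0)) (.leaf (nat_lit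
    332096109046608600469078018))) (.leaf (nat_lit 57010804838430851399721)))) (.node (.node (.node
    (.leaf (nat_lit 300905954218737675)) (.leaf (nat_lit 68522513574719670911043))) (.leaf (nat_lit
    32923736960745190129710))) (.node (.node (.leaf (nat_lit 20291952747382604759063)) (.leaf
    (nat_lit 52244343623609760284674))) (.leaf (nat_lit 0))))) (.node (.node (.node (.node (.leaf
    (nat_lit 5100602287517073604648)) (.leaf (nat_lit 1870054182589956113))) (.leaf (nat_lit
    849672207641739280))) (.node (.node (.leaf (nat_lit 0)) (.leaf (nat_lit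
    51815217418879881117698))) (.leaf (nat_lit 41654018050376224407556)))) (.node (.node (.node
    (.leaf (nat_lit 14554728363508858290216)) (.leaf (nat_lit 76496785086970169851906))) (.leaf
    (nat_lit 0))) (.node (.node (.leaf (nat_lit 1088053377515699438298071093)) (.leaf (nat_lit
    3310246382970994690))) (.leaf (nat_lit 48913033795196162342944)))))) (.node (.node (.node
    (.node (.node (.leaf (nat_lit 2099577437076643956765430710303)) (.leaf (nat_lit
    78345078276399953018901))) (.leaf (nat_lit 0))) (.node (.node (.leaf (nat_lit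
    21204908102005089828918)) (.leaf (nat_lit 19565658956847917498370))) (.leaf (nat_lit
    59381290548570007732264)))) (.node (.node (.node (.leaf (nat_lit 6493449550449124507715))
    (.leaf (nat_lit 0))) (.leaf (nat_lit 39241794518172517466190))) (.node (.node (.leaf (nat_lit
    949444091769389067)) (.leaf (nat_lit 203659573624191774324162562))) (.leaf (nat_lit 0)))))
    (.node (.node (.node (.node (.leaf (nat_lit 6548707024620463783973)) (.leaf (nat_lit 0)))
    (.leaf (nat_lit 872192404801847299))) (.node (.node (.leaf (nat_lit 16058378536887492214789))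
    (.leaf (nat_lit 10734504578450326749186))) (.leaf (nat_lit 43277380226224069214229)))) (.node
    (.node (.node (.leaf (nat_lit 516240908472156188)) (.leaf (nat_lit 27751336913720775475202)))
    (.leaf (nat_lit 1104699531657871363))) (.node (.node (.leaf (nat_lit 1093282202915045396))
    (.leaf (nat_lit 369819168339525634))) (.leaf (nat_lit 2247219845244518450))))))) (.node (.node
    (.node (.node (.node (.node (.leaf (nat_lit 894692984763124482106)) (.leaf (nat_lit
    77109108986189998915590))) (.leaf (nat_lit 761004291442999299))) (.node (.node (.leaf (nat_lit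
    20190300022163216990249)) (.leaf (nat_lit 805809570663497730))) (.leaf (nat_lit 0)))) (.node
    (.node (.node (.leaf (nat_lit 166502752351027222)) (.leaf (nat_lit 86591121632532258553911)))
    (.leaf (nat_lit 48267378169206135783458))) (.node (.node (.leaf (nat_lit
    29534138150567767375880)) (.leaf (nat_lit 3206379299066216450))) (.leaf (nat_lit
    1574823054097543505148903457))))) (.node (.node (.node (.node (.leaf (nat_lit
    117569866888357232974757932)) (.leaf (nat_lit 62757733222751200804898))) (.leaf (nat_lit
    43235875314841501761579))) (.node (.node (.leaf (nat_lit 15873893925068715786294)) (.leaf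
    (nat_lit 3043678765298352130))) (.leaf (nat_lit 1360567982069252162)))) (.node (.node (.node
    (.leaf (nat_lit 15140626691423104860192)) (.leaf (nat_lit 91337080643725478264837))) (.leaf
    (nat_lit 35303518103822363983934))) (.node (.node (.leaf (nat_lit 34615970278872048664582))
    (.leaf (nat_lit 616389100454412290))) (.leaf (nat_lit 0)))))) (.node (.node (.node (.node
    (.node (.leaf (nat_lit 120756458680877076)) (.leaf (nat_lit 60880657947137082064954))) (.leaf
    (nat_lit 1273150210591293447))) (.node (.node (.leaf (nat_lit 13217493955623711342616)) (.leaf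
    (nat_lit 529758799572967778616082434))) (.leaf (nat_lit 0)))) (.node (.node (.node (.leaf
    (nat_lit 10413395615060844544038)) (.leaf (nat_lit 88809952972345092276226))) (.leaf (nat_lit
    32338128556472181915695))) (.node (.node (.leaf (nat_lit 985473988299980828)) (.leaf (nat_lit
    3429484198546279837215227906))) (.leaf (nat_lit 48156692376530530271257))))) (.node (.node
    (.node (.node (.leaf (nat_lit 131879131192360982)) (.leaf (nat_lit 81790730706140451242018)))
    (.leaf (nat_lit 0))) (.node (.node (.leaf (nat_lit 16584122284570361135174)) (.leaf (nat_lit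
    3135159558658457602))) (.leaf (nat_lit 65127573493176573558797)))) (.node (.node (.node (.leaf
    (nat_lit 0)) (.leaf (nat_lit 42919183302454950428674))) (.leaf (nat_lit
    49572140934384150839344))) (.node (.node (.leaf (nat_lit 36912634109819254669358)) (.leaf
    (nat_lit 3433958797058637826))) (.leaf (nat_lit 0)))))))) (.node (.node (.node (.node (.node
    (.node (.node (.leaf (nat_lit 22941168379756560)) (.leaf (nat_lit 1706231897853657104))) (.leaf
    (nat_lit 860340405090737801167896629))) (.node (.node (.leaf (nat_lit 346092033829634070))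
    (.leaf (nat_lit 44943738810838804529154))) (.leaf (nat_lit 0)))) (.node (.node (.node (.leaf
    (nat_lit 8393428441069898629168)) (.leaf (nat_lit 2104527785992257552))) (.leaf (nat_lit
    48100802262592842301452))) (.node (.node (.leaf (nat_lit 946911098975590983982645292)) (.leaf
    (nat_lit 3199904549968150530))) (.leaf (nat_lit 0))))) (.node (.node (.node (.node (.leaf
    (nat_lit 5174395316082256838665)) (.leaf (nat_lit 62361111054643110281270))) (.leaf (nat_lit
    0))) (.node (.node (.leaf (nat_lit 15172909346214773981253)) (.leaf (nat_lit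
    3026228991779536898))) (.leaf (nat_lit 1904236349830070300)))) (.node (.node (.node (.leaf
    (nat_lit 0)) (.leaf (nat_lit 1625461670598017026))) (.leaf (nat_lit 0))) (.node (.node (.leaf
    (nat_lit 32144088558046703452198)) (.leaf (nat_lit 6708618593921239547906))) (.leaf (nat_lit
    55991999840783551365166)))))) (.node (.node (.node (.node (.node (.leaf (nat_lit 0)) (.leaf
    (nat_lit 0))) (.leaf (nat_lit 1255135253736062996))) (.node (.node (.leaf (nat_lit
    386063679545802769)) (.leaf (nat_lit 2951635760719200258))) (.leaf (nat_lit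
    1832866186782703666)))) (.node (.node (.node (.leaf (nat_lit 12018255874999355375629)) (.leaf
    (nat_lit 2177150529006862339))) (.leaf (nat_lit 50614286127143734935591))) (.node (.node (.leaf
    (nat_lit 19129850939150528872485)) (.leaf (nat_lit 3259296010572267522))) (.leaf (nat_lit
    74020446647827148624235795382303))))) (.node (.node (.node (.node (.leaf (nat_lit
    8089018740328936701982)) (.leaf (nat_lit 86806346246765559200895031640106))) (.leaf (nat_lit
    32741632061169431441655927734287))) (.node (.node (.leaf (nat_lit 0)) (.leaf (nat_lit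
    3070982825881763842))) (.leaf (nat_lit 1373236005288673297)))) (.node (.node (.node (.leaf
    (nat_lit 9472689076759953604675)) (.leaf (nat_lit 14741768682977030766594))) (.leaf (nat_lit
    0))) (.node (.node (.leaf (nat_lit 705269497275219971)) (.leaf (nat_lit 651294806475145218)))
    (.leaf (nat_lit 0))))))) (.node (.node (.node (.node (.node (.node (.leaf (nat_lit
    2047620400885648261129)) (.leaf (nat_lit 77717878844236320931880))) (.leaf (nat_lit
    759878941291970577))) (.node (.node (.leaf (nat_lit 0)) (.leaf (nat_lit
    16794097325848341446658))) (.leaf (nat_lit 1795583710284873739)))) (.node (.node (.node (.leaf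
    (nat_lit 0)) (.leaf (nat_lit 2810990722232805776320364597))) (.leaf (nat_lit
    49318302290748129869854))) (.node (.node (.leaf (nat_lit 0)) (.leaf (nat_lit
    328857412402544642))) (.leaf (nat_lit 48871461627219899777082))))) (.node (.node (.node (.node
    (.leaf (nat_lit 6751607698082630926376)) (.leaf (nat_lit 1941550475941904400))) (.leaf (nat_lit
    43599712544299730272311))) (.node (.node (.leaf (nat_lit 0)) (.leaf (nat_lit
    3207340836839799696124018690))) (.leaf (nat_lit 42751631975499918671897)))) (.node (.node
    (.node (.leaf (nat_lit 0)) (.leaf (nat_lit 2679586660970266626))) (.leaf (nat_lit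
    35704750409827920052291))) (.node (.node (.leaf (nat_lit 0)) (.leaf (nat_lit
    3239455396263493634))) (.leaf (nat_lit 1892765951566666259830669345)))))) (.node (.node (.node
    (.node (.node (.leaf (nat_lit 0)) (.leaf (nat_lit 1815166012375564305))) (.leaf (nat_lit 0)))
    (.node (.node (.leaf (nat_lit 17870696829986824978491)) (.leaf (nat_lit
    589148101001347656921120770))) (.leaf (nat_lit 60727940866730518315063)))) (.node (.node (.node
    (.leaf (nat_lit 231526220750258198)) (.leaf (nat_lit 2359688039246200834))) (.leaf (nat_lit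
    0))) (.node (.node (.leaf (nat_lit 0)) (.leaf (nat_lit 13672347271411638927362))) (.leaf
    (nat_lit 0))))) (.node (.node (.node (.node (.leaf (nat_lit 0)) (.leaf (nat_lit 0))) (.leaf
    (nat_lit 0))) (.node (.node (.leaf (nat_lit 0)) (.leaf (nat_lit 103286326873302530981890)))
    (.leaf (nat_lit 2013011902749343823)))) (.node (.node (.node (.leaf (nat_lit
    16413401088278468427828)) (.leaf (nat_lit 10005588796267892506626))) (.leaf (nat_lit 0)))
    (.node (.leaf (nat_lit 26218142114935245832217)) (.leaf (nat_lit
    71782560123336360394811))))))))))) (.node (.node (.node (.node (.node (.node (.node (.node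
    (.node (.node (.leaf (nat_lit 55340654489428492292)) (.leaf (nat_lit 56942161412362934091836)))
    (.leaf (nat_lit 0))) (.node (.node (.leaf (nat_lit 10911558759713012383767)) (.leaf (nat_lit
    16683314368488375779330))) (.leaf (nat_lit 0)))) (.node (.node (.node (.leaf (nat_lit 0))
    (.leaf (nat_lit 0))) (.leaf (nat_lit 29580254463916805128239))) (.node (.node (.leaf (nat_lit
    866820066434482244)) (.leaf (nat_lit 46285894145673340846082))) (.leaf (nat_lit
    46099802017871589212165))))) (.node (.node (.node (.node (.leaf (nat_lit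
    4620985674628222615579)) (.leaf (nat_lit 67687016515651875490016549732401))) (.leaf (nat_lit
    41755010268921805864998))) (.node (.node (.leaf (nat_lit 432226881396408337)) (.leaf (nat_lit
    20594096746634615652354))) (.leaf (nat_lit 57831807113896678064133)))) (.node (.node (.node
    (.leaf (nat_lit 434469717613346895)) (.leaf (nat_lit 59373580119724272058370))) (.leaf (nat_lit
    0))) (.node (.node (.leaf (nat_lit 0)) (.leaf (nat_lit 3315030821919916034))) (.leaf (nat_lit
    70570172662845360242696)))))) (.node (.node (.node (.node (.node (.leaf (nat_lit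
    2337264795970437577884316270607)) (.leaf (nat_lit 75251260842514986500195))) (.leaf (nat_lit
    766634546891456515))) (.node (.node (.leaf (nat_lit 21177217156419831398426)) (.leaf (nat_lit
    5587627946861014482946))) (.leaf (nat_lit 58800213887788498747410)))) (.node (.node (.node
    (.leaf (nat_lit 12409307860545799678775559258161)) (.leaf (nat_lit 69693925172402066751520)))
    (.leaf (nat_lit 41653702646317516521477))) (.node (.node (.leaf (nat_lit
    29681372785820343402537)) (.leaf (nat_lit 330968749605781506))) (.leaf (nat_lit 0))))) (.node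
    (.node (.node (.node (.leaf (nat_lit 108796739993075715)) (.leaf (nat_lit
    1939580357263360022))) (.leaf (nat_lit 0))) (.node (.node (.leaf (nat_lit
    25918160429191883063323)) (.leaf (nat_lit 10780608772647195705346))) (.leaf (nat_lit
    1358035463193100305)))) (.node (.node (.node (.leaf (nat_lit 0)) (.leaf (nat_lit
    85830896134349394214914))) (.leaf (nat_lit 1767635930655114752147324993))) (.node (.node (.leaf
    (nat_lit 0)) (.leaf (nat_lit 431320617527148546))) (.leaf (nat_lit 2065953825713422347)))))))
    (.node (.node (.node (.node (.node (.node (.leaf (nat_lit 37718806520528916)) (.leaf (nat_lit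
    0))) (.leaf (nat_lit 24451905214738602328134))) (.node (.node (.leaf (nat_lit 0)) (.leaf
    (nat_lit 27091904628380150202370))) (.leaf (nat_lit 0)))) (.node (.node (.node (.leaf (nat_lit
    10676215131442759532570)) (.leaf (nat_lit 71197306947278599290904))) (.leaf (nat_lit 0)))
    (.node (.node (.leaf (nat_lit 563399718101712912)) (.leaf (nat_lit
    3340281102826100866167341058))) (.leaf (nat_lit 0))))) (.node (.node (.node (.node (.leaf
    (nat_lit 121198535138890561775468577)) (.leaf (nat_lit 0))) (.leaf (nat_lit
    1334232135963377692))) (.node (.node (.leaf (nat_lit 0)) (.leaf (nat_lit 3022007365345083394)))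
    (.leaf (nat_lit 62130529973289355509794)))) (.node (.node (.node (.leaf (nat_lit
    8633338012582486933512)) (.leaf (nat_lit 74472281941835451138050))) (.leaf (nat_lit
    34395001321141192294446))) (.node (.node (.leaf (nat_lit 34247028078713455706139)) (.leaf
    (nat_lit 3301237517268942850))) (.leaf (nat_lit 2345214565308516832452542497)))))) (.node
    (.node (.node (.node (.node (.leaf (nat_lit 3394256644953725927458)) (.leaf (nat_lit 0)))
    (.leaf (nat_lit 40989444211581923819533))) (.node (.node (.leaf (nat_lit
    13217490718317881786422)) (.leaf (nat_lit 18412753474234316161026))) (.leaf (nat_lit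
    62710383148425548468546011725839)))) (.node (.node (.node (.leaf (nat_lit
    6751712834690148925488)) (.leaf (nat_lit 0))) (.leaf (nat_lit 1550130040170217492))) (.node
    (.node (.leaf (nat_lit 0)) (.leaf (nat_lit 406306003782779215552970754))) (.leaf (nat_lit
    2127171334613106695))))) (.node (.node (.node (.node (.leaf (nat_lit 4205982912914240241734))
    (.leaf (nat_lit 78659475273716261388290))) (.leaf (nat_lit 28842363870746404651012))) (.node
    (.node (.leaf (nat_lit 0)) (.leaf (nat_lit 3340281102824741229845282818))) (.leaf (nat_lit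
    0)))) (.node (.node (.node (.leaf (nat_lit 17778587227365608456264)) (.leaf (nat_lit
    24380197253363808796674))) (.leaf (nat_lit 55156885946965269086213))) (.node (.node (.leaf
    (nat_lit 36313112393796716527653)) (.leaf (nat_lit 1087440772514578434))) (.leaf (nat_lit
    0)))))))) (.node (.node (.node (.node (.node (.node (.node (.leaf (nat_lit
    498072786636273549353)) (.leaf (nat_lit 0))) (.leaf (nat_lit 38314626067223590141979))) (.node
    (.node (.leaf (nat_lit 19540301536165024170022)) (.leaf (nat_lit 4033467793943419879426)))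
    (.leaf (nat_lit 0)))) (.node (.node (.node (.leaf (nat_lit 8882261529171480215590)) (.leaf
    (nat_lit 0))) (.leaf (nat_lit 1552610172051357896068562958))) (.node (.node (.leaf (nat_lit
    28768236153040749658131)) (.leaf (nat_lit 46350479692382368628738))) (.leaf (nat_lit
    66502541741745770790946))))) (.node (.node (.node (.node (.leaf (nat_lit
    5381917949614249672723)) (.leaf (nat_lit 0))) (.leaf (nat_lit 829687690453712913))) (.node
    (.node (.leaf (nat_lit 740716437894725700)) (.leaf (nat_lit 61338352435227841986562))) (.leaf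
    (nat_lit 61908546561944089460754)))) (.node (.node (.node (.leaf (nat_lit 258830049405435926))
    (.leaf (nat_lit 2758385794589786123))) (.leaf (nat_lit 1041647144009859089))) (.node (.node
    (.leaf (nat_lit 682748956517728259)) (.leaf (nat_lit 3483776068327619255899258882))) (.leaf
    (nat_lit 69933107674585019645965)))))) (.node (.node (.node (.node (.node (.leaf (nat_lit
    2859288399866671333401)) (.leaf (nat_lit 84251138112226185259645776756785))) (.leaf (nat_lit
    0))) (.node (.node (.leaf (nat_lit 0)) (.leaf (nat_lit 3193460049323246608145711106))) (.leaf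
    (nat_lit 59436633595755651858473)))) (.node (.node (.node (.leaf (nat_lit
    6511896998407844331545)) (.leaf (nat_lit 0))) (.leaf (nat_lit 0))) (.node (.node (.leaf
    (nat_lit 0)) (.leaf (nat_lit 403283661555320958654611458))) (.leaf (nat_lit
    49346546774888182644770))))) (.node (.node (.node (.node (.leaf (nat_lit
    7590950879749568921651)) (.leaf (nat_lit 83242887553899011702825))) (.leaf (nat_lit 0))) (.node
    (.node (.leaf (nat_lit 810954202749730823)) (.leaf (nat_lit 17675078819632872882178))) (.leaf
    (nat_lit 0)))) (.node (.node (.node (.leaf (nat_lit 0)) (.leaf (nat_lit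
    3033277668601246647169843202))) (.leaf (nat_lit 36313522942101269184560))) (.node (.node (.leaf
    (nat_lit 690632454888882192)) (.leaf (nat_lit 416403448783831042))) (.leaf (nat_lit
    52242772574635022286917))))))) (.node (.node (.node (.node (.node (.node (.leaf (nat_lit
    1770914595090701942810)) (.leaf (nat_lit 2512203734683072490874601507))) (.leaf (nat_lit
    24811624606007862427682))) (.node (.node (.leaf (nat_lit 631367678640128011)) (.leaf (nat_lit
    44205878618666695852034))) (.leaf (nat_lit 0)))) (.node (.node (.node (.leaf (nat_lit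
    10316655619068372647979)) (.leaf (nat_lit 91679121389171751856778661658655))) (.leaf (nat_lit
    30530286977406889820168))) (.node (.node (.leaf (nat_lit 30114860574962236981267)) (.leaf
    (nat_lit 3226641820897378306))) (.leaf (nat_lit 0))))) (.node (.node (.node (.node (.leaf
    (nat_lit 3163711612548976672772)) (.leaf (nat_lit 81582640335243970805790))) (.leaf (nat_lit
    1352528559205384220))) (.node (.node (.leaf (nat_lit 25355524319819847630877)) (.leaf (nat_lit
    16503559114844792881154))) (.leaf (nat_lit 0)))) (.node (.node (.node (.leaf (nat_lit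
    8697904291393914994712)) (.leaf (nat_lit 2664949575634255874))) (.leaf (nat_lit
    1640767731450118164))) (.node (.node (.leaf (nat_lit 0)) (.leaf (nat_lit
    5541912998961702174722))) (.leaf (nat_lit 0)))))) (.node (.node (.node (.node (.node (.leaf
    (nat_lit 0)) (.leaf (nat_lit 79737848269142317269013))) (.leaf (nat_lit 0))) (.node (.node
    (.leaf (nat_lit 13300506837444943085589)) (.leaf (nat_lit 105711193996730714247059332202498)))
    (.leaf (nat_lit 1422795522370759499977064492)))) (.node (.node (.node (.leaf (nat_lit 0))
    (.leaf (nat_lit 2570371818795958274))) (.leaf (nat_lit 998017423108079632))) (.node (.node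
    (.leaf (nat_lit 0)) (.leaf (nat_lit 3207222306657140738))) (.leaf (nat_lit 0))))) (.node (.node
    (.node (.node (.leaf (nat_lit 136382936978161667)) (.leaf (nat_lit 84424100531727023407158)))
    (.leaf (nat_lit 0))) (.node (.node (.leaf (nat_lit 27532268270222858977312)) (.leaf (nat_lit
    3357510149519153660048965634))) (.leaf (nat_lit 65593989773176386814023)))) (.node (.node
    (.node (.leaf (nat_lit 301336069423628305)) (.leaf (nat_lit 19948377103650236071938))) (.leaf
    (nat_lit 0))) (.node (.leaf (nat_lit 0)) (.leaf (nat_lit 0))))))))) (.node (.node (.node (.node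
    (.node (.node (.node (.node (.leaf (nat_lit 359719250338498412571)) (.leaf (nat_lit
    75854690418537055584268))) (.leaf (nat_lit 1163371602419777564))) (.node (.node (.leaf (nat_lit
    15933823460489935650868)) (.leaf (nat_lit 2882953710328217602))) (.leaf (nat_lit
    1808156390595081828972101667)))) (.node (.node (.node (.leaf (nat_lit 168471908956897296))
    (.leaf (nat_lit 68199692316390212173849))) (.leaf (nat_lit 0))) (.node (.node (.leaf (nat_lit
    875827244214386733)) (.leaf (nat_lit 1115485831257545178301595650))) (.leaf (nat_lit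
    2027526169200558091))))) (.node (.node (.node (.node (.leaf (nat_lit
    105936750606254234300317749)) (.leaf (nat_lit 1867520839080083473))) (.leaf (nat_lit 0)))
    (.node (.node (.leaf (nat_lit 14619490275632487792648)) (.leaf (nat_lit
    58654345955947493654530))) (.leaf (nat_lit 1884667400792703055)))) (.node (.node (.node (.leaf
    (nat_lit 8107587509783644799019)) (.leaf (nat_lit 1692311273192161282))) (.leaf (nat_lit 0)))
    (.node (.node (.leaf (nat_lit 632083185831903248)) (.leaf (nat_lit
    3570932204210700078612217858))) (.leaf (nat_lit 69278237282177950875672)))))) (.node (.node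
    (.node (.node (.node (.leaf (nat_lit 0)) (.leaf (nat_lit 1759432248999936017))) (.leaf (nat_lit
    39338442601753185812510))) (.node (.node (.leaf (nat_lit 0)) (.leaf (nat_lit
    22438736824134405390338))) (.leaf (nat_lit 0)))) (.node (.node (.node (.leaf (nat_lit
    8621246702104520409071265054769)) (.leaf (nat_lit 2677315709897408578))) (.leaf (nat_lit 0)))
    (.node (.node (.leaf (nat_lit 0)) (.leaf (nat_lit 195499231143739697874075650))) (.leaf
    (nat_lit 46828488239991992025157))))) (.node (.node (.node (.node (.leaf (nat_lit 0)) (.leaf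
    (nat_lit 82468110791720860581929))) (.leaf (nat_lit 45228183621361490657303))) (.node (.node
    (.leaf (nat_lit 863037950172020925909958689)) (.leaf (nat_lit
    107622128388044040268478964629506))) (.leaf (nat_lit 0)))) (.node (.node (.node (.leaf (nat_lit
    17138480297569897117356216614961)) (.leaf (nat_lit 38298261707132466561026))) (.leaf (nat_lit
    0))) (.node (.node (.leaf (nat_lit 0)) (.leaf (nat_lit 374604165634195458))) (.leaf (nat_lit
    68812548757358215626814))))))) (.node (.node (.node (.node (.node (.node (.leaf (nat_lit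
    1383531984131274768435)) (.leaf (nat_lit 0))) (.leaf (nat_lit 24765503804899036692518))) (.node
    (.node (.leaf (nat_lit 20434993677860427989063)) (.leaf (nat_lit
    3144784814708119082146988034))) (.leaf (nat_lit 0)))) (.node (.node (.node (.leaf (nat_lit
    10182913346550790029346)) (.leaf (nat_lit 2804776299523414685865213987))) (.leaf (nat_lit
    30189016441531362639897))) (.node (.node (.leaf (nat_lit 652395746766777679524134965)) (.leaf
    (nat_lit 9636885104001252786178))) (.leaf (nat_lit 0))))) (.node (.node (.node (.node (.leaf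
    (nat_lit 111224025515738642317049891)) (.leaf (nat_lit 81744629043328587071542))) (.leaf
    (nat_lit 0))) (.node (.node (.leaf (nat_lit 24719107145402362822686)) (.leaf (nat_lit
    576153809646128990391631874))) (.leaf (nat_lit 1402549911883714071923785763)))) (.node (.node
    (.node (.leaf (nat_lit 15541644512860752248851)) (.leaf (nat_lit 2703933593620709378))) (.leaf
    (nat_lit 53413604453780881080346))) (.node (.node (.leaf (nat_lit 0)) (.leaf (nat_lit
    313099667019792386))) (.leaf (nat_lit 2026685182110072672281165859)))))) (.node (.node (.node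
    (.node (.node (.leaf (nat_lit 3901548721934749073417)) (.leaf (nat_lit 0))) (.leaf (nat_lit
    0))) (.node (.node (.leaf (nat_lit 695681244779905088)) (.leaf (nat_lit
    31689804299565497778178))) (.leaf (nat_lit 41128264310262962782275)))) (.node (.node (.node
    (.leaf (nat_lit 13198852844213770584090)) (.leaf (nat_lit 0))) (.leaf (nat_lit 0))) (.node
    (.node (.leaf (nat_lit 24221162999998746656835)) (.leaf (nat_lit
    1343073210540251513329287170))) (.leaf (nat_lit 67655455086601950134280))))) (.node (.node
    (.node (.node (.leaf (nat_lit 0)) (.leaf (nat_lit 2676038617447124068076879907))) (.leaf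
    (nat_lit 887111609359663107))) (.node (.node (.leaf (nat_lit 25825938813613133463571)) (.leaf
    (nat_lit 3126155262801608706))) (.leaf (nat_lit 1992762742561439761)))) (.node (.node (.node
    (.leaf (nat_lit 11933918335736689597972541145130)) (.leaf (nat_lit 29194805300827191967746)))
    (.leaf (nat_lit 1818582061418209257640427534))) (.node (.node (.leaf (nat_lit 0)) (.leaf
    (nat_lit 112164239479836038594562))) (.leaf (nat_lit 58253666185764998714650616201258))))))))
    (.node (.node (.node (.node (.node (.node (.node (.leaf (nat_lit 13933900405538833)) (.leaf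
    (nat_lit 0))) (.leaf (nat_lit 0))) (.node (.node (.leaf (nat_lit 0)) (.leaf (nat_lit
    30951882461414257000450))) (.leaf (nat_lit 0)))) (.node (.node (.node (.leaf (nat_lit
    8550224076769260142629)) (.leaf (nat_lit 85751782673136000106535))) (.leaf (nat_lit 0))) (.node
    (.node (.leaf (nat_lit 0)) (.leaf (nat_lit 1117152190838488826166640642))) (.leaf (nat_lit
    55619248928942498434636998574129))))) (.node (.node (.node (.node (.leaf (nat_lit
    171142072944951324)) (.leaf (nat_lit 62268873675005376004114))) (.leaf (nat_lit
    26896172273597208002568))) (.node (.node (.leaf (nat_lit 15172908220246147661845)) (.leaf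
    (nat_lit 312154034921204035950477314))) (.leaf (nat_lit 41829268311998399184965)))) (.node
    (.node (.node (.leaf (nat_lit 12255911042889869598455687872561)) (.leaf (nat_lit
    2276794715166867458))) (.leaf (nat_lit 52786391792284753657902))) (.node (.node (.leaf (nat_lit
    33444583170749577232424)) (.leaf (nat_lit 3295888839876411394))) (.leaf (nat_lit 0)))))) (.node
    (.node (.node (.node (.node (.leaf (nat_lit 3237456505293959790611)) (.leaf (nat_lit
    2407106681512263759))) (.leaf (nat_lit 0))) (.node (.node (.leaf (nat_lit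
    22122645582848276496390)) (.leaf (nat_lit 40382820630770238029826))) (.leaf (nat_lit
    59851691530138482311220)))) (.node (.node (.node (.leaf (nat_lit
    8438033540573385140382015488015)) (.leaf (nat_lit 0))) (.leaf (nat_lit 0))) (.node (.node
    (.leaf (nat_lit 31590624027606411051037)) (.leaf (nat_lit 391648018692044330075684866))) (.leaf
    (nat_lit 2118866830662697028))))) (.node (.node (.node (.node (.leaf (nat_lit
    244046290936266780)) (.leaf (nat_lit 80282195826392621580342))) (.leaf (nat_lit
    873600260721737744))) (.node (.node (.leaf (nat_lit 0)) (.leaf (nat_lit 3022287672090689538)))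
    (.leaf (nat_lit 0)))) (.node (.node (.node (.leaf (nat_lit 0)) (.leaf (nat_lit
    27829728791304268349442))) (.leaf (nat_lit 1144387984410411024))) (.node (.node (.leaf (nat_lit
    36239322321010846531611)) (.leaf (nat_lit 648480022348300290))) (.leaf (nat_lit
    74153560629458206130264))))))) (.node (.node (.node (.node (.node (.node (.leaf (nat_lit
    34482673217044502)) (.leaf (nat_lit 83359791966161393211274384703537))) (.leaf (nat_lit
    1216853488672309255))) (.node (.node (.leaf (nat_lit 0)) (.leaf (nat_lit
    15290685428351822397442))) (.leaf (nat_lit 0)))) (.node (.node (.node (.leaf (nat_lit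
    189865656454348817)) (.leaf (nat_lit 0))) (.leaf (nat_lit 48829462446809020563485))) (.node
    (.node (.leaf (nat_lit 18152148591548842573871)) (.leaf (nat_lit 20082376899318805364738)))
    (.leaf (nat_lit 1550494588762509733844484110))))) (.node (.node (.node (.node (.leaf (nat_lit
    139030573781079251304579116)) (.leaf (nat_lit 2310282626713387072))) (.leaf (nat_lit 0)))
    (.node (.node (.leaf (nat_lit 0)) (.leaf (nat_lit 880046799529011182483800066))) (.leaf
    (nat_lit 0)))) (.node (.node (.node (.leaf (nat_lit 10777777500703542149183)) (.leaf (nat_lit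
    2680853229645987842))) (.leaf (nat_lit 1080773540162174992))) (.node (.node (.leaf (nat_lit
    671772806815547409)) (.leaf (nat_lit 647493013093875714))) (.leaf (nat_lit
    72876085198302447075360)))))) (.node (.node (.node (.node (.node (.leaf (nat_lit
    135956601344491548)) (.leaf (nat_lit 0))) (.leaf (nat_lit 1289476240276848647))) (.node (.node
    (.leaf (nat_lit 0)) (.leaf (nat_lit 3222116471381710312782954498))) (.leaf (nat_lit
    1866657292955549746)))) (.node (.node (.node (.leaf (nat_lit 378737564850454539)) (.leaf
    (nat_lit 55864081152527564996610))) (.leaf (nat_lit 1016032096495468547))) (.node (.node (.leaf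
    (nat_lit 28915880196490219683845)) (.leaf (nat_lit 3414087798835717564556115970))) (.leaf
    (nat_lit 1488083224625283088))))) (.node (.node (.node (.node (.leaf (nat_lit
    181946647177679487528861731)) (.leaf (nat_lit 0))) (.leaf (nat_lit 46652711741006568161286)))
    (.node (.node (.leaf (nat_lit 841893623798145081911017525)) (.leaf (nat_lit
    1093874990866965258744102914))) (.leaf (nat_lit 45297360909845666136068)))) (.node (.node
    (.node (.leaf (nat_lit 0)) (.leaf (nat_lit 40604124134550435725314))) (.leaf (nat_lit
    1721553523667238940))) (.node (.leaf (nat_lit 23317390483384382455878)) (.leaf (nat_lit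
    2298594818110128148)))))))))) (.node (.node (.node (.node (.node (.node (.node (.node (.node
    (.leaf (nat_lit 2955689119055889)) (.leaf (nat_lit 0))) (.leaf (nat_lit 0))) (.node (.node
    (.leaf (nat_lit 582670995840696348)) (.leaf (nat_lit 14870924027763624181762))) (.leaf (nat_lit
    37383466329056552878088)))) (.node (.node (.node (.leaf (nat_lit 9260411338012317909029))
    (.leaf (nat_lit 0))) (.leaf (nat_lit 47141559466588622749702))) (.node (.node (.leaf (nat_lit
    19973741908279559389208)) (.leaf (nat_lit 50694828953103870656514))) (.leaf (nat_lit 0)))))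
    (.node (.node (.node (.node (.leaf (nat_lit 81773080644550672)) (.leaf (nat_lit
    60396482566745196003353))) (.leaf (nat_lit 0))) (.node (.node (.leaf (nat_lit 0)) (.leaf
    (nat_lit 39446675102628210475010))) (.leaf (nat_lit 61769514113316127258788749443087)))) (.node
    (.node (.node (.leaf (nat_lit 244755888253042705)) (.leaf (nat_lit 79494370582677321613314)))
    (.leaf (nat_lit 0))) (.node (.node (.leaf (nat_lit 0)) (.leaf (nat_lit 3313903521853734914)))
    (.leaf (nat_lit 0)))))) (.node (.node (.node (.node (.node (.leaf (nat_lit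
    2564135849972245659677)) (.leaf (nat_lit 0))) (.leaf (nat_lit 24866968357353394733103))) (.node
    (.node (.leaf (nat_lit 12442695941062616350743)) (.leaf (nat_lit 9632078836559654354946)))
    (.leaf (nat_lit 1410724056600547169478639651)))) (.node (.node (.node (.leaf (nat_lit
    6428884820093665738803)) (.leaf (nat_lit 2177431248069328924))) (.leaf (nat_lit 0))) (.node
    (.node (.leaf (nat_lit 22392502136597776746385575837727)) (.leaf (nat_lit
    20234584700778495279106))) (.leaf (nat_lit 1429816117739782160))))) (.node (.node (.node (.node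
    (.leaf (nat_lit 0)) (.leaf (nat_lit 0))) (.leaf (nat_lit 1188707829360879717786583075))) (.node
    (.node (.leaf (nat_lit 25973500661533270802472)) (.leaf (nat_lit 11172607153563423145986)))
    (.leaf (nat_lit 63817825670689154334746)))) (.node (.node (.node (.leaf (nat_lit
    17108812051290458118396943073329)) (.leaf (nat_lit 2816242869537472514))) (.leaf (nat_lit
    1105825225406283779))) (.node (.node (.leaf (nat_lit 35464947363966812880966)) (.leaf (nat_lit
    719129313789739010))) (.leaf (nat_lit 69015458438431954370619))))))) (.node (.node (.node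
    (.node (.node (.node (.leaf (nat_lit 0)) (.leaf (nat_lit 56098259182491078426649))) (.leaf
    (nat_lit 38582113708595168346121))) (.node (.node (.leaf (nat_lit 0)) (.leaf (nat_lit
    39663362407268410916866))) (.leaf (nat_lit 1888229906045967124027146284)))) (.node (.node
    (.node (.leaf (nat_lit 0)) (.leaf (nat_lit 0))) (.leaf (nat_lit 0))) (.node (.node (.leaf
    (nat_lit 29376987996851770949637)) (.leaf (nat_lit 9401675196642952937474))) (.leaf (nat_lit
    0))))) (.node (.node (.node (.node (.leaf (nat_lit 186761984237240384)) (.leaf (nat_lit 0)))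
    (.leaf (nat_lit 1338735864439767060))) (.node (.node (.leaf (nat_lit 24903571208302298857493))
    (.leaf (nat_lit 930671011645432418367963138))) (.leaf (nat_lit 62747880736343053238299))))
    (.node (.node (.node (.leaf (nat_lit 8697901616960729448502)) (.leaf (nat_lit
    74841221621294917943377))) (.leaf (nat_lit 34791612229837897531396))) (.node (.node (.leaf
    (nat_lit 0)) (.leaf (nat_lit 3478941644148437966364344322))) (.leaf (nat_lit
    54774520783974317621253)))))) (.node (.node (.node (.node (.node (.leaf (nat_lit
    61224307833045008)) (.leaf (nat_lit 1833742604924223499))) (.leaf (nat_lit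
    1266676071378583559))) (.node (.node (.leaf (nat_lit 13328173716180958380055)) (.leaf (nat_lit
    2993576202263986178))) (.leaf (nat_lit 1246005261366329361)))) (.node (.node (.node (.leaf
    (nat_lit 211822216466268177)) (.leaf (nat_lit 2187846921719250966))) (.leaf (nat_lit
    1117230731320511567323463724))) (.node (.node (.leaf (nat_lit 0)) (.leaf (nat_lit
    3283220026383007746))) (.leaf (nat_lit 69850059044153255460893))))) (.node (.node (.node (.node
    (.leaf (nat_lit 0)) (.leaf (nat_lit 0))) (.leaf (nat_lit 0))) (.node (.node (.leaf (nat_lit 0))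
    (.leaf (nat_lit 946994073859548501736947714))) (.leaf (nat_lit 1354659000423153667)))) (.node
    (.node (.node (.leaf (nat_lit 303024506967031830)) (.leaf (nat_lit 35941718874984173207554)))
    (.leaf (nat_lit 55664174505354464526345))) (.node (.node (.leaf (nat_lit
    36682048401325433225222)) (.leaf (nat_lit 241890363382562818))) (.leaf (nat_lit
    74392743024541854531647)))))))) (.node (.node (.node (.node (.node (.node (.node (.leaf
    (nat_lit 433509604736784072708)) (.leaf (nat_lit 1868471087711178009572802595))) (.leaf
    (nat_lit 38347338948425443115059))) (.node (.node (.leaf (nat_lit 11013029645062288638019))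
    (.leaf (nat_lit 17043086148707855564802))) (.leaf (nat_lit 0)))) (.node (.node (.node (.leaf
    (nat_lit 5395828869702650888215)) (.leaf (nat_lit 2618768498129764420))) (.leaf (nat_lit 0)))
    (.node (.node (.leaf (nat_lit 0)) (.leaf (nat_lit 3077178341976047618))) (.leaf (nat_lit
    66922205450292049412152))))) (.node (.node (.node (.node (.leaf (nat_lit 168749123326050372))
    (.leaf (nat_lit 2514340227519465354428678177))) (.leaf (nat_lit 0))) (.node (.node (.leaf
    (nat_lit 24156464843443400802330)) (.leaf (nat_lit 17933283974253209911298))) (.leaf (nat_lit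
    1896354835733807124)))) (.node (.node (.node (.leaf (nat_lit 10459557794150887915568)) (.leaf
    (nat_lit 72429291806236543746050))) (.leaf (nat_lit 0))) (.node (.node (.leaf (nat_lit
    1033044702473093148)) (.leaf (nat_lit 342794040112185346))) (.leaf (nat_lit 0)))))) (.node
    (.node (.node (.node (.node (.leaf (nat_lit 46587059288276995)) (.leaf (nat_lit
    78695575702818263334931))) (.leaf (nat_lit 0))) (.node (.node (.leaf (nat_lit
    21887446358808808587294)) (.leaf (nat_lit 9673597531926793748482))) (.leaf (nat_lit
    58874011560811056791607)))) (.node (.node (.node (.leaf (nat_lit 0)) (.leaf (nat_lit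
    88011571311680424181815))) (.leaf (nat_lit 0))) (.node (.node (.leaf (nat_lit
    27707581585203344375831)) (.leaf (nat_lit 376385191873051174214303746))) (.leaf (nat_lit
    2113378648437424148))))) (.node (.node (.node (.node (.leaf (nat_lit 7839985724785682481182))
    (.leaf (nat_lit 2000942589381050379))) (.leaf (nat_lit 0))) (.node (.node (.leaf (nat_lit 0))
    (.leaf (nat_lit 3323355385025167248582770690))) (.leaf (nat_lit 0)))) (.node (.node (.node
    (.leaf (nat_lit 9491133005877737619479)) (.leaf (nat_lit 29411536106661397856258))) (.leaf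
    (nat_lit 55046193378686696357897))) (.node (.node (.leaf (nat_lit 35898055866668510543902))
    (.leaf (nat_lit 261873866958307330))) (.leaf (nat_lit 2258483366913507407))))))) (.node (.node
    (.node (.node (.node (.node (.leaf (nat_lit 1973831594814482874397)) (.leaf (nat_lit 0)))
    (.leaf (nat_lit 768041509458149379))) (.node (.node (.leaf (nat_lit 20568460809292650577933))
    (.leaf (nat_lit 59060121413912774246402))) (.leaf (nat_lit 0)))) (.node (.node (.node (.leaf
    (nat_lit 5995373245216728481796)) (.leaf (nat_lit 0))) (.leaf (nat_lit 0))) (.node (.node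
    (.leaf (nat_lit 18152147465511496777774)) (.leaf (nat_lit 60762193978442291281922))) (.leaf
    (nat_lit 0))))) (.node (.node (.node (.node (.leaf (nat_lit 5243612124819675611179)) (.leaf
    (nat_lit 0))) (.leaf (nat_lit 43027858129784018239528))) (.node (.node (.leaf (nat_lit
    24940473704198728515638)) (.leaf (nat_lit 3082241034676207618))) (.leaf (nat_lit 0)))) (.node
    (.node (.node (.leaf (nat_lit 268682910540890115)) (.leaf (nat_lit 2663964542064787458)))
    (.leaf (nat_lit 35252802787278575566869))) (.node (.node (.leaf (nat_lit 1067948690506907655))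
    (.leaf (nat_lit 662692275289194498))) (.leaf (nat_lit 51218945204272305995827)))))) (.node
    (.node (.node (.node (.node (.leaf (nat_lit 3343539076962311143493)) (.leaf (nat_lit 0)))
    (.leaf (nat_lit 26158279006234140147759))) (.node (.node (.leaf (nat_lit
    13328177516642899787800)) (.leaf (nat_lit 896214973687614266197409794))) (.leaf (nat_lit 0))))
    (.node (.node (.node (.leaf (nat_lit 0)) (.leaf (nat_lit 2471152026944405507))) (.leaf (nat_lit
    50152384662914952793036335415311))) (.node (.node (.leaf (nat_lit 997014805942501396)) (.leaf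
    (nat_lit 3287161423381266434))) (.leaf (nat_lit 0))))) (.node (.node (.node (.node (.leaf
    (nat_lit 0)) (.leaf (nat_lit 0))) (.leaf (nat_lit 0))) (.node (.node (.leaf (nat_lit
    844752675090994817296236579)) (.leaf (nat_lit 3391423252568632636465217538))) (.leaf (nat_lit
    65741578925363265994809)))) (.node (.node (.node (.leaf (nat_lit
    11924014362010662848232964816927)) (.leaf (nat_lit 51690614076507435499522))) (.leaf (nat_lit
    0))) (.node (.leaf (nat_lit 37106328582111499583501)) (.leaf (nat_lit
    59511454369940818016649842327567))))))))) (.node (.node (.node (.node (.node (.node (.node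
    (.node (.leaf (nat_lit 378166698228498759714)) (.leaf (nat_lit 0))) (.leaf (nat_lit
    1167312389532680220))) (.node (.node (.leaf (nat_lit 320477329912627217)) (.leaf (nat_lit
    24984355130679637508098))) (.leaf (nat_lit 1821435121931215934262083628)))) (.node (.node
    (.node (.leaf (nat_lit 0)) (.leaf (nat_lit 0))) (.leaf (nat_lit 30078328798515126534195)))
    (.node (.node (.leaf (nat_lit 541725457700225027)) (.leaf (nat_lit 2001946512216686594)))
    (.leaf (nat_lit 0))))) (.node (.node (.node (.node (.leaf (nat_lit
    133739941465516062265311246)) (.leaf (nat_lit 1869209826379300881))) (.leaf (nat_lit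
    42612792594477304971277))) (.node (.node (.leaf (nat_lit 0)) (.leaf (nat_lit
    65821023134633666215938))) (.leaf (nat_lit 0)))) (.node (.node (.node (.leaf (nat_lit
    10376542660469712945200)) (.leaf (nat_lit 2532625641450138101738635329))) (.leaf (nat_lit
    1599952614286557191))) (.node (.node (.leaf (nat_lit 33195940420072553775161)) (.leaf (nat_lit
    3253385740435980290))) (.leaf (nat_lit 0)))))) (.node (.node (.node (.node (.node (.leaf
    (nat_lit 86134010048282644)) (.leaf (nat_lit 0))) (.leaf (nat_lit 39735054636358387826697)))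
    (.node (.node (.leaf (nat_lit 0)) (.leaf (nat_lit 2908006117126832130))) (.leaf (nat_lit
    43613937318264293228607)))) (.node (.node (.node (.leaf (nat_lit 7632537122969315639355))
    (.leaf (nat_lit 2170394648529469443))) (.leaf (nat_lit 49927071867396784586807))) (.node (.node
    (.leaf (nat_lit 18668673751831374135365)) (.leaf (nat_lit 3421645734233444609385824258)))
    (.leaf (nat_lit 2105337649320558637))))) (.node (.node (.node (.node (.leaf (nat_lit
    3901600657503926026291)) (.leaf (nat_lit 63938364673337457836056))) (.leaf (nat_lit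
    28381179083405310230598))) (.node (.node (.leaf (nat_lit 26028844834696131182662)) (.leaf
    (nat_lit 3108700051854196738))) (.leaf (nat_lit 43277381633676262178885)))) (.node (.node
    (.node (.leaf (nat_lit 0)) (.leaf (nat_lit 1253748671013554726740688898))) (.leaf (nat_lit 0)))
    (.node (.node (.leaf (nat_lit 34870930632770168803854500823071)) (.leaf (nat_lit
    251036753937432578))) (.leaf (nat_lit 52021405030951116013600))))))) (.node (.node (.node
    (.node (.node (.node (.leaf (nat_lit 1807438397344861655560553300029)) (.leaf (nat_lit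
    77210568048988957900855))) (.leaf (nat_lit 0))) (.node (.node (.leaf (nat_lit
    20582537371147078664265)) (.leaf (nat_lit 43454171404941045989378))) (.leaf (nat_lit 0))))
    (.node (.node (.node (.leaf (nat_lit 0)) (.leaf (nat_lit 0))) (.leaf (nat_lit
    48894016761997635551259))) (.node (.node (.leaf (nat_lit 18013794914350370324528)) (.leaf
    (nat_lit 8281058060932588175362))) (.leaf (nat_lit 1692528988691937389233569845))))) (.node
    (.node (.node (.node (.leaf (nat_lit 6368831987826508890159)) (.leaf (nat_lit
    2501670136109465645))) (.leaf (nat_lit 0))) (.node (.node (.leaf (nat_lit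
    24663769446593463517207)) (.leaf (nat_lit 572677456265982734877589506))) (.leaf (nat_lit 0))))
    (.node (.node (.node (.leaf (nat_lit 8679456702766426292245)) (.leaf (nat_lit
    2821869721964370154135748641))) (.leaf (nat_lit 1065010529149517846))) (.node (.node (.leaf
    (nat_lit 34602140428172555124748)) (.leaf (nat_lit 3246069216402604034))) (.leaf (nat_lit
    72497243382398142578715)))))) (.node (.node (.node (.node (.node (.leaf (nat_lit
    71639156849246230)) (.leaf (nat_lit 61055903423280925835316))) (.leaf (nat_lit
    799568630995091473))) (.node (.node (.leaf (nat_lit 407737871227813904)) (.leaf (nat_lit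
    896516938213044188099117058))) (.leaf (nat_lit 0)))) (.node (.node (.node (.leaf (nat_lit
    411947892660633679)) (.leaf (nat_lit 88740779104982756687874))) (.leaf (nat_lit 0))) (.node
    (.node (.leaf (nat_lit 32328508427932186902568)) (.leaf (nat_lit 421116342118789856421478402)))
    (.leaf (nat_lit 1475134963379732496))))) (.node (.node (.node (.node (.leaf (nat_lit
    8660874421885770858508)) (.leaf (nat_lit 84327250619932239659031))) (.leaf (nat_lit
    29229755629805783678980))) (.node (.node (.leaf (nat_lit 516673085261348881)) (.leaf (nat_lit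
    3226641111955481656733990914))) (.leaf (nat_lit 0)))) (.node (.node (.node (.leaf (nat_lit
    322038923398647082995941411)) (.leaf (nat_lit 30089472948006279118850))) (.leaf (nat_lit 0)))
    (.node (.leaf (nat_lit 37060209469861124046857)) (.leaf (nat_lit 2285083606911156235))))))))
    (.node (.node (.node (.node (.node (.node (.node (.leaf (nat_lit 1037651732407538352133))
    (.leaf (nat_lit 0))) (.leaf (nat_lit 24359668257270383444016))) (.node (.node (.leaf (nat_lit
    0)) (.leaf (nat_lit 18541836775278141177858))) (.leaf (nat_lit 0)))) (.node (.node (.node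
    (.leaf (nat_lit 10136646600529100865587)) (.leaf (nat_lit 68670099209130766172164))) (.leaf
    (nat_lit 48137695750808980881434))) (.node (.node (.leaf (nat_lit 29229410103311772876840))
    (.leaf (nat_lit 3197371824933568514))) (.leaf (nat_lit 0))))) (.node (.node (.node (.node
    (.leaf (nat_lit 143414327261392049902190645)) (.leaf (nat_lit 0))) (.leaf (nat_lit
    26979183747966246780980))) (.node (.node (.leaf (nat_lit 0)) (.leaf (nat_lit
    3058596638416306178))) (.leaf (nat_lit 0)))) (.node (.node (.node (.leaf (nat_lit
    15260403581833021947942)) (.leaf (nat_lit 52147101904514320629762))) (.leaf (nat_lit 0)))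
    (.node (.node (.leaf (nat_lit 1089716452963281539740991532)) (.leaf (nat_lit
    6819301591303279804418))) (.leaf (nat_lit 49927634274732627656756)))))) (.node (.node (.node
    (.node (.node (.leaf (nat_lit 0)) (.leaf (nat_lit 0))) (.leaf (nat_lit 785212857427034115)))
    (.node (.node (.leaf (nat_lit 387189648172122129)) (.leaf (nat_lit 17162984339942083330050)))
    (.leaf (nat_lit 44766871489812027867195)))) (.node (.node (.node (.leaf (nat_lit
    12816266003761510678571)) (.leaf (nat_lit 0))) (.leaf (nat_lit 0))) (.node (.node (.leaf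
    (nat_lit 0)) (.leaf (nat_lit 3367847336240250975210962946))) (.leaf (nat_lit
    2062854164995768384))))) (.node (.node (.node (.node (.leaf (nat_lit
    165627933323548196795056161)) (.leaf (nat_lit 64556350866563396730928))) (.leaf (nat_lit
    937776692850720832))) (.node (.node (.leaf (nat_lit 26702153808694642671671)) (.leaf (nat_lit
    3362950015960493112728748034))) (.leaf (nat_lit 2115059252456343791833710627)))) (.node (.node
    (.node (.leaf (nat_lit 9537254651420083421236)) (.leaf (nat_lit 61444315642908859629570)))
    (.leaf (nat_lit 55341349728390228410372))) (.node (.node (.leaf (nat_lit 715965615109701654))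
    (.leaf (nat_lit 380093786673512450))) (.leaf (nat_lit 1622913174443524113))))))) (.node (.node
    (.node (.node (.node (.node (.leaf (nat_lit 36453135492972566)) (.leaf (nat_lit
    2307885828803788802))) (.leaf (nat_lit 0))) (.node (.node (.leaf (nat_lit 0)) (.leaf (nat_lit
    834103505052317661134061570))) (.leaf (nat_lit 1227989488467312662)))) (.node (.node (.node
    (.leaf (nat_lit 356639709004431380)) (.leaf (nat_lit 86282154995473338007627))) (.leaf (nat_lit
    1186889201746715551960662060))) (.node (.node (.leaf (nat_lit 29293986938018943139870)) (.leaf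
    (nat_lit 20428262399844764811266))) (.leaf (nat_lit 68263600771817242034202))))) (.node (.node
    (.node (.node (.leaf (nat_lit 0)) (.leaf (nat_lit 1942957919544934416))) (.leaf (nat_lit 0)))
    (.node (.node (.leaf (nat_lit 23192652303313997594647)) (.leaf (nat_lit
    18938572108331302977538))) (.leaf (nat_lit 63476550771977257943081)))) (.node (.node (.node
    (.leaf (nat_lit 482823294930341932340346924)) (.leaf (nat_lit 57713445204100265476098))) (.leaf
    (nat_lit 0))) (.node (.node (.leaf (nat_lit 1076956173229490187)) (.leaf (nat_lit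
    2769815703291822082))) (.leaf (nat_lit 73120053905348779769895)))))) (.node (.node (.node
    (.node (.node (.leaf (nat_lit 141726271431376964)) (.leaf (nat_lit 0))) (.leaf (nat_lit
    36087245900337293492261))) (.node (.node (.leaf (nat_lit 0)) (.leaf (nat_lit
    896668284503123871714770946))) (.leaf (nat_lit 60949304047483566096411)))) (.node (.node (.node
    (.leaf (nat_lit 11575560477046368043075)) (.leaf (nat_lit 39935319893569624539138))) (.leaf
    (nat_lit 0))) (.node (.node (.leaf (nat_lit 1007972653437180835984048161)) (.leaf (nat_lit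
    3310245592697012226))) (.leaf (nat_lit 2285824313489872402205900835))))) (.node (.node (.node
    (.node (.leaf (nat_lit 4704062314577538514992)) (.leaf (nat_lit 0))) (.leaf (nat_lit
    943125816919851024))) (.node (.node (.leaf (nat_lit 860213835502583828)) (.leaf (nat_lit
    46170597781059464790018))) (.leaf (nat_lit 55302330687086995702420083113999)))) (.node (.node
    (.node (.leaf (nat_lit 0)) (.leaf (nat_lit 15147620133495191568386))) (.leaf (nat_lit 0)))
    (.node (.leaf (nat_lit 37263133225370893090825)) (.leaf (nat_lit
    71948582508918326100027)))))))))))) (.node (.node (.node (.node (.node (.node (.node (.node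
    (.node (.node (.node (.leaf (nat_lit 1)) (.leaf (nat_lit 2306881424931815503))) (.leaf (nat_lit
    0))) (.node (.node (.leaf (nat_lit 10883888643568088317970)) (.leaf (nat_lit
    15493498813213653008386))) (.leaf (nat_lit 0)))) (.node (.node (.node (.leaf (nat_lit
    152146051070033937)) (.leaf (nat_lit 0))) (.leaf (nat_lit 1440351466358439943))) (.node (.node
    (.leaf (nat_lit 864717538209169415)) (.leaf (nat_lit 1710129457408777869941014530))) (.leaf
    (nat_lit 0))))) (.node (.node (.node (.node (.leaf (nat_lit 2610289726134591619110)) (.leaf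
    (nat_lit 0))) (.leaf (nat_lit 26398095123819622760496))) (.node (.node (.leaf (nat_lit 0))
    (.leaf (nat_lit 28696828517979978399746))) (.leaf (nat_lit 59837889687444711997503)))) (.node
    (.node (.node (.leaf (nat_lit 397596628808237120)) (.leaf (nat_lit 80306021691158287286274)))
    (.leaf (nat_lit 0))) (.node (.node (.leaf (nat_lit 20642518294421771059238)) (.leaf (nat_lit
    13635454945228967051266))) (.leaf (nat_lit 65409536834082833629262)))))) (.node (.node (.node
    (.node (.node (.leaf (nat_lit 53904687128248331)) (.leaf (nat_lit 2378958105804406829))) (.leaf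
    (nat_lit 27099094477378242674740))) (.node (.node (.leaf (nat_lit 21251003569730356445213))
    (.leaf (nat_lit 2908287222736355330))) (.leaf (nat_lit 58772543771643574681652)))) (.node
    (.node (.node (.leaf (nat_lit 7512622027010098790447)) (.leaf (nat_lit 0))) (.leaf (nat_lit
    49484344661139341377565))) (.node (.node (.leaf (nat_lit 22437049541390623314873405472799))
    (.leaf (nat_lit 20723414692895851216898))) (.leaf (nat_lit 68255035910608660922438))))) (.node
    (.node (.node (.node (.leaf (nat_lit 111048505447022608)) (.leaf (nat_lit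
    75034394796359722139696))) (.leaf (nat_lit 0))) (.node (.node (.leaf (nat_lit
    792657753737920519)) (.leaf (nat_lit 3212777396833807815296679938))) (.leaf (nat_lit 0))))
    (.node (.node (.node (.leaf (nat_lit 0)) (.leaf (nat_lit 78558266869172951777282))) (.leaf
    (nat_lit 35649420029402774962219))) (.node (.node (.leaf (nat_lit 35215512261462277160973))
    (.leaf (nat_lit 430194709030371330))) (.leaf (nat_lit 0))))))) (.node (.node (.node (.node
    (.node (.node (.leaf (nat_lit 36592876548915211)) (.leaf (nat_lit 76703269638657750007827)))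
    (.leaf (nat_lit 38351526311294436311081))) (.node (.node (.leaf (nat_lit
    11142166142656213876773)) (.leaf (nat_lit 31057953757075469434882))) (.leaf (nat_lit
    1885962699737571305816588341)))) (.node (.node (.node (.leaf (nat_lit 0)) (.leaf (nat_lit
    69251175166001495080981))) (.leaf (nat_lit 30115227776068836589593))) (.node (.node (.leaf
    (nat_lit 563399683741974531)) (.leaf (nat_lit 3197371180688474114))) (.leaf (nat_lit 0)))))
    (.node (.node (.node (.node (.leaf (nat_lit 0)) (.leaf (nat_lit
    70213107517735433434699143643178))) (.leaf (nat_lit 0))) (.node (.node (.leaf (nat_lit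
    24728324606155469029405)) (.leaf (nat_lit 3031858826321199106))) (.leaf (nat_lit
    41949174119051456348185)))) (.node (.node (.node (.leaf (nat_lit 467825726419238932)) (.leaf
    (nat_lit 2252306675660881922))) (.leaf (nat_lit 34367331205004858163204))) (.node (.node (.leaf
    (nat_lit 0)) (.leaf (nat_lit 117874348700847510196808273166338))) (.leaf (nat_lit 0))))))
    (.node (.node (.node (.node (.node (.leaf (nat_lit 3117608823321809584200)) (.leaf (nat_lit
    1916358096946734967776608291))) (.leaf (nat_lit 29374370928487179345763993190449))) (.node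
    (.node (.leaf (nat_lit 13199043974209812496451)) (.leaf (nat_lit 9752006316661932228610)))
    (.leaf (nat_lit 0)))) (.node (.node (.node (.leaf (nat_lit 248289758175887196086861868)) (.leaf
    (nat_lit 2645806537028796482))) (.leaf (nat_lit 32079865976296556396565))) (.node (.node (.leaf
    (nat_lit 648306154045391046902546476)) (.leaf (nat_lit 4342736129017247891458))) (.leaf
    (nat_lit 0))))) (.node (.node (.node (.node (.leaf (nat_lit 6908428386394949484583)) (.leaf
    (nat_lit 78871612549127599226882))) (.leaf (nat_lit 0))) (.node (.node (.leaf (nat_lit 0))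
    (.leaf (nat_lit 20160807694283867095042))) (.leaf (nat_lit 43923036676469859483718)))) (.node
    (.node (.node (.leaf (nat_lit 17533917363034143260698)) (.leaf (nat_lit
    27506919819226976026626))) (.leaf (nat_lit 55461256098247210106899))) (.node (.node (.leaf
    (nat_lit 1036983599038153280859668524)) (.leaf (nat_lit 6704151623402761945090))) (.leaf
    (nat_lit 0)))))))) (.node (.node (.node (.node (.node (.node (.node (.leaf (nat_lit
    594917207809290600488)) (.leaf (nat_lit 1849732405455624633862848547))) (.leaf (nat_lit
    1171534617262555143))) (.node (.node (.leaf (nat_lit 19240275249999496020023)) (.leaf (nat_lit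
    17075315306035425771522))) (.leaf (nat_lit 57278300923553514717210)))) (.node (.node (.node
    (.leaf (nat_lit 9998290390021478481926)) (.leaf (nat_lit 69315728918085537824835))) (.leaf
    (nat_lit 1567553574507989581705773121))) (.node (.node (.leaf (nat_lit
    28842021158984981086248)) (.leaf (nat_lit 67564234545243252523010))) (.leaf (nat_lit
    66354963285530697203782))))) (.node (.node (.node (.node (.leaf (nat_lit 0)) (.leaf (nat_lit
    0))) (.leaf (nat_lit 26896169177063226540083))) (.node (.node (.leaf (nat_lit 0)) (.leaf
    (nat_lit 61379857043819510038530))) (.leaf (nat_lit 41810819175078149947450)))) (.node (.node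
    (.node (.leaf (nat_lit 14221677769186008346182677757967)) (.leaf (nat_lit
    77428353829023059738709))) (.leaf (nat_lit 33610992742384827301957))) (.node (.node (.leaf
    (nat_lit 33656718616234264035358)) (.leaf (nat_lit 3544893891688228527246934018))) (.leaf
    (nat_lit 70006893243470614560781)))))) (.node (.node (.node (.node (.node (.leaf (nat_lit
    88667387917893652)) (.leaf (nat_lit 61530877527292779888691))) (.leaf (nat_lit 0))) (.node
    (.node (.leaf (nat_lit 0)) (.leaf (nat_lit 3192257063272487915882807298))) (.leaf (nat_lit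
    1232775215906422806)))) (.node (.node (.node (.leaf (nat_lit 6493450254308364976149)) (.leaf
    (nat_lit 84608676906535691157575))) (.leaf (nat_lit 1110747017409331211))) (.node (.node (.leaf
    (nat_lit 575504757007974403)) (.leaf (nat_lit 3257605288106262530))) (.leaf (nat_lit 0)))))
    (.node (.node (.node (.node (.leaf (nat_lit 3970775947866236190743)) (.leaf (nat_lit 0)))
    (.leaf (nat_lit 29852353507495371800584))) (.node (.node (.leaf (nat_lit
    16150613101844178862117)) (.leaf (nat_lit 3048464999543603202))) (.leaf (nat_lit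
    58191577735810722758710)))) (.node (.node (.node (.leaf (nat_lit 15500154258208701218878))
    (.leaf (nat_lit 72789052448849910759426))) (.leaf (nat_lit 1675671693714128903))) (.node (.node
    (.leaf (nat_lit 0)) (.leaf (nat_lit 280873178778173442))) (.leaf (nat_lit 0))))))) (.node
    (.node (.node (.node (.node (.node (.leaf (nat_lit 28289914491764758)) (.leaf (nat_lit 0)))
    (.leaf (nat_lit 24765506056939368546343))) (.node (.node (.leaf (nat_lit
    20485734046836784824328)) (.leaf (nat_lit 17697906679366411288578))) (.leaf (nat_lit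
    43387947673146007683110)))) (.node (.node (.node (.leaf (nat_lit 0)) (.leaf (nat_lit 0)))
    (.leaf (nat_lit 49028295665016423776337))) (.node (.node (.leaf (nat_lit
    30077967086780458139657)) (.leaf (nat_lit 3225238234174980098))) (.leaf (nat_lit
    2189561851822830285622607905))))) (.node (.node (.node (.node (.leaf (nat_lit
    198164452393222164)) (.leaf (nat_lit 62785407561158214484000))) (.leaf (nat_lit
    27034526936318875992088))) (.node (.node (.leaf (nat_lit 0)) (.leaf (nat_lit
    144715438294736432374480898))) (.leaf (nat_lit 1379145502330847235)))) (.node (.node (.node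
    (.leaf (nat_lit 15855241132704939573269)) (.leaf (nat_lit 82787167749693434429442))) (.leaf
    (nat_lit 53662645069148506488862))) (.node (.node (.leaf (nat_lit 22219768394618780188710))
    (.leaf (nat_lit 644396204234506242))) (.leaf (nat_lit 0)))))) (.node (.node (.node (.node
    (.node (.leaf (nat_lit 70794834998329347)) (.leaf (nat_lit 79710176182672556228635))) (.leaf
    (nat_lit 0))) (.node (.node (.leaf (nat_lit 702301528844795911)) (.leaf (nat_lit
    3007650930352062466))) (.leaf (nat_lit 1855539701390376988)))) (.node (.node (.node (.leaf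
    (nat_lit 258415803205259849128738881)) (.leaf (nat_lit 79605032898151154122754))) (.leaf
    (nat_lit 1254590532644626227272089644))) (.node (.node (.leaf (nat_lit
    27651144485943613170840011866143)) (.leaf (nat_lit 3540724867410916723220807682))) (.leaf
    (nat_lit 70108323594645128019987))))) (.node (.node (.node (.node (.leaf (nat_lit
    137790277501976592)) (.leaf (nat_lit 70851319733809582374989))) (.leaf (nat_lit
    1422336509503209479))) (.node (.node (.leaf (nat_lit 0)) (.leaf (nat_lit
    3345139389396006975834423298))) (.leaf (nat_lit 2107503235510992556412633123)))) (.node (.node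
    (.node (.leaf (nat_lit 17663295788533760065570)) (.leaf (nat_lit 17965352097361179115522)))
    (.leaf (nat_lit 55784084534661021368328))) (.node (.leaf (nat_lit 23013014280038254837764))
    (.leaf (nat_lit 0))))))))) (.node (.node (.node (.node (.node (.node (.node (.node (.leaf
    (nat_lit 272094401178481393688)) (.leaf (nat_lit 0))) (.leaf (nat_lit 733981491087933456)))
    (.node (.node (.leaf (nat_lit 313440283696168963)) (.leaf (nat_lit 45049799027627581964290)))
    (.leaf (nat_lit 0)))) (.node (.node (.node (.leaf (nat_lit 5248246753891973267461)) (.leaf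
    (nat_lit 2081164710090244112))) (.leaf (nat_lit 0))) (.node (.node (.leaf (nat_lit
    30513313386413533933893195202602)) (.leaf (nat_lit 794133126543704066))) (.leaf (nat_lit
    45675530845092231446579))))) (.node (.node (.node (.node (.leaf (nat_lit
    4828581492238275772474)) (.leaf (nat_lit 0))) (.leaf (nat_lit 1305239345778786311))) (.node
    (.node (.leaf (nat_lit 0)) (.leaf (nat_lit 8760513493912252514306))) (.leaf (nat_lit
    1375766428220784656)))) (.node (.node (.node (.leaf (nat_lit 243911566402125840)) (.leaf
    (nat_lit 2472559865684426754))) (.leaf (nat_lit 0))) (.node (.node (.leaf (nat_lit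
    632083151472164867)) (.leaf (nat_lit 3569723425964756529777475586))) (.leaf (nat_lit 0))))))
    (.node (.node (.node (.node (.node (.leaf (nat_lit 40394163124043798)) (.leaf (nat_lit
    2387262141603381268))) (.leaf (nat_lit 1234996963833937970))) (.node (.node (.leaf (nat_lit
    389159251454590998)) (.leaf (nat_lit 39714110650964225753090))) (.leaf (nat_lit 0)))) (.node
    (.node (.node (.leaf (nat_lit 0)) (.leaf (nat_lit 87633931956842267869192))) (.leaf (nat_lit
    39862420933461895817190774734897))) (.node (.node (.leaf (nat_lit 0)) (.leaf (nat_lit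
    2583754043537096706))) (.leaf (nat_lit 68347271883051900272674))))) (.node (.node (.node (.node
    (.leaf (nat_lit 0)) (.leaf (nat_lit 82541896642090022141993))) (.leaf (nat_lit
    1036978581531513765180473379))) (.node (.node (.leaf (nat_lit 22611583524544801079320)) (.leaf
    (nat_lit 308680161646204706198126594))) (.leaf (nat_lit 43157473856367087517717)))) (.node
    (.node (.node (.leaf (nat_lit 431297346841611079828897806)) (.leaf (nat_lit
    788463143292218765591445506))) (.leaf (nat_lit 0))) (.node (.node (.leaf (nat_lit
    35718189556191539167256)) (.leaf (nat_lit 373478248547483650))) (.leaf (nat_lit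
    68812547772161437401148))))))) (.node (.node (.node (.node (.node (.node (.leaf (nat_lit
    1452707415093634334774)) (.leaf (nat_lit 1744794416339615761))) (.leaf (nat_lit
    24747057060799557337125))) (.node (.node (.leaf (nat_lit 19927441659554456338458)) (.leaf
    (nat_lit 514946525436436120250613762))) (.leaf (nat_lit 0)))) (.node (.node (.node (.leaf
    (nat_lit 10607201408069268602950)) (.leaf (nat_lit 0))) (.leaf (nat_lit 0))) (.node (.node
    (.leaf (nat_lit 909473442485633035)) (.leaf (nat_lit 1348057631593418206923194370))) (.leaf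
    (nat_lit 0))))) (.node (.node (.node (.node (.leaf (nat_lit 112032843231789084)) (.leaf
    (nat_lit 0))) (.leaf (nat_lit 1342395150806155292))) (.node (.node (.leaf (nat_lit 0)) (.leaf
    (nat_lit 662894246893960945593483266))) (.leaf (nat_lit 1467073597304768300417548341)))) (.node
    (.node (.node (.leaf (nat_lit 0)) (.leaf (nat_lit 85517277709682094571522))) (.leaf (nat_lit
    0))) (.node (.node (.leaf (nat_lit 34477616039050040508425)) (.leaf (nat_lit
    10204307135000754716674))) (.leaf (nat_lit 2207802173000122418)))))) (.node (.node (.node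
    (.node (.node (.leaf (nat_lit 3680186526361299648524)) (.leaf (nat_lit
    63799789135496082824816044081183))) (.leaf (nat_lit 0))) (.node (.node (.leaf (nat_lit
    22404254260688266133574)) (.leaf (nat_lit 1327947001081495554))) (.leaf (nat_lit
    1258390263420813329)))) (.node (.node (.node (.leaf (nat_lit 13217299588261710331923)) (.leaf
    (nat_lit 0))) (.leaf (nat_lit 0))) (.node (.node (.leaf (nat_lit 595771779964862481)) (.leaf
    (nat_lit 3220452893282926594))) (.leaf (nat_lit 67119943736097088143427))))) (.node (.node
    (.node (.node (.leaf (nat_lit 138915902530912272)) (.leaf (nat_lit 0))) (.leaf (nat_lit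
    28916152817615187935236))) (.node (.node (.leaf (nat_lit 25844383868794033078298)) (.leaf
    (nat_lit 3249641771295852217032245250))) (.leaf (nat_lit 0)))) (.node (.node (.node (.leaf
    (nat_lit 293735935814795280)) (.leaf (nat_lit 32266187377247934152706))) (.leaf (nat_lit
    55120574690039104208953))) (.node (.node (.leaf (nat_lit 22939225051668725039150)) (.leaf
    (nat_lit 2266822393811042306))) (.leaf (nat_lit 58006073644399205053679653945375)))))))) (.node
    (.node (.node (.node (.node (.node (.node (.leaf (nat_lit 876234277350069698573)) (.leaf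
    (nat_lit 60511724127382697106883398139935))) (.leaf (nat_lit 24295102401040787636270))) (.node
    (.node (.leaf (nat_lit 0)) (.leaf (nat_lit 44773105161738639310850))) (.leaf (nat_lit
    57435110914820285857832)))) (.node (.node (.node (.leaf (nat_lit 325513007885562775041474574))
    (.leaf (nat_lit 85825569086446525153309))) (.leaf (nat_lit 30096779483616467157059))) (.node
    (.node (.leaf (nat_lit 0)) (.leaf (nat_lit 112526584182249274446292560707586))) (.leaf (nat_lit
    0))))) (.node (.node (.node (.node (.leaf (nat_lit 5580765019022303669675924717610)) (.leaf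
    (nat_lit 0))) (.leaf (nat_lit 0))) (.node (.node (.leaf (nat_lit
    17767203478692568223446672408607)) (.leaf (nat_lit 3049874058054336514))) (.leaf (nat_lit 0))))
    (.node (.node (.node (.leaf (nat_lit 0)) (.leaf (nat_lit 53064822916855166599170))) (.leaf
    (nat_lit 52772559408198800572422))) (.node (.node (.leaf (nat_lit 32586809993508778344452))
    (.leaf (nat_lit 10393350412454531891202))) (.leaf (nat_lit
    59362894911771763300331910660111)))))) (.node (.node (.node (.node (.node (.leaf (nat_lit 0))
    (.leaf (nat_lit 0))) (.leaf (nat_lit 1252038925913030676))) (.node (.node (.leaf (nat_lit 0))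
    (.leaf (nat_lit 25482462536448828702722))) (.leaf (nat_lit 0)))) (.node (.node (.node (.leaf
    (nat_lit 6631804916531816759347)) (.leaf (nat_lit 88205263531915157372968))) (.leaf (nat_lit
    50415920718818616475667))) (.node (.node (.leaf (nat_lit 0)) (.leaf (nat_lit
    2499030436324442114))) (.leaf (nat_lit 2117740935050821700))))) (.node (.node (.node (.node
    (.leaf (nat_lit 7830881416784235397190)) (.leaf (nat_lit 2009386941761585169))) (.leaf (nat_lit
    0))) (.node (.node (.leaf (nat_lit 0)) (.leaf (nat_lit 3022006162754240514))) (.leaf (nat_lit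
    0)))) (.node (.node (.node (.leaf (nat_lit 0)) (.leaf (nat_lit 42245858758736134471682)))
    (.leaf (nat_lit 55156876095031846567940))) (.node (.node (.leaf (nat_lit 1108200823357308935))
    (.leaf (nat_lit 121136550401671170))) (.leaf (nat_lit 52934544195717009965114))))))) (.node
    (.node (.node (.node (.node (.node (.leaf (nat_lit 0)) (.leaf (nat_lit
    77597963185696517849100))) (.leaf (nat_lit 39762711803907058892804))) (.node (.node (.leaf
    (nat_lit 20559523556672701399092)) (.leaf (nat_lit 15304520473689706397698))) (.leaf (nat_lit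
    0)))) (.node (.node (.node (.leaf (nat_lit 352272801006223439)) (.leaf (nat_lit
    85922439826680915886154))) (.leaf (nat_lit 48792568958644421591067))) (.node (.node (.leaf
    (nat_lit 30280882960716001378308)) (.leaf (nat_lit 80772302307718338904066))) (.leaf (nat_lit
    2080445071139930132))))) (.node (.node (.node (.node (.leaf (nat_lit 4141393974508193513515))
    (.leaf (nat_lit 2304934567796146187))) (.leaf (nat_lit 43424465942221619920902))) (.node (.node
    (.leaf (nat_lit 0)) (.leaf (nat_lit 60697352984022143401986))) (.leaf (nat_lit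
    1937573976175935533)))) (.node (.node (.node (.leaf (nat_lit 494848157407117340)) (.leaf
    (nat_lit 2802301444349362226))) (.leaf (nat_lit 0))) (.node (.node (.leaf (nat_lit
    670928347525677073)) (.leaf (nat_lit 382343524902895618))) (.leaf (nat_lit 0)))))) (.node
    (.node (.node (.node (.node (.leaf (nat_lit 4242820383950701264937)) (.leaf (nat_lit
    78953874875574084894738))) (.leaf (nat_lit 1256716012772543329221214243))) (.node (.node (.leaf
    (nat_lit 22892816992985250201630)) (.leaf (nat_lit 3240001544276725734027034626))) (.leaf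
    (nat_lit 60552694827602361385015)))) (.node (.node (.node (.leaf (nat_lit 226178093113540624))
    (.leaf (nat_lit 59677945345546307960834))) (.leaf (nat_lit 1577288900794253391))) (.node (.node
    (.leaf (nat_lit 28860538275376281092134)) (.leaf (nat_lit 233884369687761928249933826))) (.leaf
    (nat_lit 0))))) (.node (.node (.node (.node (.leaf (nat_lit 6516610514313100031727895904287))
    (.leaf (nat_lit 0))) (.leaf (nat_lit 0))) (.node (.node (.leaf (nat_lit
    27984217159443958399031)) (.leaf (nat_lit 3093220147905822722))) (.leaf (nat_lit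
    58403755263479465050163)))) (.node (.node (.node (.leaf (nat_lit 0)) (.leaf (nat_lit
    25657648602715248590850))) (.leaf (nat_lit 0))) (.node (.leaf (nat_lit
    23280495869294106837026)) (.leaf (nat_lit 0)))))))))) (.node (.node (.node (.node (.node (.node
    (.node (.node (.node (.leaf (nat_lit 4835781679654246488997902)) (.leaf (nat_lit
    2367282654426658978190852140))) (.leaf (nat_lit 0))) (.node (.node (.leaf (nat_lit
    18935892994821110038553)) (.leaf (nat_lit 16272876040799580782594))) (.leaf (nat_lit
    55977782666437201166376)))) (.node (.node (.node (.leaf (nat_lit 0)) (.leaf (nat_lit 0)))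
    (.leaf (nat_lit 907941685349187601))) (.node (.node (.leaf (nat_lit 0)) (.leaf (nat_lit
    3166967055660482562))) (.leaf (nat_lit 0))))) (.node (.node (.node (.node (.leaf (nat_lit
    2591844389581794508805)) (.leaf (nat_lit 1846972993981513745))) (.leaf (nat_lit
    42612785838777216204809))) (.node (.node (.leaf (nat_lit 23787515183957406842892)) (.leaf
    (nat_lit 3031577136596123650))) (.leaf (nat_lit 1878621336675418132)))) (.node (.node (.node
    (.leaf (nat_lit 235748654638563331)) (.leaf (nat_lit 2332666682000146434))) (.leaf (nat_lit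
    1549990505272705035))) (.node (.node (.leaf (nat_lit 0)) (.leaf (nat_lit
    3561812110873688725883453442))) (.leaf (nat_lit 1507223900998729745)))))) (.node (.node (.node
    (.node (.node (.leaf (nat_lit 2119384931006272017804936151082)) (.leaf (nat_lit
    73226734060036344184903))) (.leaf (nat_lit 39901065199604784627718))) (.node (.node (.leaf
    (nat_lit 12415025824917692284946)) (.leaf (nat_lit 4997333804628951891970))) (.leaf (nat_lit
    0)))) (.node (.node (.node (.leaf (nat_lit 11529404771356803006477)) (.leaf (nat_lit
    87522705290061674643468))) (.leaf (nat_lit 49512571957112333336584))) (.node (.node (.leaf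
    (nat_lit 30866942430292750827574)) (.leaf (nat_lit 334346552405524482))) (.leaf (nat_lit
    68586421889598190977053))))) (.node (.node (.node (.node (.leaf (nat_lit
    7125165665595273969704)) (.leaf (nat_lit 1944647009923366915))) (.leaf (nat_lit
    1135371267508142108))) (.node (.node (.leaf (nat_lit 0)) (.leaf (nat_lit
    3294957295665481213404250114))) (.leaf (nat_lit 0)))) (.node (.node (.node (.leaf (nat_lit
    509902412916588594)) (.leaf (nat_lit 1899918949728382171711012866))) (.leaf (nat_lit
    54437436186954196779014))) (.node (.node (.leaf (nat_lit 679654484120567830)) (.leaf (nat_lit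
    718003379523158018))) (.leaf (nat_lit 69043127147133275406398))))))) (.node (.node (.node
    (.node (.node (.node (.leaf (nat_lit 1249785208125733928979)) (.leaf (nat_lit 0))) (.leaf
    (nat_lit 38775803395434852057100))) (.node (.node (.leaf (nat_lit 0)) (.leaf (nat_lit
    40834730388698922418178))) (.leaf (nat_lit 38896144943112115126324)))) (.node (.node (.node
    (.leaf (nat_lit 312512088404459758874263605)) (.leaf (nat_lit 71012841476969419964437))) (.leaf
    (nat_lit 1482010999862198279))) (.node (.node (.leaf (nat_lit 18096803714260453752866)) (.leaf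
    (nat_lit 3181889103486648322))) (.leaf (nat_lit 0))))) (.node (.node (.node (.node (.leaf
    (nat_lit 3721723087057223614496)) (.leaf (nat_lit 62462579124881842176032))) (.leaf (nat_lit
    0))) (.node (.node (.leaf (nat_lit 15366602692555572445209)) (.leaf (nat_lit
    3024259302597722114))) (.leaf (nat_lit 0)))) (.node (.node (.node (.leaf (nat_lit
    8679454872861250093123)) (.leaf (nat_lit 88224333026210764488797))) (.leaf (nat_lit
    53284470208218697760780))) (.node (.node (.leaf (nat_lit 0)) (.leaf (nat_lit
    3514755656595022005441658882))) (.leaf (nat_lit 61368986574144899034171530608655)))))) (.node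
    (.node (.node (.node (.node (.leaf (nat_lit 0)) (.leaf (nat_lit 0))) (.leaf (nat_lit 0)))
    (.node (.node (.leaf (nat_lit 18700787646139528839235)) (.leaf (nat_lit
    15350595915356861300738))) (.leaf (nat_lit 0)))) (.node (.node (.node (.leaf (nat_lit
    401395578921156619)) (.leaf (nat_lit 0))) (.leaf (nat_lit 50895547042680063328283))) (.node
    (.node (.leaf (nat_lit 22312996827235256842761667936305)) (.leaf (nat_lit
    3526213381211531035384479746))) (.leaf (nat_lit 47898432048292157390917))))) (.node (.node
    (.node (.node (.leaf (nat_lit 133849215511166992)) (.leaf (nat_lit 84004423865015304650845)))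
    (.leaf (nat_lit 0))) (.node (.node (.leaf (nat_lit 0)) (.leaf (nat_lit
    107800808833377276364550534660098))) (.leaf (nat_lit 65095933719840072859742)))) (.node (.node
    (.node (.leaf (nat_lit 0)) (.leaf (nat_lit 15382800368028249948162))) (.leaf (nat_lit
    55498153245706765402167))) (.node (.node (.leaf (nat_lit 1120586134649438236)) (.leaf (nat_lit
    3380477082604797954))) (.leaf (nat_lit 53524861117119875711034)))))))) (.node (.node (.node
    (.node (.node (.node (.node (.leaf (nat_lit 505087998652143869728188071967)) (.leaf (nat_lit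
    76302672903287045554219))) (.leaf (nat_lit 38549913668560294707223))) (.node (.node (.leaf
    (nat_lit 327795919825272849)) (.leaf (nat_lit 16254487276666948354050))) (.leaf (nat_lit
    38683991904590980382757)))) (.node (.node (.node (.leaf (nat_lit 10205818372050475221011))
    (.leaf (nat_lit 69361848593157017763863))) (.leaf (nat_lit 0))) (.node (.node (.leaf (nat_lit
    31028304905356901148846230667306)) (.leaf (nat_lit 3173727205335367682))) (.leaf (nat_lit
    45869227006303056101428))))) (.node (.node (.node (.node (.leaf (nat_lit 0)) (.leaf (nat_lit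
    81487967094940733041910604955697))) (.leaf (nat_lit 0))) (.node (.node (.leaf (nat_lit
    14905422549706212573205)) (.leaf (nat_lit 3030733141162721282))) (.leaf (nat_lit
    61954665111072712884291)))) (.node (.node (.node (.leaf (nat_lit 14803764897592400609306))
    (.leaf (nat_lit
    4632681963669160096769401677624660653245374543527683827837485011175657593765349952471419300451137739438817370)))
    (.leaf (nat_lit 35626303473207528849471))) (.node (.node (.leaf (nat_lit 0)) (.leaf (nat_lit
    267358711993991170))) (.leaf (nat_lit 59194531439688383693801885335601)))))) (.node (.node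
    (.node (.node (.node (.leaf (nat_lit 94859983434416156)) (.leaf (nat_lit 0))) (.leaf (nat_lit
    0))) (.node (.node (.leaf (nat_lit 21878222705271207297094)) (.leaf (nat_lit
    3151110512260577653885763586))) (.leaf (nat_lit 40833094730797438664750)))) (.node (.node
    (.node (.leaf (nat_lit 6511898124419420323864)) (.leaf (nat_lit 88039240583331698638903)))
    (.leaf (nat_lit 35653332317149424111882453975089))) (.node (.node (.leaf (nat_lit
    18788580403317951365189)) (.leaf (nat_lit 3258731291092320258))) (.leaf (nat_lit 0))))) (.node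
    (.node (.node (.node (.leaf (nat_lit 7853923379821435617360)) (.leaf (nat_lit 0))) (.leaf
    (nat_lit 0))) (.node (.node (.leaf (nat_lit 16058380085309101768708)) (.leaf (nat_lit
    3119114814971052034))) (.leaf (nat_lit 43535643087823131836440)))) (.node (.node (.node (.leaf
    (nat_lit 9472686261778258264082)) (.leaf (nat_lit 26547678670772211220482))) (.leaf (nat_lit
    1114269990103678993))) (.node (.node (.leaf (nat_lit 35990288179627815010334)) (.leaf (nat_lit
    260044271019753474))) (.leaf (nat_lit 73945374718010658586636))))))) (.node (.node (.node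
    (.node (.node (.node (.leaf (nat_lit 0)) (.leaf (nat_lit 0))) (.leaf (nat_lit 0))) (.node
    (.node (.leaf (nat_lit 20596130925377445101623)) (.leaf (nat_lit 58469825047570552127490)))
    (.leaf (nat_lit 39698601814028791775279)))) (.node (.node (.node (.leaf (nat_lit
    10948309814469879595038)) (.leaf (nat_lit 0))) (.leaf (nat_lit 47999354741187051454504)))
    (.node (.node (.leaf (nat_lit 565089220797005827)) (.leaf (nat_lit 2230674319751931691010)))
    (.leaf (nat_lit 1585554613507890790195789889))))) (.node (.node (.node (.node (.leaf (nat_lit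
    4189254980902402323145612918799)) (.leaf (nat_lit 65584705055859650265165))) (.leaf (nat_lit
    40205506004997120393253))) (.node (.node (.leaf (nat_lit 24903580215999769804867)) (.leaf
    (nat_lit 3058879341753663490))) (.leaf (nat_lit 1312999020242796566)))) (.node (.node (.node
    (.leaf (nat_lit 0)) (.leaf (nat_lit 82639597174782003707906))) (.leaf (nat_lit 0))) (.node
    (.node (.leaf (nat_lit 21943070189129241395204)) (.leaf (nat_lit 3335860777650356226))) (.leaf
    (nat_lit 0)))))) (.node (.node (.node (.node (.node (.leaf (nat_lit 4159806376298282156072))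
    (.leaf (nat_lit 1831772795483324433))) (.leaf (nat_lit 41755001824208648077318))) (.node (.node
    (.leaf (nat_lit 13300507400489385787461)) (.leaf (nat_lit 46009093323661229883394))) (.leaf
    (nat_lit 0)))) (.node (.node (.node (.leaf (nat_lit 8029164076942284226612)) (.leaf (nat_lit
    2725738317948780623))) (.leaf (nat_lit 1572785013404074034))) (.node (.node (.leaf (nat_lit
    22293189333693027859045036654607)) (.leaf (nat_lit 3203000937920724994))) (.leaf (nat_lit
    0))))) (.node (.node (.node (.node (.leaf (nat_lit 0)) (.leaf (nat_lit 0))) (.leaf (nat_lit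
    46717272811835142373388))) (.node (.node (.leaf (nat_lit 26351678619916183994409)) (.leaf
    (nat_lit 3029043827445989378))) (.leaf (nat_lit 2004444499555778588)))) (.node (.node (.node
    (.leaf (nat_lit 19322078983184661631488055640106)) (.leaf (nat_lit 24739920553585884200962)))
    (.leaf (nat_lit 1814200060433189022816534563))) (.node (.leaf (nat_lit
    37004870645246807179304)) (.leaf (nat_lit 66364852423779659624700465971249))))))))) (.node
    (.node (.node (.node (.node (.node (.node (.node (.leaf (nat_lit 359719954129019404320)) (.leaf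
    (nat_lit 0))) (.leaf (nat_lit 38203943069343333679145))) (.node (.node (.leaf (nat_lit
    19240272435086520156172)) (.leaf (nat_lit 24919791244628849786882))) (.leaf (nat_lit
    1823268212378909624775213091)))) (.node (.node (.node (.leaf (nat_lit 9454108343493453873207))
    (.leaf (nat_lit 0))) (.leaf (nat_lit 0))) (.node (.node (.leaf (nat_lit 0)) (.leaf (nat_lit
    19192253128759209820162))) (.leaf (nat_lit 1561242819972880432546185251))))) (.node (.node
    (.node (.node (.leaf (nat_lit 0)) (.leaf (nat_lit 80669462607504324362263))) (.leaf (nat_lit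
    26619461119648855162927))) (.node (.node (.leaf (nat_lit 459248857117753366)) (.leaf (nat_lit
    3029606828939018242))) (.leaf (nat_lit 0)))) (.node (.node (.node (.leaf (nat_lit
    14637740119266974433292)) (.leaf (nat_lit 2356592441567608834))) (.leaf (nat_lit 0))) (.node
    (.node (.leaf (nat_lit 0)) (.leaf (nat_lit 9199004771103304515586))) (.leaf (nat_lit 0))))))
    (.node (.node (.node (.node (.node (.leaf (nat_lit 1438888402366155128853)) (.leaf (nat_lit
    78354302211412531019802))) (.leaf (nat_lit 849810780466577419))) (.node (.node (.leaf (nat_lit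
    21297143511257857589266)) (.leaf (nat_lit 10540589436815792078850))) (.leaf (nat_lit
    63893974870855656772164431183933)))) (.node (.node (.node (.leaf (nat_lit
    6511896294557193797686)) (.leaf (nat_lit 2147032191102746640))) (.leaf (nat_lit
    963394729662349328))) (.node (.node (.leaf (nat_lit 666892009594068767684689934)) (.leaf
    (nat_lit 3250568353558953986))) (.leaf (nat_lit 68586425267564199477289))))) (.node (.node
    (.node (.node (.leaf (nat_lit 228846186927357959)) (.leaf (nat_lit 0))) (.leaf (nat_lit
    28353506433985595768870))) (.node (.node (.leaf (nat_lit 26001173311176323563558)) (.leaf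
    (nat_lit 3112363461389189122))) (.leaf (nat_lit 1958562695372472340)))) (.node (.node (.node
    (.leaf (nat_lit 491293855581647283287228451)) (.leaf (nat_lit 36536600761738335551490))) (.leaf
    (nat_lit 0))) (.node (.node (.leaf (nat_lit 0)) (.leaf (nat_lit 436106542534754306))) (.leaf
    (nat_lit 0))))))) (.node (.node (.node (.node (.node (.node (.leaf (nat_lit 0)) (.leaf (nat_lit
    2520536304853628517878071349))) (.leaf (nat_lit 761004325802737680))) (.node (.node (.leaf
    (nat_lit 11188288351277362118690)) (.leaf (nat_lit 28793621267994890141698))) (.leaf (nat_lit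
    40205880098160430481413)))) (.node (.node (.node (.leaf (nat_lit 0)) (.leaf (nat_lit
    71165032604605857595469))) (.leaf (nat_lit 30189017004584395276312))) (.node (.node (.leaf
    (nat_lit 29220534212666243350580)) (.leaf (nat_lit 1718628277452470943746))) (.leaf (nat_lit
    0))))) (.node (.node (.node (.node (.leaf (nat_lit 0)) (.leaf (nat_lit 0))) (.leaf (nat_lit
    27006856257129509224469))) (.node (.node (.leaf (nat_lit 24626875958411684675602)) (.leaf
    (nat_lit 51930525613293979238402))) (.leaf (nat_lit 57702704395198333648942)))) (.node (.node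
    (.node (.leaf (nat_lit 0)) (.leaf (nat_lit 85932334374949333696619))) (.leaf (nat_lit 0)))
    (.node (.node (.leaf (nat_lit 23897608738860113711088194093105)) (.leaf (nat_lit
    11426419009050332299266))) (.leaf (nat_lit 0)))))) (.node (.node (.node (.node (.node (.leaf
    (nat_lit 3251301415634851790917)) (.leaf (nat_lit 0))) (.leaf (nat_lit 0))) (.node (.node
    (.leaf (nat_lit 698642225298538524)) (.leaf (nat_lit 529910182779616678000197634))) (.leaf
    (nat_lit 1260360725696741398)))) (.node (.node (.node (.leaf (nat_lit 13032833555002577584168))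
    (.leaf (nat_lit 71663705059824448503810))) (.leaf (nat_lit 0))) (.node (.node (.leaf (nat_lit
    0)) (.leaf (nat_lit 3428577559522364053596143618))) (.leaf (nat_lit 0))))) (.node (.node (.node
    (.node (.leaf (nat_lit 5744127164976145565700894031921)) (.leaf (nat_lit
    2672695144583161068845793324))) (.leaf (nat_lit 0))) (.node (.node (.leaf (nat_lit
    16602569028678430425131)) (.leaf (nat_lit 3226037091767250696328708098))) (.leaf (nat_lit 0))))
    (.node (.node (.node (.leaf (nat_lit 0)) (.leaf (nat_lit 26483134613511687307266))) (.leaf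
    (nat_lit 49535247446262501539887))) (.node (.leaf (nat_lit 0)) (.leaf (nat_lit
    53903030911379844562978)))))))) (.node (.node (.node (.node (.node (.node (.node (.leaf
    (nat_lit 0)) (.leaf (nat_lit 56596315220485769199683))) (.leaf (nat_lit
    37489138914648750489674))) (.node (.node (.leaf (nat_lit 0)) (.leaf (nat_lit
    32708935961228351832066))) (.leaf (nat_lit 42271892775113339371566)))) (.node (.node (.node
    (.leaf (nat_lit 177761236023377936)) (.leaf (nat_lit 86056155076363783700489))) (.leaf (nat_lit
    48156142494856920629267))) (.node (.node (.leaf (nat_lit 0)) (.leaf (nat_lit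
    3197371257997885442))) (.leaf (nat_lit 0))))) (.node (.node (.node (.node (.leaf (nat_lit
    5667933962502135808058)) (.leaf (nat_lit 1899046689306705923))) (.leaf (nat_lit 0))) (.node
    (.node (.leaf (nat_lit 751561161597648916)) (.leaf (nat_lit 579326760299671676925509634)))
    (.leaf (nat_lit 0)))) (.node (.node (.node (.leaf (nat_lit 8725570606879329157128)) (.leaf
    (nat_lit 53304633687292265037826))) (.leaf (nat_lit 0))) (.node (.node (.leaf (nat_lit
    33656726638683417149467)) (.leaf (nat_lit 399793023543803906))) (.leaf (nat_lit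
    60764848712865376417498848886833)))))) (.node (.node (.node (.node (.node (.leaf (nat_lit 0))
    (.leaf (nat_lit 1783076799878660118))) (.leaf (nat_lit 0))) (.node (.node (.leaf (nat_lit
    680345802056531979)) (.leaf (nat_lit 67854636623019221647362))) (.leaf (nat_lit
    59307516520716803702811)))) (.node (.node (.node (.leaf (nat_lit 0)) (.leaf (nat_lit
    87476626148348913713199))) (.leaf (nat_lit 36292533863062462384424356216881))) (.node (.node
    (.leaf (nat_lit 0)) (.leaf (nat_lit 3267457238708649986))) (.leaf (nat_lit
    2122244796671197229))))) (.node (.node (.node (.node (.leaf (nat_lit 0)) (.leaf (nat_lit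
    64602466460075915673605))) (.leaf (nat_lit 0))) (.node (.node (.leaf (nat_lit
    493591553055522838)) (.leaf (nat_lit 3072390260894859266))) (.leaf (nat_lit
    1373236039648411670)))) (.node (.node (.node (.leaf (nat_lit 17312555026645896069143)) (.leaf
    (nat_lit 14695652104224783925250))) (.leaf (nat_lit 0))) (.node (.node (.leaf (nat_lit
    705269531634958352)) (.leaf (nat_lit 199105350878756866))) (.leaf (nat_lit 0))))))) (.node
    (.node (.node (.node (.node (.node (.leaf (nat_lit 36453101133234193)) (.leaf (nat_lit
    2374454046615535684))) (.leaf (nat_lit 0))) (.node (.node (.leaf (nat_lit 0)) (.leaf (nat_lit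
    74809032978093203193858))) (.leaf (nat_lit 1227989454107574289)))) (.node (.node (.node (.leaf
    (nat_lit 188176909673299985)) (.leaf (nat_lit 0))) (.leaf (nat_lit
    1541560973060391572292763681))) (.node (.node (.leaf (nat_lit 29340103798160267345961)) (.leaf
    (nat_lit 2412335258734297090))) (.leaf (nat_lit 0))))) (.node (.node (.node (.node (.leaf
    (nat_lit 189807187595594965063041057)) (.leaf (nat_lit 87822127748881749707964383821866)))
    (.leaf (nat_lit 0))) (.node (.node (.leaf (nat_lit 18668588600677347033109)) (.leaf (nat_lit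
    648538953138423400652603394))) (.leaf (nat_lit 0)))) (.node (.node (.node (.leaf (nat_lit 0))
    (.leaf (nat_lit 63104505894470601080834))) (.leaf (nat_lit 35391155619863139123225))) (.node
    (.node (.leaf (nat_lit 35215510572474977943561)) (.leaf (nat_lit 3240862796916850690))) (.leaf
    (nat_lit 1894286802605758273571520556)))))) (.node (.node (.node (.node (.node (.leaf (nat_lit
    140599658559963181)) (.leaf (nat_lit 0))) (.leaf (nat_lit 0))) (.node (.node (.leaf (nat_lit
    0)) (.leaf (nat_lit 3232694692104970475497848834))) (.leaf (nat_lit 0)))) (.node (.node (.node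
    (.leaf (nat_lit 13936743155496877490188)) (.leaf (nat_lit 59396634327163477360642))) (.leaf
    (nat_lit 1581792771004563535))) (.node (.node (.leaf (nat_lit 619134890226614288)) (.leaf
    (nat_lit 13727687539774917378050))) (.leaf (nat_lit 48544087654207506808902))))) (.node (.node
    (.node (.node (.leaf (nat_lit 4731731023270269616174)) (.leaf (nat_lit 0))) (.leaf (nat_lit
    0))) (.node (.node (.leaf (nat_lit 17792411325029423448082)) (.leaf (nat_lit
    1047486659337345350091669506))) (.leaf (nat_lit 0)))) (.node (.node (.node (.leaf (nat_lit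
    512295754925305505585037365)) (.leaf (nat_lit 15230629650853791989762))) (.leaf (nat_lit 0)))
    (.node (.leaf (nat_lit 37664762967833041895495)) (.leaf (nat_lit
    2354911650506680832283115555))))))))))) (.node (.node (.node (.node (.node (.node (.node (.node
    (.node (.node (.leaf (nat_lit 0)) (.leaf (nat_lit 2368793516552146116680089633))) (.leaf
    (nat_lit 0))) (.node (.node (.leaf (nat_lit 18898999506622151327765)) (.leaf (nat_lit
    2883798848222920706))) (.leaf (nat_lit 1150863317624029187)))) (.node (.node (.node (.leaf
    (nat_lit 9454101306275438723084)) (.leaf (nat_lit 0))) (.leaf (nat_lit 0))) (.node (.node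
    (.leaf (nat_lit 0)) (.leaf (nat_lit 3040585409592688642))) (.leaf (nat_lit
    48036710427137608450095))))) (.node (.node (.node (.node (.leaf (nat_lit 0)) (.leaf (nat_lit
    2453253854544920655))) (.leaf (nat_lit 0))) (.node (.node (.leaf (nat_lit
    23713727081693942317065)) (.leaf (nat_lit 1512465399724957995964301314))) (.leaf (nat_lit
    51190979528879165866022)))) (.node (.node (.node (.leaf (nat_lit 0)) (.leaf (nat_lit
    80112332712438451601410))) (.leaf (nat_lit 0))) (.node (.node (.leaf (nat_lit
    618009196478201878)) (.leaf (nat_lit 257307585149385262762295298))) (.leaf (nat_lit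
    2163764215456858123)))))) (.node (.node (.node (.node (.node (.leaf (nat_lit
    1235968587712218464277)) (.leaf (nat_lit 1882858785769390097))) (.leaf (nat_lit 0))) (.node
    (.node (.leaf (nat_lit 21251007510448749871145)) (.leaf (nat_lit 16720238847036743680002)))
    (.leaf (nat_lit 40002981958179212165174)))) (.node (.node (.node (.leaf (nat_lit
    7813989961068327841074122129423)) (.leaf (nat_lit 0))) (.leaf (nat_lit
    31434206148041807953958))) (.node (.node (.leaf (nat_lit 18493422223683473309739)) (.leaf
    (nat_lit 581622242136424450))) (.leaf (nat_lit 0))))) (.node (.node (.node (.node (.leaf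
    (nat_lit 3767851629458053333029)) (.leaf (nat_lit 82750006143939070066782))) (.leaf (nat_lit
    1407687758992773337019842595))) (.node (.node (.leaf (nat_lit 794346672317661212)) (.leaf
    (nat_lit 3072392734796021762))) (.leaf (nat_lit 1947584827683373076)))) (.node (.node (.node
    (.leaf (nat_lit 15283398259479316463671)) (.leaf (nat_lit 78632054126813917675522))) (.leaf
    (nat_lit 0))) (.node (.node (.leaf (nat_lit 0)) (.leaf (nat_lit 2255842988523651074))) (.leaf
    (nat_lit 68148456963256308924476))))))) (.node (.node (.node (.node (.node (.node (.leaf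
    (nat_lit 38844745082077187)) (.leaf (nat_lit 82329796990925389808272434069553))) (.leaf
    (nat_lit 39057560269283144171578))) (.node (.node (.leaf (nat_lit 19166782837877670871112))
    (.leaf (nat_lit 8774310834818871656450))) (.leaf (nat_lit 0)))) (.node (.node (.node (.leaf
    (nat_lit 10570147056749321060407)) (.leaf (nat_lit 86291872213771988697159))) (.leaf (nat_lit
    30096781313547413160005))) (.node (.node (.leaf (nat_lit 0)) (.leaf (nat_lit
    3351766479184315103555354626))) (.leaf (nat_lit 0))))) (.node (.node (.node (.node (.leaf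
    (nat_lit 3080692960190074650661)) (.leaf (nat_lit 62471800245050163789867))) (.leaf (nat_lit
    0))) (.node (.node (.leaf (nat_lit 0)) (.leaf (nat_lit 687374486936655276544360450))) (.leaf
    (nat_lit 0)))) (.node (.node (.node (.leaf (nat_lit 15444882280289285636134)) (.leaf (nat_lit
    2274121089435172866))) (.leaf (nat_lit 34505683052246614605829))) (.node (.node (.leaf (nat_lit
    21278967276396387434539)) (.leaf (nat_lit 3256482755453779970))) (.leaf (nat_lit
    1529179979974311958)))))) (.node (.node (.node (.node (.node (.leaf (nat_lit 0)) (.leaf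
    (nat_lit 0))) (.leaf (nat_lit 38734534240175871164459))) (.node (.node (.leaf (nat_lit
    17225048120165455298618)) (.leaf (nat_lit 17923915037897723674626))) (.leaf (nat_lit
    45279751275288745692914002493489)))) (.node (.node (.node (.leaf (nat_lit 214636863154159632))
    (.leaf (nat_lit 0))) (.leaf (nat_lit 0))) (.node (.node (.leaf (nat_lit 583668149807874064))
    (.leaf (nat_lit 3523795723245663205508513794))) (.leaf (nat_lit 2128297268879687708))))) (.node
    (.node (.node (.node (.leaf (nat_lit 255444429765214276)) (.leaf (nat_lit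
    2511257117294460930))) (.leaf (nat_lit 0))) (.node (.node (.leaf (nat_lit 0)) (.leaf (nat_lit
    3245986424587930645022638082))) (.leaf (nat_lit 0)))) (.node (.node (.node (.leaf (nat_lit
    303868828817948694)) (.leaf (nat_lit 2844953935637250050))) (.leaf (nat_lit 0))) (.node (.node
    (.leaf (nat_lit 36331559137904785817638)) (.leaf (nat_lit 110706898932904296120322))) (.leaf
    (nat_lit 1632764970427088899)))))))) (.node (.node (.node (.node (.node (.node (.node (.leaf
    (nat_lit 0)) (.leaf (nat_lit 0))) (.leaf (nat_lit 24331994340869676400683))) (.node (.node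
    (.leaf (nat_lit 10883900747610562166851)) (.leaf (nat_lit 15073844682818106621954))) (.leaf
    (nat_lit 54995307650537336604740211245071)))) (.node (.node (.node (.leaf (nat_lit
    5340488637395622887475)) (.leaf (nat_lit 0))) (.leaf (nat_lit 1461744183063740436))) (.node
    (.node (.leaf (nat_lit 20333461580946486788121)) (.leaf (nat_lit
    1348202881093562128113336322))) (.leaf (nat_lit 46062916974583356784644))))) (.node (.node
    (.node (.node (.leaf (nat_lit 5409588065750583803930)) (.leaf (nat_lit 0))) (.leaf (nat_lit
    0))) (.node (.node (.leaf (nat_lit 24257921372804360634395)) (.leaf (nat_lit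
    656395449356525730651176962))) (.leaf (nat_lit 61936216678080423591959)))) (.node (.node (.node
    (.leaf (nat_lit 10151262917947549177420171247665)) (.leaf (nat_lit
    2739509524485180311252238350))) (.leaf (nat_lit 52601918721816195694618))) (.node (.node (.leaf
    (nat_lit 1030089086368612355)) (.leaf (nat_lit 9046734252465279139842))) (.leaf (nat_lit
    49521794786471480328240)))))) (.node (.node (.node (.node (.node (.leaf (nat_lit
    92889589877964828)) (.leaf (nat_lit 76796174819301227954250))) (.leaf (nat_lit
    783523629609648144))) (.node (.node (.leaf (nat_lit 384655995424604163)) (.leaf (nat_lit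
    3155342306030706285871366146))) (.leaf (nat_lit 59372071117423345074217)))) (.node (.node
    (.node (.leaf (nat_lit 374924138255707251776159777)) (.leaf (nat_lit 2171239245258293251)))
    (.leaf (nat_lit 31710919835342260600836))) (.node (.node (.leaf (nat_lit
    26541931623011351964266600398879)) (.leaf (nat_lit 3412274626841473607153221634))) (.leaf
    (nat_lit 0))))) (.node (.node (.node (.node (.leaf (nat_lit 7342041572707687137337)) (.leaf
    (nat_lit 64150510111664854204464))) (.leaf (nat_lit 875570345040543760))) (.node (.node (.leaf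
    (nat_lit 0)) (.leaf (nat_lit 3311615134459382320010100738))) (.leaf (nat_lit
    1965881250925379604)))) (.node (.node (.node (.leaf (nat_lit 0)) (.leaf (nat_lit
    38215261503925843591170))) (.leaf (nat_lit 1677079128727224327))) (.node (.node (.leaf (nat_lit
    0)) (.leaf (nat_lit 317042867904315394))) (.leaf (nat_lit 52261219318734501642264))))))) (.node
    (.node (.node (.node (.node (.node (.leaf (nat_lit 1544943246876694741052)) (.leaf (nat_lit
    75817845064045173080133))) (.leaf (nat_lit 0))) (.node (.node (.leaf (nat_lit
    20762151199759646523401)) (.leaf (nat_lit 39229886288317164748802))) (.leaf (nat_lit 0))))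
    (.node (.node (.node (.leaf (nat_lit 10367385854155293917254)) (.leaf (nat_lit 0))) (.leaf
    (nat_lit 0))) (.node (.node (.leaf (nat_lit 0)) (.leaf (nat_lit 125229533977408128749404162)))
    (.leaf (nat_lit 72995503471363996953778715951165))))) (.node (.node (.node (.node (.leaf
    (nat_lit 199853370972962823)) (.leaf (nat_lit 0))) (.leaf (nat_lit 43931746900442846789673)))
    (.node (.node (.leaf (nat_lit 0)) (.leaf (nat_lit 3179196113667886447128215554))) (.leaf
    (nat_lit 54801958956354655944742)))) (.node (.node (.node (.leaf (nat_lit 489218451714474012))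
    (.leaf (nat_lit 2707733789274144770))) (.leaf (nat_lit 0))) (.node (.node (.leaf (nat_lit 0))
    (.leaf (nat_lit 6708670124406281011202))) (.leaf (nat_lit 0)))))) (.node (.node (.node (.node
    (.node (.leaf (nat_lit 0)) (.leaf (nat_lit 2433988430846361620))) (.leaf (nat_lit
    841508574323671056))) (.node (.node (.leaf (nat_lit 13328176953589867151385)) (.leaf (nat_lit
    48052068560430904311810))) (.leaf (nat_lit 41045257199211329552408)))) (.node (.node (.node
    (.leaf (nat_lit 253882151522431902566056001)) (.leaf (nat_lit 2485507156267368470))) (.leaf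
    (nat_lit 0))) (.node (.node (.leaf (nat_lit 993074044599402503)) (.leaf (nat_lit
    3430373317646272079319007234))) (.leaf (nat_lit 0))))) (.node (.node (.node (.node (.leaf
    (nat_lit 0)) (.leaf (nat_lit 0))) (.leaf (nat_lit 898652392642445329))) (.node (.node (.leaf
    (nat_lit 0)) (.leaf (nat_lit 46405940129863255130114))) (.leaf (nat_lit
    2108430881378197065833906220)))) (.node (.node (.node (.leaf (nat_lit 0)) (.leaf (nat_lit
    18389627492591605055490))) (.leaf (nat_lit 0))) (.node (.leaf (nat_lit 0)) (.leaf (nat_lit
    75033788914385656414248))))))))) (.node (.node (.node (.node (.node (.node (.node (.node (.leaf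
    (nat_lit 359718968880701571102)) (.leaf (nat_lit 75960797599221256749147))) (.leaf (nat_lit
    0))) (.node (.node (.leaf (nat_lit 14803829359416516476995)) (.leaf (nat_lit
    2894494192963289090))) (.leaf (nat_lit 56762363624223699828770)))) (.node (.node (.node (.leaf
    (nat_lit 9343424501256986755112)) (.leaf (nat_lit 85272156630655040684073))) (.leaf (nat_lit
    32951407076821394718724))) (.node (.node (.leaf (nat_lit 17534164086099022118981)) (.leaf
    (nat_lit 52170556928850028331010))) (.leaf (nat_lit 66267338154749674586144))))) (.node (.node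
    (.node (.node (.leaf (nat_lit 0)) (.leaf (nat_lit 0))) (.leaf (nat_lit
    42068609703532940165125))) (.node (.node (.leaf (nat_lit 23935096314356557873165)) (.leaf
    (nat_lit 60392952452551027130370))) (.leaf (nat_lit 59590683733005688193047949803569)))) (.node
    (.node (.node (.leaf (nat_lit 8126037772320333037572)) (.leaf (nat_lit 2367851277427277826)))
    (.leaf (nat_lit 0))) (.node (.node (.leaf (nat_lit 0)) (.leaf (nat_lit 3310524980319617026)))
    (.leaf (nat_lit 0)))))) (.node (.node (.node (.node (.node (.leaf (nat_lit 0)) (.leaf (nat_lit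
    0))) (.leaf (nat_lit 25143674444460109004843))) (.node (.node (.leaf (nat_lit
    21177237985868755697731)) (.leaf (nat_lit 19671727453607792148482))) (.leaf (nat_lit 0))))
    (.node (.node (.node (.leaf (nat_lit 6465779434312790376506)) (.leaf (nat_lit
    2148720972243533827))) (.leaf (nat_lit 1145790445851377675))) (.node (.node (.leaf (nat_lit
    951002102916531381468397621)) (.leaf (nat_lit 244158532220983825322475522))) (.leaf (nat_lit
    46856158356128326156312))))) (.node (.node (.node (.node (.leaf (nat_lit
    6009139056734067949614)) (.leaf (nat_lit 0))) (.leaf (nat_lit 29829246241280027197510))) (.node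
    (.node (.leaf (nat_lit 25936609706841030721570)) (.leaf (nat_lit 575852813907472210458836994)))
    (.leaf (nat_lit 1321725500435070979)))) (.node (.node (.node (.leaf (nat_lit
    15647725958809585385531)) (.leaf (nat_lit 32436809903688472788994))) (.leaf (nat_lit
    54640354031154447450124))) (.node (.node (.leaf (nat_lit 0)) (.leaf (nat_lit
    368974726229524482))) (.leaf (nat_lit 74159099109254639316977079091215))))))) (.node (.node
    (.node (.node (.node (.node (.leaf (nat_lit 1272873615500459049017)) (.leaf (nat_lit
    2353484122195886108))) (.leaf (nat_lit 24793175328418844311622))) (.node (.node (.leaf (nat_lit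
    20033501290118852575262)) (.leaf (nat_lit 90087539615313839718402))) (.leaf (nat_lit
    58163784046473075949580)))) (.node (.node (.node (.leaf (nat_lit 10883742550710781411349))
    (.leaf (nat_lit 0))) (.leaf (nat_lit 48478963894327594647593))) (.node (.node (.leaf (nat_lit
    567903626966728720)) (.leaf (nat_lit 542918290377408514))) (.leaf (nat_lit 0))))) (.node (.node
    (.node (.node (.leaf (nat_lit 3126815168673783939106)) (.leaf (nat_lit 0))) (.leaf (nat_lit
    43747276644689696194601))) (.node (.node (.leaf (nat_lit 15855447180960646496323)) (.leaf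
    (nat_lit 3256003642969384280119312386))) (.leaf (nat_lit 0)))) (.node (.node (.node (.leaf
    (nat_lit 8808583488949669003287)) (.leaf (nat_lit 2638349992766603280))) (.leaf (nat_lit
    53385936308029513465869))) (.node (.node (.leaf (nat_lit 0)) (.leaf (nat_lit
    7944585930084282728450))) (.leaf (nat_lit 0)))))) (.node (.node (.node (.node (.node (.leaf
    (nat_lit 3901548440476952231949)) (.leaf (nat_lit 0))) (.leaf (nat_lit
    41662763318439078723588))) (.node (.node (.leaf (nat_lit 13199047211515642052677)) (.leaf
    (nat_lit 27405548518741771485186))) (.leaf (nat_lit 60534238794356204175386)))) (.node (.node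
    (.node (.leaf (nat_lit 8550274182098253447173)) (.leaf (nat_lit
    4477619389157589783536903675633260273155610001884393392411531367104320501894638188451334465391037423400910954)))
    (.leaf (nat_lit 51116914164220224012292))) (.node (.node (.leaf (nat_lit
    19305105000719248982040)) (.leaf (nat_lit 145783394288815373308657666))) (.leaf (nat_lit
    69656373016625707941906))))) (.node (.node (.node (.node (.leaf (nat_lit 263468648444854283))
    (.leaf (nat_lit 1998691511121870864))) (.leaf (nat_lit 46320657399341241270327))) (.node (.node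
    (.leaf (nat_lit 16565674696037361713186)) (.leaf (nat_lit 8428539417154099019778))) (.leaf
    (nat_lit 1993888590928674838)))) (.node (.node (.node (.leaf (nat_lit 17995089061462403121181))
    (.leaf (nat_lit 19911481364420262821890))) (.leaf (nat_lit 1136507269178064918))) (.node (.node
    (.leaf (nat_lit 0)) (.leaf (nat_lit 112228804772935292354562))) (.leaf (nat_lit
    74674063330933196652585)))))))) (.node (.node (.node (.node (.node (.node (.node (.leaf
    (nat_lit 22941134020018179)) (.leaf (nat_lit 55766208781612864438293))) (.leaf (nat_lit 0)))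
    (.node (.node (.leaf (nat_lit 346091999469895697)) (.leaf (nat_lit 17310515501270078521346)))
    (.leaf (nat_lit 0)))) (.node (.node (.node (.leaf (nat_lit 8587117564951038984230)) (.leaf
    (nat_lit 0))) (.leaf (nat_lit 48216644977304814157912))) (.node (.node (.leaf (nat_lit
    29326343188213395554327)) (.leaf (nat_lit 112605813553707809083195713191938))) (.leaf (nat_lit
    2047915315257540658))))) (.node (.node (.node (.node (.leaf (nat_lit 174377205521055789))
    (.leaf (nat_lit 2480276676374822957))) (.leaf (nat_lit 1370056922110882259423985678))) (.node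
    (.node (.leaf (nat_lit 15873884635818958716951)) (.leaf (nat_lit 26962972776657800331266)))
    (.leaf (nat_lit 62286707630505550086169)))) (.node (.node (.node (.leaf (nat_lit
    8661005876644129472564)) (.leaf (nat_lit 2213181387610128386))) (.leaf (nat_lit
    52924743639526510100493))) (.node (.node (.leaf (nat_lit 32125641813930044227621)) (.leaf
    (nat_lit 10476361605254104678402))) (.leaf (nat_lit 55733744720012636258309)))))) (.node (.node
    (.node (.node (.node (.leaf (nat_lit 2255168227836805971993)) (.leaf (nat_lit 0))) (.leaf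
    (nat_lit 777894404953341969))) (.node (.node (.leaf (nat_lit 0)) (.leaf (nat_lit
    67375020433261958725634))) (.leaf (nat_lit 60022896853679396290641)))) (.node (.node (.node
    (.leaf (nat_lit 13434499928499229136055630626865)) (.leaf (nat_lit
    2883980481003784197397282830))) (.leaf (nat_lit 34039824230401634926639))) (.node (.node (.leaf
    (nat_lit 19092957450968750030880)) (.leaf (nat_lit 387114436191121270336913410))) (.leaf
    (nat_lit 47418801220908392579097))))) (.node (.node (.node (.node (.leaf (nat_lit
    233779816681975134262919212)) (.leaf (nat_lit 0))) (.leaf (nat_lit 45610442552287745474566)))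
    (.node (.node (.leaf (nat_lit 26895844058415560327177)) (.leaf (nat_lit
    3249311321073815379570327554))) (.leaf (nat_lit 0)))) (.node (.node (.node (.leaf (nat_lit
    323699656051605969324736526)) (.leaf (nat_lit 15000022818697196535810))) (.leaf (nat_lit 0)))
    (.node (.node (.leaf (nat_lit 1109608266960338972)) (.leaf (nat_lit 652702164178829314)))
    (.leaf (nat_lit 0))))))) (.node (.node (.node (.node (.node (.node (.leaf (nat_lit 0)) (.leaf
    (nat_lit 0))) (.leaf (nat_lit 28968323723895444627309505871921))) (.node (.node (.leaf (nat_lit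
    21061990158899335069734)) (.leaf (nat_lit 24666243666730295689218))) (.leaf (nat_lit
    40030649822223674834952)))) (.node (.node (.node (.leaf (nat_lit 0)) (.leaf (nat_lit 0)))
    (.leaf (nat_lit 1506781553726980124))) (.node (.node (.leaf (nat_lit 0)) (.leaf (nat_lit
    2362515613785653250))) (.leaf (nat_lit 46754696055894688596022))))) (.node (.node (.node (.node
    (.leaf (nat_lit 6779277814158835515398)) (.leaf (nat_lit 87479833076787313394909901553695)))
    (.leaf (nat_lit 39430747257715694960687))) (.node (.node (.leaf (nat_lit 0)) (.leaf (nat_lit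
    3042554961335549954))) (.leaf (nat_lit 42723961859363584540693)))) (.node (.node (.node (.leaf
    (nat_lit 15873689847438493548563)) (.leaf (nat_lit 87827752521304079794178))) (.leaf (nat_lit
    0))) (.node (.node (.leaf (nat_lit 0)) (.leaf (nat_lit 1045780113729388546))) (.leaf (nat_lit
    72908368970782045569067)))))) (.node (.node (.node (.node (.node (.leaf (nat_lit 0)) (.leaf
    (nat_lit 1823047277363724291))) (.leaf (nat_lit 38204008375308911837218))) (.node (.node (.leaf
    (nat_lit 18777381136697208399865036734513)) (.leaf (nat_lit 18629516231008841826306))) (.leaf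
    (nat_lit 1867769135434432591)))) (.node (.node (.node (.leaf (nat_lit 0)) (.leaf (nat_lit
    79748004023882725130242))) (.leaf (nat_lit 45596742889202409209894))) (.node (.node (.leaf
    (nat_lit 28648403251880721055776)) (.leaf (nat_lit 8378130033613295779842))) (.leaf (nat_lit
    68521909797107781533714))))) (.node (.node (.node (.node (.leaf (nat_lit 0)) (.leaf (nat_lit
    84816104819537542840343))) (.leaf (nat_lit 29405005609918622007343))) (.node (.node (.leaf
    (nat_lit 821329377627126115187556417)) (.leaf (nat_lit 67472007584289940242434))) (.leaf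
    (nat_lit 45555615749124424663078)))) (.node (.node (.node (.leaf (nat_lit 569722760364949524))
    (.leaf (nat_lit 16623357689329111728130))) (.leaf (nat_lit 0))) (.node (.leaf (nat_lit
    23345060599520716587051)) (.leaf (nat_lit 75328945827047731822611)))))))))) (.node (.node
    (.node (.node (.node (.node (.node (.node (.node (.leaf (nat_lit 0)) (.leaf (nat_lit 0)))
    (.leaf (nat_lit 24013773368478490886206))) (.node (.node (.leaf (nat_lit 583796925812310023))
    (.leaf (nat_lit 15087673552194882437122))) (.leaf (nat_lit 0)))) (.node (.node (.node (.leaf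
    (nat_lit 293868899412344839)) (.leaf (nat_lit 70662329694622922768408))) (.leaf (nat_lit
    29755502473455698378798))) (.node (.node (.leaf (nat_lit 28417741541355026579497)) (.leaf
    (nat_lit 3175975122498617346))) (.leaf (nat_lit 45638636512451162734600))))) (.node (.node
    (.node (.node (.leaf (nat_lit 4703996023114534420520)) (.leaf (nat_lit
    65414096042129276282134965059615))) (.leaf (nat_lit 42631232582919645233178))) (.node (.node
    (.leaf (nat_lit 442078677379973137)) (.leaf (nat_lit 46239749259929812402178))) (.leaf (nat_lit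
    1376610784431439875)))) (.node (.node (.node (.leaf (nat_lit 246163297496334353)) (.leaf
    (nat_lit 2326755759028830210))) (.leaf (nat_lit 0))) (.node (.node (.leaf (nat_lit 0)) (.leaf
    (nat_lit 76598686090986080370690))) (.leaf (nat_lit 68761725070302693752855)))))) (.node (.node
    (.node (.node (.node (.leaf (nat_lit 41801469288120336)) (.leaf (nat_lit 0))) (.leaf (nat_lit
    0))) (.node (.node (.leaf (nat_lit 0)) (.leaf (nat_lit 15258336349472854048770))) (.leaf
    (nat_lit 1808531937170685972)))) (.node (.node (.node (.leaf (nat_lit 0)) (.leaf (nat_lit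
    69869174026348710264875))) (.leaf (nat_lit 49742600767235883728942))) (.node (.node (.leaf
    (nat_lit 30345457824445499637769)) (.leaf (nat_lit 215144174211614257522671618))) (.leaf
    (nat_lit 68167410780248545099819))))) (.node (.node (.node (.node (.leaf (nat_lit
    7277346941452907905033)) (.leaf (nat_lit 1943521178736001027))) (.leaf (nat_lit
    48379596192353321959819128930346))) (.node (.node (.leaf (nat_lit 0)) (.leaf (nat_lit
    3099130237653483522))) (.leaf (nat_lit 0)))) (.node (.node (.node (.leaf (nat_lit
    510329762162540555)) (.leaf (nat_lit 42342706416841318924290))) (.leaf (nat_lit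
    35963023263848785444910))) (.node (.node (.leaf (nat_lit 0)) (.leaf (nat_lit
    416825248932036610))) (.leaf (nat_lit 2037243549887627328))))))) (.node (.node (.node (.node
    (.node (.node (.leaf (nat_lit 0)) (.leaf (nat_lit 56190494873236002766869))) (.leaf (nat_lit
    0))) (.node (.node (.leaf (nat_lit 344966511879913489)) (.leaf (nat_lit
    58617392526094030274562))) (.leaf (nat_lit 0)))) (.node (.node (.node (.leaf (nat_lit 0))
    (.leaf (nat_lit 68909913497068770623558))) (.leaf (nat_lit 48225871868977173692448))) (.node
    (.node (.leaf (nat_lit 907221565362536455)) (.leaf (nat_lit 3190612302323908610))) (.leaf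
    (nat_lit 0))))) (.node (.node (.node (.node (.leaf (nat_lit 6022949765975503994886)) (.leaf
    (nat_lit 0))) (.leaf (nat_lit 1340424757249703964))) (.node (.node (.leaf (nat_lit 0)) (.leaf
    (nat_lit 1089947218285466367295750146))) (.leaf (nat_lit 62397392880434728337438)))) (.node
    (.node (.node (.leaf (nat_lit 15412517304250296107017)) (.leaf (nat_lit
    91161478809283182395495))) (.leaf (nat_lit 0))) (.node (.node (.leaf (nat_lit
    34491850638838919790648)) (.leaf (nat_lit 3336142398655954946))) (.leaf (nat_lit
    56785217295409312104494)))))) (.node (.node (.node (.node (.node (.leaf (nat_lit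
    3726302401297255694376)) (.leaf (nat_lit 67587975871457365516456498102287))) (.leaf (nat_lit
    0))) (.node (.node (.leaf (nat_lit 414774505127411729)) (.leaf (nat_lit
    17979261183940926570498))) (.leaf (nat_lit 60414332705957019320333)))) (.node (.node (.node
    (.leaf (nat_lit 0)) (.leaf (nat_lit 0))) (.leaf (nat_lit 42516620895405342915144523776042)))
    (.node (.node (.leaf (nat_lit 31978015786700149817350)) (.leaf (nat_lit
    21180147650345769828354))) (.leaf (nat_lit 66802284447365526126650))))) (.node (.node (.node
    (.node (.leaf (nat_lit 140323208694988816)) (.leaf (nat_lit 0))) (.leaf (nat_lit 0))) (.node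
    (.node (.leaf (nat_lit 27357015756895359795212)) (.leaf (nat_lit 952132027035573379456565250)))
    (.leaf (nat_lit 0)))) (.node (.node (.node (.leaf (nat_lit 0)) (.leaf (nat_lit
    8271583331926214377474))) (.leaf (nat_lit 0))) (.node (.node (.leaf (nat_lit
    36645154913195193991208)) (.leaf (nat_lit 3390891802771980290))) (.leaf (nat_lit 0))))))))
    (.node (.node (.node (.node (.node (.node (.node (.leaf (nat_lit 447344662817836040238)) (.leaf
    (nat_lit 0))) (.leaf (nat_lit 0))) (.node (.node (.leaf (nat_lit 11059146505306692059190))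
    (.leaf (nat_lit 437271419391956703357698050))) (.leaf (nat_lit 57453555125550485536814))))
    (.node (.node (.node (.leaf (nat_lit 10136642941113885458441)) (.leaf (nat_lit
    85668770917317754421282))) (.leaf (nat_lit 30078332739474038128648))) (.node (.node (.leaf
    (nat_lit 29169554870700219760694)) (.leaf (nat_lit 3192022632144961538))) (.leaf (nat_lit
    2043413639775518770))))) (.node (.node (.node (.node (.leaf (nat_lit 4768564975972600971294))
    (.leaf (nat_lit 2350805921374462654214832181))) (.leaf (nat_lit 43156974641168538337306)))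
    (.node (.node (.leaf (nat_lit 24590873895225433129914758135850)) (.leaf (nat_lit
    18385176808125257416706))) (.leaf (nat_lit 1319753388891701314)))) (.node (.node (.node (.leaf
    (nat_lit 0)) (.leaf (nat_lit 53198560967033350193154))) (.leaf (nat_lit 1036580766227759120)))
    (.node (.node (.leaf (nat_lit 33891916010737922932776)) (.leaf (nat_lit 3318690666632052738)))
    (.leaf (nat_lit 71556434664042140991494)))))) (.node (.node (.node (.node (.node (.leaf
    (nat_lit 57001667786309649)) (.leaf (nat_lit 0))) (.leaf (nat_lit 0))) (.node (.node (.leaf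
    (nat_lit 706487798271715645768073269)) (.leaf (nat_lit 2980065463511416834))) (.leaf (nat_lit
    48157243311841268417513927278607)))) (.node (.node (.node (.leaf (nat_lit 0)) (.leaf (nat_lit
    0))) (.leaf (nat_lit 1538026229624602644))) (.node (.node (.leaf (nat_lit
    31184793406047548276762)) (.leaf (nat_lit 3253383318074425346))) (.leaf (nat_lit
    47326565811552545603605))))) (.node (.node (.node (.node (.leaf (nat_lit
    3956945815837794828309)) (.leaf (nat_lit 2121255173153503270249168961))) (.leaf (nat_lit 0)))
    (.node (.node (.leaf (nat_lit 25964584520043381063732)) (.leaf (nat_lit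
    3354485178763665171814809602))) (.leaf (nat_lit 0)))) (.node (.node (.node (.leaf (nat_lit
    11312753627528031305779)) (.leaf (nat_lit 26372434883907724443650))) (.leaf (nat_lit 0)))
    (.node (.node (.leaf (nat_lit 36262543017024715685942)) (.leaf (nat_lit 272429230124564482)))
    (.leaf (nat_lit 2258905635213148167))))))) (.node (.node (.node (.node (.node (.node (.leaf
    (nat_lit 2024560141051543879686)) (.leaf (nat_lit 2524142550463133111831232526))) (.leaf
    (nat_lit 1213475685872566279))) (.node (.node (.leaf (nat_lit 0)) (.leaf (nat_lit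
    51667589284551916191746))) (.leaf (nat_lit 0)))) (.node (.node (.node (.leaf (nat_lit
    191272928258686992)) (.leaf (nat_lit 0))) (.leaf (nat_lit 49013927917126789824563))) (.node
    (.node (.leaf (nat_lit 29976511964897461076023)) (.leaf (nat_lit 60669961946837704441858)))
    (.leaf (nat_lit 46782365045967907127304))))) (.node (.node (.node (.node (.leaf (nat_lit 0))
    (.leaf (nat_lit 1926632130377547792))) (.leaf (nat_lit 27357349883635633946676))) (.node (.node
    (.leaf (nat_lit 15680209727351855185989)) (.leaf (nat_lit 38980921540398612152322))) (.leaf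
    (nat_lit 0)))) (.node (.node (.node (.leaf (nat_lit 492877755260731399)) (.leaf (nat_lit
    2654816631091494914))) (.leaf (nat_lit 0))) (.node (.node (.leaf (nat_lit
    22192102219364048240645)) (.leaf (nat_lit 661566409742090242))) (.leaf (nat_lit
    2387226383654333666916827201)))))) (.node (.node (.node (.node (.node (.leaf (nat_lit 0))
    (.leaf (nat_lit 0))) (.leaf (nat_lit 0))) (.node (.node (.leaf (nat_lit 0)) (.leaf (nat_lit
    44307479984688632889346))) (.leaf (nat_lit 0)))) (.node (.node (.node (.leaf (nat_lit
    255389375031872815475458062)) (.leaf (nat_lit 76187780591277773619202))) (.leaf (nat_lit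
    49106234260238352187429))) (.node (.node (.leaf (nat_lit 28832868159196997287970)) (.leaf
    (nat_lit 383791106747364239567224834))) (.leaf (nat_lit 1488927546476199939))))) (.node (.node
    (.node (.node (.leaf (nat_lit 8633207965267731349517)) (.leaf (nat_lit 2007699122693472259)))
    (.leaf (nat_lit 0))) (.node (.node (.leaf (nat_lit 0)) (.leaf (nat_lit
    46156909366325973024770))) (.leaf (nat_lit 65265934207206513901580)))) (.node (.node (.node
    (.leaf (nat_lit 17995092439574440509481)) (.leaf (nat_lit 74647587638089414279170))) (.leaf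
    (nat_lit 0))) (.node (.leaf (nat_lit 0)) (.leaf (nat_lit 0))))))))) (.node (.node (.node (.node
    (.node (.node (.node (.node (.leaf (nat_lit 10837297704599555)) (.leaf (nat_lit
    56448759985501007708194))) (.leaf (nat_lit 29270660053058595241926899073066))) (.node (.node
    (.leaf (nat_lit 591959970719858708)) (.leaf (nat_lit 41291277453143862083586))) (.leaf (nat_lit
    0)))) (.node (.node (.node (.leaf (nat_lit 0)) (.leaf (nat_lit 0))) (.leaf (nat_lit
    30096775542623195824146))) (.node (.node (.leaf (nat_lit 21243399405721553091792115925034))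
    (.leaf (nat_lit 3183856413256581122))) (.leaf (nat_lit 0))))) (.node (.node (.node (.node
    (.leaf (nat_lit 2591845938029173866544)) (.leaf (nat_lit 60765428426052716396568))) (.leaf
    (nat_lit 0))) (.node (.node (.leaf (nat_lit 460937775697494033)) (.leaf (nat_lit
    3036078425531088898))) (.leaf (nat_lit 1283724316994830358)))) (.node (.node (.node (.leaf
    (nat_lit 447277443234004999)) (.leaf (nat_lit 77492915178663730937941))) (.leaf (nat_lit
    3235902888816543734250759610996633213171867715518861607617576349943413144813895549974483734834960429359693914)))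
    (.node (.node (.leaf (nat_lit 0)) (.leaf (nat_lit 21530670098852704616450))) (.leaf (nat_lit
    2072144522854400011)))))) (.node (.node (.node (.node (.node (.leaf (nat_lit
    47994193653661713)) (.leaf (nat_lit 78174614075119803498548))) (.leaf (nat_lit
    782116117287141392))) (.node (.node (.leaf (nat_lit 0)) (.leaf (nat_lit
    10785009640161539194882))) (.leaf (nat_lit 59279834019217637834771)))) (.node (.node (.node
    (.leaf (nat_lit 375499125149532188)) (.leaf (nat_lit 85521255231989582331909))) (.leaf (nat_lit
    31554116177391314468934))) (.node (.node (.leaf (nat_lit 951695994662289428)) (.leaf (nat_lit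
    197312740739360679574896642))) (.leaf (nat_lit 0))))) (.node (.node (.node (.node (.leaf
    (nat_lit 240881969942188780983418933)) (.leaf (nat_lit 85726802690542270051965676617770)))
    (.leaf (nat_lit 870222183044087811))) (.node (.node (.leaf (nat_lit 807857883516633116)) (.leaf
    (nat_lit 3315234344138712813935001602))) (.leaf (nat_lit 0)))) (.node (.node (.node (.leaf
    (nat_lit 10731669789186155806783)) (.leaf (nat_lit 2819902112954187778))) (.leaf (nat_lit 0)))
    (.node (.node (.leaf (nat_lit 692039726693220368)) (.leaf (nat_lit 282561977098829826))) (.leaf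
    (nat_lit 0))))))) (.node (.node (.node (.node (.node (.node (.leaf (nat_lit
    1660234130562545287198)) (.leaf (nat_lit 0))) (.leaf (nat_lit 849899432227418959805415459)))
    (.node (.node (.leaf (nat_lit 339900237177028611)) (.leaf (nat_lit 45409526852120962334722)))
    (.leaf (nat_lit 0)))) (.node (.node (.node (.leaf (nat_lit 11105105168591185182747)) (.leaf
    (nat_lit 2645945556530233372))) (.leaf (nat_lit 47704202895160456183814))) (.node (.node (.leaf
    (nat_lit 18032241658449849679919)) (.leaf (nat_lit 3166406081392017410))) (.leaf (nat_lit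
    0))))) (.node (.node (.node (.node (.leaf (nat_lit 196895414111305807)) (.leaf (nat_lit
    63283468243704769347608))) (.leaf (nat_lit 43811841093510048710686))) (.node (.node (.leaf
    (nat_lit 0)) (.leaf (nat_lit 18306836129253467291650))) (.leaf (nat_lit
    63089155072165125750803)))) (.node (.node (.node (.leaf (nat_lit 8697903446857315713049))
    (.leaf (nat_lit 86135250530531652337781))) (.leaf (nat_lit 0))) (.node (.node (.leaf (nat_lit
    0)) (.leaf (nat_lit 723349883662237698))) (.leaf (nat_lit 0)))))) (.node (.node (.node (.node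
    (.node (.leaf (nat_lit 3214407927538972295192)) (.leaf (nat_lit 0))) (.leaf (nat_lit 0)))
    (.node (.node (.leaf (nat_lit 0)) (.leaf (nat_lit 609699360319025217500610562))) (.leaf
    (nat_lit 0)))) (.node (.node (.node (.leaf (nat_lit 13161963578379980701751)) (.leaf (nat_lit
    2711249907200688130))) (.leaf (nat_lit 0))) (.node (.node (.leaf (nat_lit
    27744493933016016683075)) (.leaf (nat_lit 418094036789184696435343362))) (.leaf (nat_lit 0)))))
    (.node (.node (.node (.node (.leaf (nat_lit 131034809341444118)) (.leaf (nat_lit 0))) (.leaf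
    (nat_lit 29257425745942117810222))) (.node (.node (.leaf (nat_lit 0)) (.leaf (nat_lit
    17550457168480564346882))) (.leaf (nat_lit 64813982221709131055123)))) (.node (.node (.node
    (.leaf (nat_lit 17810622183804110045203)) (.leaf (nat_lit 39658722307550239457282))) (.leaf
    (nat_lit 0))) (.node (.leaf (nat_lit 0)) (.leaf (nat_lit 1656409280787644419)))))))) (.node
    (.node (.node (.node (.node (.node (.node (.leaf (nat_lit 20407996668575760)) (.leaf (nat_lit
    0))) (.leaf (nat_lit 38471429303271308853289))) (.node (.node (.leaf (nat_lit 0)) (.leaf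
    (nat_lit 30693629998729881911298))) (.leaf (nat_lit 0)))) (.node (.node (.node (.leaf (nat_lit
    10155093344637170155572)) (.leaf (nat_lit 85936779427747188637748))) (.leaf (nat_lit 0)))
    (.node (.node (.leaf (nat_lit 22516299615985116217184834879530)) (.leaf (nat_lit
    3411669116859869135043297282))) (.leaf (nat_lit 46302735906952966242312))))) (.node (.node
    (.node (.node (.leaf (nat_lit 4989929564298100801545)) (.leaf (nat_lit 1897639383142629392)))
    (.leaf (nat_lit 0))) (.node (.node (.leaf (nat_lit 470226999684759555)) (.leaf (nat_lit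
    29075128898714832404482))) (.leaf (nat_lit 62434282990616138940456)))) (.node (.node (.node
    (.leaf (nat_lit 15145037263106816016396)) (.leaf (nat_lit 1619832274143019010))) (.leaf
    (nat_lit 0))) (.node (.node (.leaf (nat_lit 646157656221941763)) (.leaf (nat_lit
    3315594467658039298))) (.leaf (nat_lit 0)))))) (.node (.node (.node (.node (.node (.leaf
    (nat_lit 3444985331782246400039)) (.leaf (nat_lit 0))) (.leaf (nat_lit 785212891786772496)))
    (.node (.node (.leaf (nat_lit 13162150486002263851066)) (.leaf (nat_lit 2970495640720769026)))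
    (.leaf (nat_lit 1836256268893945935)))) (.node (.node (.node (.leaf (nat_lit
    7604874466529749696571)) (.leaf (nat_lit 87352580829877278801963))) (.leaf (nat_lit 0))) (.node
    (.node (.leaf (nat_lit 0)) (.leaf (nat_lit 33419414574275173220354))) (.leaf (nat_lit
    74684007293265376389850454097969))))) (.node (.node (.node (.node (.leaf (nat_lit 0)) (.leaf
    (nat_lit
    4583943753289144466554843846493449160068491655389461047753804467128932477780511706063693031829141992928313427)))
    (.leaf (nat_lit 0))) (.node (.node (.leaf (nat_lit 26674483692601258213389)) (.leaf (nat_lit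
    20077797064193729560578))) (.leaf (nat_lit 62332885573096232386578)))) (.node (.node (.node
    (.leaf (nat_lit 0)) (.leaf (nat_lit 16992274834662839484418))) (.leaf (nat_lit
    1124966382816067601))) (.node (.node (.leaf (nat_lit 0)) (.leaf (nat_lit
    111481651769090951544834))) (.leaf (nat_lit 53119020503122030297113))))))) (.node (.node (.node
    (.node (.node (.node (.leaf (nat_lit 0)) (.leaf (nat_lit 2368965933109739542))) (.leaf (nat_lit
    758753144464343057))) (.node (.node (.leaf (nat_lit 366077959766933526)) (.leaf (nat_lit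
    1352582506881539261824499714))) (.leaf (nat_lit 0)))) (.node (.node (.node (.leaf (nat_lit
    6548780212074368401413)) (.leaf (nat_lit 86448176114374958841933))) (.leaf (nat_lit
    41579913418111195480101))) (.node (.node (.leaf (nat_lit 29192531253014193963049)) (.leaf
    (nat_lit 313798638587478018))) (.leaf (nat_lit 68434285911356173647963))))) (.node (.node
    (.node (.node (.leaf (nat_lit 7190061077740862473284113203242)) (.leaf (nat_lit
    63421840639109451939886))) (.leaf (nat_lit 1366884229694226460))) (.node (.node (.leaf (nat_lit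
    0)) (.leaf (nat_lit 18998524871193357647874))) (.leaf (nat_lit 63448880655901053354014))))
    (.node (.node (.node (.leaf (nat_lit 15993595091421338206227)) (.leaf (nat_lit
    83976997381624685592578))) (.leaf (nat_lit 54022370652824304549918))) (.node (.node (.leaf
    (nat_lit 35270850804764826075155)) (.leaf (nat_lit 2768830558053203970))) (.leaf (nat_lit
    73059895817353186967581)))))) (.node (.node (.node (.node (.node (.leaf (nat_lit
    2564172865890188197922)) (.leaf (nat_lit 0))) (.leaf (nat_lit 41662774859583138758693))) (.node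
    (.node (.leaf (nat_lit 0)) (.leaf (nat_lit 1354095592087387967649480706))) (.leaf (nat_lit
    0)))) (.node (.node (.node (.leaf (nat_lit 11594007221154437333046)) (.leaf (nat_lit
    55439808834258954551298))) (.leaf (nat_lit 51845582229392152789047))) (.node (.node (.leaf
    (nat_lit 619979383876222979)) (.leaf (nat_lit 3312216828067053570))) (.leaf (nat_lit 0)))))
    (.node (.node (.node (.node (.leaf (nat_lit 285142900256407559)) (.leaf (nat_lit 0))) (.leaf
    (nat_lit 29580253056438842359854))) (.node (.node (.leaf (nat_lit 0)) (.leaf (nat_lit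
    3164433609071394818))) (.leaf (nat_lit 0)))) (.node (.node (.node (.leaf (nat_lit
    18668410701946535739418)) (.leaf (nat_lit 19505664810936583782402))) (.leaf (nat_lit 0)))
    (.node (.leaf (nat_lit 1024450996712308327676379189)) (.leaf (nat_lit
    2071418628819931966017372195))))))))))))) (.node (.node (.node (.node (.node (.node (.node
    (.node (.node (.node (.node (.node (.leaf (nat_lit 1)) (.leaf (nat_lit 0))) (.leaf (nat_lit
    37180123440057873006604))) (.node (.node (.leaf (nat_lit 316254741405499409)) (.leaf (nat_lit
    15152234047828551467010))) (.leaf (nat_lit 1153677981491789827)))) (.node (.node (.node (.leaf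
    (nat_lit 288239185129766923)) (.leaf (nat_lit 0))) (.leaf (nat_lit 46606599947586623438885)))
    (.node (.node (.leaf (nat_lit 0)) (.leaf (nat_lit 3323666636825875937518419970))) (.leaf
    (nat_lit 2017392743621459979))))) (.node (.node (.node (.node (.leaf (nat_lit
    83180266549542928)) (.leaf (nat_lit 0))) (.leaf (nat_lit 852486562271854595))) (.node (.node
    (.leaf (nat_lit 23626092380875380686867)) (.leaf (nat_lit 3154131544895463524609032194)))
    (.leaf (nat_lit 60829401899931623686173)))) (.node (.node (.node (.leaf (nat_lit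
    432780872048050255)) (.leaf (nat_lit 76980995371255600447490))) (.leaf (nat_lit
    51083333253117582341859984080911))) (.node (.node (.leaf (nat_lit 20089115831447226351620))
    (.leaf (nat_lit 3312213331963674626))) (.leaf (nat_lit 0)))))) (.node (.node (.node (.node
    (.node (.leaf (nat_lit 72481868087427122)) (.leaf (nat_lit 2344477653085585410))) (.leaf
    (nat_lit 0))) (.node (.node (.leaf (nat_lit 21241780197676321800219)) (.leaf (nat_lit
    1420886465209510207278022658))) (.leaf (nat_lit 1801903239264862287)))) (.node (.node (.node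
    (.leaf (nat_lit 6585673700256147243047)) (.leaf (nat_lit 86448176536630373580875))) (.leaf
    (nat_lit 1151982534561759260))) (.node (.node (.leaf (nat_lit 29146414392881459691550)) (.leaf
    (nat_lit 578807432239775746))) (.leaf (nat_lit 0))))) (.node (.node (.node (.node (.leaf
    (nat_lit 3726345610798557233189)) (.leaf (nat_lit 1939580305723752465))) (.leaf (nat_lit
    44107000258289765384221))) (.node (.node (.leaf (nat_lit 16058374877317657985061)) (.leaf
    (nat_lit 3325509715677814845383901186))) (.leaf (nat_lit 63384317614644562952222)))) (.node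
    (.node (.node (.leaf (nat_lit 0)) (.leaf (nat_lit 78549043496341528051714))) (.leaf (nat_lit
    0))) (.node (.node (.leaf (nat_lit 0)) (.leaf (nat_lit 429772496565305346))) (.leaf (nat_lit
    72967663785886039080987))))))) (.node (.node (.node (.node (.node (.node (.leaf (nat_lit 0))
    (.leaf (nat_lit 0))) (.leaf (nat_lit 1189398666146873389))) (.node (.node (.leaf (nat_lit 0))
    (.leaf (nat_lit 44736214207321277136898))) (.leaf (nat_lit 0)))) (.node (.node (.node (.leaf
    (nat_lit 5368163539027467894851)) (.leaf (nat_lit 86056158172700196667405))) (.leaf (nat_lit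
    0))) (.node (.node (.leaf (nat_lit 927870830921443072733872172)) (.leaf (nat_lit
    949111631095136893064708098))) (.leaf (nat_lit 51970266676960440083318529392655))))) (.node
    (.node (.node (.node (.leaf (nat_lit 5036046424525324353548)) (.leaf (nat_lit 0))) (.leaf
    (nat_lit 43313775343838387437622))) (.node (.node (.leaf (nat_lit 0)) (.leaf (nat_lit
    45829386486363636039682))) (.leaf (nat_lit 62286709601027955556371)))) (.node (.node (.node
    (.leaf (nat_lit 0)) (.leaf (nat_lit 2268491435282137090))) (.leaf (nat_lit
    53118446133700972445715))) (.node (.node (.leaf (nat_lit 21242072662271752077344)) (.leaf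
    (nat_lit 3499008755325666000898))) (.leaf (nat_lit 0)))))) (.node (.node (.node (.node (.node
    (.leaf (nat_lit 3394257207843549806633)) (.leaf (nat_lit 0))) (.leaf (nat_lit
    41072453433970760286221))) (.node (.node (.leaf (nat_lit 411115107091873809)) (.leaf (nat_lit
    2972184628019986434))) (.leaf (nat_lit 0)))) (.node (.node (.node (.leaf (nat_lit
    7743225047125521006654)) (.leaf (nat_lit 88560908430810422640663))) (.leaf (nat_lit
    1094884041740166456234213411))) (.node (.node (.leaf (nat_lit 19102183637944350474283)) (.leaf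
    (nat_lit 6989843658549504442370))) (.leaf (nat_lit 0))))) (.node (.node (.node (.node (.leaf
    (nat_lit 251083380102397959)) (.leaf (nat_lit 78853165805071069544450))) (.leaf (nat_lit 0)))
    (.node (.node (.leaf (nat_lit 16178286173991754465326)) (.leaf (nat_lit
    311551831717704178696716290))) (.leaf (nat_lit 1372110260000653334)))) (.node (.node (.node
    (.leaf (nat_lit 9592594883727111421975)) (.leaf (nat_lit 16429649421516012716034))) (.leaf
    (nat_lit 55433585982119465910284))) (.node (.node (.leaf (nat_lit 1115800905426534428)) (.leaf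
    (nat_lit 1092225795579052034))) (.leaf (nat_lit 0)))))))) (.node (.node (.node (.node (.node
    (.node (.node (.leaf (nat_lit 447341988582218989606)) (.leaf (nat_lit
    75938338730143981436962))) (.leaf (nat_lit 0))) (.node (.node (.leaf (nat_lit
    19494187489008235511846)) (.leaf (nat_lit 54817353408883544227842))) (.leaf (nat_lit 0))))
    (.node (.node (.node (.leaf (nat_lit 6751663714523574108164)) (.leaf (nat_lit
    2612575528951087149))) (.leaf (nat_lit 30133670156722061377544))) (.node (.node (.leaf (nat_lit
    0)) (.leaf (nat_lit 41060874720122390118402))) (.leaf (nat_lit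
    1572425586724693132964003875))))) (.node (.node (.node (.node (.leaf (nat_lit
    5248177647627662458920)) (.leaf (nat_lit 0))) (.leaf (nat_lit 1315091236251631623))) (.node
    (.node (.leaf (nat_lit 0)) (.leaf (nat_lit 60208604357341495885826))) (.leaf (nat_lit 0))))
    (.node (.node (.node (.leaf (nat_lit 10240395053735896020436243513393)) (.leaf (nat_lit
    77160477759476475297883))) (.leaf (nat_lit 33629438079066473431065))) (.node (.node (.leaf
    (nat_lit 33574095858928321757216)) (.leaf (nat_lit 12085947828964960698370))) (.leaf (nat_lit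
    0)))))) (.node (.node (.node (.node (.node (.leaf (nat_lit 0)) (.leaf (nat_lit
    2229495683445030976))) (.leaf (nat_lit 25494170744815303720999))) (.node (.node (.leaf (nat_lit
    12654845883170028716070)) (.leaf (nat_lit 15442897246924489031682))) (.leaf (nat_lit
    1904551336207089122549170220)))) (.node (.node (.node (.leaf (nat_lit 0)) (.leaf (nat_lit
    70837648075259635761190))) (.leaf (nat_lit 1208358246542848514777677857))) (.node (.node (.leaf
    (nat_lit 954792270945714204)) (.leaf (nat_lit 2584739343394537474))) (.leaf (nat_lit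
    1613965204979642011092254785))))) (.node (.node (.node (.node (.leaf (nat_lit
    116115587603759126)) (.leaf (nat_lit 0))) (.leaf (nat_lit 0))) (.node (.node (.leaf (nat_lit
    503442747743666179)) (.leaf (nat_lit 3291025220138689255721664514))) (.leaf (nat_lit
    59331113838620402974772)))) (.node (.node (.node (.leaf (nat_lit 16773212801312865058859))
    (.leaf (nat_lit 14750999669844872462338))) (.leaf (nat_lit 36313521816158412668932))) (.node
    (.node (.leaf (nat_lit 34920449594023420557119268913183)) (.leaf (nat_lit 280169491336396802)))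
    (.leaf (nat_lit 52168983065013854076997))))))) (.node (.node (.node (.node (.node (.node (.leaf
    (nat_lit 950034202309880381461)) (.leaf (nat_lit 76131435772562662162455))) (.leaf (nat_lit
    765508045689192464))) (.node (.node (.leaf (nat_lit 20628411179213676281903)) (.leaf (nat_lit
    30633685819853889536002))) (.leaf (nat_lit 43360277557001083617317)))) (.node (.node (.node
    (.leaf (nat_lit 165658482039717891)) (.leaf (nat_lit 75020736520281928973879517446186))) (.leaf
    (nat_lit 0))) (.node (.node (.leaf (nat_lit 918480899438411796)) (.leaf (nat_lit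
    152581415665298108380872706))) (.leaf (nat_lit 0))))) (.node (.node (.node (.node (.leaf
    (nat_lit 0)) (.leaf (nat_lit 81637979441513653010462))) (.leaf (nat_lit 0))) (.node (.node
    (.leaf (nat_lit 481486600048607248)) (.leaf (nat_lit 3337230165661169418242))) (.leaf (nat_lit
    57997854552289169309742)))) (.node (.node (.node (.leaf (nat_lit 438999770859703100755935276))
    (.leaf (nat_lit 82934741700539354120194))) (.leaf (nat_lit 1084150913465188380))) (.node (.node
    (.leaf (nat_lit 22192098278482446057509)) (.leaf (nat_lit 643833245691150338))) (.leaf (nat_lit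
    54698194946417663819281567383583)))))) (.node (.node (.node (.node (.node (.leaf (nat_lit
    125541700788682780)) (.leaf (nat_lit 0))) (.leaf (nat_lit 798161342010884113))) (.node (.node
    (.leaf (nat_lit 0)) (.leaf (nat_lit 29121096876404706050050))) (.leaf (nat_lit
    65300800651372878545298729009213)))) (.node (.node (.node (.leaf (nat_lit 0)) (.leaf (nat_lit
    2568401451009310722))) (.leaf (nat_lit 0))) (.node (.node (.leaf (nat_lit
    32346958268325129551913)) (.leaf (nat_lit 361723304666151482523123714))) (.leaf (nat_lit
    48276601279722431905861))))) (.node (.node (.node (.node (.leaf (nat_lit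
    8513301032323357278214)) (.leaf (nat_lit 0))) (.leaf (nat_lit 0))) (.node (.node (.leaf
    (nat_lit 24110396681539654189125)) (.leaf (nat_lit 3126433963229446146))) (.leaf (nat_lit 0))))
    (.node (.node (.node (.leaf (nat_lit 0)) (.leaf (nat_lit 40336640713134549696514))) (.leaf
    (nat_lit 0))) (.node (.leaf (nat_lit 0)) (.leaf (nat_lit 1655564907397120003))))))))) (.node
    (.node (.node (.node (.node (.node (.node (.node (.leaf (nat_lit 7881578520903700)) (.leaf
    (nat_lit 0))) (.leaf (nat_lit 23944604411440595664921))) (.node (.node (.leaf (nat_lit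
    19157257160796705849374)) (.leaf (nat_lit 17236719817942659956738))) (.leaf (nat_lit
    37448030777825365786676)))) (.node (.node (.node (.leaf (nat_lit 168471857417289731)) (.leaf
    (nat_lit 85281376624914865520646))) (.leaf (nat_lit 939185528023154704))) (.node (.node (.leaf
    (nat_lit 0)) (.leaf (nat_lit 11131019211825844781058))) (.leaf (nat_lit
    2161909550700952689265868814))))) (.node (.node (.node (.node (.leaf (nat_lit 0)) (.leaf
    (nat_lit 1845565739357044758))) (.leaf (nat_lit 0))) (.node (.node (.leaf (nat_lit
    730027501245562930)) (.leaf (nat_lit 1338983188821432538902036482))) (.leaf (nat_lit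
    61908167479537833333388262834225)))) (.node (.node (.node (.leaf (nat_lit
    14476325478959272886278)) (.leaf (nat_lit 2445116038275268610))) (.leaf (nat_lit 0))) (.node
    (.node (.leaf (nat_lit 30963744493909884207174)) (.leaf (nat_lit
    3569118953831577195515215874))) (.leaf (nat_lit 0)))))) (.node (.node (.node (.node (.node
    (.leaf (nat_lit 2481125923930327154707)) (.leaf (nat_lit 0))) (.leaf (nat_lit 0))) (.node
    (.node (.leaf (nat_lit 21444711271234837610515)) (.leaf (nat_lit 32270848003662785216514)))
    (.leaf (nat_lit 58791567398939750760482)))) (.node (.node (.node (.leaf (nat_lit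
    202251053645824022)) (.leaf (nat_lit 2337243428584234042114965557))) (.leaf (nat_lit
    1521981657735888916))) (.node (.node (.leaf (nat_lit 30216331741889569161225)) (.leaf (nat_lit
    3211161770920116226))) (.leaf (nat_lit 0))))) (.node (.node (.node (.node (.leaf (nat_lit
    107389588447821841)) (.leaf (nat_lit 0))) (.leaf (nat_lit 35916656867361694089250))) (.node
    (.node (.leaf (nat_lit 0)) (.leaf (nat_lit 3099693728772784130))) (.leaf (nat_lit 0)))) (.node
    (.node (.node (.leaf (nat_lit 9039177642526015422522)) (.leaf (nat_lit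
    791032101442283155044433922))) (.leaf (nat_lit 0))) (.node (.node (.leaf (nat_lit
    35593673329972198178835)) (.leaf (nat_lit 3602618328709845487630680066))) (.leaf (nat_lit
    2243278474016063567))))))) (.node (.node (.node (.node (.node (.node (.leaf (nat_lit
    43911475051495444)) (.leaf (nat_lit 75974631129303268655171))) (.leaf (nat_lit 0))) (.node
    (.node (.leaf (nat_lit 18248777112060283781174)) (.leaf (nat_lit 59908665596244318683138)))
    (.leaf (nat_lit 0)))) (.node (.node (.node (.leaf (nat_lit 5395835766475235459097)) (.leaf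
    (nat_lit 85825579501536059523113))) (.leaf (nat_lit 48340612750730330308638))) (.node (.node
    (.leaf (nat_lit 32023705714511989834817781170252)) (.leaf (nat_lit
    113149948804125991590994970476546))) (.leaf (nat_lit 48078238542811136983102))))) (.node (.node
    (.node (.node (.leaf (nat_lit 5995279649899299405864)) (.leaf (nat_lit 0))) (.leaf (nat_lit
    43922520150354084167707))) (.node (.node (.leaf (nat_lit 0)) (.leaf (nat_lit
    3070981649060724738))) (.leaf (nat_lit 61880886579714370764813)))) (.node (.node (.node (.leaf
    (nat_lit 15467857536522964369420)) (.leaf (nat_lit 87892295586362733821954))) (.leaf (nat_lit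
    37455828778727234215818337517617))) (.node (.node (.leaf (nat_lit 34265477919235247374377))
    (.leaf (nat_lit 202620644171579394))) (.leaf (nat_lit 2206268225430355979)))))) (.node (.node
    (.node (.node (.node (.leaf (nat_lit 116252751679324171)) (.leaf (nat_lit 0))) (.leaf (nat_lit
    1233746440288431965221421089))) (.node (.node (.leaf (nat_lit 0)) (.leaf (nat_lit
    34087880747724302385154))) (.leaf (nat_lit 0)))) (.node (.node (.node (.leaf (nat_lit 0))
    (.leaf (nat_lit 2189817332455571478))) (.leaf (nat_lit 1186323856109994050))) (.node (.node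
    (.leaf (nat_lit 0)) (.leaf (nat_lit 111316923343885177637512778416130))) (.leaf (nat_lit
    69966022086656107151398))))) (.node (.node (.node (.node (.leaf (nat_lit
    4159867319590699860016)) (.leaf (nat_lit 2674206260348564385174913068))) (.leaf (nat_lit
    883170908146106385))) (.node (.node (.leaf (nat_lit 22823729245249117290550)) (.leaf (nat_lit
    67471952129944251990018))) (.leaf (nat_lit 1990370321223516180)))) (.node (.node (.node (.leaf
    (nat_lit 293735918634926083)) (.leaf (nat_lit 31366908049668236836866))) (.leaf (nat_lit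
    55747187387038257315849))) (.node (.node (.leaf (nat_lit 0)) (.leaf (nat_lit
    3407780825360629762))) (.leaf (nat_lit 0)))))))) (.node (.node (.node (.node (.node (.node
    (.node (.leaf (nat_lit 26740960306266123)) (.leaf (nat_lit 2333357686403498052))) (.leaf
    (nat_lit 0))) (.node (.node (.leaf (nat_lit 603500779772444700)) (.leaf (nat_lit
    29190218245535674073090))) (.leaf (nat_lit 0)))) (.node (.node (.node (.leaf (nat_lit
    10155089685239134617612)) (.leaf (nat_lit 0))) (.leaf (nat_lit 1530848953879647025736450062)))
    (.node (.node (.leaf (nat_lit 558895792056827907)) (.leaf (nat_lit 52258210220846847557634)))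
    (.leaf (nat_lit 49295712955077096570939))))) (.node (.node (.node (.node (.leaf (nat_lit
    2730200881779141967942)) (.leaf (nat_lit 81131256224936576090146))) (.leaf (nat_lit 0))) (.node
    (.node (.leaf (nat_lit 0)) (.leaf (nat_lit 60033246836835318169602))) (.leaf (nat_lit
    1900295579897036820)))) (.node (.node (.node (.leaf (nat_lit 10636542969087677917267348488207))
    (.leaf (nat_lit 50440773272980697579522))) (.leaf (nat_lit 52758721676131239657476))) (.node
    (.node (.leaf (nat_lit 33850410977369694339102)) (.leaf (nat_lit 3240624874463168757762)))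
    (.leaf (nat_lit 0)))))) (.node (.node (.node (.node (.node (.leaf (nat_lit
    2481138027904081526838)) (.leaf (nat_lit 0))) (.leaf (nat_lit 0))) (.node (.node (.leaf
    (nat_lit 674716139313561607)) (.leaf (nat_lit 39446647517973118648322))) (.leaf (nat_lit
    1240093822998937616)))) (.node (.node (.node (.leaf (nat_lit 12608549151963011547166)) (.leaf
    (nat_lit 2174054184003960848))) (.leaf (nat_lit 0))) (.node (.node (.leaf (nat_lit
    962955320148230172)) (.leaf (nat_lit 3262673444004823042))) (.leaf (nat_lit 0))))) (.node
    (.node (.node (.node (.leaf (nat_lit 7913772701149240164378)) (.leaf (nat_lit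
    64371877514654221795352))) (.leaf (nat_lit 995883049621159466154328078))) (.node (.node (.leaf
    (nat_lit 26757492070393365856302)) (.leaf (nat_lit 9761413740610199945218))) (.leaf (nat_lit
    64214446150059053744182)))) (.node (.node (.node (.leaf (nat_lit 9564921671116925370435))
    (.leaf (nat_lit 42384209323036799860738))) (.leaf (nat_lit 1683271767193419783))) (.node (.node
    (.leaf (nat_lit 22920772255324670459941)) (.leaf (nat_lit 435544039257931778))) (.leaf (nat_lit
    0))))))) (.node (.node (.node (.node (.node (.node (.leaf (nat_lit 56519048378337467421687873))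
    (.leaf (nat_lit 75255227251285358215220))) (.leaf (nat_lit 1216418996895744066))) (.node (.node
    (.leaf (nat_lit 0)) (.leaf (nat_lit 1764513547498422274))) (.leaf (nat_lit
    47513504820020134177832916287537)))) (.node (.node (.node (.leaf (nat_lit 0)) (.leaf (nat_lit
    0))) (.leaf (nat_lit 49305004144024784928849))) (.node (.node (.leaf (nat_lit
    926508368172789670663684110)) (.leaf (nat_lit 80846089002512430596098))) (.leaf (nat_lit 0)))))
    (.node (.node (.node (.node (.leaf (nat_lit 0)) (.leaf (nat_lit 0))) (.leaf (nat_lit 0)))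
    (.node (.node (.leaf (nat_lit 25051156139051722145846)) (.leaf (nat_lit
    60752692934725345673218))) (.leaf (nat_lit 0)))) (.node (.node (.node (.leaf (nat_lit
    17445383795555965878712595185725)) (.leaf (nat_lit 2282425348572446723))) (.leaf (nat_lit
    54013713467488354893856))) (.node (.node (.leaf (nat_lit 35044875234134110437416)) (.leaf
    (nat_lit 394165465334808578))) (.leaf (nat_lit 51228170265244920381498)))))) (.node (.node
    (.node (.node (.node (.leaf (nat_lit 3993787650045632512026)) (.leaf (nat_lit
    1818543591837007888))) (.leaf (nat_lit 0))) (.node (.node (.leaf (nat_lit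
    22902040364996335173673)) (.leaf (nat_lit 29877417323380686913538))) (.leaf (nat_lit
    61096872933334683156509)))) (.node (.node (.node (.leaf (nat_lit 226178075933671427)) (.leaf
    (nat_lit 59659498602593584873474))) (.leaf (nat_lit 0))) (.node (.node (.leaf (nat_lit 0))
    (.leaf (nat_lit 3306020538878656514))) (.leaf (nat_lit 70468040452373309751325))))) (.node
    (.node (.node (.node (.leaf (nat_lit 149909102996120443881259043)) (.leaf (nat_lit
    84432740265614417002551))) (.leaf (nat_lit 29405004202466429042734))) (.node (.node (.leaf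
    (nat_lit 820423771619189506363883534)) (.leaf (nat_lit 3394142975953210500985389058))) (.leaf
    (nat_lit 64389723152422491324471)))) (.node (.node (.node (.leaf (nat_lit
    11993340364104617961268802027551)) (.leaf (nat_lit 57482893012852617183234))) (.leaf (nat_lit
    0))) (.node (.leaf (nat_lit 0)) (.leaf (nat_lit 0)))))))))) (.node (.node (.node (.node (.node
    (.node (.node (.node (.node (.leaf (nat_lit 147577189693642702860)) (.leaf (nat_lit 0))) (.leaf
    (nat_lit 0))) (.node (.node (.leaf (nat_lit 11059133556822108209175)) (.leaf (nat_lit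
    16300546148401814896642))) (.leaf (nat_lit 54815637508318522703910)))) (.node (.node (.node
    (.leaf (nat_lit 291898488676024340)) (.leaf (nat_lit 0))) (.leaf (nat_lit
    47316801846396053553164))) (.node (.node (.leaf (nat_lit 18235136560764461187139)) (.leaf
    (nat_lit 60254853337858030370818))) (.leaf (nat_lit 45666304939625967452212))))) (.node (.node
    (.node (.node (.leaf (nat_lit 0)) (.leaf (nat_lit 60212009496457026666520))) (.leaf (nat_lit
    1301017066509303828))) (.node (.node (.leaf (nat_lit 23750620569884311093274)) (.leaf (nat_lit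
    674074928668296095100829698))) (.leaf (nat_lit 0)))) (.node (.node (.node (.leaf (nat_lit
    436862504023490567)) (.leaf (nat_lit 1804056658557665282))) (.leaf (nat_lit
    1590224474706411565))) (.node (.node (.leaf (nat_lit 0)) (.leaf (nat_lit 3269711254725459970)))
    (.leaf (nat_lit 70818533938219255529512)))))) (.node (.node (.node (.node (.node (.leaf
    (nat_lit 0)) (.leaf (nat_lit 71829305097413655199822))) (.leaf (nat_lit 766071682837381123)))
    (.node (.node (.leaf (nat_lit 391973846602874897)) (.leaf (nat_lit 17379710519929007702018)))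
    (.leaf (nat_lit 40067546969872208691252)))) (.node (.node (.node (.leaf (nat_lit 0)) (.leaf
    (nat_lit 0))) (.leaf (nat_lit 0))) (.node (.node (.leaf (nat_lit
    32667687206648855965922243182634)) (.leaf (nat_lit 327028185831178242))) (.leaf (nat_lit
    2094641308147777604))))) (.node (.node (.node (.node (.leaf (nat_lit 7111323711403062394926))
    (.leaf (nat_lit
    4605732183614514246469098907475507015940357801990385338296972003263546762211556357174079826857715084700287080)))
    (.leaf (nat_lit 1404043401257091366843056172))) (.node (.node (.leaf (nat_lit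
    16150609723723551539205)) (.leaf (nat_lit 3074078518049636354))) (.leaf (nat_lit
    1357191124162314257)))) (.node (.node (.node (.leaf (nat_lit 493250151000265312189022261))
    (.leaf (nat_lit 39174469078500996481026))) (.leaf (nat_lit 1102165999169437699))) (.node (.node
    (.leaf (nat_lit 22275122560512680984597)) (.leaf (nat_lit 3261130833486020610))) (.leaf
    (nat_lit 2217545457332122068363509795))))))) (.node (.node (.node (.node (.node (.node (.leaf
    (nat_lit 0)) (.leaf (nat_lit 1739446237163290641))) (.leaf (nat_lit 1193208860484173835)))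
    (.node (.node (.leaf (nat_lit 11239012675071944884263)) (.leaf (nat_lit
    39677219989377733820418))) (.leaf (nat_lit 57665706193660883959848)))) (.node (.node (.node
    (.leaf (nat_lit 10570146212367340601356)) (.leaf (nat_lit 0))) (.leaf (nat_lit
    922016516516478979))) (.node (.node (.leaf (nat_lit 0)) (.leaf (nat_lit 288745836651872258)))
    (.leaf (nat_lit 2058612614208028722))))) (.node (.node (.node (.node (.leaf (nat_lit 0)) (.leaf
    (nat_lit 2662421774649271055005515820))) (.leaf (nat_lit 1337046971629830172))) (.node (.node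
    (.leaf (nat_lit 760005668597006356)) (.leaf (nat_lit 629497513241033361831755778))) (.leaf
    (nat_lit 62332827305766008586266)))) (.node (.node (.node (.leaf (nat_lit 0)) (.leaf (nat_lit
    79531994489575081315884274614314))) (.leaf (nat_lit 53127672320625033281549))) (.node (.node
    (.leaf (nat_lit 1048807799385096199)) (.leaf (nat_lit 3510524407002435687672971266))) (.leaf
    (nat_lit 0)))))) (.node (.node (.node (.node (.node (.leaf (nat_lit 3652515424933698011149))
    (.leaf (nat_lit 64116705714257675608489793486879))) (.leaf (nat_lit 32337929966822321487910)))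
    (.node (.node (.leaf (nat_lit 0)) (.leaf (nat_lit 22411177612119602561026))) (.leaf (nat_lit
    0)))) (.node (.node (.node (.leaf (nat_lit 0)) (.leaf (nat_lit
    95155355700231903298983479803946))) (.leaf (nat_lit 54683433649971225224451109224490))) (.node
    (.node (.leaf (nat_lit 0)) (.leaf (nat_lit 3525608890631607636002603010))) (.leaf (nat_lit
    47916877384973803520025))))) (.node (.node (.node (.node (.leaf (nat_lit
    8264265483307744165894)) (.leaf (nat_lit 0))) (.leaf (nat_lit 0))) (.node (.node (.leaf
    (nat_lit 16178286737070556905519)) (.leaf (nat_lit 3344840644359689081484214274))) (.leaf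
    (nat_lit 43969155084878174421038)))) (.node (.node (.node (.leaf (nat_lit
    316290138514328234290839585)) (.leaf (nat_lit 31652828079370021306370))) (.leaf (nat_lit
    36830046976432354295855))) (.node (.node (.leaf (nat_lit 36760609051727586590774)) (.leaf
    (nat_lit 3384980673642233858))) (.leaf (nat_lit 53487965236417974698009)))))))) (.node (.node
    (.node (.node (.node (.node (.node (.leaf (nat_lit 16320784499464392648425507)) (.leaf (nat_lit
    76260526951319537385481))) (.leaf (nat_lit 24258207927576331223110))) (.node (.node (.leaf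
    (nat_lit 10662539678022918930457)) (.leaf (nat_lit 279961164092353223999094786))) (.leaf
    (nat_lit 57352094373893076353079)))) (.node (.node (.node (.leaf (nat_lit 157776220619145233))
    (.leaf (nat_lit 2616389773442547719))) (.leaf (nat_lit 45610488997651767558182))) (.node (.node
    (.leaf (nat_lit 0)) (.leaf (nat_lit 18523585675894001434626))) (.leaf (nat_lit
    66151420707937464811560))))) (.node (.node (.node (.node (.leaf (nat_lit
    5349636006833668947980)) (.leaf (nat_lit 0))) (.leaf (nat_lit 1318469073411112971))) (.node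
    (.node (.leaf (nat_lit 0)) (.leaf (nat_lit 3007086674728583170))) (.leaf (nat_lit
    1284850405880234001)))) (.node (.node (.node (.leaf (nat_lit 14822211641640340357139)) (.leaf
    (nat_lit 77446804509992641822807))) (.leaf (nat_lit 33860027305937374216226))) (.node (.node
    (.leaf (nat_lit 33500309445720875925538)) (.leaf (nat_lit 8733140166286724235266))) (.leaf
    (nat_lit 0)))))) (.node (.node (.node (.node (.node (.leaf (nat_lit 3043758374007406264347))
    (.leaf (nat_lit 0))) (.leaf (nat_lit 1247535180256772103))) (.node (.node (.leaf (nat_lit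
    22002737805530511900712)) (.leaf (nat_lit 28567674022213930123266))) (.leaf (nat_lit
    58698766084675802955782)))) (.node (.node (.node (.leaf (nat_lit 0)) (.leaf (nat_lit
    88118170244838454394952))) (.leaf (nat_lit 33394185372840105279535))) (.node (.node (.leaf
    (nat_lit 31313918925653525332008)) (.leaf (nat_lit 389230001019451914129244162))) (.leaf
    (nat_lit 47418795731923008421942))))) (.node (.node (.node (.node (.leaf (nat_lit 0)) (.leaf
    (nat_lit 2121406251982822537051766819))) (.leaf (nat_lit 874725971650019344))) (.node (.node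
    (.leaf (nat_lit 0)) (.leaf (nat_lit 313516299236897923105292290))) (.leaf (nat_lit
    43535642243381021835289)))) (.node (.node (.node (.leaf (nat_lit 0)) (.leaf (nat_lit
    29250126799655105921026))) (.leaf (nat_lit 1679893938623873035))) (.node (.node (.leaf (nat_lit
    36008734923684344692777)) (.leaf (nat_lit 262436799731859458))) (.leaf (nat_lit 0))))))) (.node
    (.node (.node (.node (.node (.node (.leaf (nat_lit 1397369294329968001087)) (.leaf (nat_lit
    0))) (.leaf (nat_lit 24866964838323480363046))) (.node (.node (.leaf (nat_lit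
    20799044687950015299610)) (.leaf (nat_lit 43408058229735632863234))) (.leaf (nat_lit
    58468164894147729358854)))) (.node (.node (.node (.leaf (nat_lit 10810120941291178229794))
    (.leaf (nat_lit 0))) (.leaf (nat_lit 46422157841409908080678))) (.node (.node (.leaf (nat_lit
    665392178957617944936579125)) (.leaf (nat_lit 224814844596203524599316482))) (.leaf (nat_lit
    48359562649338002997256))))) (.node (.node (.node (.node (.leaf (nat_lit
    6650148775849361604620)) (.leaf (nat_lit 0))) (.leaf (nat_lit 0))) (.node (.node (.leaf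
    (nat_lit 15680208038407505641493)) (.leaf (nat_lit 100809794050525975740418))) (.leaf (nat_lit
    42631726168446861508629)))) (.node (.node (.node (.leaf (nat_lit 0)) (.leaf (nat_lit
    88662459249903418933250))) (.leaf (nat_lit 0))) (.node (.node (.leaf (nat_lit 0)) (.leaf
    (nat_lit 257931181469859842))) (.leaf (nat_lit 51117484734115643326469)))))) (.node (.node
    (.node (.node (.node (.leaf (nat_lit 0)) (.leaf (nat_lit 79839307894908409544733))) (.leaf
    (nat_lit 26121385518052361306160))) (.node (.node (.leaf (nat_lit 411678744240062481)) (.leaf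
    (nat_lit 28337111674158900772866))) (.leaf (nat_lit 58786415704681742532667)))) (.node (.node
    (.node (.leaf (nat_lit 0)) (.leaf (nat_lit 83285162982560510443614))) (.leaf (nat_lit
    1571804249032097803))) (.node (.node (.leaf (nat_lit 0)) (.leaf (nat_lit 3235370757810946050)))
    (.leaf (nat_lit 0))))) (.node (.node (.node (.node (.leaf (nat_lit
    9408481211585584346688028737585)) (.leaf (nat_lit 65220453920179767935045))) (.leaf (nat_lit
    0))) (.node (.node (.leaf (nat_lit 16584127069937022992416)) (.leaf (nat_lit
    28959933048370181111810))) (.leaf (nat_lit 44365771764232809021472)))) (.node (.node (.node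
    (.leaf (nat_lit 0)) (.leaf (nat_lit 26815178717293535494146))) (.leaf (nat_lit
    1715360885201043484))) (.node (.leaf (nat_lit 0)) (.leaf (nat_lit 2292120696077287444)))))))))
    (.node (.node (.node (.node (.node (.node (.node (.node (.leaf (nat_lit 13229736222392327))
    (.leaf (nat_lit 1711860864811925570))) (.leaf (nat_lit 38157825646191926509608))) (.node (.node
    (.leaf (nat_lit 14886841396641019396148)) (.leaf (nat_lit 331642807980692357647695874))) (.leaf
    (nat_lit 0)))) (.node (.node (.node (.leaf (nat_lit 0)) (.leaf (nat_lit 2607382299309899796)))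
    (.leaf (nat_lit 951289089460666371))) (.node (.node (.leaf (nat_lit 17571057574297980829720))
    (.leaf (nat_lit 1670386444821092652288311298))) (.leaf (nat_lit 66396469303958265069611)))))
    (.node (.node (.node (.node (.leaf (nat_lit 4879312008894663032840)) (.leaf (nat_lit 0)))
    (.leaf (nat_lit 42105503191740488810535))) (.node (.node (.leaf (nat_lit
    19286519059633104158787)) (.leaf (nat_lit 51861334560530541772802))) (.leaf (nat_lit 0))))
    (.node (.node (.node (.leaf (nat_lit 14619293375176085012489)) (.leaf (nat_lit
    2538143784366112770))) (.leaf (nat_lit 0))) (.node (.node (.leaf (nat_lit 0)) (.leaf (nat_lit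
    263957083164094251049156610))) (.leaf (nat_lit 70901553294025081159689)))))) (.node (.node
    (.node (.node (.node (.leaf (nat_lit 0)) (.leaf (nat_lit 0))) (.leaf (nat_lit
    1238937832551219264))) (.node (.node (.leaf (nat_lit 396759196084862993)) (.leaf (nat_lit
    10554424494789469863938))) (.leaf (nat_lit 59242940530992909320233)))) (.node (.node (.node
    (.leaf (nat_lit 0)) (.leaf (nat_lit 70210449910154305667076))) (.leaf (nat_lit
    1236176255365013726487117877))) (.node (.node (.leaf (nat_lit 20508735769444920524878)) (.leaf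
    (nat_lit 3254790503979417602))) (.leaf (nat_lit 0))))) (.node (.node (.node (.node (.leaf
    (nat_lit 0)) (.leaf (nat_lit 2687656510067430033832804417))) (.leaf (nat_lit 0))) (.node (.node
    (.leaf (nat_lit 0)) (.leaf (nat_lit 160279721893347950443364354))) (.leaf (nat_lit 0)))) (.node
    (.node (.node (.leaf (nat_lit 15306461193488908353598)) (.leaf (nat_lit
    36545824128827388002306))) (.leaf (nat_lit 1104699548837740560))) (.node (.node (.leaf (nat_lit
    22478040686239447973912)) (.leaf (nat_lit 654671853360644098))) (.leaf (nat_lit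
    69135370156433752653887))))))) (.node (.node (.node (.node (.node (.node (.leaf (nat_lit
    1383532265666381021197)) (.leaf (nat_lit 1742824211761725462))) (.leaf (nat_lit
    39301538979492992843782))) (.node (.node (.leaf (nat_lit 0)) (.leaf (nat_lit
    26418603097147645820930))) (.leaf (nat_lit 0)))) (.node (.node (.node (.leaf (nat_lit
    10911412666864295411737)) (.leaf (nat_lit 2643130720863780875))) (.leaf (nat_lit
    1526752139043470383801172012))) (.node (.node (.leaf (nat_lit 0)) (.leaf (nat_lit
    113298615247904189970947636527106))) (.leaf (nat_lit 47746199542159106048063))))) (.node (.node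
    (.node (.node (.leaf (nat_lit 93877827493036035)) (.leaf (nat_lit
    2662721096059506394262667299))) (.leaf (nat_lit 1369000952137736390881574947))) (.node (.node
    (.leaf (nat_lit 0)) (.leaf (nat_lit 3006807055177744386))) (.leaf (nat_lit
    1408576357023596258963750945)))) (.node (.node (.node (.leaf (nat_lit 10602530335331880992828))
    (.leaf (nat_lit 91364736967424744816683))) (.leaf (nat_lit 57233570939031469552119729946673)))
    (.node (.node (.leaf (nat_lit 34606746906860963692584)) (.leaf (nat_lit 612167001573556226)))
    (.leaf (nat_lit 0)))))) (.node (.node (.node (.node (.node (.leaf (nat_lit 71639105309638673))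
    (.leaf (nat_lit 0))) (.leaf (nat_lit 41690433434584002789422))) (.node (.node (.leaf (nat_lit
    0)) (.leaf (nat_lit 530967992870934589741465602))) (.leaf (nat_lit 41026808343843366436931))))
    (.node (.node (.node (.leaf (nat_lit 9998343310452426211374)) (.leaf (nat_lit
    71645258033979409498114))) (.leaf (nat_lit 0))) (.node (.node (.leaf (nat_lit 0)) (.leaf
    (nat_lit 3429181930198169872551378946))) (.leaf (nat_lit 1504689784394743830))))) (.node (.node
    (.node (.node (.leaf (nat_lit 0)) (.leaf (nat_lit 0))) (.leaf (nat_lit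
    32761439555495682796935358775345))) (.node (.node (.leaf (nat_lit 27610956709121977679943))
    (.leaf (nat_lit 3109267090616483842))) (.leaf (nat_lit 0)))) (.node (.node (.node (.leaf
    (nat_lit 553115238522814471)) (.leaf (nat_lit 20354203503604139229186))) (.leaf (nat_lit
    1154521719227154448))) (.node (.node (.leaf (nat_lit 0)) (.leaf (nat_lit 3433114397898309634)))
    (.leaf (nat_lit 74812414896691386449933)))))))) (.node (.node (.node (.node (.node (.node
    (.node (.leaf (nat_lit 820894748936641904678)) (.leaf (nat_lit 76546467528810585849882)))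
    (.leaf (nat_lit 24359667412793913704452))) (.node (.node (.leaf (nat_lit
    17810661873339194343478)) (.leaf (nat_lit 45298838507259825422338))) (.leaf (nat_lit
    1759835297320927239)))) (.node (.node (.node (.leaf (nat_lit 10413346635666117820422)) (.leaf
    (nat_lit 0))) (.leaf (nat_lit 0))) (.node (.node (.leaf (nat_lit 557488554612228099)) (.leaf
    (nat_lit 1349417239126615578743406594))) (.leaf (nat_lit 50796123768067658909770972463119)))))
    (.node (.node (.node (.node (.leaf (nat_lit 0)) (.leaf (nat_lit 64814527734971503935513)))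
    (.leaf (nat_lit 1327758013930536980))) (.node (.node (.leaf (nat_lit 0)) (.leaf (nat_lit
    29056679056303255126018))) (.leaf (nat_lit 0)))) (.node (.node (.node (.leaf (nat_lit
    8697899364843088183319)) (.leaf (nat_lit 34295263636691364282370))) (.leaf (nat_lit 0))) (.node
    (.node (.leaf (nat_lit 33380020692460220121128)) (.leaf (nat_lit 7022214931981212516354)))
    (.leaf (nat_lit 0)))))) (.node (.node (.node (.node (.node (.leaf (nat_lit
    1973856225197794983970)) (.leaf (nat_lit 58182806003954686820421))) (.leaf (nat_lit
    785775755840847875))) (.node (.node (.leaf (nat_lit 22247160120277886763017)) (.leaf (nat_lit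
    67826966225519579955202))) (.leaf (nat_lit 1911522665767022474310189091)))) (.node (.node
    (.node (.leaf (nat_lit 8492505471412271805375550128143)) (.leaf (nat_lit 0))) (.leaf (nat_lit
    0))) (.node (.node (.leaf (nat_lit 580853176702468112)) (.leaf (nat_lit 3264644043719704578)))
    (.leaf (nat_lit 0))))) (.node (.node (.node (.node (.leaf (nat_lit 121464024478121987)) (.leaf
    (nat_lit 64556349036924508504101))) (.leaf (nat_lit 0))) (.node (.node (.leaf (nat_lit
    26932737546605929103379)) (.leaf (nat_lit 3351766479182389635356819458))) (.leaf (nat_lit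
    62268319154002582503491)))) (.node (.node (.node (.leaf (nat_lit 300772380735832086)) (.leaf
    (nat_lit 14732545310974535729154))) (.leaf (nat_lit 36894604528720640409605))) (.node (.node
    (.leaf (nat_lit 36331556041456703700998)) (.leaf (nat_lit 198542392335400962))) (.leaf (nat_lit
    52966829234928492937241))))))) (.node (.node (.node (.node (.node (.node (.leaf (nat_lit
    67977688639471682)) (.leaf (nat_lit 1748735736028463120))) (.leaf (nat_lit
    759878958471839766))) (.node (.node (.leaf (nat_lit 643189979849293844)) (.leaf (nat_lit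
    74684517174137866878978))) (.leaf (nat_lit 58772541519671962304524)))) (.node (.node (.node
    (.leaf (nat_lit 11557069539150752055308)) (.leaf (nat_lit 69500227885514673553442))) (.leaf
    (nat_lit 0))) (.node (.node (.leaf (nat_lit 0)) (.leaf (nat_lit 20216123153932496338946)))
    (.leaf (nat_lit 1552592596901183259721072693))))) (.node (.node (.node (.node (.leaf (nat_lit
    179446770168889410)) (.leaf (nat_lit 0))) (.leaf (nat_lit 0))) (.node (.node (.leaf (nat_lit
    0)) (.leaf (nat_lit 3070422530218131458))) (.leaf (nat_lit 0)))) (.node (.node (.node (.leaf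
    (nat_lit 15938254859122900140073)) (.leaf (nat_lit 83880151407464508751874))) (.leaf (nat_lit
    1083869850805338134))) (.node (.node (.leaf (nat_lit 0)) (.leaf (nat_lit 3263662261440479234)))
    (.leaf (nat_lit 2015503402289467977313288227)))))) (.node (.node (.node (.node (.node (.leaf
    (nat_lit 4113694582921287106590)) (.leaf (nat_lit 0))) (.leaf (nat_lit
    45418403723507789599484628238378))) (.node (.node (.leaf (nat_lit 634403216396977889708605473))
    (.leaf (nat_lit 3019473910166061058))) (.leaf (nat_lit 0)))) (.node (.node (.node (.leaf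
    (nat_lit 0)) (.leaf (nat_lit 40152068553909297414146))) (.leaf (nat_lit 0))) (.node (.node
    (.leaf (nat_lit 28367090404799600066597)) (.leaf (nat_lit 234035605318913080523227138))) (.leaf
    (nat_lit 0))))) (.node (.node (.node (.node (.leaf (nat_lit 282609539566665735)) (.leaf
    (nat_lit 0))) (.leaf (nat_lit 0))) (.node (.node (.leaf (nat_lit 17285125159314969002005))
    (.leaf (nat_lit 797791863154278402))) (.leaf (nat_lit 2012607531578425355)))) (.node (.node
    (.node (.leaf (nat_lit 18631517213713217290252)) (.leaf (nat_lit 8225478290693075173378)))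
    (.leaf (nat_lit 1723805400790335508))) (.node (.leaf (nat_lit 37475268530367199641632)) (.leaf
    (nat_lit 0))))))))))) (.node (.node (.node (.node (.node (.node (.node (.node (.node (.node
    (.leaf (nat_lit 69176838444617498630)) (.leaf (nat_lit 0))) (.leaf (nat_lit
    36967987290662406127628))) (.node (.node (.leaf (nat_lit 0)) (.leaf (nat_lit
    2882391103972179970))) (.leaf (nat_lit 1812216269339762693817761845)))) (.node (.node (.node
    (.leaf (nat_lit 0)) (.leaf (nat_lit 0))) (.leaf (nat_lit 0))) (.node (.node (.leaf (nat_lit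
    866124973222264860)) (.leaf (nat_lit 3040022451049332738))) (.leaf (nat_lit 0))))) (.node
    (.node (.node (.node (.leaf (nat_lit 146792816717201476)) (.leaf (nat_lit
    60304235757678562050099))) (.leaf (nat_lit 42474432724846524956718))) (.node (.node (.leaf
    (nat_lit 432226898576277526)) (.leaf (nat_lit 29079707652392912879618))) (.leaf (nat_lit 0))))
    (.node (.node (.node (.leaf (nat_lit 0)) (.leaf (nat_lit 75173217126594098954242))) (.leaf
    (nat_lit 0))) (.node (.node (.leaf (nat_lit 0)) (.leaf (nat_lit 3316720410514554882))) (.leaf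
    (nat_lit 2298065047127091168290275393)))))) (.node (.node (.node (.node (.node (.leaf (nat_lit
    0)) (.leaf (nat_lit 2380642780956459053))) (.leaf (nat_lit 39790383890651697840134))) (.node
    (.node (.leaf (nat_lit 21260229756568517935134)) (.leaf (nat_lit 9313870531371349508098)))
    (.leaf (nat_lit 0)))) (.node (.node (.node (.leaf (nat_lit 0)) (.leaf (nat_lit 0))) (.leaf
    (nat_lit 0))) (.node (.node (.leaf (nat_lit 30783918571102046191639)) (.leaf (nat_lit
    285932761922011138))) (.leaf (nat_lit 46754698730156075450392))))) (.node (.node (.node (.node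
    (.leaf (nat_lit 3431198127900388950064)) (.leaf (nat_lit 0))) (.leaf (nat_lit
    43839523313706036559901))) (.node (.node (.leaf (nat_lit 24802442738911458558024)) (.leaf
    (nat_lit 3078585639550189570))) (.leaf (nat_lit 0)))) (.node (.node (.node (.leaf (nat_lit 0))
    (.leaf (nat_lit 85844731192378906574850))) (.leaf (nat_lit 1092032831288377366))) (.node (.node
    (.leaf (nat_lit 35289300082233585106957)) (.leaf (nat_lit 2256405921297203202))) (.leaf
    (nat_lit 0))))))) (.node (.node (.node (.node (.node (.node (.leaf (nat_lit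
    1199056661845723250697)) (.leaf (nat_lit 0))) (.leaf (nat_lit 39048273283158523445271))) (.node
    (.node (.leaf (nat_lit 20033497630660687495195)) (.leaf (nat_lit 41212887778363195981826)))
    (.leaf (nat_lit 0)))) (.node (.node (.node (.leaf (nat_lit 10274998588620014813192)) (.leaf
    (nat_lit 68937581361224902443078))) (.leaf (nat_lit 1547908433118476111651799084))) (.node
    (.node (.leaf (nat_lit 29257082471385359646758)) (.leaf (nat_lit 11071179010564740546562)))
    (.leaf (nat_lit 0))))) (.node (.node (.node (.node (.leaf (nat_lit 0)) (.leaf (nat_lit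
    81481169731507110215707))) (.leaf (nat_lit 0))) (.node (.node (.leaf (nat_lit
    758035275040555015)) (.leaf (nat_lit 20935499429144783159298))) (.leaf (nat_lit
    1445635160887422051300933667)))) (.node (.node (.node (.leaf (nat_lit
    12196506543960165631922928943153)) (.leaf (nat_lit 74449224074774871998466))) (.leaf (nat_lit
    1054032609920811011))) (.node (.node (.leaf (nat_lit 0)) (.leaf (nat_lit 3305178227072434178)))
    (.leaf (nat_lit 71980719629765372477459)))))) (.node (.node (.node (.node (.node (.leaf
    (nat_lit 3375810463829969797150)) (.leaf (nat_lit 79147533036469052702741))) (.leaf (nat_lit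
    0))) (.node (.node (.leaf (nat_lit 523986641472323595)) (.leaf (nat_lit
    9549092993297012686850))) (.leaf (nat_lit 0)))) (.node (.node (.node (.leaf (nat_lit
    8919205967038463016997)) (.leaf (nat_lit 87306459747680023412770))) (.leaf (nat_lit 0))) (.node
    (.node (.leaf (nat_lit 19129856428135913029636)) (.leaf (nat_lit 405399309586810464985415682)))
    (.leaf (nat_lit 69693258060231767949339))))) (.node (.node (.node (.node (.leaf (nat_lit
    156560662247857215575949345)) (.leaf (nat_lit 78428891535839334694914))) (.leaf (nat_lit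
    889363151475310608))) (.node (.node (.leaf (nat_lit 26785165001597294673933)) (.leaf (nat_lit
    20428290268530338889730))) (.leaf (nat_lit 0)))) (.node (.node (.node (.leaf (nat_lit
    9472691469537773813781)) (.leaf (nat_lit 22775330800477594124290))) (.leaf (nat_lit
    37245097169935497625638))) (.node (.node (.leaf (nat_lit 709773320240889872)) (.leaf (nat_lit
    111790642597467267465218))) (.leaf (nat_lit 53423400224707798302745)))))))) (.node (.node
    (.node (.node (.node (.node (.node (.leaf (nat_lit 534799012988292352673340260394)) (.leaf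
    (nat_lit 55305022305808456810548))) (.leaf (nat_lit 38457667568781739884567))) (.node (.node
    (.leaf (nat_lit 329766158762901521)) (.leaf (nat_lit 14870930216463605366786))) (.leaf (nat_lit
    0)))) (.node (.node (.node (.leaf (nat_lit 9961396901908419117096)) (.leaf (nat_lit
    2801149402148067155003047971))) (.leaf (nat_lit 47787203953855845040147))) (.node (.node (.leaf
    (nat_lit 18410388792737242742807)) (.leaf (nat_lit 67711809623638346498050))) (.leaf (nat_lit
    2160547134066344232076181548))))) (.node (.node (.node (.node (.leaf (nat_lit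
    80647610234437654)) (.leaf (nat_lit 2469173885266952212))) (.leaf (nat_lit 0))) (.node (.node
    (.leaf (nat_lit 0)) (.leaf (nat_lit 103344243730216500765765971279874))) (.leaf (nat_lit
    1286257712044310550)))) (.node (.node (.node (.leaf (nat_lit 0)) (.leaf (nat_lit
    2962400891760200216572330037))) (.leaf (nat_lit 0))) (.node (.node (.leaf (nat_lit
    20808561087472124231705)) (.leaf (nat_lit 3476824754088770133542830082))) (.leaf (nat_lit
    0)))))) (.node (.node (.node (.node (.node (.leaf (nat_lit 0)) (.leaf (nat_lit 0))) (.leaf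
    (nat_lit 40786523270839101751302))) (.node (.node (.leaf (nat_lit 21785987577433286705186))
    (.leaf (nat_lit 17771716473263420014594))) (.leaf (nat_lit 0)))) (.node (.node (.node (.leaf
    (nat_lit 0)) (.leaf (nat_lit 2686479172947279883))) (.leaf (nat_lit 49751833991292060368905)))
    (.node (.node (.leaf (nat_lit 0)) (.leaf (nat_lit 2498185865365422082))) (.leaf (nat_lit 0)))))
    (.node (.node (.node (.node (.leaf (nat_lit 7609397905298255183927)) (.leaf (nat_lit
    69979715170296356836278838558769))) (.leaf (nat_lit 28335062645588120240132))) (.node (.node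
    (.leaf (nat_lit 26157972043349536997415)) (.leaf (nat_lit 19676419361373266575362))) (.leaf
    (nat_lit 0)))) (.node (.node (.node (.leaf (nat_lit 15827584528535718658077)) (.leaf (nat_lit
    2826094605391495170))) (.leaf (nat_lit 0))) (.node (.node (.leaf (nat_lit
    25895304951929573146691)) (.leaf (nat_lit 2777697079949131778))) (.leaf (nat_lit 0)))))))
    (.node (.node (.node (.node (.node (.node (.leaf (nat_lit 1660235115862402727963)) (.leaf
    (nat_lit 77367370158844711993371))) (.leaf (nat_lit 833569917818425876909654051))) (.node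
    (.node (.leaf (nat_lit 645728548729015331836919822)) (.leaf (nat_lit 31025680134234951581698)))
    (.leaf (nat_lit 58486609949328628973580)))) (.node (.node (.node (.leaf (nat_lit
    308740144458213377500774435)) (.leaf (nat_lit 0))) (.leaf (nat_lit 30548733721497779241018)))
    (.node (.node (.leaf (nat_lit 920732767971573780)) (.leaf (nat_lit 3153458369902280706)))
    (.leaf (nat_lit 49055923438139633500219))))) (.node (.node (.node (.node (.leaf (nat_lit 0))
    (.leaf (nat_lit 81868565994312145502217))) (.leaf (nat_lit 0))) (.node (.node (.leaf (nat_lit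
    479797818907820035)) (.leaf (nat_lit 25025955739087520595970))) (.leaf (nat_lit 0)))) (.node
    (.node (.node (.leaf (nat_lit 0)) (.leaf (nat_lit 2666356959107743746))) (.leaf (nat_lit
    35188234538571807260739))) (.node (.node (.leaf (nat_lit 0)) (.leaf (nat_lit
    6819350307180288081922))) (.leaf (nat_lit 0)))))) (.node (.node (.node (.node (.node (.leaf
    (nat_lit 3278112826597927616531965214762)) (.leaf (nat_lit 0))) (.leaf (nat_lit
    41690436531023494971398))) (.node (.node (.leaf (nat_lit 0)) (.leaf (nat_lit
    3006241785941983234))) (.leaf (nat_lit 41026810455120440131653)))) (.node (.node (.node (.leaf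
    (nat_lit 0)) (.leaf (nat_lit 2570794031261024258))) (.leaf (nat_lit 0))) (.node (.node (.leaf
    (nat_lit 0)) (.leaf (nat_lit 3473894707102065216595427330))) (.leaf (nat_lit
    2146030724988403740))))) (.node (.node (.node (.node (.leaf (nat_lit 4270550880601298370608))
    (.leaf (nat_lit 0))) (.leaf (nat_lit 1425432794376568843))) (.node (.node (.leaf (nat_lit
    26517697909118787059753)) (.leaf (nat_lit 3061694847435014146))) (.leaf (nat_lit
    2001066713935904796)))) (.node (.node (.node (.leaf (nat_lit 9564928005188664623173)) (.leaf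
    (nat_lit 42587144160850682773506))) (.leaf (nat_lit 37125203185621736292404))) (.node (.leaf
    (nat_lit 36967977157013488730167)) (.leaf (nat_lit 0))))))))) (.node (.node (.node (.node
    (.node (.node (.node (.node (.leaf (nat_lit 10977880574132252)) (.leaf (nat_lit 0))) (.leaf
    (nat_lit 0))) (.node (.node (.leaf (nat_lit 496278751455098846040031285)) (.leaf (nat_lit
    2881546481473552386))) (.leaf (nat_lit 56411285093042387877915)))) (.node (.node (.node (.leaf
    (nat_lit 5285140242090931978279)) (.leaf (nat_lit 0))) (.leaf (nat_lit 0))) (.node (.node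
    (.leaf (nat_lit 555799086276673553)) (.leaf (nat_lit 3257820596627259095102259202))) (.leaf
    (nat_lit 2163418102301516726383411253))))) (.node (.node (.node (.node (.leaf (nat_lit
    85432409960611843)) (.leaf (nat_lit 0))) (.leaf (nat_lit 42769585696858926415876))) (.node
    (.node (.leaf (nat_lit 0)) (.leaf (nat_lit 3259324517925626567886897154))) (.leaf (nat_lit
    1884251025188192267)))) (.node (.node (.node (.leaf (nat_lit 0)) (.leaf (nat_lit
    79429812889097496363010))) (.leaf (nat_lit 0))) (.node (.node (.leaf (nat_lit 0)) (.leaf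
    (nat_lit 3312213795820142594))) (.leaf (nat_lit 0)))))) (.node (.node (.node (.node (.node
    (.leaf (nat_lit 2753219600350832342039219470378)) (.leaf (nat_lit 0))) (.leaf (nat_lit
    912755472123771960550490156))) (.node (.node (.leaf (nat_lit 0)) (.leaf (nat_lit
    16697187977276753641474))) (.leaf (nat_lit 0)))) (.node (.node (.node (.leaf (nat_lit
    12179707246524502310950)) (.leaf (nat_lit 70044423865406232657941))) (.leaf (nat_lit 0)))
    (.node (.node (.leaf (nat_lit 29215597987013280858190)) (.leaf (nat_lit
    204868360128048456184102914))) (.leaf (nat_lit 0))))) (.node (.node (.node (.node (.leaf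
    (nat_lit 226312826237616135)) (.leaf (nat_lit 82984620751718994608198))) (.leaf (nat_lit
    914695074745548866))) (.node (.node (.leaf (nat_lit 803072654293729308)) (.leaf (nat_lit
    3185273103128384699313160194))) (.leaf (nat_lit 0)))) (.node (.node (.node (.leaf (nat_lit 0))
    (.leaf (nat_lit 2818494712300830722))) (.leaf (nat_lit 0))) (.node (.node (.leaf (nat_lit 0))
    (.leaf (nat_lit 658612425725181954))) (.leaf (nat_lit 2183688915959609843429670956)))))))
    (.node (.node (.node (.node (.node (.node (.leaf (nat_lit 1401979009679961030711)) (.leaf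
    (nat_lit 56374968928763900002374))) (.leaf (nat_lit 831935934034477122))) (.node (.node (.leaf
    (nat_lit 622923171640770588)) (.leaf (nat_lit 3145087230630744985872629762))) (.leaf (nat_lit
    0)))) (.node (.node (.node (.leaf (nat_lit 0)) (.leaf (nat_lit 2641849854241931309))) (.leaf
    (nat_lit 0))) (.node (.node (.leaf (nat_lit 18013794069813771042820)) (.leaf (nat_lit
    9304843991857399791618))) (.leaf (nat_lit 67291163414161734697003))))) (.node (.node (.node
    (.node (.leaf (nat_lit 0)) (.leaf (nat_lit 2163492893782835216))) (.leaf (nat_lit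
    43950190266524778037288))) (.node (.node (.leaf (nat_lit 15514182274859531436053)) (.leaf
    (nat_lit 685409124833406558501339138))) (.leaf (nat_lit 1359723505599512604)))) (.node (.node
    (.node (.leaf (nat_lit 273467590007980054)) (.leaf (nat_lit 2702948439792156674))) (.leaf
    (nat_lit 34690159641195331125294))) (.node (.node (.leaf (nat_lit 659668850241044496)) (.leaf
    (nat_lit 426393362325700610))) (.leaf (nat_lit 72358883231575853695006)))))) (.node (.node
    (.node (.node (.node (.leaf (nat_lit 119067570165907467)) (.leaf (nat_lit 0))) (.leaf (nat_lit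
    26001476896146457821230))) (.node (.node (.leaf (nat_lit 413367250502942737)) (.leaf (nat_lit
    1365946131527368706))) (.leaf (nat_lit 1257545890030288918)))) (.node (.node (.node (.leaf
    (nat_lit 212666796015222787)) (.leaf (nat_lit 2712375686848446471))) (.leaf (nat_lit
    32338127993470688886830))) (.node (.node (.leaf (nat_lit 595771831504470038)) (.leaf (nat_lit
    3220734299540160514))) (.leaf (nat_lit 0))))) (.node (.node (.node (.node (.leaf (nat_lit
    263887897382486095)) (.leaf (nat_lit 84156025030296081727494))) (.leaf (nat_lit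
    887111626539532304))) (.node (.node (.leaf (nat_lit 16547227951946472292384)) (.leaf (nat_lit
    16960157991717902155778))) (.leaf (nat_lit 0)))) (.node (.node (.node (.leaf (nat_lit 0))
    (.leaf (nat_lit 17910009613752553635842))) (.leaf (nat_lit 37152869642291315408963))) (.node
    (.node (.leaf (nat_lit 36304300116263995375668)) (.leaf (nat_lit 112182686786868291502082)))
    (.leaf (nat_lit 2280579887024701468)))))))) (.node (.node (.node (.node (.node (.node (.node
    (.leaf (nat_lit 28992815954526228)) (.leaf (nat_lit 55535616880841354051608))) (.leaf (nat_lit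
    0))) (.node (.node (.leaf (nat_lit 19839799921474929885214)) (.leaf (nat_lit
    33303842331623973650434))) (.leaf (nat_lit 57481229182430982897704)))) (.node (.node (.node
    (.leaf (nat_lit 175790825287057424)) (.leaf (nat_lit 85862990199497917923336))) (.leaf (nat_lit
    30133674097706742775859))) (.node (.node (.leaf (nat_lit 29146399754877000679451)) (.leaf
    (nat_lit 52202870270143645286402))) (.leaf (nat_lit 2046667034552565771))))) (.node (.node
    (.node (.node (.leaf (nat_lit 149911238209136283248492588)) (.leaf (nat_lit 0))) (.leaf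
    (nat_lit 0))) (.node (.node (.leaf (nat_lit 0)) (.leaf (nat_lit 3005116306941935618))) (.leaf
    (nat_lit 1902265973453488148)))) (.node (.node (.node (.leaf (nat_lit 0)) (.leaf (nat_lit
    50486891540445365731330))) (.leaf (nat_lit 0))) (.node (.node (.leaf (nat_lit
    641090952022327299)) (.leaf (nat_lit 134300341925093048269930498))) (.leaf (nat_lit
    56019669956842576084996)))))) (.node (.node (.node (.node (.node (.leaf (nat_lit
    58690637905657878)) (.leaf (nat_lit 67300764110830523715502419017777))) (.leaf (nat_lit
    1254699825656627250))) (.node (.node (.leaf (nat_lit 12654851653767828537391)) (.leaf (nat_lit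
    40032333056397019381762))) (.leaf (nat_lit 0)))) (.node (.node (.node (.leaf (nat_lit 0))
    (.leaf (nat_lit 2857081166640160671694848033))) (.leaf (nat_lit 0))) (.node (.node (.leaf
    (nat_lit 0)) (.leaf (nat_lit 33396352203541952266242))) (.leaf (nat_lit
    47400354476817503158293))))) (.node (.node (.node (.node (.leaf (nat_lit
    7867656826213284118557)) (.leaf (nat_lit 0))) (.leaf (nat_lit 872755852971474947))) (.node
    (.node (.leaf (nat_lit 821369068945801236)) (.leaf (nat_lit 20557411284064242171906))) (.leaf
    (nat_lit 43683220699767894114328)))) (.node (.node (.node (.leaf (nat_lit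
    10971486751230928289844)) (.leaf (nat_lit 27912739421402995818498))) (.leaf (nat_lit 0)))
    (.node (.node (.leaf (nat_lit 36391673040230320111639)) (.leaf (nat_lit 427944386685435906)))
    (.leaf (nat_lit 54285769043601294295091))))))) (.node (.node (.node (.node (.node (.node (.leaf
    (nat_lit 1249797593754853638167)) (.leaf (nat_lit 0))) (.leaf (nat_lit
    24765508731269474877487))) (.node (.node (.leaf (nat_lit 0)) (.leaf (nat_lit
    15166170456104018051074))) (.leaf (nat_lit 40002978580187433861143)))) (.node (.node (.node
    (.leaf (nat_lit 189865673634218006)) (.leaf (nat_lit 87126090721966933868599))) (.leaf (nat_lit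
    48654218941093092982811))) (.node (.node (.leaf (nat_lit 0)) (.leaf (nat_lit
    2354071321534660610))) (.leaf (nat_lit 46736249311803799175235))))) (.node (.node (.node (.node
    (.leaf (nat_lit 101478132900560899)) (.leaf (nat_lit 2515753750484877391))) (.leaf (nat_lit
    43387573580025647267846))) (.node (.node (.leaf (nat_lit 25355531075511346462761)) (.leaf
    (nat_lit 3149957543536185582486290434))) (.leaf (nat_lit 63411984915790611808296)))) (.node
    (.node (.node (.leaf (nat_lit 0)) (.leaf (nat_lit 78258503337819418853378))) (.leaf (nat_lit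
    0))) (.node (.node (.leaf (nat_lit 0)) (.leaf (nat_lit 646507859265323010))) (.leaf (nat_lit
    0)))))) (.node (.node (.node (.node (.node (.leaf (nat_lit 3268208852973359084960259309599))
    (.leaf (nat_lit 80075136918929094672457))) (.leaf (nat_lit 0))) (.node (.node (.leaf (nat_lit
    22376311536664052957239)) (.leaf (nat_lit 27405657480640436830210))) (.leaf (nat_lit
    60525025555968266797111)))) (.node (.node (.node (.leaf (nat_lit 399858639143325558777315342))
    (.leaf (nat_lit 76021761020763402600450))) (.leaf (nat_lit 0))) (.node (.node (.leaf (nat_lit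
    622793979024506896)) (.leaf (nat_lit 3253947814216073218))) (.leaf (nat_lit 0))))) (.node
    (.node (.node (.node (.leaf (nat_lit 6377959567446446487697606639647)) (.leaf (nat_lit
    84174491759634303615017))) (.leaf (nat_lit 933555547452604432))) (.node (.node (.leaf (nat_lit
    27652512832453337088008)) (.leaf (nat_lit 3164152537821609986))) (.leaf (nat_lit 0)))) (.node
    (.node (.node (.leaf (nat_lit 0)) (.leaf (nat_lit 9152426054840670683138))) (.leaf (nat_lit
    56208361900465392386078))) (.node (.leaf (nat_lit 0)) (.leaf (nat_lit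
    54677816117987685630003)))))))))) (.node (.node (.node (.node (.node (.node (.node (.node
    (.node (.leaf (nat_lit 225975852067037839379)) (.leaf (nat_lit 1838983071992198725112168513)))
    (.leaf (nat_lit 0))) (.node (.node (.leaf (nat_lit 0)) (.leaf (nat_lit
    23425601609719003414530))) (.leaf (nat_lit 56153028705530998358071)))) (.node (.node (.node
    (.leaf (nat_lit 0)) (.leaf (nat_lit 68476391084838294323223))) (.leaf (nat_lit
    30318128308441328058406))) (.node (.node (.leaf (nat_lit 28187155551523667378202)) (.leaf
    (nat_lit 20202203077781273903106))) (.leaf (nat_lit 1697379518580209552025976846))))) (.node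
    (.node (.node (.node (.leaf (nat_lit 4731666420700075458598)) (.leaf (nat_lit
    65424000620327438041199879192607))) (.leaf (nat_lit 42649679326967584981011))) (.node (.node
    (.leaf (nat_lit 14490358704125532897326)) (.leaf (nat_lit 25482563023277507411970))) (.leaf
    (nat_lit 61567274196369544511507)))) (.node (.node (.node (.leaf (nat_lit 244755905432911894))
    (.leaf (nat_lit 2515343984835035138))) (.leaf (nat_lit 0))) (.node (.node (.leaf (nat_lit
    956590779149711798125723683)) (.leaf (nat_lit 3318407095711301634))) (.leaf (nat_lit 0))))))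
    (.node (.node (.node (.node (.node (.leaf (nat_lit 41801452108251139)) (.leaf (nat_lit
    72898671740423671840828))) (.leaf (nat_lit 0))) (.node (.node (.leaf (nat_lit
    375366891696422928)) (.leaf (nat_lit 4775973467663945105410))) (.leaf (nat_lit
    39984537043821700251669)))) (.node (.node (.node (.leaf (nat_lit 367473102583627855)) (.leaf
    (nat_lit 2304563134734407056979394595))) (.leaf (nat_lit 0))) (.node (.node (.leaf (nat_lit 0))
    (.leaf (nat_lit 3248879383439605762))) (.leaf (nat_lit 68595645261669405491240))))) (.node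
    (.node (.node (.node (.leaf (nat_lit 222934993373102100)) (.leaf (nat_lit
    64975981783064435163211))) (.leaf (nat_lit 41496790757140626341929))) (.node (.node (.leaf
    (nat_lit 522301227585896465)) (.leaf (nat_lit 3260528112816999564073762818))) (.leaf (nat_lit
    0)))) (.node (.node (.node (.leaf (nat_lit 16754741285276541452326)) (.leaf (nat_lit
    1251028311364064648901165058))) (.leaf (nat_lit 0))) (.node (.node (.leaf (nat_lit 0)) (.leaf
    (nat_lit 718566381016186882))) (.leaf (nat_lit 2342667521951493265304059937))))))) (.node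
    (.node (.node (.node (.node (.node (.leaf (nat_lit 894691858682829013044)) (.leaf (nat_lit 0)))
    (.leaf (nat_lit 1194897779063914507))) (.node (.node (.leaf (nat_lit 20010453696667290107930))
    (.leaf (nat_lit 44588643376459860344834))) (.leaf (nat_lit 39274315159361210744836)))) (.node
    (.node (.node (.leaf (nat_lit 10565694544959072567339)) (.leaf (nat_lit
    71031288221094669123609))) (.leaf (nat_lit 48561973116604761964584))) (.node (.node (.leaf
    (nat_lit 0)) (.leaf (nat_lit 3192304218790821890))) (.leaf (nat_lit
    67364952923593924345899))))) (.node (.node (.node (.node (.leaf (nat_lit 92751721427763203))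
    (.leaf (nat_lit 0))) (.leaf (nat_lit 0))) (.node (.node (.leaf (nat_lit
    16464186076055155703875)) (.leaf (nat_lit 3067885398547103746))) (.leaf (nat_lit
    1916058659629170716)))) (.node (.node (.node (.leaf (nat_lit 15228050144988177301512)) (.leaf
    (nat_lit 74208919754707893944398))) (.leaf (nat_lit 1060788146800820240))) (.node (.node (.leaf
    (nat_lit 0)) (.leaf (nat_lit 3357534917792759810))) (.leaf (nat_lit 1533402224884056080))))))
    (.node (.node (.node (.node (.node (.leaf (nat_lit 2024589979022572847150)) (.leaf (nat_lit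
    0))) (.leaf (nat_lit 0))) (.node (.node (.leaf (nat_lit 22440864162693570035738)) (.leaf
    (nat_lit 2928554795449057282))) (.leaf (nat_lit 1246005278546198550)))) (.node (.node (.node
    (.leaf (nat_lit 211822233646137366)) (.leaf (nat_lit 77348128625303574054377623978015))) (.leaf
    (nat_lit 38679193876142196195360))) (.node (.node (.leaf (nat_lit 978999866267140116)) (.leaf
    (nat_lit 21300051205401444810754))) (.leaf (nat_lit 0))))) (.node (.node (.node (.node (.leaf
    (nat_lit 4159866475105640185860)) (.leaf (nat_lit 0))) (.leaf (nat_lit 0))) (.node (.node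
    (.leaf (nat_lit 26905070808538682687543)) (.leaf (nat_lit 948505231147155477701591042))) (.leaf
    (nat_lit 0)))) (.node (.node (.node (.leaf (nat_lit 9491138495206719160344)) (.leaf (nat_lit
    27506925139175332315138))) (.leaf (nat_lit 1157617737812541456))) (.node (.node (.leaf (nat_lit
    1123400935956152327)) (.leaf (nat_lit 242734796902629378))) (.leaf (nat_lit
    74392743446780089401403)))))))) (.node (.node (.node (.node (.node (.node (.node (.leaf
    (nat_lit 12526405262901264)) (.leaf (nat_lit 76361985732643519660073))) (.leaf (nat_lit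
    26374973358198413787211))) (.node (.node (.leaf (nat_lit 0)) (.leaf (nat_lit
    23379493187062407036930))) (.leaf (nat_lit 0)))) (.node (.node (.node (.leaf (nat_lit 0))
    (.leaf (nat_lit 2618360166998999068))) (.leaf (nat_lit 46034765518782100340783))) (.node (.node
    (.leaf (nat_lit 22575695047911220029859320627242)) (.leaf (nat_lit 3194833705420062722)))
    (.leaf (nat_lit 2041881822509531147))))) (.node (.node (.node (.node (.leaf (nat_lit 0)) (.leaf
    (nat_lit 2209231890303549451))) (.leaf (nat_lit 1320720933354340372))) (.node (.node (.leaf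
    (nat_lit 14905423675666248958021)) (.leaf (nat_lit 602747705100969440442580994))) (.leaf
    (nat_lit 62037674896497402118170)))) (.node (.node (.node (.leaf (nat_lit
    10044506333967399714853)) (.leaf (nat_lit 53175502536838134038530))) (.leaf (nat_lit
    52676285114470851870725))) (.node (.node (.leaf (nat_lit 635742790025871376)) (.leaf (nat_lit
    3318972115838959618))) (.leaf (nat_lit 0)))))) (.node (.node (.node (.node (.node (.leaf
    (nat_lit 96548871949385735)) (.leaf (nat_lit 0))) (.leaf (nat_lit 40887982333706780213294)))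
    (.node (.node (.leaf (nat_lit 0)) (.leaf (nat_lit 225561983960069844641251330))) (.leaf
    (nat_lit 48241424596080688429584756310031)))) (.node (.node (.node (.leaf (nat_lit
    199718259891765251)) (.leaf (nat_lit 2690701435036893195))) (.leaf (nat_lit 0))) (.node (.node
    (.leaf (nat_lit 18816250519462875430936)) (.leaf (nat_lit 34088100602727907917826))) (.leaf
    (nat_lit 69241296222972761276442))))) (.node (.node (.node (.node (.leaf (nat_lit 0)) (.leaf
    (nat_lit 0))) (.leaf (nat_lit 0))) (.node (.node (.leaf (nat_lit 805310907585876248697765953))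
    (.leaf (nat_lit 18495983940065130905602))) (.leaf (nat_lit 0)))) (.node (.node (.node (.leaf
    (nat_lit 348341445641502784)) (.leaf (nat_lit 29434594521712559325186))) (.leaf (nat_lit
    1681864332180324363))) (.node (.node (.leaf (nat_lit 22893102139145386655776)) (.leaf (nat_lit
    273977316726669314))) (.leaf (nat_lit 0))))))) (.node (.node (.node (.node (.node (.node (.leaf
    (nat_lit 0)) (.leaf (nat_lit 2511146653241945093608570894))) (.leaf (nat_lit 0))) (.node (.node
    (.leaf (nat_lit 0)) (.leaf (nat_lit 43103688073256781414402))) (.leaf (nat_lit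
    43406402157961965404208)))) (.node (.node (.node (.leaf (nat_lit 6355085176866529804325))
    (.leaf (nat_lit 92516527702593561321373622927402))) (.leaf (nat_lit 0))) (.node (.node (.leaf
    (nat_lit 0)) (.leaf (nat_lit 3406531440567378689491468290))) (.leaf (nat_lit
    46754693803931666153495))))) (.node (.node (.node (.node (.leaf (nat_lit
    135704090842411793192845347)) (.leaf (nat_lit 1926632113197678595))) (.leaf (nat_lit
    27338903139544744525875))) (.node (.node (.leaf (nat_lit 25171058568070051332122)) (.leaf
    (nat_lit 3081959568289431554))) (.leaf (nat_lit 47230771374658952415068559835167)))) (.node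
    (.node (.node (.leaf (nat_lit 0)) (.leaf (nat_lit 2667623733941895170))) (.leaf (nat_lit
    35252803350254298792005))) (.node (.node (.leaf (nat_lit 21989187049347875012654)) (.leaf
    (nat_lit 11887597463075601711106))) (.leaf (nat_lit 51237392792788125548552)))))) (.node (.node
    (.node (.node (.node (.leaf (nat_lit 2647174769654752280643)) (.leaf (nat_lit 0))) (.leaf
    (nat_lit 0))) (.node (.node (.leaf (nat_lit 0)) (.leaf (nat_lit 40419828666477125500930)))
    (.leaf (nat_lit 0)))) (.node (.node (.node (.leaf (nat_lit 8084506842489742884922)) (.leaf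
    (nat_lit
    181518928040079877903169622293989576679051850301862858355259191269910626746679844158744933161674385812156650553452)))
    (.leaf (nat_lit 0))) (.node (.node (.leaf (nat_lit 0)) (.leaf (nat_lit
    468415886993097625891504130))) (.leaf (nat_lit 2298518366633559902916968483))))) (.node (.node
    (.node (.node (.leaf (nat_lit 9299542337146483310433791180849)) (.leaf (nat_lit
    84598759554842789871645))) (.leaf (nat_lit 1429092097922826260))) (.node (.node (.leaf (nat_lit
    0)) (.leaf (nat_lit 3390818771212347351457071106))) (.leaf (nat_lit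
    2104049802758527773640491061)))) (.node (.node (.node (.leaf (nat_lit 0)) (.leaf (nat_lit
    57455221767535021195266))) (.leaf (nat_lit 1717331270167560212))) (.node (.leaf (nat_lit
    37383030587667842793481)) (.leaf (nat_lit 0))))))))) (.node (.node (.node (.node (.node (.node
    (.node (.node (.leaf (nat_lit 530356840414755094564)) (.leaf (nat_lit
    76076054162351725936669))) (.leaf (nat_lit 0))) (.node (.node (.leaf (nat_lit 0)) (.leaf
    (nat_lit 24762994206025665675266))) (.leaf (nat_lit 0)))) (.node (.node (.node (.leaf (nat_lit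
    6871565721338028163076)) (.leaf (nat_lit 71224964114878809964611))) (.leaf (nat_lit
    30087552170569161179188))) (.node (.node (.leaf (nat_lit 541725474880094224)) (.leaf (nat_lit
    20548093603264350846978))) (.leaf (nat_lit 66290397710853387517986))))) (.node (.node (.node
    (.node (.leaf (nat_lit 83743697539301379)) (.leaf (nat_lit 0))) (.leaf (nat_lit
    39532187319355998142468))) (.node (.node (.leaf (nat_lit 24055003528655649570842)) (.leaf
    (nat_lit 65848693813728543703042))) (.leaf (nat_lit 41829264230216099889170)))) (.node (.node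
    (.node (.leaf (nat_lit 8485751674389460615205)) (.leaf (nat_lit 2540496752251822868382613514)))
    (.leaf (nat_lit 1026165900031688707))) (.node (.node (.leaf (nat_lit 20780888015736865488954))
    (.leaf (nat_lit 12270414988407468130306))) (.leaf (nat_lit 2303830540785988329867051061))))))
    (.node (.node (.node (.node (.node (.leaf (nat_lit 1475781890547933970457)) (.leaf (nat_lit
    63080401777607259127826))) (.leaf (nat_lit 0))) (.node (.node (.leaf (nat_lit 0)) (.leaf
    (nat_lit 3186215846902539811182346242))) (.leaf (nat_lit 0)))) (.node (.node (.node (.leaf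
    (nat_lit 13236304244729775174285458210877)) (.leaf (nat_lit 0))) (.leaf (nat_lit
    50093093127027303841801))) (.node (.node (.leaf (nat_lit 26268733013887151177795)) (.leaf
    (nat_lit 406759102099877780502347778))) (.leaf (nat_lit 47068299150067067191348))))) (.node
    (.node (.node (.node (.leaf (nat_lit 231660996824006667)) (.leaf (nat_lit 0))) (.leaf (nat_lit
    45393802928141082230807))) (.node (.node (.leaf (nat_lit 26504163464118133784661)) (.leaf
    (nat_lit 10605377632004674355202))) (.leaf (nat_lit 44291952979959932452918)))) (.node (.node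
    (.node (.leaf (nat_lit 16261081043805617192989)) (.leaf (nat_lit 38284431446877776576514)))
    (.leaf (nat_lit 40209047472669628630578151882801))) (.node (.node (.leaf (nat_lit
    692039709513351171)) (.leaf (nat_lit 281858289657053186))) (.leaf (nat_lit
    52745440861761302626381))))))) (.node (.node (.node (.node (.node (.node (.leaf (nat_lit
    50667089240915996)) (.leaf (nat_lit 0))) (.leaf (nat_lit 24728612568714640031787))) (.node
    (.node (.leaf (nat_lit 642110764330375034916044853)) (.leaf (nat_lit 43846165419864103256066)))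
    (.leaf (nat_lit 0)))) (.node (.node (.node (.leaf (nat_lit 340032157097525255)) (.leaf (nat_lit
    2646366437555437636))) (.leaf (nat_lit 32826904221926167871492))) (.node (.node (.leaf (nat_lit
    915947555928539143)) (.leaf (nat_lit 8410185550949301551106))) (.leaf (nat_lit
    53128975229070268374672122118193))))) (.node (.node (.node (.node (.leaf (nat_lit
    6428785032008921448457)) (.leaf (nat_lit 63624732164626286051395))) (.leaf (nat_lit
    1396184673217000834546794529))) (.node (.node (.leaf (nat_lit 15541854079931625177112)) (.leaf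
    (nat_lit 588846783764363082643800066))) (.leaf (nat_lit 0)))) (.node (.node (.node (.leaf
    (nat_lit 278252802051014678)) (.leaf (nat_lit 86688652570155565645931))) (.leaf (nat_lit 0)))
    (.node (.node (.leaf (nat_lit 23887704765161755669732111220751)) (.leaf (nat_lit
    623144714643832834))) (.leaf (nat_lit 0)))))) (.node (.node (.node (.node (.node (.leaf
    (nat_lit 2481150413558971039767)) (.leaf (nat_lit 0))) (.leaf (nat_lit 799568648174960662)))
    (.node (.node (.leaf (nat_lit 0)) (.leaf (nat_lit 18592712801977658179586))) (.leaf (nat_lit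
    1259516352306216977)))) (.node (.node (.node (.leaf (nat_lit 13244972800794586972173)) (.leaf
    (nat_lit 2477625667940909058))) (.leaf (nat_lit 0))) (.node (.node (.leaf (nat_lit
    594364594059870225)) (.leaf (nat_lit 395275571169019440297934850))) (.leaf (nat_lit
    70135990895937205764123))))) (.node (.node (.node (.node (.leaf (nat_lit
    8697767910058959765523)) (.leaf (nat_lit 65082095880342494969895))) (.leaf (nat_lit
    1420366107356823559))) (.node (.node (.leaf (nat_lit 22722277219590864044050)) (.leaf (nat_lit
    17688807467695848226818))) (.leaf (nat_lit 1369858941223305233)))) (.node (.node (.node (.leaf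
    (nat_lit 302180374094675985)) (.leaf (nat_lit 24698412281339868020738))) (.leaf (nat_lit
    1708323796034912263))) (.node (.leaf (nat_lit 1132408410088800267)) (.leaf (nat_lit
    74876979626909406265357)))))))) (.node (.node (.node (.node (.node (.node (.node (.leaf
    (nat_lit 1000758525735095959558)) (.leaf (nat_lit 0))) (.leaf (nat_lit 0))) (.node (.node
    (.leaf (nat_lit 609130476875153428)) (.leaf (nat_lit 26593840974515090423810))) (.leaf (nat_lit
    1762368640830799879)))) (.node (.node (.node (.leaf (nat_lit 0)) (.leaf (nat_lit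
    2800998304873130057995124801))) (.leaf (nat_lit 47861534599480516739104))) (.node (.node (.leaf
    (nat_lit 29146402006822843252768)) (.leaf (nat_lit 1053079389931727255920443394))) (.leaf
    (nat_lit 52272325408012630212789638856719))))) (.node (.node (.node (.node (.leaf (nat_lit
    3389675219591238975562)) (.leaf (nat_lit 81361259420966094831622))) (.leaf (nat_lit
    43479795758949487280140))) (.node (.node (.leaf (nat_lit 754375971494297628)) (.leaf (nat_lit
    45815422776187954593794))) (.leaf (nat_lit 0)))) (.node (.node (.node (.leaf (nat_lit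
    464729424366010379)) (.leaf (nat_lit 2213885203900923906))) (.leaf (nat_lit 0))) (.node (.node
    (.leaf (nat_lit 0)) (.leaf (nat_lit 4328991722117968101378))) (.leaf (nat_lit
    2344610332981040002728460332)))))) (.node (.node (.node (.node (.node (.leaf (nat_lit
    104711925446868999)) (.leaf (nat_lit 0))) (.leaf (nat_lit 40952548752980818722822))) (.node
    (.node (.leaf (nat_lit 0)) (.leaf (nat_lit 13252282493910112206850))) (.leaf (nat_lit 0))))
    (.node (.node (.node (.leaf (nat_lit 0)) (.leaf (nat_lit 88487116388700443050065))) (.leaf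
    (nat_lit 0))) (.node (.node (.leaf (nat_lit 19212862976417981464581)) (.leaf (nat_lit
    463579215635217625989251074))) (.leaf (nat_lit 0))))) (.node (.node (.node (.node (.leaf
    (nat_lit 250377875889455172)) (.leaf (nat_lit 0))) (.leaf (nat_lit 31798450808517325684811)))
    (.node (.node (.leaf (nat_lit 826154289578770443)) (.leaf (nat_lit 3014969374235820034)))
    (.leaf (nat_lit 1370702816397623313)))) (.node (.node (.node (.leaf (nat_lit
    17487800502763970035724)) (.leaf (nat_lit 32413752041137609310210))) (.leaf (nat_lit 0)))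
    (.node (.node (.leaf (nat_lit 27509401532698760249398)) (.leaf (nat_lit
    111610778696166301433858))) (.leaf (nat_lit 0))))))) (.node (.node (.node (.node (.node (.node
    (.leaf (nat_lit 1360479747184410165302)) (.leaf (nat_lit 2368543686284935170))) (.leaf (nat_lit
    39974850768309990916108))) (.node (.node (.leaf (nat_lit 11575683910437905301525)) (.leaf
    (nat_lit 834255561589753701493637122))) (.leaf (nat_lit 40122883542695301808182)))) (.node
    (.node (.node (.leaf (nat_lit 0)) (.leaf (nat_lit 0))) (.leaf (nat_lit 962831281492721667)))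
    (.node (.node (.leaf (nat_lit 0)) (.leaf (nat_lit 2412757531328905218))) (.leaf (nat_lit
    68070562840294721781792))))) (.node (.node (.node (.node (.leaf (nat_lit
    6696270843655712079913)) (.leaf (nat_lit 0))) (.leaf (nat_lit 44803879240775468515400))) (.node
    (.node (.leaf (nat_lit 0)) (.leaf (nat_lit 3073515774254645250))) (.leaf (nat_lit
    1943766807915659332)))) (.node (.node (.node (.leaf (nat_lit 16325636203273133424661)) (.leaf
    (nat_lit 57731891964241447682050))) (.leaf (nat_lit 0))) (.node (.node (.leaf (nat_lit 0))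
    (.leaf (nat_lit 3601766282866392497207377922))) (.leaf (nat_lit 73078341998459763228701))))))
    (.node (.node (.node (.node (.node (.leaf (nat_lit 0)) (.leaf (nat_lit 0))) (.leaf (nat_lit
    26398093997850996441092))) (.node (.node (.leaf (nat_lit 0)) (.leaf (nat_lit
    3246938004371167664559882242))) (.leaf (nat_lit 1871021288965931036)))) (.node (.node (.node
    (.leaf (nat_lit 0)) (.leaf (nat_lit 2335481225608822786))) (.leaf (nat_lit 0))) (.node (.node
    (.leaf (nat_lit 32997612302878292246551)) (.leaf (nat_lit 473554098772570387861733378))) (.leaf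
    (nat_lit 70740810393431472013370))))) (.node (.node (.node (.node (.leaf (nat_lit 0)) (.leaf
    (nat_lit 0))) (.leaf (nat_lit 46569704489062827753510))) (.node (.node (.leaf (nat_lit
    20291944584118653878296)) (.leaf (nat_lit 3026510810353631234))) (.leaf (nat_lit
    1401666163347423235)))) (.node (.node (.node (.leaf (nat_lit 573382055321272340)) (.leaf
    (nat_lit 1559598905459605506))) (.leaf (nat_lit 0))) (.node (.leaf (nat_lit
    1150423358354096139)) (.leaf (nat_lit 0)))))))))))) (.node (.node (.node (.node (.node (.node
    (.node (.node (.node (.node (.node (.leaf (nat_lit 0)) (.leaf (nat_lit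
    75531867048956292956187))) (.leaf (nat_lit 37715080144138306519095))) (.node (.node (.leaf
    (nat_lit 316254775765237782)) (.leaf (nat_lit 2882109620405534722))) (.leaf (nat_lit
    55830207306378151919671)))) (.node (.node (.node (.leaf (nat_lit 152146068249903126)) (.leaf
    (nat_lit 0))) (.leaf (nat_lit 30041423487972008984615))) (.node (.node (.leaf (nat_lit
    28297834326987215405083)) (.leaf (nat_lit 1711942818467379989927165954))) (.leaf (nat_lit
    46007569001190483230724))))) (.node (.node (.node (.node (.leaf (nat_lit
    4620985956103199326240)) (.leaf (nat_lit 0))) (.leaf (nat_lit 41718116780722847154213))) (.node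
    (.node (.leaf (nat_lit 430538014356275203)) (.leaf (nat_lit 20893856056331649351682))) (.leaf
    (nat_lit 57748796484090008371204)))) (.node (.node (.node (.leaf (nat_lit
    13936746533342626906167)) (.leaf (nat_lit 55707288875153326538754))) (.leaf (nat_lit 0)))
    (.node (.node (.leaf (nat_lit 20089116394440129445936)) (.leaf (nat_lit 3312213435042889730)))
    (.leaf (nat_lit 70855426863313641996300)))))) (.node (.node (.node (.node (.node (.leaf
    (nat_lit 52286904118804758904700942)) (.leaf (nat_lit 75131273693888059211845))) (.leaf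
    (nat_lit 829501354747680931302342709))) (.node (.node (.leaf (nat_lit 21204887272513215856659))
    (.leaf (nat_lit 22955316852048617734146))) (.leaf (nat_lit 1905914924241752743685128206))))
    (.node (.node (.node (.leaf (nat_lit 0)) (.leaf (nat_lit 2826386927703399304863678478))) (.leaf
    (nat_lit 0))) (.node (.node (.leaf (nat_lit 0)) (.leaf (nat_lit 309717380274192386))) (.leaf
    (nat_lit 68457293273587081478165))))) (.node (.node (.node (.node (.leaf (nat_lit
    3468091053063494893614)) (.leaf (nat_lit 2291424060971810838))) (.leaf (nat_lit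
    44817200468103306346537))) (.node (.node (.leaf (nat_lit 0)) (.leaf (nat_lit
    3099411274543529986))) (.leaf (nat_lit 1905911105755178580817739829)))) (.node (.node (.node
    (.leaf (nat_lit 0)) (.leaf (nat_lit 78525985070711862132738))) (.leaf (nat_lit 0))) (.node
    (.node (.leaf (nat_lit 0)) (.leaf (nat_lit 430898405062082562))) (.leaf (nat_lit
    51514103242937367461946))))))) (.node (.node (.node (.node (.node (.node (.leaf (nat_lit 0))
    (.leaf (nat_lit 75453988412762011926579))) (.leaf (nat_lit 1190533138808438852))) (.node (.node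
    (.leaf (nat_lit 613071238218252295)) (.leaf (nat_lit 31182469577940091994114))) (.leaf (nat_lit
    57887649353440235290658)))) (.node (.node (.node (.leaf (nat_lit 323987632453451796)) (.leaf
    (nat_lit 0))) (.leaf (nat_lit 48129023929126429589574))) (.node (.node (.leaf (nat_lit
    29229412355240435580965)) (.leaf (nat_lit 16088608117356562153474))) (.leaf (nat_lit
    71678423373049961893923666591793))))) (.node (.node (.node (.node (.leaf (nat_lit
    3043799471991115939872)) (.leaf (nat_lit 0))) (.leaf (nat_lit 43733894196210826412112))) (.node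
    (.node (.leaf (nat_lit 468819710700552195)) (.leaf (nat_lit 3017222179071852546))) (.leaf
    (nat_lit 0)))) (.node (.node (.node (.leaf (nat_lit 15172707379294689755162)) (.leaf (nat_lit
    108881772999925213175435938574674103713274283124409214072987998956506180655086963775801736214957322021295988605041)))
    (.leaf (nat_lit 0))) (.node (.node (.leaf (nat_lit 1045992946538774535)) (.leaf (nat_lit
    3598753592874451597430882306))) (.leaf (nat_lit 0)))))) (.node (.node (.node (.node (.node
    (.leaf (nat_lit 107526786883125276)) (.leaf (nat_lit 0))) (.leaf (nat_lit 0))) (.node (.node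
    (.leaf (nat_lit 411115141451612182)) (.leaf (nat_lit 9392295088837011636226))) (.leaf (nat_lit
    0)))) (.node (.node (.node (.leaf (nat_lit 214636811614552067)) (.leaf (nat_lit
    2833959505272494930799099937))) (.leaf (nat_lit 1067822650396639235))) (.node (.node (.leaf
    (nat_lit 21025258677996357877803)) (.leaf (nat_lit 3271683271779549186))) (.leaf (nat_lit
    1463031109884444675))))) (.node (.node (.node (.node (.leaf (nat_lit 160026268086173762))
    (.leaf (nat_lit 2394726442576510978))) (.leaf (nat_lit 0))) (.node (.node (.leaf (nat_lit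
    26812835117673499263031)) (.leaf (nat_lit 3245684432935914888528920578))) (.leaf (nat_lit 0))))
    (.node (.node (.node (.leaf (nat_lit 17266679249950973558816)) (.leaf (nat_lit
    39082252001959649411074))) (.leaf (nat_lit 55442809354190680424474))) (.node (.node (.leaf
    (nat_lit 709773285881151491)) (.leaf (nat_lit 6814832650777792806914))) (.leaf (nat_lit
    57634683623203322055816852602929)))))))) (.node (.node (.node (.node (.node (.node (.node
    (.leaf (nat_lit 470402107575755800608)) (.leaf (nat_lit 0))) (.leaf (nat_lit 0))) (.node (.node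
    (.leaf (nat_lit 20659083845111750164211313213489)) (.leaf (nat_lit 5804354968979356450818)))
    (.leaf (nat_lit 0)))) (.node (.node (.node (.leaf (nat_lit 180857065630203920)) (.leaf (nat_lit
    2613011970642804756))) (.leaf (nat_lit 0))) (.node (.node (.leaf (nat_lit
    20379578441096400928789)) (.leaf (nat_lit 1344878298198385576047280130))) (.leaf (nat_lit
    0))))) (.node (.node (.node (.node (.leaf (nat_lit 0)) (.leaf (nat_lit
    79636455213367858233365))) (.leaf (nat_lit 26905392549117261185076))) (.node (.node (.leaf
    (nat_lit 0)) (.leaf (nat_lit 60268440859759584935938))) (.leaf (nat_lit 0)))) (.node (.node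
    (.node (.leaf (nat_lit 258830032225566737)) (.leaf (nat_lit 2590792413324285833487057005)))
    (.leaf (nat_lit 33629439486475716722712))) (.node (.node (.leaf (nat_lit
    20799337715400909717525)) (.leaf (nat_lit 21447659468900006035458))) (.leaf (nat_lit 0))))))
    (.node (.node (.node (.node (.node (.leaf (nat_lit 2836236302961510383670)) (.leaf (nat_lit
    76842289286870890381387))) (.leaf (nat_lit 0))) (.node (.node (.leaf (nat_lit
    12608732682211991683142)) (.leaf (nat_lit 17642588420356882759682))) (.leaf (nat_lit
    59593429794447916466201)))) (.node (.node (.node (.leaf (nat_lit 203658737767022614)) (.leaf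
    (nat_lit 0))) (.leaf (nat_lit 40505402257664802750542))) (.node (.node (.leaf (nat_lit
    575504774187843600)) (.leaf (nat_lit 3260138571486593026))) (.leaf (nat_lit 0))))) (.node
    (.node (.node (.node (.leaf (nat_lit 0)) (.leaf (nat_lit 0))) (.leaf (nat_lit
    1072047709766909980336980033))) (.node (.node (.leaf (nat_lit 0)) (.leaf (nat_lit
    3078864357157896194))) (.leaf (nat_lit 1817684632737546251)))) (.node (.node (.node (.leaf
    (nat_lit 0)) (.leaf (nat_lit 3036610713942241860930240514))) (.leaf (nat_lit 0))) (.node (.node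
    (.leaf (nat_lit 35962614122738727714822)) (.leaf (nat_lit 419218181371068418))) (.leaf (nat_lit
    52187429809113333432344))))))) (.node (.node (.node (.node (.node (.node (.leaf (nat_lit
    1784750216095937527832)) (.leaf (nat_lit 0))) (.leaf (nat_lit 827995524878696476))) (.node
    (.node (.leaf (nat_lit 620038044958721110584852545)) (.leaf (nat_lit 28996537704665638436866)))
    (.leaf (nat_lit 0)))) (.node (.node (.node (.leaf (nat_lit 11266680951789750255687)) (.leaf
    (nat_lit 91689026269795059050791253114911))) (.leaf (nat_lit 30511839388891070267444))) (.node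
    (.node (.leaf (nat_lit 30087190458834492784652)) (.leaf (nat_lit 103300238762777935806466)))
    (.leaf (nat_lit 2072282047707217948))))) (.node (.node (.node (.node (.leaf (nat_lit 0)) (.leaf
    (nat_lit 0))) (.leaf (nat_lit 44005532750794828480553))) (.node (.node (.leaf (nat_lit 0))
    (.leaf (nat_lit 134137309703555249305026562))) (.leaf (nat_lit 0)))) (.node (.node (.node
    (.leaf (nat_lit 0)) (.leaf (nat_lit 82953188726036500774914))) (.leaf (nat_lit
    1071203098896236561))) (.node (.node (.leaf (nat_lit 0)) (.leaf (nat_lit 642567991275421698)))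
    (.leaf (nat_lit 0)))))) (.node (.node (.node (.node (.node (.leaf (nat_lit 70794852178198544))
    (.leaf (nat_lit 59566332498623835865155))) (.leaf (nat_lit 1279342840467554324))) (.node (.node
    (.leaf (nat_lit 0)) (.leaf (nat_lit 49158872923335551025154))) (.leaf (nat_lit
    41045256636209836523545)))) (.node (.node (.node (.leaf (nat_lit 0)) (.leaf (nat_lit
    79674208751411878100994))) (.leaf (nat_lit 32670179801620707213381))) (.node (.node (.leaf
    (nat_lit 0)) (.leaf (nat_lit 3530714137612760117082849282))) (.leaf (nat_lit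
    48876120602889840427031))))) (.node (.node (.node (.node (.leaf (nat_lit
    8485630916247152689192)) (.leaf (nat_lit 0))) (.leaf (nat_lit 46569696607308213321774))) (.node
    (.node (.leaf (nat_lit 26204101852465071325210)) (.leaf (nat_lit 11200171983932320055298)))
    (.leaf (nat_lit 44365767823480055857222)))) (.node (.node (.node (.leaf (nat_lit
    318410176696393201661247532)) (.leaf (nat_lit 29342381504838724943874))) (.leaf (nat_lit
    56042338670217978380297))) (.node (.leaf (nat_lit 0)) (.leaf (nat_lit
    54124398173597364060206))))))))) (.node (.node (.node (.node (.node (.node (.node (.node (.leaf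
    (nat_lit 258258498698269098010)) (.leaf (nat_lit 55129774296149304475700))) (.leaf (nat_lit
    26640967737561854032778889592874))) (.node (.node (.leaf (nat_lit 0)) (.leaf (nat_lit
    45063634367217970380802))) (.leaf (nat_lit 1739568454752665628)))) (.node (.node (.node (.leaf
    (nat_lit 9389541361389721026566)) (.leaf (nat_lit 0))) (.leaf (nat_lit 0))) (.node (.node
    (.leaf (nat_lit 28297838830861720682526)) (.leaf (nat_lit 16065525193624281874434))) (.leaf
    (nat_lit 2028213402622623823))))) (.node (.node (.node (.node (.leaf (nat_lit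
    3417337453655131095118)) (.leaf (nat_lit 2460570430117904452))) (.leaf (nat_lit
    42013268063885388349479))) (.node (.node (.leaf (nat_lit 731153259418484815)) (.leaf (nat_lit
    39395944002569235529730))) (.leaf (nat_lit 0)))) (.node (.node (.node (.leaf (nat_lit
    14503995595095607017512)) (.leaf (nat_lit 58455863046963653181442))) (.leaf (nat_lit 0)))
    (.node (.node (.leaf (nat_lit 31950388737429253324805)) (.leaf (nat_lit
    3570327732077520744349958146))) (.leaf (nat_lit 69250567166041616744517)))))) (.node (.node
    (.node (.node (.node (.leaf (nat_lit 1360486080749343277081)) (.leaf (nat_lit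
    78225171906560151191578))) (.leaf (nat_lit 854454997323218972))) (.node (.node (.leaf (nat_lit
    12442699600357572673590)) (.leaf (nat_lit 39575760352088244289538))) (.leaf (nat_lit 0))))
    (.node (.node (.node (.leaf (nat_lit 12018249681914212581427)) (.leaf (nat_lit
    87642613630286442987575))) (.leaf (nat_lit 1523107600592404491))) (.node (.node (.leaf (nat_lit
    30972649374837337423927)) (.leaf (nat_lit 208344067934359115329175554))) (.leaf (nat_lit
    1545809378620380274609094700))))) (.node (.node (.node (.node (.leaf (nat_lit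
    6036809172810272538628)) (.leaf (nat_lit 63744665275430688981062))) (.leaf (nat_lit 0))) (.node
    (.node (.leaf (nat_lit 25918162962732961431584)) (.leaf (nat_lit 580386239607411451789312002)))
    (.leaf (nat_lit 1360287520704823318)))) (.node (.node (.node (.leaf (nat_lit
    16722247675160310251528)) (.leaf (nat_lit 2819057653664317442))) (.leaf (nat_lit
    39842614349989905481394343444495))) (.node (.node (.leaf (nat_lit 0)) (.leaf (nat_lit
    657205033661759490))) (.leaf (nat_lit 2244402939403829312))))))) (.node (.node (.node (.node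
    (.node (.node (.leaf (nat_lit 0)) (.leaf (nat_lit 56356521058755923869728))) (.leaf (nat_lit
    762693055403917328))) (.node (.node (.leaf (nat_lit 11105276876934093144134)) (.leaf (nat_lit
    24855282526045704749058))) (.leaf (nat_lit 1204626361025691670)))) (.node (.node (.node (.leaf
    (nat_lit 0)) (.leaf (nat_lit 68965254855267115532322))) (.leaf (nat_lit
    48423623099104972963859))) (.node (.node (.leaf (nat_lit 20213568441289583820877)) (.leaf
    (nat_lit 103766001864185733120002))) (.leaf (nat_lit 66285176491700606140475))))) (.node (.node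
    (.node (.node (.leaf (nat_lit 3841623686720132415522)) (.leaf (nat_lit 0))) (.leaf (nat_lit
    0))) (.node (.node (.leaf (nat_lit 0)) (.leaf (nat_lit 357942708991166152911880194))) (.leaf
    (nat_lit 42188989532863597838387)))) (.node (.node (.node (.leaf (nat_lit
    8790136744833009778706)) (.leaf (nat_lit 2703370643667288066))) (.leaf (nat_lit
    53422827825791966052371))) (.node (.node (.leaf (nat_lit 0)) (.leaf (nat_lit
    388394171750285314))) (.leaf (nat_lit 0)))))) (.node (.node (.node (.node (.node (.leaf
    (nat_lit 94751401235397882897760270)) (.leaf (nat_lit 0))) (.leaf (nat_lit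
    843760047719841795))) (.node (.node (.leaf (nat_lit 17372623480344763629628)) (.leaf (nat_lit
    31911165228394177822722))) (.leaf (nat_lit 0)))) (.node (.node (.node (.leaf (nat_lit
    210696436818509846)) (.leaf (nat_lit
    5526035092728610534361190303134751883778382026727456204408322553165360604574552516445361023042630885613895775)))
    (.leaf (nat_lit 0))) (.node (.node (.leaf (nat_lit 19286658256593999822917)) (.leaf (nat_lit
    41263988466663003717634))) (.leaf (nat_lit 0))))) (.node (.node (.node (.node (.leaf (nat_lit
    8513299061758002135086)) (.leaf (nat_lit 0))) (.leaf (nat_lit 28943822933742932131886))) (.node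
    (.node (.leaf (nat_lit 520895055293186065)) (.leaf (nat_lit 3126436677648777218))) (.leaf
    (nat_lit 44033720659641383452676)))) (.node (.node (.node (.leaf (nat_lit 0)) (.leaf (nat_lit
    8248527168966924369922))) (.leaf (nat_lit 1702412658315231243))) (.node (.node (.leaf (nat_lit
    36636351642664159084552)) (.leaf (nat_lit 2266259461037490178))) (.leaf (nat_lit 0))))))))
    (.node (.node (.node (.node (.node (.node (.node (.leaf (nat_lit 28007632061202448)) (.leaf
    (nat_lit 0))) (.leaf (nat_lit 38379622158049577467956))) (.node (.node (.leaf (nat_lit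
    604626709744058375)) (.leaf (nat_lit 42135221166550051651586))) (.leaf (nat_lit
    1188018787643949059)))) (.node (.node (.node (.leaf (nat_lit 175790790927319043)) (.leaf
    (nat_lit 0))) (.leaf (nat_lit 1469062755796516884))) (.node (.node (.leaf (nat_lit
    892021452763693063)) (.leaf (nat_lit 112555165158280282618600989458434))) (.leaf (nat_lit
    49074352026218351755326))))) (.node (.node (.node (.node (.leaf (nat_lit
    5649473706414068400151)) (.leaf (nat_lit 61909161743355574681621))) (.leaf (nat_lit
    40786569998124777144367))) (.node (.node (.leaf (nat_lit 0)) (.leaf (nat_lit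
    571468576345647772202172418))) (.leaf (nat_lit 0)))) (.node (.node (.node (.leaf (nat_lit 0))
    (.leaf (nat_lit 53286184128503148118018))) (.leaf (nat_lit 1035736427196973072))) (.node (.node
    (.leaf (nat_lit 0)) (.leaf (nat_lit 3279844757613969410))) (.leaf (nat_lit
    49863067011153918099508)))))) (.node (.node (.node (.node (.node (.leaf (nat_lit
    2292061715941275402261)) (.leaf (nat_lit 78409656236337015226423))) (.leaf (nat_lit
    40989440833598735450121))) (.node (.node (.leaf (nat_lit 0)) (.leaf (nat_lit
    40456607325551444819970))) (.leaf (nat_lit 59967560280590015201336)))) (.node (.node (.node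
    (.leaf (nat_lit 12138158304026274496525)) (.leaf (nat_lit 2173491268410277891))) (.leaf
    (nat_lit 971557933483687958))) (.node (.node (.leaf (nat_lit 26957885067566946512197977964586))
    (.leaf (nat_lit 3265209338725269506))) (.leaf (nat_lit 69379649618395609104411))))) (.node
    (.node (.node (.node (.leaf (nat_lit 232570558820967143956545569)) (.leaf (nat_lit 0))) (.leaf
    (nat_lit 28445745643545686114308))) (.node (.node (.leaf (nat_lit 0)) (.leaf (nat_lit
    3114051606874816514))) (.leaf (nat_lit 64260564136169004269635)))) (.node (.node (.node (.leaf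
    (nat_lit 9592591787261849436214)) (.leaf (nat_lit 29287021696418654126082))) (.leaf (nat_lit
    37318874857229686865925))) (.node (.node (.leaf (nat_lit 0)) (.leaf (nat_lit
    259340841276014594))) (.leaf (nat_lit 0))))))) (.node (.node (.node (.node (.node (.node (.leaf
    (nat_lit 1235962535673801670674)) (.leaf (nat_lit 0))) (.leaf (nat_lit 0))) (.node (.node
    (.leaf (nat_lit 20688365490299772010509)) (.leaf (nat_lit 2876761948035350530))) (.leaf
    (nat_lit 1916489201965755227965751349)))) (.node (.node (.node (.leaf (nat_lit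
    351854488371462155)) (.leaf (nat_lit 0))) (.leaf (nat_lit 1505092652327108636))) (.node (.node
    (.leaf (nat_lit 30041075569232753917958)) (.leaf (nat_lit 113021580527062936902753415659522)))
    (.leaf (nat_lit 0))))) (.node (.node (.node (.node (.leaf (nat_lit 6696267465767012991005))
    (.leaf (nat_lit 2514627597174964274))) (.leaf (nat_lit 41275419976185250250790))) (.node (.node
    (.leaf (nat_lit 0)) (.leaf (nat_lit 3090966853443518466))) (.leaf (nat_lit
    1304554925560299523)))) (.node (.node (.node (.leaf (nat_lit 15781456127009816248350)) (.leaf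
    (nat_lit 2532234424762892304))) (.leaf (nat_lit 1080773522982305795))) (.node (.node (.leaf
    (nat_lit 0)) (.leaf (nat_lit 1053661395897417730))) (.leaf (nat_lit
    51237394481732475093043)))))) (.node (.node (.node (.node (.node (.leaf (nat_lit
    136660069742936132)) (.leaf (nat_lit 79405821231297055621189))) (.leaf (nat_lit
    848545672079736835))) (.node (.node (.leaf (nat_lit 487114209797210176)) (.leaf (nat_lit
    3004552893132046338))) (.leaf (nat_lit 0)))) (.node (.node (.node (.leaf (nat_lit
    13881398560284760801320)) (.leaf (nat_lit 58958522608528864247810))) (.leaf (nat_lit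
    1576870970411581451))) (.node (.node (.leaf (nat_lit 30378055021029652365346)) (.leaf (nat_lit
    7870806272765904224258))) (.leaf (nat_lit 70514157312591943368710))))) (.node (.node (.node
    (.node (.leaf (nat_lit 0)) (.leaf (nat_lit 0))) (.leaf (nat_lit 29377335493765108006960)))
    (.node (.node (.leaf (nat_lit 0)) (.leaf (nat_lit 672719738532028824093458434))) (.leaf
    (nat_lit 0)))) (.node (.node (.node (.leaf (nat_lit 13512544607273010528308)) (.leaf (nat_lit
    40581065140795380793346))) (.leaf (nat_lit 56236032016550186909737))) (.node (.leaf (nat_lit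
    1028210129120639182507868195)) (.leaf (nat_lit 0)))))))))) (.node (.node (.node (.node (.node
    (.node (.node (.node (.node (.leaf (nat_lit 5207471752871952)) (.leaf (nat_lit
    56227353457343848448008))) (.leaf (nat_lit 0))) (.node (.node (.leaf (nat_lit 0)) (.leaf
    (nat_lit 55619781428374589865986))) (.leaf (nat_lit 1151707828453507075)))) (.node (.node
    (.node (.leaf (nat_lit 4888532851805665820676)) (.leaf (nat_lit 68079785383531737448469)))
    (.leaf (nat_lit 0))) (.node (.node (.leaf (nat_lit 20333453980666849067031)) (.leaf (nat_lit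
    50639488702173864460290))) (.leaf (nat_lit 52049476555712208976963992617009))))) (.node (.node
    (.node (.node (.leaf (nat_lit 4731666139182149074950)) (.leaf (nat_lit 0))) (.leaf (nat_lit
    1302424484342530059))) (.node (.node (.leaf (nat_lit 15697345971761569027828715159567)) (.leaf
    (nat_lit 31150247449678689009666))) (.leaf (nat_lit 61530380708187765669897)))) (.node (.node
    (.node (.leaf (nat_lit 437706954723426311)) (.leaf (nat_lit 76925661049931673305090))) (.leaf
    (nat_lit 50891491693052616179770))) (.node (.node (.leaf (nat_lit 0)) (.leaf (nat_lit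
    3305179189145108482))) (.leaf (nat_lit 69462699937685823488054)))))) (.node (.node (.node
    (.node (.node (.leaf (nat_lit 0)) (.leaf (nat_lit 2232732267720081430))) (.leaf (nat_lit
    1229801741327925255))) (.node (.node (.leaf (nat_lit 391973880962613270)) (.leaf (nat_lit
    23056774225821622796290))) (.leaf (nat_lit 43494030666751946195004)))) (.node (.node (.node
    (.leaf (nat_lit 366346524071952434)) (.leaf (nat_lit 2324835313260996455049723918))) (.leaf
    (nat_lit 1184618854886897005046792257))) (.node (.node (.leaf (nat_lit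
    29450790173877683290142)) (.leaf (nat_lit 3228614611045580802))) (.leaf (nat_lit
    68604868633689080397830))))) (.node (.node (.node (.node (.leaf (nat_lit 0)) (.leaf (nat_lit
    0))) (.leaf (nat_lit 45038563648933663539229))) (.node (.node (.leaf (nat_lit
    797161499394179079)) (.leaf (nat_lit 3100541478007603202))) (.leaf (nat_lit
    1950399663349825556)))) (.node (.node (.node (.leaf (nat_lit 9076069723195471757320)) (.leaf
    (nat_lit 2815961403150696450))) (.leaf (nat_lit 54418989442914846965800))) (.node (.node (.leaf
    (nat_lit 22288957618593732952089)) (.leaf (nat_lit 717440446749605890))) (.leaf (nat_lit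
    2226304851590571572051836972))))))) (.node (.node (.node (.node (.node (.node (.leaf (nat_lit
    0)) (.leaf (nat_lit 2346728525186334740))) (.leaf (nat_lit 27915284651660061900874))) (.node
    (.node (.leaf (nat_lit 17893676162638388854802)) (.leaf (nat_lit 2922643812348198914))) (.leaf
    (nat_lit 0)))) (.node (.node (.node (.leaf (nat_lit 10321263082532652646432)) (.leaf (nat_lit
    71169638238645997731858))) (.leaf (nat_lit 48552749744542137384989))) (.node (.node (.leaf
    (nat_lit 931192457657061378607022115)) (.leaf (nat_lit 3192020665049939970))) (.leaf (nat_lit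
    66497311233669649858619))))) (.node (.node (.node (.node (.leaf (nat_lit
    5939939417583681470491)) (.leaf (nat_lit 0))) (.leaf (nat_lit 0))) (.node (.node (.leaf
    (nat_lit 0)) (.leaf (nat_lit 3022288539674083330))) (.leaf (nat_lit 62461955358749855252510))))
    (.node (.node (.node (.leaf (nat_lit 473455389162209300)) (.leaf (nat_lit
    74245795228413853892675))) (.leaf (nat_lit 0))) (.node (.node (.leaf (nat_lit 0)) (.leaf
    (nat_lit 3510826656904364979552256002))) (.leaf (nat_lit 0)))))) (.node (.node (.node (.node
    (.node (.leaf (nat_lit 2010754920941520879620)) (.leaf (nat_lit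
    64086993793190269770815911559199))) (.leaf (nat_lit 0))) (.node (.node (.leaf (nat_lit 0))
    (.leaf (nat_lit 2993857273513771010))) (.leaf (nat_lit 0)))) (.node (.node (.node (.leaf
    (nat_lit 402377356905414706)) (.leaf (nat_lit 71593996952625603608630))) (.leaf (nat_lit
    1115719278898088084322385953))) (.node (.node (.leaf (nat_lit 0)) (.leaf (nat_lit
    3281251531202101250))) (.leaf (nat_lit 69739378016743864860702))))) (.node (.node (.node (.node
    (.leaf (nat_lit 4298216633403047084071)) (.leaf (nat_lit 1971951199355797526))) (.leaf (nat_lit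
    32355392200332419421877666381839))) (.node (.node (.leaf (nat_lit 0)) (.leaf (nat_lit
    41305242552561075159042))) (.leaf (nat_lit 2100098444955119950129004609)))) (.node (.node
    (.node (.leaf (nat_lit 9472691751107239804997)) (.leaf (nat_lit 32519845301514976559106)))
    (.leaf (nat_lit 1698753346179039243))) (.node (.node (.leaf (nat_lit
    1035161535587015553909522467)) (.leaf (nat_lit 3385825107162300418))) (.leaf (nat_lit 0))))))))
    (.node (.node (.node (.node (.node (.node (.node (.leaf (nat_lit 0)) (.leaf (nat_lit
    76149847049844413366301))) (.leaf (nat_lit 24304325350744918261792))) (.node (.node (.leaf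
    (nat_lit 10616423943790091501637)) (.leaf (nat_lit 2904909170828509186))) (.leaf (nat_lit
    1752798190974926855)))) (.node (.node (.node (.leaf (nat_lit 157776254978883606)) (.leaf
    (nat_lit 0))) (.leaf (nat_lit 46007095402637176274992))) (.node (.node (.leaf (nat_lit 0))
    (.leaf (nat_lit 1115489853014798532169957378))) (.leaf (nat_lit 0))))) (.node (.node (.node
    (.node (.leaf (nat_lit 4833128580179044794409)) (.leaf (nat_lit 0))) (.leaf (nat_lit
    27006850486076442869827))) (.node (.node (.leaf (nat_lit 0)) (.leaf (nat_lit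
    98527053673859209428994))) (.leaf (nat_lit 0)))) (.node (.node (.node (.leaf (nat_lit
    279659317941108739)) (.leaf (nat_lit 85351235185655607918685))) (.leaf (nat_lit
    33943038780203333779499))) (.node (.node (.leaf (nat_lit 0)) (.leaf (nat_lit
    263840283375042562))) (.leaf (nat_lit 0)))))) (.node (.node (.node (.node (.node (.leaf
    (nat_lit 3108322963444988051486)) (.leaf (nat_lit 78710046750482456838225))) (.leaf (nat_lit
    40878758961635565699076))) (.node (.node (.leaf (nat_lit 0)) (.leaf (nat_lit
    3128745264694151967068651522))) (.leaf (nat_lit 0)))) (.node (.node (.node (.leaf (nat_lit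
    12534760627435542347802)) (.leaf (nat_lit 2689575500770312203))) (.leaf (nat_lit 0))) (.node
    (.node (.leaf (nat_lit 31240133638234317193235)) (.leaf (nat_lit
    3359988801894914708352532482))) (.leaf (nat_lit 47400352365574789201938))))) (.node (.node
    (.node (.node (.leaf (nat_lit 239261061713362972)) (.leaf (nat_lit
    2122333943368189920923615276))) (.leaf (nat_lit 1393188490610606159))) (.node (.node (.leaf
    (nat_lit 815739406202830855)) (.leaf (nat_lit 3121929538968354818))) (.leaf (nat_lit 0))))
    (.node (.node (.node (.leaf (nat_lit 297394440497135638)) (.leaf (nat_lit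
    40267444575735424155650))) (.leaf (nat_lit 1680738397913743380))) (.node (.node (.leaf (nat_lit
    35916502610725040226345)) (.leaf (nat_lit 261170179516530690))) (.leaf (nat_lit
    73774743461254521880650))))))) (.node (.node (.node (.node (.node (.node (.leaf (nat_lit 0))
    (.leaf (nat_lit 0))) (.leaf (nat_lit 39748895873991140638807))) (.node (.node (.leaf (nat_lit
    0)) (.leaf (nat_lit 24781495831483541291010))) (.leaf (nat_lit 0)))) (.node (.node (.node
    (.leaf (nat_lit 0)) (.leaf (nat_lit 91867294319873686513076134019103))) (.leaf (nat_lit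
    45407588887723669389360))) (.node (.node (.leaf (nat_lit 29911946953204464549894)) (.leaf
    (nat_lit 1985162058909440447760039938))) (.leaf (nat_lit 1433193250524626961))))) (.node (.node
    (.node (.node (.leaf (nat_lit 0)) (.leaf (nat_lit 82136045190833126965261))) (.leaf (nat_lit
    0))) (.node (.node (.leaf (nat_lit 0)) (.leaf (nat_lit 22567929628307199557634))) (.leaf
    (nat_lit 0)))) (.node (.node (.node (.leaf (nat_lit 16039709980962947530781)) (.leaf (nat_lit
    2652705534406426626))) (.leaf (nat_lit 0))) (.node (.node (.leaf (nat_lit 0)) (.leaf (nat_lit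
    664099632992878594))) (.leaf (nat_lit 67721656917168143078597639602225)))))) (.node (.node
    (.node (.node (.node (.leaf (nat_lit 73609739384258577)) (.leaf (nat_lit 0))) (.leaf (nat_lit
    27301977561016597413927))) (.node (.node (.leaf (nat_lit 0)) (.leaf (nat_lit
    3007930695931789314))) (.leaf (nat_lit 59081563609895455096894)))) (.node (.node (.node (.leaf
    (nat_lit 240885608667453198812053518)) (.leaf (nat_lit 82261369249028741726315))) (.leaf
    (nat_lit 0))) (.node (.node (.leaf (nat_lit 0)) (.leaf (nat_lit 3253948630259859458))) (.leaf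
    (nat_lit 0))))) (.node (.node (.node (.node (.leaf (nat_lit 5833259452221488707665769332751))
    (.leaf (nat_lit 0))) (.leaf (nat_lit 897245103658237969))) (.node (.node (.leaf (nat_lit 0))
    (.leaf (nat_lit 3388702791316246226956189698))) (.leaf (nat_lit 0)))) (.node (.node (.node
    (.leaf (nat_lit 563530130488688668)) (.leaf (nat_lit 39870862661319257161730))) (.leaf (nat_lit
    1143544504373084177))) (.node (.leaf (nat_lit 0)) (.leaf (nat_lit 2293246638933803019)))))))))
    (.node (.node (.node (.node (.node (.node (.node (.node (.leaf (nat_lit 0)) (.leaf (nat_lit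
    0))) (.leaf (nat_lit 1168009900811485252))) (.node (.node (.leaf (nat_lit
    444590771517042205707730997)) (.leaf (nat_lit 24882897760883772162050))) (.leaf (nat_lit
    56236042713295086616605)))) (.node (.node (.node (.leaf (nat_lit 9878382612789613232140))
    (.leaf (nat_lit 0))) (.leaf (nat_lit 46126994735241783083046))) (.node (.node (.leaf (nat_lit
    0)) (.leaf (nat_lit 19100019706388377960450))) (.leaf (nat_lit 66428752513505090011206)))))
    (.node (.node (.node (.node (.leaf (nat_lit 4694839501633756528692)) (.leaf (nat_lit 0)))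
    (.leaf (nat_lit 0))) (.node (.node (.leaf (nat_lit 0)) (.leaf (nat_lit
    61283070049219688726530))) (.leaf (nat_lit 1337767460983668800)))) (.node (.node (.node (.leaf
    (nat_lit 281347892923465731)) (.leaf (nat_lit 77133200432113838653442))) (.leaf (nat_lit 0)))
    (.node (.node (.leaf (nat_lit 33463024284894255841289)) (.leaf (nat_lit
    8378124941607443824642))) (.leaf (nat_lit 70938446782198270066700)))))) (.node (.node (.node
    (.node (.node (.leaf (nat_lit 0)) (.leaf (nat_lit 63071178405544634548276))) (.leaf (nat_lit
    0))) (.node (.node (.leaf (nat_lit 0)) (.leaf (nat_lit 2896465797700517890))) (.leaf (nat_lit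
    58869968031749652021291)))) (.node (.node (.node (.leaf (nat_lit 0)) (.leaf (nat_lit
    87762527037052202188840))) (.leaf (nat_lit 31434209666831204155439))) (.node (.node (.leaf
    (nat_lit 576067586702311441)) (.leaf (nat_lit 385905187051195677666443266))) (.leaf (nat_lit
    68918466379441764499485))))) (.node (.node (.node (.node (.leaf (nat_lit
    7415704277602739093544)) (.leaf (nat_lit 0))) (.leaf (nat_lit 0))) (.node (.node (.leaf
    (nat_lit 0)) (.leaf (nat_lit 3113485117868343298))) (.leaf (nat_lit 43314273714405848055833))))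
    (.node (.node (.node (.leaf (nat_lit 16860838213268216676422)) (.leaf (nat_lit
    36527377389821739859970))) (.leaf (nat_lit 36046036990103537254448))) (.node (.node (.leaf
    (nat_lit 0)) (.leaf (nat_lit 250333066495655938))) (.leaf (nat_lit
    2165080467730446490297172001))))))) (.node (.node (.node (.node (.node (.node (.leaf (nat_lit
    1425039550954682384443)) (.leaf (nat_lit 2508727971490506493403594817))) (.leaf (nat_lit
    24866962304799581863975))) (.node (.node (.leaf (nat_lit 0)) (.leaf (nat_lit
    894192721940578306))) (.leaf (nat_lit 1236433170832949264)))) (.node (.node (.node (.leaf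
    (nat_lit 338906227125911580)) (.leaf (nat_lit 86581898260521173581837))) (.leaf (nat_lit
    48598868293851149434921))) (.node (.node (.leaf (nat_lit 0)) (.leaf (nat_lit
    5767689161605258608642))) (.leaf (nat_lit 0))))) (.node (.node (.node (.node (.leaf (nat_lit
    193942207483478023)) (.leaf (nat_lit 81481179583509252210718))) (.leaf (nat_lit
    27034526373257253421081))) (.node (.node (.leaf (nat_lit 0)) (.leaf (nat_lit
    60711222108903318945794))) (.leaf (nat_lit 0)))) (.node (.node (.node (.leaf (nat_lit
    327482894344688033188806691)) (.leaf (nat_lit 2816888561333808032005750828))) (.leaf (nat_lit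
    1636404426929471567))) (.node (.node (.leaf (nat_lit 0)) (.leaf (nat_lit 3243254440865693698)))
    (.leaf (nat_lit 0)))))) (.node (.node (.node (.node (.node (.leaf (nat_lit
    3200573150907127234627)) (.leaf (nat_lit 2428077267356876820))) (.leaf (nat_lit
    1275683536921296907))) (.node (.node (.leaf (nat_lit 407737854047944707)) (.leaf (nat_lit
    27022872622056729673730))) (.leaf (nat_lit 0)))) (.node (.node (.node (.leaf (nat_lit
    13263419544833936785463)) (.leaf (nat_lit 76736560117614303707138))) (.leaf (nat_lit
    991543344024911888))) (.node (.node (.leaf (nat_lit 0)) (.leaf (nat_lit 3273368677076041730)))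
    (.leaf (nat_lit 2140401053655498780))))) (.node (.node (.node (.node (.leaf (nat_lit 0)) (.leaf
    (nat_lit 90470784163092584427764572291114))) (.leaf (nat_lit 0))) (.node (.node (.leaf (nat_lit
    823907923720964815888580652)) (.leaf (nat_lit 3225432084679619055676817410))) (.leaf (nat_lit
    0)))) (.node (.node (.node (.leaf (nat_lit 17529320736373646491677)) (.leaf (nat_lit
    26515416415808182747138))) (.leaf (nat_lit 1155929128470446083))) (.node (.leaf (nat_lit
    1131563950798929940)) (.leaf (nat_lit 0)))))))) (.node (.node (.node (.node (.node (.node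
    (.node (.leaf (nat_lit 986916290067907674116)) (.leaf (nat_lit 56614761964576658620470)))
    (.leaf (nat_lit 1057980536209063488258310209))) (.node (.node (.leaf (nat_lit
    17464786829374973476885)) (.leaf (nat_lit 32782722953680857006082))) (.leaf (nat_lit
    41451014211988585906180)))) (.node (.node (.node (.leaf (nat_lit 0)) (.leaf (nat_lit 0)))
    (.leaf (nat_lit 1473285017886130196))) (.node (.node (.leaf (nat_lit 896525189830017031))
    (.leaf (nat_lit 1345639355160595666093473794))) (.leaf (nat_lit
    71728405667455226692858859028529))))) (.node (.node (.node (.node (.leaf (nat_lit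
    4690168987877772558414)) (.leaf (nat_lit 1899046706486575120))) (.leaf (nat_lit
    26960737003866767425587))) (.node (.node (.leaf (nat_lit 15200579462359698047000)) (.leaf
    (nat_lit 937622159271218014301978626))) (.leaf (nat_lit 1906206726206652444)))) (.node (.node
    (.node (.leaf (nat_lit 11780541313272500025208294670385)) (.leaf (nat_lit
    2276513326089502722))) (.leaf (nat_lit 0))) (.node (.node (.leaf (nat_lit 0)) (.leaf (nat_lit
    397963444785119234))) (.leaf (nat_lit 0)))))) (.node (.node (.node (.node (.node (.leaf
    (nat_lit 2010749713379573825573)) (.leaf (nat_lit 0))) (.leaf (nat_lit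
    40878760932235280580648))) (.node (.node (.leaf (nat_lit 22293277402691805577229)) (.leaf
    (nat_lit 16913953013394718261250))) (.leaf (nat_lit 60115160973285299257415)))) (.node (.node
    (.node (.leaf (nat_lit 13840564964322497232856087330877)) (.leaf (nat_lit
    88371293798899550191671))) (.leaf (nat_lit 0))) (.node (.node (.leaf (nat_lit
    20896131610071850483744)) (.leaf (nat_lit 3517149633457483538210488322))) (.leaf (nat_lit
    51846027820721420566580))))) (.node (.node (.node (.node (.leaf (nat_lit
    4113746377649896488992)) (.leaf (nat_lit 64556350585071240151044))) (.leaf (nat_lit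
    954467272992017358323449900))) (.node (.node (.leaf (nat_lit 26914290802557989355546)) (.leaf
    (nat_lit 3113204321496465410))) (.leaf (nat_lit 62065405391438602240025)))) (.node (.node
    (.node (.leaf (nat_lit 0)) (.leaf (nat_lit 15027693779314295373826))) (.leaf (nat_lit
    36682466549694875238446))) (.node (.node (.leaf (nat_lit 36313109297417353887784)) (.leaf
    (nat_lit 379249353153445890))) (.leaf (nat_lit 0))))))) (.node (.node (.node (.node (.node
    (.node (.leaf (nat_lit 2130630749277470785555)) (.leaf (nat_lit 61632946824993684258818)))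
    (.leaf (nat_lit 28889095410468367726462871339057))) (.node (.node (.leaf (nat_lit 0)) (.leaf
    (nat_lit 3139647461106305782568452098))) (.leaf (nat_lit 58809435007853741146131)))) (.node
    (.node (.node (.leaf (nat_lit 0)) (.leaf (nat_lit 2845580197720875585493008428))) (.leaf
    (nat_lit 1154937918738006044))) (.node (.node (.leaf (nat_lit 30599452256702944182326)) (.leaf
    (nat_lit 2414024134364364802))) (.leaf (nat_lit 2086074725292965908))))) (.node (.node (.node
    (.node (.leaf (nat_lit 213223672884887620)) (.leaf (nat_lit 63477179886125212434475))) (.leaf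
    (nat_lit 0))) (.node (.node (.leaf (nat_lit 0)) (.leaf (nat_lit 3070703996604907522))) (.leaf
    (nat_lit 63365869463084300697626)))) (.node (.node (.node (.leaf (nat_lit
    15670986628208632463394)) (.leaf (nat_lit 83958550074579547783170))) (.leaf (nat_lit
    35718587156793192022070))) (.node (.node (.leaf (nat_lit 34929987844878914224185)) (.leaf
    (nat_lit 2773193042235097090))) (.leaf (nat_lit 51320406800535033937971)))))) (.node (.node
    (.node (.node (.node (.leaf (nat_lit 2527279377699819421728)) (.leaf (nat_lit 0))) (.leaf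
    (nat_lit 45339175108826935230844356591658))) (.node (.node (.leaf (nat_lit 0)) (.leaf (nat_lit
    3017219378753175554))) (.leaf (nat_lit 44785343708453461491771)))) (.node (.node (.node (.leaf
    (nat_lit 0)) (.leaf (nat_lit 76109384884872670281730))) (.leaf (nat_lit 1581374707477905419)))
    (.node (.node (.leaf (nat_lit 28348643660751660318758)) (.leaf (nat_lit 3310524533643018242)))
    (.leaf (nat_lit 0))))) (.node (.node (.node (.node (.leaf (nat_lit 172130654157406211)) (.leaf
    (nat_lit 0))) (.leaf (nat_lit 46542034372926493622309))) (.node (.node (.leaf (nat_lit 0))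
    (.leaf (nat_lit 46438075288627506774018))) (.leaf (nat_lit 0)))) (.node (.node (.node (.leaf
    (nat_lit 13231233449144829018179)) (.leaf (nat_lit 23467101152147637731330))) (.leaf (nat_lit
    56337489953517958529054))) (.node (.leaf (nat_lit 23317393861204362068000)) (.leaf (nat_lit
    56056712067187902447678))))))))))) (.node (.node (.node (.node (.node (.node (.node (.node
    (.node (.node (.leaf (nat_lit 110683701511863861257)) (.leaf (nat_lit 2308728243689226268)))
    (.leaf (nat_lit 0))) (.node (.node (.leaf (nat_lit 11013016696586294722578)) (.leaf (nat_lit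
    23407153451565966360578))) (.leaf (nat_lit 56005452782513405755398)))) (.node (.node (.node
    (.leaf (nat_lit 150457287109115921)) (.leaf (nat_lit 0))) (.leaf (nat_lit
    1444292193341800468))) (.node (.node (.leaf (nat_lit 0)) (.leaf (nat_lit
    3242055321992077179959377922))) (.leaf (nat_lit 45638634823481043386419))))) (.node (.node
    (.node (.node (.leaf (nat_lit 2564174273419690573867)) (.leaf (nat_lit 1840780492954271761)))
    (.leaf (nat_lit 0))) (.node (.node (.leaf (nat_lit 724389493381136463)) (.leaf (nat_lit
    3022005028882874370))) (.leaf (nat_lit 57776466600243522371630)))) (.node (.node (.node (.leaf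
    (nat_lit 0)) (.leaf (nat_lit 2449760203592302594))) (.leaf (nat_lit 52039277545920349274118)))
    (.node (.node (.leaf (nat_lit 0)) (.leaf (nat_lit 3317846765687930882))) (.leaf (nat_lit
    2283558204769504721342038030)))))) (.node (.node (.node (.node (.node (.leaf (nat_lit
    37579224378376214)) (.leaf (nat_lit 2381757952034996292))) (.leaf (nat_lit
    39643262409130033479732))) (.node (.node (.leaf (nat_lit 0)) (.leaf (nat_lit
    28189502255503115485186))) (.leaf (nat_lit 58837108783362341011464)))) (.node (.node (.node
    (.leaf (nat_lit 0)) (.leaf (nat_lit 0))) (.leaf (nat_lit 0))) (.node (.node (.leaf (nat_lit 0))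
    (.leaf (nat_lit 535882601370615810))) (.leaf (nat_lit 0))))) (.node (.node (.node (.node (.leaf
    (nat_lit 0)) (.leaf (nat_lit 1938735983872835601))) (.leaf (nat_lit 43719620321694804279323)))
    (.node (.node (.leaf (nat_lit 25936607173308542287901)) (.leaf (nat_lit 3100541452237799426)))
    (.leaf (nat_lit 0)))) (.node (.node (.node (.leaf (nat_lit 16653299955564323995687)) (.leaf
    (nat_lit 38611843102722043871234))) (.leaf (nat_lit 0))) (.node (.node (.leaf (nat_lit 0))
    (.leaf (nat_lit 2767844777159426050))) (.leaf (nat_lit 2237648231452508224))))))) (.node (.node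
    (.node (.node (.node (.node (.leaf (nat_lit 38563287285235723)) (.leaf (nat_lit 0))) (.leaf
    (nat_lit 1197328818583495887670214709))) (.node (.node (.leaf (nat_lit 614760156797992988))
    (.leaf (nat_lit 39349790406254073675778))) (.leaf (nat_lit 57379781097534072750117)))) (.node
    (.node (.node (.leaf (nat_lit 0)) (.leaf (nat_lit 2632715837487841308))) (.leaf (nat_lit
    30115228057638302580760))) (.node (.node (.leaf (nat_lit 29293977648425588686918)) (.leaf
    (nat_lit 10918992808895014174722))) (.leaf (nat_lit 71579388622830039698953495445553)))))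
    (.node (.node (.node (.node (.leaf (nat_lit 90499818534862864)) (.leaf (nat_lit
    81481171138924943441952))) (.leaf (nat_lit 0))) (.node (.node (.leaf (nat_lit
    16325833525091597746243)) (.leaf (nat_lit 589300379912600302668480514))) (.leaf (nat_lit
    62360497421850803109907)))) (.node (.node (.node (.leaf (nat_lit 470359095698915339)) (.leaf
    (nat_lit 74670585440775388200962))) (.leaf (nat_lit 0))) (.node (.node (.leaf (nat_lit 0))
    (.leaf (nat_lit 11730871649706088529922))) (.leaf (nat_lit 71971496257745697570842)))))) (.node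
    (.node (.node (.node (.node (.leaf (nat_lit 3666383274123687297097)) (.leaf (nat_lit
    2416254974737645588))) (.leaf (nat_lit 0))) (.node (.node (.leaf (nat_lit
    549768000434394902957391886)) (.leaf (nat_lit 9913417033070332280834))) (.leaf (nat_lit 0))))
    (.node (.node (.node (.leaf (nat_lit 8965322827274276503590)) (.leaf (nat_lit
    86960124632857779044386))) (.leaf (nat_lit 0))) (.node (.node (.leaf (nat_lit
    31964179180395056791599)) (.leaf (nat_lit 3524400223048958624565297154))) (.leaf (nat_lit
    47898430640865734230037))))) (.node (.node (.node (.node (.leaf (nat_lit 0)) (.leaf (nat_lit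
    2510694193110843394))) (.leaf (nat_lit 28842364433747897679920))) (.node (.node (.leaf (nat_lit
    16150616620925632839728)) (.leaf (nat_lit 3314170324405987770370))) (.leaf (nat_lit
    4044381555013050799055125594773257236996833428493608482548828217886886953064213292129680507816493564393029724))))
    (.node (.node (.node (.leaf (nat_lit 9491138213628663234585)) (.leaf (nat_lit
    45123562374266488029186))) (.leaf (nat_lit 0))) (.node (.node (.leaf (nat_lit
    22966894463911458963488)) (.leaf (nat_lit 3384417689329074178))) (.leaf (nat_lit 0))))))))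
    (.node (.node (.node (.node (.node (.node (.node (.leaf (nat_lit 378168668742314295339)) (.leaf
    (nat_lit 57043629905114778763315))) (.leaf (nat_lit 0))) (.node (.node (.leaf (nat_lit
    329766193122639894)) (.leaf (nat_lit 38860921465303103373314))) (.leaf (nat_lit
    1169159758045904899)))) (.node (.node (.node (.leaf (nat_lit 309350461218095115)) (.leaf
    (nat_lit 68605530678699913052198))) (.leaf (nat_lit 0))) (.node (.node (.leaf (nat_lit 0))
    (.leaf (nat_lit 3260187180154685061568135170))) (.leaf (nat_lit 66206760940124233728006)))))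
    (.node (.node (.node (.node (.leaf (nat_lit 5340412634771044368393)) (.leaf (nat_lit
    86970243067948728698550230515761))) (.leaf (nat_lit 43120081152918040018953))) (.node (.node
    (.leaf (nat_lit 0)) (.leaf (nat_lit 107246229222886746564907346755586))) (.leaf (nat_lit
    1347337816350261259)))) (.node (.node (.node (.leaf (nat_lit 0)) (.leaf (nat_lit
    2736947382006229519332278282))) (.leaf (nat_lit 33850803933866159702048))) (.node (.node (.leaf
    (nat_lit 0)) (.leaf (nat_lit 276928844022284290))) (.leaf (nat_lit 0)))))) (.node (.node (.node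
    (.node (.node (.leaf (nat_lit 0)) (.leaf (nat_lit 2390572531293529293262684225))) (.leaf
    (nat_lit 40731184164543649742887))) (.node (.node (.leaf (nat_lit 21804434321532766060581))
    (.leaf (nat_lit 28484663392355720822786))) (.leaf (nat_lit 59704112229300910096413)))) (.node
    (.node (.node (.leaf (nat_lit 376737923590126806063382572)) (.leaf (nat_lit
    88081276334585944408136))) (.leaf (nat_lit 31950727930512949837861))) (.node (.node (.leaf
    (nat_lit 0)) (.leaf (nat_lit 466298966676556069554356226))) (.leaf (nat_lit 0))))) (.node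
    (.node (.node (.node (.leaf (nat_lit 235883293273358347)) (.leaf (nat_lit
    64168956855755743625263))) (.leaf (nat_lit 0))) (.node (.node (.leaf (nat_lit
    26688581364529183785033)) (.leaf (nat_lit 19740983247385399590914))) (.leaf (nat_lit
    1361413764209049622)))) (.node (.node (.node (.leaf (nat_lit 10837747997193504227336)) (.leaf
    (nat_lit 26238705025606563856386))) (.leaf (nat_lit 54926287853246054858798))) (.node (.node
    (.leaf (nat_lit 25858411463807923847222)) (.leaf (nat_lit 10471873118126295154690))) (.leaf
    (nat_lit 0))))))) (.node (.node (.node (.node (.node (.node (.leaf (nat_lit 0)) (.leaf (nat_lit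
    0))) (.leaf (nat_lit 24839294722178556297253))) (.node (.node (.leaf (nat_lit
    633619529993420811)) (.leaf (nat_lit 39575762615256836407298))) (.leaf (nat_lit 0)))) (.node
    (.node (.node (.leaf (nat_lit 10975979930537494249513)) (.leaf (nat_lit 2651982055755350084)))
    (.leaf (nat_lit 46403711097301838790693))) (.node (.node (.leaf (nat_lit
    29838159976849496801335)) (.leaf (nat_lit 126740718928234992449617922))) (.leaf (nat_lit
    67516503414372347084829))))) (.node (.node (.node (.node (.leaf (nat_lit
    6354998478072577196072)) (.leaf (nat_lit 0))) (.leaf (nat_lit 44337574988615250018333))) (.node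
    (.node (.leaf (nat_lit 777176157572431879)) (.leaf (nat_lit 15968605225522716409858))) (.leaf
    (nat_lit 42751626486454404972598)))) (.node (.node (.node (.leaf (nat_lit 269808724548386819))
    (.leaf (nat_lit 2658194201963003906))) (.leaf (nat_lit 53764105257873142120474))) (.node (.node
    (.leaf (nat_lit 34920354081982417928205)) (.leaf (nat_lit 5754051400131212935170))) (.leaf
    (nat_lit 72681723489689578700830)))))) (.node (.node (.node (.node (.node (.leaf (nat_lit
    4141359632173032996893)) (.leaf (nat_lit 58948367557359934046232))) (.leaf (nat_lit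
    27163625291528016166951))) (.node (.node (.leaf (nat_lit 0)) (.leaf (nat_lit
    3005397257932636162))) (.leaf (nat_lit 0)))) (.node (.node (.node (.leaf (nat_lit 0)) (.leaf
    (nat_lit 81435875202116563959902))) (.leaf (nat_lit 48036320007618195292199))) (.node (.node
    (.leaf (nat_lit 603371965113303043)) (.leaf (nat_lit 3543724607816091354184024066))) (.leaf
    (nat_lit 0))))) (.node (.node (.node (.node (.leaf (nat_lit 8882237039809124302894)) (.leaf
    (nat_lit 0))) (.leaf (nat_lit 898652409822314518))) (.node (.node (.leaf (nat_lit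
    16565679199920456925227)) (.leaf (nat_lit 3108982652112338946))) (.leaf (nat_lit
    44319654059589245272134)))) (.node (.node (.node (.leaf (nat_lit 560433828435460116)) (.leaf
    (nat_lit 20391099243173414895618))) (.leaf (nat_lit 0))) (.node (.leaf (nat_lit 0)) (.leaf
    (nat_lit 59570877154385442350821429018639))))))))) (.node (.node (.node (.node (.node (.node
    (.node (.node (.leaf (nat_lit 12244552329068566)) (.leaf (nat_lit 0))) (.leaf (nat_lit 0)))
    (.node (.node (.leaf (nat_lit 588582159330181140)) (.leaf (nat_lit
    327109290038869930495180802))) (.leaf (nat_lit 0)))) (.node (.node (.node (.leaf (nat_lit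
    9537117002932336918583)) (.leaf (nat_lit 2605974890066608156))) (.leaf (nat_lit 0))) (.node
    (.node (.leaf (nat_lit 17893876299223800152131)) (.leaf (nat_lit
    3257518245268237561029197826))) (.leaf (nat_lit 48124337106108312387644))))) (.node (.node
    (.node (.node (.leaf (nat_lit 155660442419724295)) (.leaf (nat_lit 60590179009207659069464)))
    (.leaf (nat_lit 42566672356473051480070))) (.node (.node (.leaf (nat_lit 0)) (.leaf (nat_lit
    60457516338318347010050))) (.leaf (nat_lit 1885658434431483915)))) (.node (.node (.node (.leaf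
    (nat_lit 444181098231103495)) (.leaf (nat_lit 2471715595373117442))) (.leaf (nat_lit 0)))
    (.node (.node (.leaf (nat_lit 0)) (.leaf (nat_lit 14281064519544558780418))) (.leaf (nat_lit
    68199104161283775332376)))))) (.node (.node (.node (.node (.node (.leaf (nat_lit
    2767053694146726527005)) (.leaf (nat_lit 0))) (.leaf (nat_lit 0))) (.node (.node (.leaf
    (nat_lit 395070311864860694)) (.leaf (nat_lit 10720444909591332061186))) (.leaf (nat_lit 0))))
    (.node (.node (.node (.leaf (nat_lit 0)) (.leaf (nat_lit 93976788727007064366256260186161)))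
    (.leaf (nat_lit 37780085253227384340538))) (.node (.node (.leaf (nat_lit
    29801282815083950571529)) (.leaf (nat_lit 3255071961776259074))) (.leaf (nat_lit
    68521859692912659595290))))) (.node (.node (.node (.node (.leaf (nat_lit 118367215618752515))
    (.leaf (nat_lit 0))) (.leaf (nat_lit 34558976395813193907284677558314))) (.node (.node (.leaf
    (nat_lit 0)) (.leaf (nat_lit 3106166785653735426))) (.leaf (nat_lit 0)))) (.node (.node (.node
    (.leaf (nat_lit 18188327348084033553117382770749)) (.leaf (nat_lit 2818213314633531394)))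
    (.leaf (nat_lit 1670166340209606706))) (.node (.node (.leaf (nat_lit 22810082501752915165251))
    (.leaf (nat_lit 653545936273932290))) (.leaf (nat_lit 0))))))) (.node (.node (.node (.node
    (.node (.node (.leaf (nat_lit 46726336487751691)) (.leaf (nat_lit
    2522198453335853942083682348))) (.leaf (nat_lit 1201782100538294336))) (.node (.node (.leaf
    (nat_lit 0)) (.leaf (nat_lit 18099121109649361928194))) (.leaf (nat_lit 1203219054861615121))))
    (.node (.node (.node (.leaf (nat_lit 10897581408678249168915)) (.leaf (nat_lit 0))) (.leaf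
    (nat_lit 0))) (.node (.node (.leaf (nat_lit 18032240813904660463662)) (.leaf (nat_lit
    3374761849023972253221781506))) (.leaf (nat_lit 0))))) (.node (.node (.node (.node (.leaf
    (nat_lit 6069071411380410843166)) (.leaf (nat_lit 0))) (.leaf (nat_lit 0))) (.node (.node
    (.leaf (nat_lit 768168692029718548)) (.leaf (nat_lit 39289893822513438457858))) (.leaf (nat_lit
    62992940291569909694535)))) (.node (.node (.node (.leaf (nat_lit 15513974396793137594394))
    (.leaf (nat_lit 86494957817419136172147))) (.leaf (nat_lit 35506430599766128918591))) (.node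
    (.node (.leaf (nat_lit 0)) (.leaf (nat_lit 1159495540464025602))) (.leaf (nat_lit 0))))))
    (.node (.node (.node (.node (.node (.leaf (nat_lit 62068921741738001)) (.leaf (nat_lit
    2426792157307338820))) (.leaf (nat_lit 26840804736688430710821))) (.node (.node (.leaf (nat_lit
    413367284862681110)) (.leaf (nat_lit 61370616360083745079298))) (.leaf (nat_lit 0)))) (.node
    (.node (.node (.leaf (nat_lit 0)) (.leaf (nat_lit 72124872691786262446082))) (.leaf (nat_lit
    0))) (.node (.node (.leaf (nat_lit 27314418297198695440477755605034)) (.leaf (nat_lit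
    3273087133379854338))) (.leaf (nat_lit 0))))) (.node (.node (.node (.node (.leaf (nat_lit
    131879114012491793)) (.leaf (nat_lit 84146801658276406820904))) (.leaf (nat_lit 0))) (.node
    (.node (.leaf (nat_lit 822689373049028344346312739)) (.leaf (nat_lit 3108985607049838594)))
    (.leaf (nat_lit 2114605942174373054098178113)))) (.node (.node (.node (.leaf (nat_lit
    292610121807298563)) (.leaf (nat_lit 18454188845324652707842))) (.leaf (nat_lit 0))) (.node
    (.node (.leaf (nat_lit 0)) (.leaf (nat_lit 3426077240012701698))) (.leaf (nat_lit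
    2282671858220400708)))))))) (.node (.node (.node (.node (.node (.node (.node (.leaf (nat_lit
    793224632791717838885)) (.leaf (nat_lit 1706231880673787907))) (.leaf (nat_lit
    26374974625016197611597))) (.node (.node (.leaf (nat_lit 17792215129231125053507)) (.leaf
    (nat_lit 812705484254609410))) (.leaf (nat_lit 42253446031005270081540)))) (.node (.node (.node
    (.leaf (nat_lit 0)) (.leaf (nat_lit 68596311106850121777200))) (.leaf (nat_lit
    30152120841823402000436))) (.node (.node (.leaf (nat_lit 18096800336242905645099)) (.leaf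
    (nat_lit 3196804124746317826))) (.leaf (nat_lit 0))))) (.node (.node (.node (.node (.leaf
    (nat_lit 4690168565622357819466)) (.leaf (nat_lit 62038292611123548192837))) (.leaf (nat_lit
    834191616498597905))) (.node (.node (.leaf (nat_lit 0)) (.leaf (nat_lit 3055218912925974530)))
    (.leaf (nat_lit 47250577961285452099376141107242)))) (.node (.node (.node (.leaf (nat_lit
    272059699728351249)) (.leaf (nat_lit 34516623721107999096834))) (.leaf (nat_lit
    1034892070986317841))) (.node (.node (.leaf (nat_lit 0)) (.leaf (nat_lit
    131882517956824385544519682))) (.leaf (nat_lit 0)))))) (.node (.node (.node (.node (.node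
    (.leaf (nat_lit 0)) (.leaf (nat_lit 2090598787243511395505143841))) (.leaf (nat_lit 0))) (.node
    (.node (.leaf (nat_lit 22247159416556085248013)) (.leaf (nat_lit 2953043255861837826))) (.leaf
    (nat_lit 59870139400163638313018)))) (.node (.node (.node (.leaf (nat_lit 0)) (.leaf (nat_lit
    2884869774955152315613708341))) (.leaf (nat_lit 32042970095422856691763))) (.node (.node (.leaf
    (nat_lit 0)) (.leaf (nat_lit 3265205421715095554))) (.leaf (nat_lit
    47400355039801816318021))))) (.node (.node (.node (.node (.leaf (nat_lit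
    8089019021786733543451)) (.leaf (nat_lit 86727114909640425768994304491551))) (.leaf (nat_lit
    32781247502560343975049424076815))) (.node (.node (.leaf (nat_lit 822776486779027467)) (.leaf
    (nat_lit 3101945064730001410))) (.leaf (nat_lit 0)))) (.node (.node (.node (.leaf (nat_lit
    300772346376093713)) (.leaf (nat_lit 14990799446694701498370))) (.leaf (nat_lit 0))) (.node
    (.node (.leaf (nat_lit 1179939280128523202036236332)) (.leaf (nat_lit 427099978935173122)))
    (.leaf (nat_lit 1781859897374303687083819073))))))) (.node (.node (.node (.node (.node (.node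
    (.leaf (nat_lit 1263634340702945738760)) (.leaf (nat_lit 0))) (.leaf (nat_lit 0))) (.node
    (.node (.leaf (nat_lit 361855714857189393)) (.leaf (nat_lit 24629350178831984689154))) (.leaf
    (nat_lit 58860286135768849776678)))) (.node (.node (.node (.leaf (nat_lit
    7823893934674449628580708417585)) (.leaf (nat_lit 85848653976371883868237))) (.leaf (nat_lit
    1540050830355671379813335084))) (.node (.node (.leaf (nat_lit 0)) (.leaf (nat_lit
    3455421358154261605629820930))) (.leaf (nat_lit 1487236652211503115))))) (.node (.node (.node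
    (.node (.leaf (nat_lit 101478167260299280)) (.leaf (nat_lit 63394168693299869843490))) (.leaf
    (nat_lit 0))) (.node (.node (.leaf (nat_lit 19286553823407635628053)) (.leaf (nat_lit
    3091529854936547330))) (.leaf (nat_lit 0)))) (.node (.node (.node (.leaf (nat_lit
    8808586726496016728089)) (.leaf (nat_lit 70220336006631459586050))) (.leaf (nat_lit 0))) (.node
    (.node (.leaf (nat_lit 0)) (.leaf (nat_lit 252583637948694530))) (.leaf (nat_lit 0)))))) (.node
    (.node (.node (.node (.node (.leaf (nat_lit 4555689161198496843132085534762)) (.leaf (nat_lit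
    0))) (.leaf (nat_lit 0))) (.node (.node (.leaf (nat_lit 0)) (.leaf (nat_lit
    17974761513444127735810))) (.leaf (nat_lit 64518393834039835753372396617743)))) (.node (.node
    (.node (.leaf (nat_lit 11686239252552865742866)) (.leaf (nat_lit 58930853598917839486978)))
    (.leaf (nat_lit 50806027732957296947195933950001))) (.node (.node (.leaf (nat_lit
    35227474286472436269201920163882)) (.leaf (nat_lit 9249738972536689065986))) (.leaf (nat_lit
    2155601183434211348))))) (.node (.node (.node (.node (.leaf (nat_lit 4704060907125345550340))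
    (.leaf (nat_lit 84119152371881054765097))) (.leaf (nat_lit 46800286819573460828215))) (.node
    (.node (.leaf (nat_lit 27966117333364944076852)) (.leaf (nat_lit 67388998080417537130498)))
    (.leaf (nat_lit 0)))) (.node (.node (.node (.leaf (nat_lit 0)) (.leaf (nat_lit
    22775347123530867343362))) (.leaf (nat_lit 37152875131628886884373))) (.node (.leaf (nat_lit
    0)) (.leaf (nat_lit 2300002244533288980)))))))))) (.node (.node (.node (.node (.node (.node
    (.node (.node (.node (.leaf (nat_lit 212141075529682059285)) (.leaf (nat_lit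
    2313794930708971540))) (.leaf (nat_lit 726663090153848854))) (.node (.node (.leaf (nat_lit
    19092692852834100772891)) (.leaf (nat_lit 28521515205301595471874))) (.leaf (nat_lit
    56106911845389674151949)))) (.node (.node (.node (.leaf (nat_lit 5128340947027894665255))
    (.leaf (nat_lit 0))) (.leaf (nat_lit 0))) (.node (.node (.leaf (nat_lit 0)) (.leaf (nat_lit
    3176819521658945538))) (.leaf (nat_lit 66386709708368355983398))))) (.node (.node (.node (.node
    (.leaf (nat_lit 4662556010457336053811)) (.leaf (nat_lit 0))) (.leaf (nat_lit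
    851079427906469891))) (.node (.node (.leaf (nat_lit 443204594466684945)) (.leaf (nat_lit
    1337472003871450108721889282))) (.leaf (nat_lit 61604168810451230195767)))) (.node (.node
    (.node (.leaf (nat_lit 246163314676203542)) (.leaf (nat_lit 80167677448237732790274))) (.leaf
    (nat_lit 50379078460714686545978))) (.node (.node (.leaf (nat_lit 961416216573447062312714284))
    (.leaf (nat_lit 11126580087560327069698))) (.leaf (nat_lit 70412708946374675333146)))))) (.node
    (.node (.node (.node (.node (.leaf (nat_lit 2591805966125759660072)) (.leaf (nat_lit 0)))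
    (.leaf (nat_lit 1233308118268641330))) (.node (.node (.leaf (nat_lit 0)) (.leaf (nat_lit
    17891609638170435715074))) (.leaf (nat_lit 0)))) (.node (.node (.node (.leaf (nat_lit 0))
    (.leaf (nat_lit 0))) (.leaf (nat_lit 0))) (.node (.node (.leaf (nat_lit 0)) (.leaf (nat_lit
    103469651624997884359081986))) (.leaf (nat_lit 1600364406733548823530176556))))) (.node (.node
    (.node (.node (.leaf (nat_lit 223779456957939723)) (.leaf (nat_lit 0))) (.leaf (nat_lit 0)))
    (.node (.node (.leaf (nat_lit 24239507563098222559255)) (.leaf (nat_lit 3106729632527941634)))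
    (.leaf (nat_lit 0)))) (.node (.node (.node (.leaf (nat_lit 494465694777482509675659278)) (.leaf
    (nat_lit 57386025645881245761538))) (.leaf (nat_lit 0))) (.node (.node (.leaf (nat_lit
    1142621494046824363695800355)) (.leaf (nat_lit 418514141741973506))) (.leaf (nat_lit
    2242152569814253647))))))) (.node (.node (.node (.node (.node (.node (.leaf (nat_lit
    950032090938317406226)) (.leaf (nat_lit 1738038965358952470))) (.leaf (nat_lit
    24719386944637453402144))) (.node (.node (.leaf (nat_lit 18285670600164753211459)) (.leaf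
    (nat_lit 44431846609405983522818))) (.leaf (nat_lit 43387939228561698914351)))) (.node (.node
    (.node (.leaf (nat_lit 5368165650338901327893)) (.leaf (nat_lit 0))) (.leaf (nat_lit
    48677823008361704259655))) (.node (.node (.leaf (nat_lit 29543008130590973296680)) (.leaf
    (nat_lit 3203842098675712002))) (.leaf (nat_lit 0))))) (.node (.node (.node (.node (.leaf
    (nat_lit 92751755787501584)) (.leaf (nat_lit
    5081077979015271182737093349051310862810588061510545658677632760081679219581516743645561890410793298963071068)))
    (.leaf (nat_lit 826029254490849283))) (.node (.node (.leaf (nat_lit 24940464696501257568281))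
    (.leaf (nat_lit 661836362518577806974386178))) (.leaf (nat_lit 1917871079993507885)))) (.node
    (.node (.node (.leaf (nat_lit 15620116215941904400423)) (.leaf (nat_lit
    91180337220835432661106))) (.leaf (nat_lit 1629631929223610447))) (.node (.node (.leaf (nat_lit
    34459167606074931085318)) (.leaf (nat_lit 3338675690626220034))) (.leaf (nat_lit 0)))))) (.node
    (.node (.node (.node (.node (.leaf (nat_lit 3643342155562956816392)) (.leaf (nat_lit 0)))
    (.leaf (nat_lit 838974904396283920))) (.node (.node (.leaf (nat_lit 0)) (.leaf (nat_lit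
    20986080749778452545538))) (.leaf (nat_lit 46161179392693463544606069424177)))) (.node (.node
    (.node (.leaf (nat_lit 0)) (.leaf (nat_lit 0))) (.leaf (nat_lit 32328902510277019500549)))
    (.node (.node (.leaf (nat_lit 19226703805028113776686)) (.leaf (nat_lit
    424742768166115217053581314))) (.leaf (nat_lit 0))))) (.node (.node (.node (.node (.leaf
    (nat_lit 4178313219205119541294)) (.leaf (nat_lit 0))) (.leaf (nat_lit 0))) (.node (.node
    (.leaf (nat_lit 0)) (.leaf (nat_lit 11043508080240046047234))) (.leaf (nat_lit 0)))) (.node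
    (.node (.node (.leaf (nat_lit 548745908163051588)) (.leaf (nat_lit 24380202889640801402882)))
    (.leaf (nat_lit 0))) (.node (.node (.leaf (nat_lit 36604068433091564339258)) (.leaf (nat_lit
    3390328990257512450))) (.leaf (nat_lit 0)))))))) (.node (.node (.node (.node (.node (.node
    (.node (.leaf (nat_lit 793221395674866843688)) (.leaf (nat_lit 0))) (.leaf (nat_lit
    38559482979240516976698))) (.node (.node (.leaf (nat_lit 19599988448484261036057)) (.leaf
    (nat_lit 2898998668763987970))) (.leaf (nat_lit 0)))) (.node (.node (.node (.leaf (nat_lit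
    10307429149518283866168)) (.leaf (nat_lit 0))) (.leaf (nat_lit 1575411537003697189140299841)))
    (.node (.node (.leaf (nat_lit 889488117843755036)) (.leaf (nat_lit 3175975053779140610)))
    (.leaf (nat_lit 66899158842952093204514))))) (.node (.node (.node (.node (.leaf (nat_lit
    3941696289427260869025965867039)) (.leaf (nat_lit 2369853535855415624772878389))) (.leaf
    (nat_lit 39273936139595534237744))) (.node (.node (.leaf (nat_lit 0)) (.leaf (nat_lit
    3213112260476809934369193986))) (.leaf (nat_lit 62254485341861478334555)))) (.node (.node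
    (.node (.leaf (nat_lit 8439639177402333200430)) (.leaf (nat_lit 50394656150940857597954)))
    (.leaf (nat_lit 52685508486533476450343))) (.node (.node (.leaf (nat_lit
    33850410695868947824667)) (.leaf (nat_lit 3336987442061377538))) (.leaf (nat_lit
    50056754164684451676198)))))) (.node (.node (.node (.node (.node (.leaf (nat_lit
    2453467911759157461059)) (.leaf (nat_lit 0))) (.leaf (nat_lit 0))) (.node (.node (.leaf
    (nat_lit 388033849763954691)) (.leaf (nat_lit 222539660189068601143328770))) (.leaf (nat_lit
    0)))) (.node (.node (.node (.leaf (nat_lit 385351032802246663)) (.leaf (nat_lit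
    85281453751764313636903))) (.leaf (nat_lit 50351357114517683372041))) (.node (.node (.leaf
    (nat_lit 31378485626247921729577)) (.leaf (nat_lit 3268864467563315202))) (.leaf (nat_lit
    1452897667125477398))))) (.node (.node (.node (.node (.leaf (nat_lit 120619427749298198))
    (.leaf (nat_lit 2010231315152109585))) (.leaf (nat_lit 45403433891616549699642))) (.node (.node
    (.leaf (nat_lit 0)) (.leaf (nat_lit 3297362612906762873688293378))) (.leaf (nat_lit 0))))
    (.node (.node (.node (.leaf (nat_lit 351354341446538023535902785)) (.leaf (nat_lit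
    26390881628105988046850))) (.leaf (nat_lit 37208192703877439750149))) (.node (.node (.leaf
    (nat_lit 1105948972004016156)) (.leaf (nat_lit 273132917566341122))) (.leaf (nat_lit
    1774889970322411095844978702))))))) (.node (.node (.node (.node (.node (.node (.leaf (nat_lit
    0)) (.leaf (nat_lit 2308448555418910731))) (.leaf (nat_lit 0))) (.node (.node (.leaf (nat_lit
    11239019853328096100398)) (.leaf (nat_lit 91088282089798372622338))) (.leaf (nat_lit
    1790235522518614023)))) (.node (.node (.node (.leaf (nat_lit 6382755293020043804710)) (.leaf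
    (nat_lit 92338263582344730814310177374250))) (.leaf (nat_lit 49268114877976246681656))) (.node
    (.node (.leaf (nat_lit 0)) (.leaf (nat_lit 3231427041530347522))) (.leaf (nat_lit
    2080004248581570626))))) (.node (.node (.node (.node (.leaf (nat_lit 4270519494122760503333))
    (.leaf (nat_lit 63117460917394834915349))) (.leaf (nat_lit 1381828356295981935920152629)))
    (.node (.node (.leaf (nat_lit 24995815906787643818051)) (.leaf (nat_lit
    60411426758422012559362))) (.leaf (nat_lit 1935199533571112967)))) (.node (.node (.node (.leaf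
    (nat_lit 0)) (.leaf (nat_lit 83022371054626143404034))) (.leaf (nat_lit
    35580233198325901492247))) (.node (.node (.leaf (nat_lit 0)) (.leaf (nat_lit
    660722001991827458))) (.leaf (nat_lit 0)))))) (.node (.node (.node (.node (.node (.leaf
    (nat_lit 3329704581917111943191)) (.leaf (nat_lit 79913104722921921904667))) (.leaf (nat_lit
    0))) (.node (.node (.leaf (nat_lit 17212602712913256785317974048799)) (.leaf (nat_lit
    3238167854904602983798145026))) (.leaf (nat_lit 0)))) (.node (.node (.node (.leaf (nat_lit 0))
    (.leaf (nat_lit 76178557219258098712578))) (.leaf (nat_lit 50568338258549378630473453207601)))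
    (.node (.node (.leaf (nat_lit 966554100566159042669707308)) (.leaf (nat_lit
    384697819560227312876388354))) (.leaf (nat_lit 1488927563656069136))))) (.node (.node (.node
    (.node (.leaf (nat_lit 278524557516734514)) (.leaf (nat_lit 2007699139873341456))) (.leaf
    (nat_lit 29377334086321504976900))) (.node (.node (.leaf (nat_lit 837347949107171156384022593))
    (.leaf (nat_lit 28876922981212817129474))) (.leaf (nat_lit 65754773488126950309943)))) (.node
    (.node (.node (.leaf (nat_lit 566766740533542980)) (.leaf (nat_lit 63219829837292823052290)))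
    (.leaf (nat_lit 0))) (.node (.leaf (nat_lit 37060212847878672154637)) (.leaf (nat_lit
    75107580394434740813850))))))))) (.node (.node (.node (.node (.node (.node (.node (.node (.leaf
    (nat_lit 558023719627511758854)) (.leaf (nat_lit 0))) (.leaf (nat_lit 0))) (.node (.node (.leaf
    (nat_lit 521731989800353856)) (.leaf (nat_lit 40968459713762713337858))) (.leaf (nat_lit
    57204511695398733283347)))) (.node (.node (.node (.leaf (nat_lit 304002290631704583)) (.leaf
    (nat_lit 85558085949035351572507))) (.leaf (nat_lit 925956444635922454))) (.node (.node (.leaf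
    (nat_lit 28832797786905176637469)) (.leaf (nat_lit 41171554903055310979074))) (.leaf (nat_lit
    0))))) (.node (.node (.node (.node (.leaf (nat_lit 83743731899039760)) (.leaf (nat_lit 0)))
    (.leaf (nat_lit 1313120868464984071))) (.node (.node (.leaf (nat_lit 0)) (.leaf (nat_lit
    60268555979584790790146))) (.leaf (nat_lit 1282035484314435601)))) (.node (.node (.node (.leaf
    (nat_lit 9998384969960160165927)) (.leaf (nat_lit 76612083712076873400408))) (.leaf (nat_lit
    1589397362789449745))) (.node (.node (.leaf (nat_lit 0)) (.leaf (nat_lit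
    3489518419858150581776678914))) (.leaf (nat_lit 69601059525764317380621)))))) (.node (.node
    (.node (.node (.node (.leaf (nat_lit 1438888965393417961541)) (.leaf (nat_lit 0))) (.leaf
    (nat_lit 780708759583457283))) (.node (.node (.leaf (nat_lit 21818266986921897164806)) (.leaf
    (nat_lit 3190447059601919413558968322))) (.leaf (nat_lit 40122890157958549930009)))) (.node
    (.node (.node (.leaf (nat_lit 12304174918941720903710)) (.leaf (nat_lit
    70496383169132750897200))) (.leaf (nat_lit 43670414256981272124857063374890))) (.node (.node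
    (.leaf (nat_lit 18687120495956623294488)) (.leaf (nat_lit 210762041029198349311672322))) (.leaf
    (nat_lit 68033025197238625959949))))) (.node (.node (.node (.node (.leaf (nat_lit
    116115553244020753)) (.leaf (nat_lit 0))) (.leaf (nat_lit 33052816738640227139621))) (.node
    (.node (.leaf (nat_lit 16122942985682074927138)) (.leaf (nat_lit 3047338567060815874))) (.leaf
    (nat_lit 0)))) (.node (.node (.node (.leaf (nat_lit 0)) (.leaf (nat_lit 2820183596520833026)))
    (.leaf (nat_lit 53787048249823412611708510076943))) (.node (.node (.leaf (nat_lit 0)) (.leaf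
    (nat_lit 255399667616055298))) (.leaf (nat_lit 52039852760230193725486))))))) (.node (.node
    (.node (.node (.node (.node (.leaf (nat_lit 1425039691735120412735)) (.leaf (nat_lit 0)))
    (.leaf (nat_lit 0))) (.node (.node (.leaf (nat_lit 0)) (.leaf (nat_lit
    30246303507978804985858))) (.leaf (nat_lit 58163788550227322142775)))) (.node (.node (.node
    (.leaf (nat_lit 340876620682362908)) (.leaf (nat_lit 2647477854832558125))) (.leaf (nat_lit
    946505217447428112))) (.node (.node (.leaf (nat_lit 0)) (.leaf (nat_lit 3218478969263357954)))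
    (.leaf (nat_lit 0))))) (.node (.node (.node (.node (.leaf (nat_lit 196194084606574603)) (.leaf
    (nat_lit 0))) (.leaf (nat_lit 0))) (.node (.node (.leaf (nat_lit 773516854026174492)) (.leaf
    (nat_lit 60231695425727633752066))) (.leaf (nat_lit 1926192068028399636)))) (.node (.node
    (.node (.leaf (nat_lit 15504961427473172725830)) (.leaf (nat_lit
    2448451714444576958374477942))) (.leaf (nat_lit 0))) (.node (.node (.leaf (nat_lit 0)) (.leaf
    (nat_lit 722786950888685570))) (.leaf (nat_lit 0)))))) (.node (.node (.node (.node (.node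
    (.leaf (nat_lit 0)) (.leaf (nat_lit 2430329135890038804))) (.leaf (nat_lit 0))) (.node (.node
    (.leaf (nat_lit 22902036705512400289821)) (.leaf (nat_lit 18629606291559596359682))) (.leaf
    (nat_lit 1853569316423860244)))) (.node (.node (.node (.leaf (nat_lit 413636738225930319))
    (.leaf (nat_lit 2708998124566872066))) (.leaf (nat_lit 51227596880608323895351))) (.node (.node
    (.leaf (nat_lit 0)) (.leaf (nat_lit 3253386212882382850))) (.leaf (nat_lit 0))))) (.node (.node
    (.node (.node (.leaf (nat_lit 8679321166002430083098)) (.leaf (nat_lit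
    84377392151801882673207))) (.leaf (nat_lit 935806969309167619))) (.node (.node (.leaf (nat_lit
    22454799993514978639896)) (.leaf (nat_lit 755994942236655618))) (.leaf (nat_lit
    62600372651423367888919)))) (.node (.node (.node (.leaf (nat_lit 302180408454414358)) (.leaf
    (nat_lit 51543037591510552084482))) (.leaf (nat_lit 1836848727804735938445443137))) (.node
    (.leaf (nat_lit 0)) (.leaf (nat_lit 0)))))))) (.node (.node (.node (.node (.node (.node (.node
    (.leaf (nat_lit 1000758244320248791079)) (.leaf (nat_lit 0))) (.leaf (nat_lit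
    38937593942447214493750))) (.node (.node (.leaf (nat_lit 0)) (.leaf (nat_lit
    30670571584752462266370))) (.leaf (nat_lit 0)))) (.node (.node (.node (.leaf (nat_lit
    309796612508648807634042894)) (.leaf (nat_lit 0))) (.leaf (nat_lit 48096740719545244909611)))
    (.node (.node (.leaf (nat_lit 0)) (.leaf (nat_lit 3184701903338602498))) (.leaf (nat_lit
    2052999942355681359))))) (.node (.node (.node (.node (.leaf (nat_lit 0)) (.leaf (nat_lit
    81342812676918155083816))) (.leaf (nat_lit 43276881855656608596035))) (.node (.node (.leaf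
    (nat_lit 470227016864628752)) (.leaf (nat_lit 46438126777713358471170))) (.leaf (nat_lit
    1319331468484411420)))) (.node (.node (.node (.leaf (nat_lit 0)) (.leaf (nat_lit
    53110946533675832115202))) (.leaf (nat_lit 0))) (.node (.node (.leaf (nat_lit 0)) (.leaf
    (nat_lit 3452890769310204755970))) (.leaf (nat_lit 0)))))) (.node (.node (.node (.node (.node
    (.leaf (nat_lit 0)) (.leaf (nat_lit 63750270929203494100464319135786))) (.leaf (nat_lit 0)))
    (.node (.node (.leaf (nat_lit 546142302108108873756049461)) (.leaf (nat_lit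
    19565673605877557559298))) (.leaf (nat_lit 0)))) (.node (.node (.node (.leaf (nat_lit
    246475963618095587764994081)) (.leaf (nat_lit 87398699378928592814114))) (.leaf (nat_lit
    33495654006106100006971))) (.node (.node (.leaf (nat_lit 19226698034507623366695)) (.leaf
    (nat_lit 5500268229188980506626))) (.leaf (nat_lit 0))))) (.node (.node (.node (.node (.leaf
    (nat_lit 6871534898213170642949)) (.leaf (nat_lit
    118171701762994242763414013314504517909169676337208549421915470342208388503717923393244925070366124370036702773353)))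
    (.leaf (nat_lit 32753070940274651496485))) (.node (.node (.leaf (nat_lit 0)) (.leaf (nat_lit
    3247195479529686974295441410))) (.leaf (nat_lit 1370702850757361686)))) (.node (.node (.node
    (.leaf (nat_lit 9564924767582187356178)) (.leaf (nat_lit 16973828090610604769282))) (.leaf
    (nat_lit 1124966399995936790))) (.node (.node (.leaf (nat_lit 22893106361570685026374)) (.leaf
    (nat_lit 3363869457683447810))) (.leaf (nat_lit 1626572400680370193))))))) (.node (.node (.node
    (.node (.node (.node (.leaf (nat_lit 2047622934297877610509)) (.leaf (nat_lit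
    2346025739687690242))) (.leaf (nat_lit 0))) (.node (.node (.leaf (nat_lit
    11594130654537384656921)) (.leaf (nat_lit 1463802815293898781922426882))) (.leaf (nat_lit
    40952987870488701370406)))) (.node (.node (.node (.leaf (nat_lit 0)) (.leaf (nat_lit
    2831222649427757384442576910))) (.leaf (nat_lit 962831315852460048))) (.node (.node (.leaf
    (nat_lit 936073317411061828)) (.leaf (nat_lit 343634994708742146))) (.leaf (nat_lit 0)))))
    (.node (.node (.node (.node (.leaf (nat_lit 7051473262414414413847)) (.leaf (nat_lit
    1945772720851648528))) (.leaf (nat_lit 1376255438644148047358197795))) (.node (.node (.leaf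
    (nat_lit 16039928133209588695074)) (.leaf (nat_lit 3059160559032336386))) (.leaf (nat_lit
    1944909836152078381)))) (.node (.node (.node (.leaf (nat_lit 502448205116604436)) (.leaf
    (nat_lit 83940104174896408625154))) (.leaf (nat_lit 0))) (.node (.node (.leaf (nat_lit
    1079208024582782996)) (.leaf (nat_lit 3579679714809635208859746306))) (.leaf (nat_lit
    73129736373754233290784)))))) (.node (.node (.node (.node (.node (.leaf (nat_lit 0)) (.leaf
    (nat_lit 0))) (.leaf (nat_lit 1295105928789622791))) (.node (.node (.leaf (nat_lit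
    14541069376435284803661)) (.leaf (nat_lit 3024537668018110466))) (.leaf (nat_lit 0)))) (.node
    (.node (.node (.leaf (nat_lit 395907727408365632)) (.leaf (nat_lit 79872522079710889574402)))
    (.leaf (nat_lit 1583908050987778059))) (.node (.node (.leaf (nat_lit 0)) (.leaf (nat_lit
    108562323963570351702018))) (.leaf (nat_lit 0))))) (.node (.node (.node (.node (.leaf (nat_lit
    9297301729711654895662)) (.leaf (nat_lit 0))) (.leaf (nat_lit 941718493575905283))) (.node
    (.node (.leaf (nat_lit 0)) (.leaf (nat_lit 61080338556512175849474))) (.leaf (nat_lit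
    48995936896725595389990)))) (.node (.node (.node (.leaf (nat_lit 18631520591541786837047))
    (.leaf (nat_lit 15295196032731550253058))) (.leaf (nat_lit 0))) (.node (.leaf (nat_lit
    26485624266995022364746)) (.leaf (nat_lit 75458076413418038034473)))))))))))))) (.node (.node
    (.node (.node (.node (.node (.node (.node (.node (.node (.node (.node (.node (.leaf (nat_lit
    1)) (.leaf (nat_lit 1826590369460266619447279660))) (.leaf (nat_lit 37540269406121762160692)))
    (.node (.node (.leaf (nat_lit 0)) (.leaf (nat_lit 820953862889830301774905346))) (.leaf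
    (nat_lit 0)))) (.node (.node (.node (.leaf (nat_lit 0)) (.leaf (nat_lit
    84986197475729629970453))) (.leaf (nat_lit 30013753371809905049605))) (.node (.node (.leaf
    (nat_lit 533562210929213443)) (.leaf (nat_lit 60886648025200317366274))) (.leaf (nat_lit 0)))))
    (.node (.node (.node (.node (.leaf (nat_lit 0)) (.leaf (nat_lit 80014572230210700378138)))
    (.leaf (nat_lit 0))) (.node (.node (.leaf (nat_lit 425189946849099793)) (.leaf (nat_lit
    1344273549416676120653463554))) (.leaf (nat_lit 1872991673932447772)))) (.node (.node (.node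
    (.leaf (nat_lit 15073402125043930190073156665393)) (.leaf (nat_lit 77008665487336100003842)))
    (.leaf (nat_lit 0))) (.node (.node (.leaf (nat_lit 625045976406687747)) (.leaf (nat_lit
    13598561421094016974850))) (.leaf (nat_lit 48580982409103990259759)))))) (.node (.node (.node
    (.node (.node (.leaf (nat_lit 2198613849209849152982900604943)) (.leaf (nat_lit
    2344336915597230082))) (.leaf (nat_lit 39984074140398385299482))) (.node (.node (.leaf (nat_lit
    0)) (.leaf (nat_lit 1342004461302395758524497922))) (.leaf (nat_lit
    47483822971388322297934162231345)))) (.node (.node (.node (.leaf (nat_lit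
    7544904110614067216422)) (.leaf (nat_lit 86475847074953402974282))) (.leaf (nat_lit 0))) (.node
    (.node (.leaf (nat_lit 30612929983791415623709)) (.leaf (nat_lit 290717750626746370))) (.leaf
    (nat_lit 46754698448612379263001))))) (.node (.node (.node (.node (.leaf (nat_lit
    3431197564881716051972)) (.leaf (nat_lit 0))) (.leaf (nat_lit 0))) (.node (.node (.leaf
    (nat_lit 499783014700679171)) (.leaf (nat_lit 17287556163593948037122))) (.leaf (nat_lit 0))))
    (.node (.node (.node (.leaf (nat_lit 15965924975345133617178)) (.leaf (nat_lit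
    86471920209341335142402))) (.leaf (nat_lit 53782567483508657422361))) (.node (.node (.leaf
    (nat_lit 34606768862587751956528)) (.leaf (nat_lit 248998174445213867649007618))) (.leaf
    (nat_lit 0))))))) (.node (.node (.node (.node (.node (.node (.leaf (nat_lit
    1037652013942644604968)) (.leaf (nat_lit 2024093603152436493658882101))) (.leaf (nat_lit
    30157037060892764388719314927647))) (.node (.node (.leaf (nat_lit 648297119484083545059885091))
    (.leaf (nat_lit 30748970652046784135170))) (.leaf (nat_lit 51190896490368012058663)))) (.node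
    (.node (.node (.leaf (nat_lit 10191986832827538931730)) (.leaf (nat_lit
    86166838355667477266444))) (.leaf (nat_lit 30096781031977947168789))) (.node (.node (.leaf
    (nat_lit 29192518867050066804770)) (.leaf (nat_lit 3184983361135443970))) (.leaf (nat_lit
    46321182651069625466938))))) (.node (.node (.node (.node (.leaf (nat_lit
    3389674797421723582542)) (.leaf (nat_lit 0))) (.leaf (nat_lit 833065879800512534))) (.node
    (.node (.leaf (nat_lit 24719101234101434384411)) (.leaf (nat_lit 3061129990516113410))) (.leaf
    (nat_lit 41921504002915122216981)))) (.node (.node (.node (.leaf (nat_lit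
    15200377495370894344211)) (.leaf (nat_lit 2253573227156733954))) (.leaf (nat_lit 0))) (.node
    (.node (.leaf (nat_lit 0)) (.leaf (nat_lit 3554907061103959319305781250))) (.leaf (nat_lit
    2197542217684484103)))))) (.node (.node (.node (.node (.node (.leaf (nat_lit
    3375809619344910123035)) (.leaf (nat_lit 1778854786897149968))) (.leaf (nat_lit 0))) (.node
    (.node (.leaf (nat_lit 0)) (.leaf (nat_lit 19736306270111657033730))) (.leaf (nat_lit
    1244034738960859158)))) (.node (.node (.node (.leaf (nat_lit 12350298675847039746077)) (.leaf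
    (nat_lit 95046411989310142111484125446186))) (.leaf (nat_lit 50670140051579612626987))) (.node
    (.node (.leaf (nat_lit 628281839127232540)) (.leaf (nat_lit 4836186005519749808130))) (.leaf
    (nat_lit 47769300617488331112469))))) (.node (.node (.node (.node (.leaf (nat_lit
    135819377139384336)) (.leaf (nat_lit 78456560522416449847298))) (.leaf (nat_lit
    28860808222222682619943))) (.node (.node (.leaf (nat_lit 0)) (.leaf (nat_lit
    3338467584967828685254295554))) (.leaf (nat_lit 0)))) (.node (.node (.node (.leaf (nat_lit
    299083659724587030)) (.leaf (nat_lit 16425037735488995393538))) (.leaf (nat_lit 0))) (.node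
    (.node (.leaf (nat_lit 0)) (.leaf (nat_lit 1059856173257326594))) (.leaf (nat_lit
    53285042747949327777844)))))))) (.node (.node (.node (.node (.node (.node (.node (.leaf
    (nat_lit 16607569086906375)) (.leaf (nat_lit 1714675743428050972))) (.leaf (nat_lit
    1058736087171280253569204259))) (.node (.node (.leaf (nat_lit
    20758119803261367230897569726513)) (.leaf (nat_lit 3096095044154247310223867906))) (.leaf
    (nat_lit 57195288323387648311322)))) (.node (.node (.node (.leaf (nat_lit 0)) (.leaf (nat_lit
    75506020802210451860428264112159))) (.leaf (nat_lit 0))) (.node (.node (.leaf (nat_lit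
    28860467903032920834054)) (.leaf (nat_lit 110544449657754878793128543059970))) (.leaf (nat_lit
    48124337809958962921534))))) (.node (.node (.node (.node (.leaf (nat_lit
    2610292682137243156527)) (.leaf (nat_lit 1874276453269504017))) (.leaf (nat_lit 0))) (.node
    (.node (.leaf (nat_lit 14822409667927930503193)) (.leaf (nat_lit 60227051101398025568258)))
    (.leaf (nat_lit 1282035510084239382)))) (.node (.node (.node (.leaf (nat_lit 0)) (.leaf
    (nat_lit 83133008583873775468654))) (.leaf (nat_lit 0))) (.node (.node (.leaf (nat_lit 0))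
    (.leaf (nat_lit 3481055948345909098628513794))) (.leaf (nat_lit 69573390254113042923533))))))
    (.node (.node (.node (.node (.node (.leaf (nat_lit 2836236865851334262803)) (.leaf (nat_lit
    0))) (.leaf (nat_lit 780708785353261072))) (.node (.node (.leaf (nat_lit 665427181614268423))
    (.leaf (nat_lit 15456732304962591326210))) (.leaf (nat_lit 59307505542754625323038)))) (.node
    (.node (.node (.leaf (nat_lit 244063922867348918180773923)) (.leaf (nat_lit
    2683382870894051335))) (.leaf (nat_lit 31618681470542107836448))) (.node (.node (.leaf (nat_lit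
    0)) (.leaf (nat_lit 2584176393441116162))) (.leaf (nat_lit 47049854657853300867080))))) (.node
    (.node (.node (.node (.leaf (nat_lit 0)) (.leaf (nat_lit 0))) (.leaf (nat_lit
    28464189431822902558759))) (.node (.node (.leaf (nat_lit 0)) (.leaf (nat_lit
    3049872365837221890))) (.leaf (nat_lit 0)))) (.node (.node (.node (.leaf (nat_lit
    521870554035257372)) (.leaf (nat_lit 2820465123037151234))) (.leaf (nat_lit 0))) (.node (.node
    (.leaf (nat_lit 1098348898524725276)) (.leaf (nat_lit 279888016359686146))) (.leaf (nat_lit
    0))))))) (.node (.node (.node (.node (.node (.node (.leaf (nat_lit 28289888721960977)) (.leaf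
    (nat_lit 0))) (.leaf (nat_lit 0))) (.node (.node (.leaf (nat_lit 11156007534413868105774))
    (.leaf (nat_lit 32990256970289228480514))) (.leaf (nat_lit 39873842645595001651205)))) (.node
    (.node (.node (.leaf (nat_lit 0)) (.leaf (nat_lit 0))) (.leaf (nat_lit
    33025207424466116870190))) (.node (.node (.leaf (nat_lit 0)) (.leaf (nat_lit
    152128068482661138873712642))) (.leaf (nat_lit 1604161226919337463877206051))))) (.node (.node
    (.node (.node (.leaf (nat_lit 97255656062582801)) (.leaf (nat_lit 62757736600596950220843)))
    (.leaf (nat_lit 27006856820173951926341))) (.node (.node (.leaf (nat_lit 0)) (.leaf (nat_lit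
    60844918358179150233602))) (.leaf (nat_lit 57398335651368585592870)))) (.node (.node (.node
    (.leaf (nat_lit 485559182527954972)) (.leaf (nat_lit 2640039014425559042))) (.leaf (nat_lit
    0))) (.node (.node (.leaf (nat_lit 21804716512197057118256)) (.leaf (nat_lit
    643551770714439682))) (.leaf (nat_lit 72524915750385830002718)))))) (.node (.node (.node (.node
    (.node (.leaf (nat_lit 0)) (.leaf (nat_lit 58800790508459614470213))) (.leaf (nat_lit 0)))
    (.node (.node (.leaf (nat_lit 22938930193685589196806)) (.leaf (nat_lit
    29079591702204499820546))) (.leaf (nat_lit 59201464631453001383995)))) (.node (.node (.node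
    (.leaf (nat_lit 13152740206377485664269)) (.leaf (nat_lit
    162071874170076393977410341531150432716621359601114386600616001211457816901933128168845171289906407763559201570905)))
    (.leaf (nat_lit 51218373508597238923277))) (.node (.node (.leaf (nat_lit 0)) (.leaf (nat_lit
    106191836546529587560450))) (.leaf (nat_lit 0))))) (.node (.node (.node (.node (.leaf (nat_lit
    4270549754632672051204)) (.leaf (nat_lit 70832871300860242755662))) (.leaf (nat_lit
    30013744082585917784101))) (.node (.node (.leaf (nat_lit 518362012431024145)) (.leaf (nat_lit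
    758389773051232258))) (.leaf (nat_lit 44319650400302878883872)))) (.node (.node (.node (.leaf
    (nat_lit 17792175439764760231962)) (.leaf (nat_lit 40299747224948475887618))) (.leaf (nat_lit
    1804074527295335336587296782))) (.node (.leaf (nat_lit 899326418042605739696193589)) (.leaf
    (nat_lit 0))))))))) (.node (.node (.node (.node (.node (.node (.node (.node (.leaf (nat_lit
    5489041218863126)) (.leaf (nat_lit 56351868839198388846644))) (.leaf (nat_lit
    733137040387997718))) (.node (.node (.leaf (nat_lit 19101916224888135417885)) (.leaf (nat_lit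
    28189474093698908356610))) (.leaf (nat_lit 0)))) (.node (.node (.node (.leaf (nat_lit 0))
    (.leaf (nat_lit 0))) (.leaf (nat_lit 0))) (.node (.node (.leaf (nat_lit 873856915082444845))
    (.leaf (nat_lit 11177135790526552014850))) (.leaf (nat_lit 45666306628596086800442))))) (.node
    (.node (.node (.node (.leaf (nat_lit 5382674513773017190508328714316)) (.leaf (nat_lit 0)))
    (.leaf (nat_lit 27135968686920708587557))) (.node (.node (.leaf (nat_lit 729746137938001970))
    (.leaf (nat_lit 3202511806702674619094269954))) (.leaf (nat_lit 61539606332110333476919))))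
    (.node (.node (.node (.leaf (nat_lit 243911540632322051)) (.leaf (nat_lit
    2445960454615465986))) (.leaf (nat_lit 1039676484165435409))) (.node (.node (.leaf (nat_lit 0))
    (.leaf (nat_lit 3312216458699866114))) (.leaf (nat_lit 70541837280833498710057)))))) (.node
    (.node (.node (.node (.node (.leaf (nat_lit 1346651022659701374997)) (.leaf (nat_lit 0)))
    (.leaf (nat_lit 39974854146344718893111))) (.node (.node (.leaf (nat_lit
    12415029484204058673219)) (.leaf (nat_lit 32215507771360052183042))) (.leaf (nat_lit 0))))
    (.node (.node (.node (.leaf (nat_lit 0)) (.leaf (nat_lit 2302922416754998193930108942))) (.leaf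
    (nat_lit 960016866733064214))) (.node (.node (.leaf (nat_lit 0)) (.leaf (nat_lit
    3250286827042635778))) (.leaf (nat_lit 68457295244135256752154))))) (.node (.node (.node (.node
    (.leaf (nat_lit 0)) (.leaf (nat_lit 82726948284124100755530))) (.leaf (nat_lit 0))) (.node
    (.node (.leaf (nat_lit 22648477012675040313413)) (.leaf (nat_lit 5103484773728801456130)))
    (.leaf (nat_lit 63983847493338346487834)))) (.node (.node (.node (.leaf (nat_lit 0)) (.leaf
    (nat_lit 2817931745167540226))) (.leaf (nat_lit 35963023826833098604591))) (.node (.node (.leaf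
    (nat_lit 22348910944311251763221)) (.leaf (nat_lit 3595969407334066251186307074))) (.leaf
    (nat_lit 73337096647262782661195903336497))))))) (.node (.node (.node (.node (.node (.node
    (.leaf (nat_lit 26600763983790102)) (.leaf (nat_lit 75873174459110331187221))) (.leaf (nat_lit
    1198122775517200448))) (.node (.node (.leaf (nat_lit 344966554829586454)) (.leaf (nat_lit
    51524619981449846784002))) (.leaf (nat_lit 1774598027630215247)))) (.node (.node (.node (.leaf
    (nat_lit 332150638706294804)) (.leaf (nat_lit 86434321211543544594459))) (.leaf (nat_lit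
    47856925728538273972267))) (.node (.node (.leaf (nat_lit 20554833206618850787402)) (.leaf
    (nat_lit 3202716207358803970))) (.leaf (nat_lit 0))))) (.node (.node (.node (.node (.leaf
    (nat_lit 3177540055590118817831)) (.leaf (nat_lit 81763075916882675695710))) (.leaf (nat_lit
    0))) (.node (.node (.leaf (nat_lit 24811339458344487419945)) (.leaf (nat_lit
    3058315283698679810))) (.leaf (nat_lit 0)))) (.node (.node (.node (.leaf (nat_lit
    15283390377260845563962)) (.leaf (nat_lit 87883072214334468980738))) (.leaf (nat_lit 0)))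
    (.node (.node (.leaf (nat_lit 0)) (.leaf (nat_lit 10674696288602958266370))) (.leaf (nat_lit
    0)))))) (.node (.node (.node (.node (.node (.leaf (nat_lit 0)) (.leaf (nat_lit 0))) (.leaf
    (nat_lit 31360255627269308088390))) (.node (.node (.leaf (nat_lit 13217493674019885613081))
    (.leaf (nat_lit 31782037738502018498562))) (.leaf (nat_lit 60368217253190578667533)))) (.node
    (.node (.node (.leaf (nat_lit 10141358943096223327294564139023)) (.leaf (nat_lit 0))) (.leaf
    (nat_lit 0))) (.node (.node (.leaf (nat_lit 643318629435757558348644366)) (.leaf (nat_lit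
    3216510508442189826))) (.leaf (nat_lit 75050448877420495200533264793649))))) (.node (.node
    (.node (.node (.leaf (nat_lit 8485628945613078069252)) (.leaf (nat_lit
    2662418943070821114819379235))) (.leaf (nat_lit 0))) (.node (.node (.leaf (nat_lit
    837132148677935124)) (.leaf (nat_lit 67481175501955336962050))) (.leaf (nat_lit 0)))) (.node
    (.node (.node (.leaf (nat_lit 0)) (.leaf (nat_lit 31394578150286854127618))) (.leaf (nat_lit
    37106752782029732118536))) (.node (.node (.leaf (nat_lit 22920778307577835618308)) (.leaf
    (nat_lit 3389766066073894914))) (.leaf (nat_lit 58085302864788124736102064259103)))))))) (.node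
    (.node (.node (.node (.node (.node (.node (.leaf (nat_lit 0)) (.leaf (nat_lit
    81686040666420008301072736387114))) (.leaf (nat_lit 846135277671620951476011061))) (.node
    (.node (.leaf (nat_lit 0)) (.leaf (nat_lit 29180994872343473094658))) (.leaf (nat_lit
    57536566881308601679884)))) (.node (.node (.node (.leaf (nat_lit 5460393599955030442042))
    (.leaf (nat_lit 85696441033471268421669))) (.leaf (nat_lit 30087556111545252642874))) (.node
    (.node (.leaf (nat_lit 0)) (.leaf (nat_lit 52276656964911967174658))) (.leaf (nat_lit 0)))))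
    (.node (.node (.node (.node (.leaf (nat_lit 5497212211360597999648)) (.leaf (nat_lit 0)))
    (.leaf (nat_lit 39901125156652452085798))) (.node (.node (.leaf (nat_lit 747753733219287085))
    (.leaf (nat_lit 2994138757080416258))) (.leaf (nat_lit 0)))) (.node (.node (.node (.leaf
    (nat_lit 14849886261487971008525)) (.leaf (nat_lit 53240066844830803886082))) (.leaf (nat_lit
    1035736384247300099))) (.node (.node (.leaf (nat_lit 33859634067931572404253)) (.leaf (nat_lit
    3337831892761313282))) (.leaf (nat_lit 71519541175920491692072)))))) (.node (.node (.node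
    (.node (.node (.leaf (nat_lit 97674836280737812)) (.leaf (nat_lit 0))) (.leaf (nat_lit
    779020210370904081))) (.node (.node (.leaf (nat_lit 388033875533758480)) (.leaf (nat_lit
    39409754029744095166466))) (.leaf (nat_lit 0)))) (.node (.node (.node (.leaf (nat_lit
    12617772242524889612317)) (.leaf (nat_lit 0))) (.leaf (nat_lit 50379027230654017503244)))
    (.node (.node (.leaf (nat_lit 0)) (.leaf (nat_lit 3262673461184692226))) (.leaf (nat_lit
    47335789465107326763032))))) (.node (.node (.node (.node (.leaf (nat_lit
    3970780873918846795801)) (.leaf (nat_lit 2010231340921913366))) (.leaf (nat_lit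
    45472090564248371134477))) (.node (.node (.leaf (nat_lit 819117200412639239)) (.leaf (nat_lit
    10231835319132429156354))) (.leaf (nat_lit 0)))) (.node (.node (.node (.leaf (nat_lit
    295424210149441553)) (.leaf (nat_lit 38685636875660894076930))) (.leaf (nat_lit
    1145513824187711504))) (.node (.node (.leaf (nat_lit 0)) (.leaf (nat_lit 435403301769576450)))
    (.leaf (nat_lit 79551759199780916740877155893324))))))) (.node (.node (.node (.node (.node
    (.node (.leaf (nat_lit 1199069047474842959923)) (.leaf (nat_lit 0))) (.leaf (nat_lit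
    825258515916072531081297985))) (.node (.node (.leaf (nat_lit 647239355517648223795937345))
    (.leaf (nat_lit 1764795013885198338))) (.leaf (nat_lit 39947638347897585729587)))) (.node
    (.node (.node (.leaf (nat_lit 7429607737728084148271)) (.leaf (nat_lit
    69407991631725306511392))) (.leaf (nat_lit 48100815492896000245815))) (.node (.node (.leaf
    (nat_lit 29948841848821256486925)) (.leaf (nat_lit 80845946013207081713666))) (.leaf (nat_lit
    68106800632260555112467))))) (.node (.node (.node (.node (.leaf (nat_lit 206046000849223687))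
    (.leaf (nat_lit 63135907661485724336153))) (.leaf (nat_lit 1383053188275396980391542798)))
    (.node (.node (.leaf (nat_lit 16501089979412368261143)) (.leaf (nat_lit
    3258115546017012305344331778))) (.leaf (nat_lit 1936746774064660548)))) (.node (.node (.node
    (.leaf (nat_lit 10178257896052566982715)) (.leaf (nat_lit 2642854047660507139))) (.leaf
    (nat_lit 0))) (.node (.node (.leaf (nat_lit 22219772335500382371879)) (.leaf (nat_lit
    393743244279808002))) (.leaf (nat_lit 0)))))) (.node (.node (.node (.node (.node (.leaf
    (nat_lit 2278239466028225724441)) (.leaf (nat_lit 0))) (.leaf (nat_lit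
    42170055817795775692812))) (.node (.node (.leaf (nat_lit 23261751592958694719515)) (.leaf
    (nat_lit 47720123693410323464194))) (.leaf (nat_lit 0)))) (.node (.node (.node (.leaf (nat_lit
    0)) (.leaf (nat_lit 76335354825308067004418))) (.leaf (nat_lit 1575463552578355211))) (.node
    (.node (.leaf (nat_lit 28842091531276801736741)) (.leaf (nat_lit 124476564520857737567141890)))
    (.leaf (nat_lit 48599425634465613021227))))) (.node (.node (.node (.node (.leaf (nat_lit
    8310391914337010909214)) (.leaf (nat_lit 70851325363558224691275))) (.leaf (nat_lit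
    30318118174852540203047))) (.node (.node (.leaf (nat_lit 27089549508884731985932)) (.leaf
    (nat_lit 3393538476149930771444137986))) (.leaf (nat_lit 58366860930881346011144)))) (.node
    (.node (.node (.leaf (nat_lit 17967422323506825855006)) (.leaf (nat_lit
    57501339756913441832962))) (.leaf (nat_lit 56355935290044985835547))) (.node (.leaf (nat_lit
    36405354559187659718697)) (.leaf (nat_lit 54622473633889433878579)))))))))) (.node (.node
    (.node (.node (.node (.node (.node (.node (.node (.leaf (nat_lit 3377841454579723)) (.leaf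
    (nat_lit 2072594635800435751131545633))) (.leaf (nat_lit 0))) (.node (.node (.leaf (nat_lit
    314566020394254358)) (.leaf (nat_lit 17056862382414310342658))) (.leaf (nat_lit
    1732531391356338183)))) (.node (.node (.node (.leaf (nat_lit 150457312878919702)) (.leaf
    (nat_lit 69638526954214021857349))) (.leaf (nat_lit 0))) (.node (.node (.leaf (nat_lit
    20010635396384028819525)) (.leaf (nat_lit 3167248522047258626))) (.leaf (nat_lit 0))))) (.node
    (.node (.node (.node (.leaf (nat_lit 135705197648602592971063340)) (.leaf (nat_lit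
    1840780518724075542))) (.leaf (nat_lit 813924619311513622))) (.node (.node (.leaf (nat_lit
    438419408193454102)) (.leaf (nat_lit 3030733106802982914))) (.leaf (nat_lit
    1877776885975482379)))) (.node (.node (.node (.leaf (nat_lit 234341253985206275)) (.leaf
    (nat_lit 40350377808152655757314))) (.leaf (nat_lit 36346601105485207836804759486495))) (.node
    (.node (.leaf (nat_lit 33140189937746451824652)) (.leaf (nat_lit 3268866872745000962))) (.leaf
    (nat_lit 0)))))) (.node (.node (.node (.node (.node (.leaf (nat_lit 1249803645793270431769))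
    (.leaf (nat_lit 72290473839993882345549))) (.leaf (nat_lit 0))) (.node (.node (.leaf (nat_lit
    0)) (.leaf (nat_lit 17361263775846708215810))) (.leaf (nat_lit 0)))) (.node (.node (.node
    (.leaf (nat_lit 364943186457657423)) (.leaf (nat_lit 0))) (.leaf (nat_lit 0))) (.node (.node
    (.leaf (nat_lit 29496907034001827627049)) (.leaf (nat_lit 4896111431743894126594))) (.leaf
    (nat_lit 52133117598403674437436047687722))))) (.node (.node (.node (.node (.leaf (nat_lit
    7088271895972878155815)) (.leaf (nat_lit 1938736009642639382))) (.leaf (nat_lit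
    44854094800778734796830))) (.node (.node (.leaf (nat_lit 498938727209500675)) (.leaf (nat_lit
    3290726507241778290660474882))) (.leaf (nat_lit 0)))) (.node (.node (.node (.leaf (nat_lit
    15228058027301137481741)) (.leaf (nat_lit 38625678181161240821762))) (.leaf (nat_lit 0)))
    (.node (.node (.leaf (nat_lit 679654458350764049)) (.leaf (nat_lit 3252968059161411586)))
    (.leaf (nat_lit 68065448022342449168447))))))) (.node (.node (.node (.node (.node (.node (.leaf
    (nat_lit 40674319545794610)) (.leaf (nat_lit 0))) (.leaf (nat_lit 0))) (.node (.node (.leaf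
    (nat_lit 0)) (.leaf (nat_lit 39714113477499383119874))) (.leaf (nat_lit 1194774556452192272))))
    (.node (.node (.node (.leaf (nat_lit 10330338820884093141050)) (.leaf (nat_lit
    76610967819945771843555822993439))) (.leaf (nat_lit 0))) (.node (.node (.leaf (nat_lit
    29667609361407172345910)) (.leaf (nat_lit 103314042025993484566530))) (.leaf (nat_lit
    51925684212553282278207946817551))))) (.node (.node (.node (.node (.leaf (nat_lit
    6009116255929514524711)) (.leaf (nat_lit 62416461420246868361259))) (.leaf (nat_lit 0))) (.node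
    (.node (.leaf (nat_lit 509352201836167190)) (.leaf (nat_lit 3063944714513416194))) (.leaf
    (nat_lit 62600304813359820374041)))) (.node (.node (.node (.leaf (nat_lit
    484487417268507097929351182)) (.leaf (nat_lit 2692815151652012034))) (.leaf (nat_lit 0)))
    (.node (.node (.leaf (nat_lit 0)) (.leaf (nat_lit 3509919934868974878434000898))) (.leaf
    (nat_lit 0)))))) (.node (.node (.node (.node (.node (.leaf (nat_lit 3574164894841449939002))
    (.leaf (nat_lit 0))) (.leaf (nat_lit 1264987169978712071))) (.node (.node (.leaf (nat_lit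
    689208445596991538)) (.leaf (nat_lit 2966271935522144258))) (.leaf (nat_lit 0)))) (.node (.node
    (.node (.leaf (nat_lit 6779382950852252860463)) (.leaf (nat_lit 85392153075476687159328)))
    (.leaf (nat_lit 50822330475399759462405))) (.node (.node (.leaf (nat_lit
    641799134230666009320357953)) (.leaf (nat_lit 3264927090654445570))) (.leaf (nat_lit 0)))))
    (.node (.node (.node (.node (.leaf (nat_lit 6751633313688491065381)) (.leaf (nat_lit
    83801503074592042975306))) (.leaf (nat_lit 28860811177847377035311))) (.node (.node (.leaf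
    (nat_lit 27163322973702083248174)) (.leaf (nat_lit 6809828607900464119810))) (.leaf (nat_lit
    1985022150637125639)))) (.node (.node (.node (.leaf (nat_lit 17524941548368154525766)) (.leaf
    (nat_lit 31597487565618081366018))) (.leaf (nat_lit 55571939096058747093038))) (.node (.node
    (.leaf (nat_lit 30261044725972827944591955394602)) (.leaf (nat_lit 3379632649084731394)))
    (.leaf (nat_lit 0)))))))) (.node (.node (.node (.node (.node (.node (.node (.leaf (nat_lit
    470402670585838764062)) (.leaf (nat_lit 0))) (.leaf (nat_lit 0))) (.node (.node (.leaf (nat_lit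
    10911570863755486232630)) (.leaf (nat_lit 503612440720777089781071874))) (.leaf (nat_lit 0))))
    (.node (.node (.node (.leaf (nat_lit 0)) (.leaf (nat_lit 0))) (.leaf (nat_lit 0))) (.node
    (.node (.leaf (nat_lit 887376784935485508)) (.leaf (nat_lit 18080861847911804370946))) (.leaf
    (nat_lit 49143522953452234932271))))) (.node (.node (.node (.node (.leaf (nat_lit
    165793850818953227)) (.leaf (nat_lit 78036217616516599971864))) (.leaf (nat_lit 0))) (.node
    (.node (.leaf (nat_lit 0)) (.leaf (nat_lit 103175845501534261864157669556226))) (.leaf (nat_lit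
    0)))) (.node (.node (.node (.leaf (nat_lit 257422751831293969)) (.leaf (nat_lit
    79231526714522328039480))) (.leaf (nat_lit 0))) (.node (.node (.leaf (nat_lit 0)) (.leaf
    (nat_lit 278899177449193474))) (.leaf (nat_lit 1517076049169612817)))))) (.node (.node (.node
    (.node (.node (.leaf (nat_lit 0)) (.leaf (nat_lit 78654698353077526921254))) (.leaf (nat_lit
    0))) (.node (.node (.leaf (nat_lit 384656038374277136)) (.leaf (nat_lit
    28558450650082586066946))) (.leaf (nat_lit 44411762518112778518533)))) (.node (.node (.node
    (.leaf (nat_lit 6493451380319940968517)) (.leaf (nat_lit 87928558992955174748200))) (.leaf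
    (nat_lit 33417244365882195640359))) (.node (.node (.leaf (nat_lit 958733049468682247)) (.leaf
    (nat_lit 3264923731990020098))) (.leaf (nat_lit 0))))) (.node (.node (.node (.node (.leaf
    (nat_lit 238770025377032417132675086)) (.leaf (nat_lit 0))) (.leaf (nat_lit 0))) (.node (.node
    (.leaf (nat_lit 825873373602744904496447541)) (.leaf (nat_lit 3101100382101831682))) (.leaf
    (nat_lit 0)))) (.node (.node (.node (.leaf (nat_lit 527071733660909634)) (.leaf (nat_lit
    29240903442839615242242))) (.leaf (nat_lit 0))) (.node (.node (.leaf (nat_lit 0)) (.leaf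
    (nat_lit 262296062243504130))) (.leaf (nat_lit 0))))))) (.node (.node (.node (.node (.node
    (.node (.leaf (nat_lit 1544943669132109479998)) (.leaf (nat_lit 77459606412548179689501)))
    (.leaf (nat_lit 764382274631368720))) (.node (.node (.leaf (nat_lit 634745455670067220)) (.leaf
    (nat_lit 43426504973766392741890))) (.leaf (nat_lit 40298121700068844306469)))) (.node (.node
    (.node (.leaf (nat_lit 345380383518490652)) (.leaf (nat_lit 91877198596006413783646393925663)))
    (.leaf (nat_lit 944816530795921424))) (.node (.node (.leaf (nat_lit 29335829178134393192506))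
    (.leaf (nat_lit 229499487486316525283180546))) (.leaf (nat_lit 1479355103755501632))))) (.node
    (.node (.node (.node (.leaf (nat_lit 0)) (.leaf (nat_lit 81684100242467859922953))) (.leaf
    (nat_lit 0))) (.node (.node (.leaf (nat_lit 514419301172772881)) (.leaf (nat_lit
    15175396092722509185026))) (.leaf (nat_lit 0)))) (.node (.node (.node (.leaf (nat_lit
    490062911004344327)) (.leaf (nat_lit 82842510796608495616002))) (.leaf (nat_lit
    53856342778179645276187))) (.node (.node (.leaf (nat_lit 34915741692302318567443)) (.leaf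
    (nat_lit 7022265618032733913090))) (.leaf (nat_lit 0)))))) (.node (.node (.node (.node (.node
    (.leaf (nat_lit 4178253120346221903878)) (.leaf (nat_lit 0))) (.leaf (nat_lit 0))) (.node
    (.node (.leaf (nat_lit 0)) (.leaf (nat_lit 28844396837836010225666))) (.leaf (nat_lit
    60829392329370098663465)))) (.node (.node (.node (.leaf (nat_lit 221955805254123542)) (.leaf
    (nat_lit 2724896053387198509))) (.leaf (nat_lit 0))) (.node (.node (.leaf (nat_lit
    32540655273668826562600)) (.leaf (nat_lit 3300956746666868738))) (.leaf (nat_lit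
    70135995962667175182366))))) (.node (.node (.node (.node (.leaf (nat_lit
    8762334329264278798391)) (.leaf (nat_lit 1996721504112476177))) (.leaf (nat_lit
    46708049439781107728393))) (.node (.node (.leaf (nat_lit 0)) (.leaf (nat_lit
    3110953853122641922))) (.leaf (nat_lit 0)))) (.node (.node (.node (.leaf (nat_lit
    17893633376723941916698)) (.leaf (nat_lit 24661521045232780771330))) (.leaf (nat_lit 0)))
    (.node (.leaf (nat_lit 37023317389286156992518)) (.leaf (nat_lit 1663727810570747926)))))))))
    (.node (.node (.node (.node (.node (.node (.node (.node (.leaf (nat_lit 447341284757338259462))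
    (.leaf (nat_lit 0))) (.leaf (nat_lit 0))) (.node (.node (.leaf (nat_lit 498087980087509003))
    (.leaf (nat_lit 2895901576436776962))) (.leaf (nat_lit 57117472171636014907463)))) (.node
    (.node (.node (.leaf (nat_lit 9518670258875807236109)) (.leaf (nat_lit 0))) (.leaf (nat_lit
    0))) (.node (.node (.leaf (nat_lit 17921546415385904087094)) (.leaf (nat_lit
    52262790367700649705474))) (.leaf (nat_lit 2029778046323654684))))) (.node (.node (.node (.node
    (.leaf (nat_lit 0)) (.leaf (nat_lit 60654745146766202699845))) (.leaf (nat_lit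
    27301991354063550349350))) (.node (.node (.leaf (nat_lit 459248831347949585)) (.leaf (nat_lit
    2953606231585062914))) (.leaf (nat_lit 49955053305757987700741)))) (.node (.node (.node (.leaf
    (nat_lit 0)) (.leaf (nat_lit 2537580834412691458))) (.leaf (nat_lit 33509532553591472193605)))
    (.node (.node (.leaf (nat_lit 0)) (.leaf (nat_lit 3307429253792006146))) (.leaf (nat_lit
    0)))))) (.node (.node (.node (.node (.node (.leaf (nat_lit 85148796090187798)) (.leaf (nat_lit
    0))) (.leaf (nat_lit 920927361325465948228157473))) (.node (.node (.leaf (nat_lit 0)) (.leaf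
    (nat_lit 19602552444999631568898))) (.leaf (nat_lit 0)))) (.node (.node (.node (.leaf (nat_lit
    12110482839418706264083)) (.leaf (nat_lit 2147032165332942851))) (.leaf (nat_lit
    1183110944241869180998254606))) (.node (.node (.leaf (nat_lit 20425725843325692608589)) (.leaf
    (nat_lit 201846184895193340107292674))) (.leaf (nat_lit 68623317629794531868702))))) (.node
    (.node (.node (.node (.leaf (nat_lit 7452597765707208523782)) (.leaf (nat_lit
    82048452430688038355019))) (.leaf (nat_lit 28335059689886116413477))) (.node (.node (.leaf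
    (nat_lit 25973503195031399497765)) (.leaf (nat_lit 361419652624345038892302338))) (.leaf
    (nat_lit 44153600710462761271363)))) (.node (.node (.node (.leaf (nat_lit
    16417877242454932127773)) (.leaf (nat_lit 2822435370564714498))) (.leaf (nat_lit 0))) (.node
    (.node (.leaf (nat_lit 22846975989926104072246)) (.leaf (nat_lit 369959905827880962))) (.leaf
    (nat_lit 0))))))) (.node (.node (.node (.node (.node (.node (.leaf (nat_lit
    1401978165315160440844)) (.leaf (nat_lit 0))) (.leaf (nat_lit 24839292188654657798149))) (.node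
    (.node (.leaf (nat_lit 20518008248376901173330)) (.leaf (nat_lit 805950308151853058))) (.leaf
    (nat_lit 58182230790598325108762)))) (.node (.node (.node (.leaf (nat_lit
    5395836048087651123224)) (.leaf (nat_lit 0))) (.leaf (nat_lit 48451293778251390058526))) (.node
    (.node (.leaf (nat_lit 924392213029789303560208449)) (.leaf (nat_lit
    113288710518636411287017013706754))) (.leaf (nat_lit 0))))) (.node (.node (.node (.node (.leaf
    (nat_lit 0)) (.leaf (nat_lit 81536518971262501060638))) (.leaf (nat_lit
    43719606528604901670942))) (.node (.node (.leaf (nat_lit 15541852391004455501849)) (.leaf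
    (nat_lit 814819046250905602))) (.leaf (nat_lit 62950802521184387924009)))) (.node (.node (.node
    (.leaf (nat_lit 10777773981819656667195)) (.leaf (nat_lit 86047625681002268131385))) (.leaf
    (nat_lit 0))) (.node (.node (.leaf (nat_lit 0)) (.leaf (nat_lit 20151721567622013321218)))
    (.leaf (nat_lit 72423454998668291276821)))))) (.node (.node (.node (.node (.node (.leaf
    (nat_lit 0)) (.leaf (nat_lit 1986910524264527980663144462))) (.leaf (nat_lit
    26859251480796500000806))) (.node (.node (.leaf (nat_lit 22708343922284764004377)) (.leaf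
    (nat_lit 3003989779969867778))) (.leaf (nat_lit 60534239920316240560146)))) (.node (.node
    (.node (.leaf (nat_lit 8587167670288622223399)) (.leaf (nat_lit 88782283137975792631810)))
    (.leaf (nat_lit 0))) (.node (.node (.leaf (nat_lit 0)) (.leaf (nat_lit 3257887501817348098)))
    (.leaf (nat_lit 0))))) (.node (.node (.node (.node (.leaf (nat_lit 264876057688145940)) (.leaf
    (nat_lit 2671202840378593109105442851))) (.leaf (nat_lit 46228424523440573317175))) (.node
    (.node (.leaf (nat_lit 25936621811416080515113)) (.leaf (nat_lit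
    3242055285089605296691871746))) (.leaf (nat_lit 2101005766511381451286773774)))) (.node (.node
    (.node (.leaf (nat_lit 292610147577102352)) (.leaf (nat_lit 28553781227458748678146))) (.leaf
    (nat_lit 0))) (.node (.node (.leaf (nat_lit 22939225333246780964911)) (.leaf (nat_lit
    3433395864285085698))) (.leaf (nat_lit 2283113221944639499)))))))) (.node (.node (.node (.node
    (.node (.node (.node (.leaf (nat_lit 30118780285878279)) (.leaf (nat_lit 0))) (.leaf (nat_lit
    0))) (.node (.node (.leaf (nat_lit 606597124775346196)) (.leaf (nat_lit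
    29974205854011137130498))) (.leaf (nat_lit 1195900181481127952)))) (.node (.node (.node (.leaf
    (nat_lit 8919160084220667428869)) (.leaf (nat_lit 2624552805465194503))) (.leaf (nat_lit
    1533551691916713485595312181))) (.node (.node (.leaf (nat_lit 0)) (.leaf (nat_lit
    3438252558492381213295378434))) (.leaf (nat_lit 2048637419519082507))))) (.node (.node (.node
    (.node (.leaf (nat_lit 5760154452305532616761)) (.leaf (nat_lit 62065962727251292389400)))
    (.leaf (nat_lit 834191642268401686))) (.node (.node (.leaf (nat_lit 15966119763596749766674))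
    (.leaf (nat_lit 580082338306566484534755330))) (.leaf (nat_lit 0)))) (.node (.node (.node
    (.leaf (nat_lit 463040497196335124)) (.leaf (nat_lit 1625602408086372354))) (.leaf (nat_lit
    1045025195917705233))) (.node (.node (.leaf (nat_lit 31816659413688312332334)) (.leaf (nat_lit
    4232144048207303999490))) (.leaf (nat_lit 54433249544342629187631)))))) (.node (.node (.node
    (.node (.node (.leaf (nat_lit 103023006867128348)) (.leaf (nat_lit 1783076774108856337)))
    (.leaf (nat_lit 0))) (.node (.node (.leaf (nat_lit 0)) (.leaf (nat_lit 2953324739428483074)))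
    (.leaf (nat_lit 0)))) (.node (.node (.node (.leaf (nat_lit 392308262412274053805244430)) (.leaf
    (nat_lit 87458179404249434357808))) (.leaf (nat_lit 0))) (.node (.node (.leaf (nat_lit 0))
    (.leaf (nat_lit 3515638254820349956908646402))) (.leaf (nat_lit 2121400376036032557))))) (.node
    (.node (.node (.node (.leaf (nat_lit 0)) (.leaf (nat_lit 0))) (.leaf (nat_lit
    1400788662874144818))) (.node (.node (.leaf (nat_lit 493591527285719057)) (.leaf (nat_lit
    19745757362164949254146))) (.leaf (nat_lit 62037735275293678174229)))) (.node (.node (.node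
    (.leaf (nat_lit 0)) (.leaf (nat_lit 14718710252897778728962))) (.leaf (nat_lit
    36645573061513096396804))) (.node (.node (.leaf (nat_lit 23013007101713384144901)) (.leaf
    (nat_lit 198401654847045634))) (.leaf (nat_lit 1615876239896215574))))))) (.node (.node (.node
    (.node (.node (.node (.leaf (nat_lit 50776415535662722095251521)) (.leaf (nat_lit 0))) (.leaf
    (nat_lit 0))) (.node (.node (.leaf (nat_lit 361855740626993174)) (.leaf (nat_lit
    16683415454056970387458))) (.leaf (nat_lit 40067543310405453676602)))) (.node (.node (.node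
    (.leaf (nat_lit 354669332627849227)) (.leaf (nat_lit 0))) (.leaf (nat_lit
    1558203552348673161828761635))) (.node (.node (.leaf (nat_lit 30511469232073876897804)) (.leaf
    (nat_lit 4739302565930353229826))) (.leaf (nat_lit 68235930655646548164620))))) (.node (.node
    (.node (.node (.leaf (nat_lit 0)) (.leaf (nat_lit 63421838809427614040102))) (.leaf (nat_lit
    44720851158807278190648))) (.node (.node (.leaf (nat_lit 787028090994950164)) (.leaf (nat_lit
    3206736466163994061852377090))) (.leaf (nat_lit 63319751758423557079066)))) (.node (.node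
    (.node (.leaf (nat_lit 15320488076199652950086)) (.leaf (nat_lit
    128496089330805132129579348815952280383872815028440966388757440648911464786230452220031653874108261598209760493664)))
    (.leaf (nat_lit 0))) (.node (.node (.leaf (nat_lit 677965333612593174)) (.leaf (nat_lit
    3241144246123757570))) (.leaf (nat_lit 0)))))) (.node (.node (.node (.node (.node (.leaf
    (nat_lit 138489953444298780)) (.leaf (nat_lit 0))) (.leaf (nat_lit 36202537206312918515782)))
    (.node (.node (.leaf (nat_lit 18341089226078883610684)) (.leaf (nat_lit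
    589601448183843579702280194))) (.leaf (nat_lit 0)))) (.node (.node (.node (.leaf (nat_lit
    11713909368689199874071)) (.leaf (nat_lit 40442604511936211255298))) (.leaf (nat_lit
    1579967289644679179))) (.node (.node (.leaf (nat_lit 619134864456810499)) (.leaf (nat_lit
    265014329445971618737422338))) (.leaf (nat_lit 69241333941933900496965))))) (.node (.node
    (.node (.node (.leaf (nat_lit 173819461067997200)) (.leaf (nat_lit 0))) (.leaf (nat_lit
    46717277878642421202999))) (.node (.node (.leaf (nat_lit 560020721301061649)) (.leaf (nat_lit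
    103295550245347975692290))) (.leaf (nat_lit 0)))) (.node (.node (.node (.leaf (nat_lit
    13567886528429898793018)) (.leaf (nat_lit 16254423351249888018434))) (.leaf (nat_lit
    1141855886441054230))) (.node (.leaf (nat_lit 0)) (.leaf (nat_lit
    80978485562415089522076018868285))))))))))) (.node (.node (.node (.node (.node (.node (.node
    (.node (.node (.node (.leaf (nat_lit 55340935964405202949)) (.leaf (nat_lit
    81205781738016538505166576746557))) (.leaf (nat_lit 1154082661900353547))) (.node (.node (.leaf
    (nat_lit 10229029088248270618649)) (.leaf (nat_lit 2882672785107320834))) (.leaf (nat_lit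
    37392686323264838107188)))) (.node (.node (.node (.leaf (nat_lit 9444877934221404078089))
    (.leaf (nat_lit 85050763050381169852441))) (.leaf (nat_lit 0))) (.node (.node (.leaf (nat_lit
    0)) (.leaf (nat_lit 46267447401625401098242))) (.leaf (nat_lit 47676998354698779164709)))))
    (.node (.node (.node (.node (.leaf (nat_lit 4124909148726941233886123065386)) (.leaf (nat_lit
    0))) (.leaf (nat_lit 26859264147926366224423))) (.node (.node (.leaf (nat_lit 0)) (.leaf
    (nat_lit 29121212826550169436162))) (.leaf (nat_lit 51163309412725651865637)))) (.node (.node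
    (.node (.leaf (nat_lit 14236700762395153465382)) (.leaf (nat_lit 78055520606662009487362)))
    (.leaf (nat_lit 36445636610831820794483475546154))) (.node (.node (.leaf (nat_lit 0)) (.leaf
    (nat_lit 3561576370709011150921793538))) (.leaf (nat_lit 70800087194059646631991)))))) (.node
    (.node (.node (.node (.node (.leaf (nat_lit 74452197219369010)) (.leaf (nat_lit
    77999741409558956015691))) (.leaf (nat_lit 24839297678172617900036))) (.node (.node (.leaf
    (nat_lit 0)) (.leaf (nat_lit 9276977043219635437570))) (.leaf (nat_lit
    39984535214079732809795)))) (.node (.node (.node (.leaf (nat_lit 362691382349004879)) (.leaf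
    (nat_lit 2319394981061041039373238305))) (.leaf (nat_lit 49558131637477129256966))) (.node
    (.node (.leaf (nat_lit 32182413352254291009705890611242)) (.leaf (nat_lit 283540224619970562)))
    (.leaf (nat_lit 2091141446672449556))))) (.node (.node (.node (.node (.leaf (nat_lit
    7074430223195513749508)) (.leaf (nat_lit 82699275775261486022681))) (.leaf (nat_lit
    1370262041083904028))) (.node (.node (.leaf (nat_lit 853366617392509522746277921)) (.leaf
    (nat_lit 155594995994997336794464258))) (.leaf (nat_lit 58495938879412372701202)))) (.node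
    (.node (.node (.leaf (nat_lit 16030490268547466592286)) (.leaf (nat_lit
    78673559299712748814338))) (.leaf (nat_lit 0))) (.node (.node (.leaf (nat_lit
    22312015344903938834484)) (.leaf (nat_lit 2256124437730557954))) (.leaf (nat_lit
    51560221229047317987380))))))) (.node (.node (.node (.node (.node (.node (.leaf (nat_lit 0))
    (.leaf (nat_lit 1735224035203219478))) (.leaf (nat_lit 39689389798682707188240827613226)))
    (.node (.node (.leaf (nat_lit 11169837384718224654406)) (.leaf (nat_lit
    40175258144425684172802))) (.leaf (nat_lit 1193648587825872899)))) (.node (.node (.node (.leaf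
    (nat_lit 0)) (.leaf (nat_lit 0))) (.leaf (nat_lit 1478633205652389916))) (.node (.node (.leaf
    (nat_lit 901591902619566087)) (.leaf (nat_lit 11066567324529133289474))) (.leaf (nat_lit
    52326778751248106125132992675855))))) (.node (.node (.node (.node (.leaf (nat_lit
    182539850996645952)) (.leaf (nat_lit 62462576872987539210310))) (.leaf (nat_lit
    1391365627841303140886642723))) (.node (.node (.leaf (nat_lit 468819736470355984)) (.leaf
    (nat_lit 11200230230315988353026))) (.leaf (nat_lit 62314380561614989623326)))) (.node (.node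
    (.node (.leaf (nat_lit 15108144900979562840115)) (.leaf (nat_lit 74546069199734115074050)))
    (.leaf (nat_lit 0))) (.node (.node (.leaf (nat_lit 23823620061415288111977136980010)) (.leaf
    (nat_lit 3304615294298882050))) (.leaf (nat_lit 0)))))) (.node (.node (.node (.node (.node
    (.leaf (nat_lit 3394256363478749216797)) (.leaf (nat_lit 1781669605383733265))) (.leaf (nat_lit
    43358425860799821099444663025679))) (.node (.node (.leaf (nat_lit 0)) (.leaf (nat_lit
    18366636614062927183874))) (.leaf (nat_lit 1839915589620072498)))) (.node (.node (.node (.leaf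
    (nat_lit 10459508815718233866245)) (.leaf (nat_lit 86914007209689192005675))) (.leaf (nat_lit
    50794088120584232960026))) (.node (.node (.leaf (nat_lit 583668124038070275)) (.leaf (nat_lit
    406003772329705111248175106))) (.leaf (nat_lit 0))))) (.node (.node (.node (.node (.leaf
    (nat_lit 8153585018788177444891)) (.leaf (nat_lit 78207530184720880173058))) (.leaf (nat_lit
    0))) (.node (.node (.leaf (nat_lit 26564121717223998029876)) (.leaf (nat_lit
    20050132014873264193538))) (.leaf (nat_lit 44006048150744408981538)))) (.node (.node (.node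
    (.leaf (nat_lit 0)) (.leaf (nat_lit 22784554172501563998210))) (.leaf (nat_lit 0))) (.node
    (.node (.leaf (nat_lit 0)) (.leaf (nat_lit 111818312432008365801474))) (.leaf (nat_lit
    1633890844564127766)))))))) (.node (.node (.node (.node (.node (.node (.node (.leaf (nat_lit
    21156838265778774722478113)) (.leaf (nat_lit 1740852984981618699))) (.leaf (nat_lit
    28785386803754131924977847697450))) (.node (.node (.leaf (nat_lit 0)) (.leaf (nat_lit
    14884765274506002628610))) (.leaf (nat_lit 57305974698881725956100)))) (.node (.node (.node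
    (.leaf (nat_lit 6779333830668498173998)) (.leaf (nat_lit 68587083934591843762210))) (.leaf
    (nat_lit 0))) (.node (.node (.leaf (nat_lit 0)) (.leaf (nat_lit 3187801271998480386))) (.leaf
    (nat_lit 66603364248816179150878))))) (.node (.node (.node (.node (.leaf (nat_lit 0)) (.leaf
    (nat_lit 1871461772221874198))) (.leaf (nat_lit 26914615921171295830034))) (.node (.node (.leaf
    (nat_lit 0)) (.leaf (nat_lit 2993012805633966082))) (.leaf (nat_lit 0)))) (.node (.node (.node
    (.leaf (nat_lit 451781145940590612)) (.leaf (nat_lit 79300699471803121336391))) (.leaf (nat_lit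
    51983952232371202490435))) (.node (.node (.leaf (nat_lit 0)) (.leaf (nat_lit
    3477126985542547865159860226))) (.leaf (nat_lit 1694053395425676971504566325)))))) (.node
    (.node (.node (.node (.node (.leaf (nat_lit 2873130354058882908186)) (.leaf (nat_lit
    78590136442655860785190))) (.leaf (nat_lit 40703514048407315611653))) (.node (.node (.leaf
    (nat_lit 12617956054274616262699)) (.leaf (nat_lit 18205214677323049271298))) (.leaf (nat_lit
    0)))) (.node (.node (.node (.leaf (nat_lit 12414855383469877559322)) (.leaf (nat_lit 0)))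
    (.leaf (nat_lit 50195122317451719802931))) (.node (.node (.leaf (nat_lit
    31286248809474241527835)) (.leaf (nat_lit 3259013101076480002))) (.leaf (nat_lit
    68789344800571360739357))))) (.node (.node (.node (.node (.leaf (nat_lit
    7590950316799615500297)) (.leaf (nat_lit 0))) (.leaf (nat_lit 875570319270739971))) (.node
    (.node (.leaf (nat_lit 16178283217997692862502)) (.leaf (nat_lit
    107414075725455943678673283252226))) (.leaf (nat_lit 1362258146189508625)))) (.node (.node
    (.node (.leaf (nat_lit 524122422568419356)) (.leaf (nat_lit 51095691252727757864962))) (.leaf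
    (nat_lit 37005276267077842436133))) (.node (.node (.leaf (nat_lit 0)) (.leaf (nat_lit
    2778541496289329154))) (.leaf (nat_lit 72460404501633155924035))))))) (.node (.node (.node
    (.node (.node (.node (.leaf (nat_lit 0)) (.leaf (nat_lit 0))) (.leaf (nat_lit
    39476785581657002541085))) (.node (.node (.leaf (nat_lit 20079893573825535868980)) (.leaf
    (nat_lit 33363804945564752347138))) (.leaf (nat_lit 0)))) (.node (.node (.node (.leaf (nat_lit
    10975979086078204379165)) (.leaf (nat_lit 2650588652400410669))) (.leaf (nat_lit 0))) (.node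
    (.node (.leaf (nat_lit 0)) (.leaf (nat_lit 221185373907517545461841922))) (.leaf (nat_lit
    67571842520650619224091))))) (.node (.node (.node (.node (.leaf (nat_lit
    6382668594148781785094)) (.leaf (nat_lit 0))) (.leaf (nat_lit 43987086006738298798110))) (.node
    (.node (.leaf (nat_lit 0)) (.leaf (nat_lit 8774373353097271640066))) (.leaf (nat_lit
    42419581856122451197956)))) (.node (.node (.node (.leaf (nat_lit 15873687876804418928665))
    (.leaf (nat_lit 82925519174619646590978))) (.leaf (nat_lit 0))) (.node (.node (.leaf (nat_lit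
    666143040993361937)) (.leaf (nat_lit 5528077940919304912898))) (.leaf (nat_lit
    50896117331229354950688)))))) (.node (.node (.node (.node (.node (.leaf (nat_lit
    4113689516028108931099)) (.leaf (nat_lit 58911474069186745139269))) (.leaf (nat_lit
    27135955175391682035717))) (.node (.node (.leaf (nat_lit 22708346455774302765075)) (.leaf
    (nat_lit 3007932439688511490))) (.leaf (nat_lit 0)))) (.node (.node (.node (.leaf (nat_lit
    219985411697672214)) (.leaf (nat_lit 2570512556284313602))) (.leaf (nat_lit
    2368656279348498698946244856867440991676901826434816353700659809734899065397704511819159050816144957922213977)))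
    (.node (.node (.leaf (nat_lit 601683072303366147)) (.leaf (nat_lit
    3530714123917626431242502146))) (.leaf (nat_lit 0))))) (.node (.node (.node (.node (.leaf
    (nat_lit 8845343551618755526660)) (.leaf (nat_lit 0))) (.leaf (nat_lit 0))) (.node (.node
    (.leaf (nat_lit 16547232455803797700678)) (.leaf (nat_lit 3297747608507807479613358082)))
    (.leaf (nat_lit 0)))) (.node (.node (.node (.leaf (nat_lit 18234897860569642237973)) (.leaf
    (nat_lit 30569090267232566706178))) (.leaf (nat_lit 1712264583147814923))) (.node (.leaf
    (nat_lit 36433431265704514093064)) (.leaf (nat_lit 74720194546590390878213))))))))) (.node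
    (.node (.node (.node (.node (.node (.node (.node (.leaf (nat_lit 0)) (.leaf (nat_lit
    1818563379467330504796405813))) (.leaf (nat_lit 0))) (.node (.node (.leaf (nat_lit
    14785382615299857252410)) (.leaf (nat_lit 278752219830216276398309378))) (.leaf (nat_lit 0))))
    (.node (.node (.node (.leaf (nat_lit 9389541079966283923494)) (.leaf (nat_lit 0))) (.leaf
    (nat_lit 47307584385531278196749))) (.node (.node (.leaf (nat_lit 0)) (.leaf (nat_lit
    3181604029327343618))) (.leaf (nat_lit 45693977589200300736564))))) (.node (.node (.node (.node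
    (.leaf (nat_lit 0)) (.leaf (nat_lit 60534837932518650609733))) (.leaf (nat_lit
    849672147512197123))) (.node (.node (.leaf (nat_lit 23935095751380834648073)) (.leaf (nat_lit
    58645122865424270295042))) (.leaf (nat_lit 0)))) (.node (.node (.node (.leaf (nat_lit
    14453267752614707265566)) (.leaf (nat_lit 77562079212694147366914))) (.leaf (nat_lit
    1037424753071226897))) (.node (.node (.leaf (nat_lit 31724416544773136121902)) (.leaf (nat_lit
    14276453115108482285570))) (.leaf (nat_lit 70689412922341754863642)))))) (.node (.node (.node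
    (.node (.node (.leaf (nat_lit 2564139087089096654889)) (.leaf (nat_lit
    78225172751002261192722))) (.leaf (nat_lit 843241471955770249081782307))) (.node (.node (.leaf
    (nat_lit 21500054318291632717865)) (.leaf (nat_lit 22424901766083418193922))) (.leaf (nat_lit
    1225456634583711760)))) (.node (.node (.node (.leaf (nat_lit 371695222939320399)) (.leaf
    (nat_lit 0))) (.leaf (nat_lit 31415762359713051901956))) (.node (.node (.leaf (nat_lit
    30691705963654559236154)) (.leaf (nat_lit 3253383043196518402))) (.leaf (nat_lit
    68549529808997454118931))))) (.node (.node (.node (.node (.leaf (nat_lit 116959797785526288))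
    (.leaf (nat_lit 0))) (.leaf (nat_lit 0))) (.node (.node (.leaf (nat_lit 0)) (.leaf (nat_lit
    3336974634608391477916860418))) (.leaf (nat_lit 1323132849548820496)))) (.node (.node (.node
    (.leaf (nat_lit 515818167726112847)) (.leaf (nat_lit 2818776247407083522))) (.leaf (nat_lit
    53608782164129338045945077891121))) (.node (.node (.leaf (nat_lit 35520289285183830687778))
    (.leaf (nat_lit 374744903122550786))) (.leaf (nat_lit 2159661455792084911856549923)))))))
    (.node (.node (.node (.node (.node (.node (.leaf (nat_lit 1383531421181321347081)) (.leaf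
    (nat_lit 0))) (.leaf (nat_lit 0))) (.node (.node (.leaf (nat_lit 0)) (.leaf (nat_lit
    60010123385585474404354))) (.leaf (nat_lit 44893509146738089147707355889713)))) (.node (.node
    (.node (.leaf (nat_lit 320521738469226109601054764)) (.leaf (nat_lit
    76566417694986819667937930313759))) (.leaf (nat_lit 48405176355057033216026))) (.node (.node
    (.leaf (nat_lit 0)) (.leaf (nat_lit 9641496790066924814338))) (.leaf (nat_lit
    2063837549297795100))))) (.node (.node (.node (.node (.leaf (nat_lit
    102459359441237190004441132)) (.leaf (nat_lit 87871267999364160422892083150863))) (.leaf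
    (nat_lit 824903449073287184))) (.node (.node (.leaf (nat_lit 0)) (.leaf (nat_lit
    11195592369083231961090))) (.leaf (nat_lit 0)))) (.node (.node (.node (.leaf (nat_lit 0))
    (.leaf (nat_lit 2704215068597420034))) (.leaf (nat_lit 0))) (.node (.node (.leaf (nat_lit 0))
    (.leaf (nat_lit 372631641773965314))) (.leaf (nat_lit 0)))))) (.node (.node (.node (.node
    (.node (.leaf (nat_lit 0)) (.leaf (nat_lit 79415019551536997138458))) (.leaf (nat_lit
    26757793543906037792806))) (.node (.node (.leaf (nat_lit 0)) (.leaf (nat_lit
    33433021614539640340482))) (.leaf (nat_lit 0)))) (.node (.node (.node (.leaf (nat_lit 0))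
    (.leaf (nat_lit 2201920816583671824))) (.leaf (nat_lit 1559981947822931975))) (.node (.node
    (.leaf (nat_lit 0)) (.leaf (nat_lit 3203001367417454594))) (.leaf (nat_lit
    2217842112593500976011542593))))) (.node (.node (.node (.node (.leaf (nat_lit
    5862969559678801379409420156977)) (.leaf (nat_lit 0))) (.leaf (nat_lit 0))) (.node (.node
    (.leaf (nat_lit 0)) (.leaf (nat_lit 17167683581037798162434))) (.leaf (nat_lit
    1992762733971505174)))) (.node (.node (.node (.leaf (nat_lit 551842128611901508)) (.leaf
    (nat_lit 17803940835320133779458))) (.leaf (nat_lit 0))) (.node (.node (.leaf (nat_lit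
    1127341714479120395)) (.leaf (nat_lit 3422699471572697090))) (.leaf (nat_lit 0)))))))) (.node
    (.node (.node (.node (.node (.node (.node (.leaf (nat_lit 963856593226706386963)) (.leaf
    (nat_lit 1699194963306348566))) (.leaf (nat_lit 24295103245508667441199))) (.node (.node (.leaf
    (nat_lit 19784458985566359453725)) (.leaf (nat_lit 31090233041992848441346))) (.leaf (nat_lit
    1188018813413752848)))) (.node (.node (.node (.leaf (nat_lit 0)) (.leaf (nat_lit 0))) (.leaf
    (nat_lit 47824101382919226064904))) (.node (.node (.leaf (nat_lit 18059906848052536868934))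
    (.leaf (nat_lit 3188927317934211074))) (.leaf (nat_lit 0))))) (.node (.node (.node (.node
    (.leaf (nat_lit 4620992430869477261342)) (.leaf (nat_lit 0))) (.leaf (nat_lit
    1424292627392528488069333057))) (.node (.node (.leaf (nat_lit 15855437891710889426962)) (.leaf
    (nat_lit 815944671279841282))) (.leaf (nat_lit 0)))) (.node (.node (.node (.leaf (nat_lit
    15131289321080084430887)) (.leaf (nat_lit 2277357665120288770))) (.leaf (nat_lit
    52800229524352314572840))) (.node (.node (.leaf (nat_lit 0)) (.leaf (nat_lit
    3280126266950418434))) (.leaf (nat_lit 1534246228907393027)))))) (.node (.node (.node (.node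
    (.node (.leaf (nat_lit 0)) (.leaf (nat_lit 0))) (.leaf (nat_lit
    28879191436945271909887919849487))) (.node (.node (.leaf (nat_lit 0)) (.leaf (nat_lit
    39289851319710350770178))) (.leaf (nat_lit 48295924181217604445330072731663)))) (.node (.node
    (.node (.leaf (nat_lit 389709458240045106)) (.leaf (nat_lit 87172703401422195195974))) (.leaf
    (nat_lit 34085941090568728936496))) (.node (.node (.leaf (nat_lit 31286253313340156870686))
    (.leaf (nat_lit 3269427520595951618))) (.leaf (nat_lit 0))))) (.node (.node (.node (.node
    (.leaf (nat_lit 7637184974545110630434)) (.leaf (nat_lit 80226855312696516214809))) (.leaf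
    (nat_lit 0))) (.node (.node (.leaf (nat_lit 494717358473084950)) (.leaf (nat_lit
    3065071902910447618))) (.leaf (nat_lit 1364791695857811478)))) (.node (.node (.node (.leaf
    (nat_lit 330749388446105611)) (.leaf (nat_lit 27820505419361902854146))) (.leaf (nat_lit
    1685242152159936519))) (.node (.node (.leaf (nat_lit 30231316635305830592213904850986)) (.leaf
    (nat_lit 427803649197080578))) (.leaf (nat_lit 0))))))) (.node (.node (.node (.node (.node
    (.node (.leaf (nat_lit 64178283260018708)) (.leaf (nat_lit 2371358272843284559))) (.leaf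
    (nat_lit 39790381920043393024046))) (.node (.node (.leaf (nat_lit 20762153592546056667149))
    (.leaf (nat_lit 15295297117973727346690))) (.leaf (nat_lit 1794457750248488980)))) (.node
    (.node (.node (.leaf (nat_lit 0)) (.leaf (nat_lit 85682633279674138165322))) (.leaf (nat_lit
    0))) (.node (.node (.leaf (nat_lit 30013405453156549328936)) (.leaf (nat_lit
    2352945387268079618))) (.leaf (nat_lit 0))))) (.node (.node (.node (.node (.leaf (nat_lit 0))
    (.leaf (nat_lit 82037633024196209316557635256369))) (.leaf (nat_lit 39393853769542506053680)))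
    (.node (.node (.leaf (nat_lit 25715241740523752587291)) (.leaf (nat_lit 3091811286963585026)))
    (.leaf (nat_lit 1304554951330103312)))) (.node (.node (.node (.leaf (nat_lit
    342292706041578222688403491)) (.leaf (nat_lit 78276950081884538470402))) (.leaf (nat_lit 0)))
    (.node (.node (.leaf (nat_lit 1073859815341686804)) (.leaf (nat_lit 1047750429976428546)))
    (.leaf (nat_lit 72981809018417784750160)))))) (.node (.node (.node (.node (.node (.leaf
    (nat_lit 4205926895837641900062)) (.leaf (nat_lit 79987521499580229419059))) (.leaf (nat_lit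
    38167113761235816087591))) (.node (.node (.leaf (nat_lit 500906509425836096)) (.leaf (nat_lit
    3220000869644128811206574082))) (.leaf (nat_lit 0)))) (.node (.node (.node (.leaf (nat_lit
    11658569136399351742516)) (.leaf (nat_lit 76030984392615573782530))) (.leaf (nat_lit
    32909994511745406926852))) (.node (.node (.leaf (nat_lit 0)) (.leaf (nat_lit
    3254510755579559938))) (.leaf (nat_lit 70495710568544003620904))))) (.node (.node (.node (.node
    (.leaf (nat_lit 147190075980056133076516908)) (.leaf (nat_lit 2507317318024036418))) (.leaf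
    (nat_lit 0))) (.node (.node (.leaf (nat_lit 0)) (.leaf (nat_lit 1095083916687424321438875650)))
    (.leaf (nat_lit 47612427994783656640517)))) (.node (.node (.node (.leaf (nat_lit
    309217652239368209)) (.leaf (nat_lit 17043020534659978297346))) (.leaf (nat_lit
    55816938716464391847979))) (.node (.leaf (nat_lit 36276228476640319176745)) (.leaf (nat_lit
    0)))))))))) (.node (.node (.node (.node (.node (.node (.node (.node (.node (.leaf (nat_lit
    212139808849337188370)) (.leaf (nat_lit 0))) (.leaf (nat_lit 24013773790673776083004))) (.node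
    (.node (.leaf (nat_lit 19092692149095119388702)) (.leaf (nat_lit 14884759085831791247362)))
    (.leaf (nat_lit 56706430464792331485235)))) (.node (.node (.node (.leaf (nat_lit
    9297305389109690433542)) (.leaf (nat_lit 2599782260190347284))) (.leaf (nat_lit 0))) (.node
    (.node (.leaf (nat_lit 17451149515462289850393)) (.leaf (nat_lit 20063852215521547321346)))
    (.leaf (nat_lit 45693975900221591453754))))) (.node (.node (.node (.node (.leaf (nat_lit
    149186337566752775)) (.leaf (nat_lit 0))) (.leaf (nat_lit 812235838170726417))) (.node (.node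
    (.leaf (nat_lit 444048976447143952)) (.leaf (nat_lit 39409781614566690717698))) (.leaf (nat_lit
    0)))) (.node (.node (.node (.leaf (nat_lit 0)) (.leaf (nat_lit 79512817608183058202626)))
    (.leaf (nat_lit 1041083790329511953))) (.node (.node (.leaf (nat_lit 32863493561784132108318))
    (.leaf (nat_lit 3318125174057992194))) (.leaf (nat_lit 70431155690431205015571)))))) (.node
    (.node (.node (.node (.node (.leaf (nat_lit 0)) (.leaf (nat_lit 0))) (.leaf (nat_lit
    39873395083528580038696))) (.node (.node (.leaf (nat_lit 0)) (.leaf (nat_lit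
    9687419068785077977090))) (.leaf (nat_lit 0)))) (.node (.node (.node (.leaf (nat_lit
    8680668579504291331877586141233)) (.leaf (nat_lit 69850726156340734132258))) (.leaf (nat_lit
    31314303296845373440048))) (.node (.node (.leaf (nat_lit 943664276969750573)) (.leaf (nat_lit
    323509937600856066))) (.leaf (nat_lit 2095645175148838919))))) (.node (.node (.node (.node
    (.leaf (nat_lit 105700661278146577)) (.leaf (nat_lit 65003652321387464556618))) (.leaf (nat_lit
    0))) (.node (.node (.leaf (nat_lit 0)) (.leaf (nat_lit 3314023071111573961961635842))) (.leaf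
    (nat_lit 0)))) (.node (.node (.node (.leaf (nat_lit 511314611048415311)) (.leaf (nat_lit
    2816805810900959234))) (.leaf (nat_lit 35944576519749306089476))) (.node (.node (.leaf (nat_lit
    0)) (.leaf (nat_lit 719270051278094338))) (.leaf (nat_lit 69043128976754983764028))))))) (.node
    (.node (.node (.node (.node (.node (.leaf (nat_lit 42222556471754763)) (.leaf (nat_lit 0)))
    (.leaf (nat_lit 0))) (.node (.node (.leaf (nat_lit 17921346278783312920599)) (.leaf (nat_lit
    44616313492518885064706))) (.leaf (nat_lit 0)))) (.node (.node (.node (.leaf (nat_lit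
    330180253739778076)) (.leaf (nat_lit 69223507583346109775896))) (.leaf (nat_lit
    1483699892672135175))) (.node (.node (.leaf (nat_lit 29579901618712622596102)) (.leaf (nat_lit
    31915928807344072491010))) (.leaf (nat_lit 2059615287208181788))))) (.node (.node (.node (.node
    (.leaf (nat_lit 0)) (.leaf (nat_lit 65022065709576922267722))) (.leaf (nat_lit
    26933067591735702650904))) (.node (.node (.leaf (nat_lit 15329710893309553213509)) (.leaf
    (nat_lit 3067603992289869826))) (.leaf (nat_lit 0)))) (.node (.node (.node (.leaf (nat_lit 0))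
    (.leaf (nat_lit 2986272722173837772459343981))) (.leaf (nat_lit 0))) (.node (.node (.leaf
    (nat_lit 1051059659328323591)) (.leaf (nat_lit 3479243875603060140091375618))) (.leaf (nat_lit
    0)))))) (.node (.node (.node (.node (.node (.leaf (nat_lit 113719390989582343)) (.leaf (nat_lit
    67642447198843299923218103861263))) (.leaf (nat_lit 41450622383711309725736))) (.node (.node
    (.leaf (nat_lit 18682340902100179025974)) (.leaf (nat_lit 8299328570618263306242))) (.leaf
    (nat_lit 0)))) (.node (.node (.node (.leaf (nat_lit 0)) (.leaf (nat_lit 0))) (.leaf (nat_lit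
    0))) (.node (.node (.leaf (nat_lit 587045961197551638)) (.leaf (nat_lit
    21318497949449384558594))) (.leaf (nat_lit 69693262001001700982814))))) (.node (.node (.node
    (.node (.leaf (nat_lit 140323182925185027)) (.leaf (nat_lit 64602468852931045294084))) (.leaf
    (nat_lit 884015255766827025))) (.node (.node (.leaf (nat_lit 27338569012795880439817)) (.leaf
    (nat_lit 3118833795260874754))) (.leaf (nat_lit 65044560611363931750404)))) (.node (.node
    (.node (.leaf (nat_lit 546078149356683284)) (.leaf (nat_lit 36038564281379738288130))) (.leaf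
    (nat_lit 0))) (.node (.node (.leaf (nat_lit 0)) (.leaf (nat_lit 242594059414274050))) (.leaf
    (nat_lit 0)))))))) (.node (.node (.node (.node (.node (.node (.node (.leaf (nat_lit 0)) (.leaf
    (nat_lit 0))) (.leaf (nat_lit 26550217004686189461578))) (.node (.node (.leaf (nat_lit
    19576936632993947254803)) (.leaf (nat_lit 19528735063020692242434))) (.leaf (nat_lit
    57435108381459596115972)))) (.node (.node (.node (.leaf (nat_lit 10242711860232254062618))
    (.leaf (nat_lit 0))) (.leaf (nat_lit 949037624654430224))) (.node (.node (.leaf (nat_lit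
    17967672001646643314720)) (.leaf (nat_lit 684356691785455580702048258))) (.leaf (nat_lit 0)))))
    (.node (.node (.node (.node (.leaf (nat_lit 5529570995912172568630)) (.leaf (nat_lit 0)))
    (.leaf (nat_lit 828843411552469014))) (.node (.node (.leaf (nat_lit 0)) (.leaf (nat_lit
    59977906041595516616706))) (.leaf (nat_lit 61982335227226226884662)))) (.node (.node (.node
    (.leaf (nat_lit 8845468250651255570437)) (.leaf (nat_lit 72433903472626970591234))) (.leaf
    (nat_lit 1036580740457955331))) (.node (.node (.leaf (nat_lit 0)) (.leaf (nat_lit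
    342934777600540674))) (.leaf (nat_lit 71574880000723787120666)))))) (.node (.node (.node (.node
    (.node (.leaf (nat_lit 3094486920261647138822)) (.leaf (nat_lit 78737717570263283073081)))
    (.leaf (nat_lit 786619966022615056))) (.node (.node (.leaf (nat_lit
    704513655110292036489838627)) (.leaf (nat_lit 9715102987593386754050))) (.leaf (nat_lit 0))))
    (.node (.node (.node (.leaf (nat_lit 0)) (.leaf (nat_lit 0))) (.leaf (nat_lit
    972683721721380881))) (.node (.node (.leaf (nat_lit 22694679164647750434870)) (.leaf (nat_lit
    3259576763994472450))) (.leaf (nat_lit 69222850323323981856822))))) (.node (.node (.node (.node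
    (.leaf (nat_lit 237108172050874946604498979)) (.leaf (nat_lit 2120066815452686376524578830)))
    (.leaf (nat_lit 32305873994039825067846018596913))) (.node (.node (.leaf (nat_lit
    26388872300086882926600)) (.leaf (nat_lit 3244170882190989676360499202))) (.leaf (nat_lit
    1970103495835123719)))) (.node (.node (.node (.leaf (nat_lit 0)) (.leaf (nat_lit
    29416147792731364851714))) (.leaf (nat_lit 0))) (.node (.node (.leaf (nat_lit 0)) (.leaf
    (nat_lit 273836579238313986))) (.leaf (nat_lit 0))))))) (.node (.node (.node (.node (.node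
    (.node (.leaf (nat_lit 1955384569265796612126)) (.leaf (nat_lit 77404900202780811264052)))
    (.leaf (nat_lit 24747061705591939596292))) (.node (.node (.leaf (nat_lit
    624581801128638752565231669)) (.leaf (nat_lit 3159594617172629228083216386))) (.leaf (nat_lit
    1240937071108030467)))) (.node (.node (.node (.leaf (nat_lit 7415773242579805732869)) (.leaf
    (nat_lit 69380320108171139153952))) (.leaf (nat_lit 45453705747933713072175))) (.node (.node
    (.leaf (nat_lit 29893500209165114736680)) (.leaf (nat_lit 1348360397262914814910660610)))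
    (.leaf (nat_lit 2077630235473477652))))) (.node (.node (.node (.node (.leaf (nat_lit
    4242849377960656568354)) (.leaf (nat_lit 0))) (.leaf (nat_lit 0))) (.node (.node (.leaf
    (nat_lit 15726324898643319128089)) (.leaf (nat_lit 4056759300687961194498))) (.leaf (nat_lit
    0)))) (.node (.node (.node (.leaf (nat_lit 16076603469136136437766)) (.leaf (nat_lit
    82570423995220025868290))) (.leaf (nat_lit 0))) (.node (.node (.leaf (nat_lit
    22136761142675039780903)) (.leaf (nat_lit 110268695293980909436930))) (.leaf (nat_lit 0))))))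
    (.node (.node (.node (.node (.node (.leaf (nat_lit 3283587721672708522002)) (.leaf (nat_lit
    59363431261825168244768))) (.leaf (nat_lit 41718108336095588712488))) (.node (.node (.leaf
    (nat_lit 22809804392742074384410)) (.leaf (nat_lit 40470557212649761996802))) (.leaf (nat_lit
    41128269517979528658965)))) (.node (.node (.node (.leaf (nat_lit 241377647366635531)) (.leaf
    (nat_lit 2509995590910345219))) (.leaf (nat_lit 1574192383992660018))) (.node (.node (.leaf
    (nat_lit 32669789096915465601050)) (.leaf (nat_lit 469020349902623456912211970))) (.leaf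
    (nat_lit 48553307929787689533474))))) (.node (.node (.node (.node (.leaf (nat_lit
    8660878081352525873207)) (.leaf (nat_lit 2582330261878472732))) (.leaf (nat_lit
    897245129428041750))) (.node (.node (.leaf (nat_lit 0)) (.leaf (nat_lit
    50994412344380728999938))) (.leaf (nat_lit 0)))) (.node (.node (.node (.leaf (nat_lit
    565352901724209197)) (.leaf (nat_lit 57436775023444131774466))) (.leaf (nat_lit
    1143544530142887958))) (.node (.leaf (nat_lit 0)) (.leaf (nat_lit 2294776424680259634)))))))))
    (.node (.node (.node (.node (.node (.node (.node (.node (.leaf (nat_lit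
    12391720243795587863150627)) (.leaf (nat_lit 0))) (.leaf (nat_lit 38185496325303983865886)))
    (.node (.node (.leaf (nat_lit 19304836039404633128979)) (.leaf (nat_lit
    24781440950073605423106))) (.leaf (nat_lit 0)))) (.node (.node (.node (.leaf (nat_lit
    179168104100790275)) (.leaf (nat_lit 0))) (.leaf (nat_lit 0))) (.node (.node (.leaf (nat_lit
    0)) (.leaf (nat_lit 3341790752107485048852447234))) (.leaf (nat_lit 2032592864810237980)))))
    (.node (.node (.node (.node (.leaf (nat_lit 0)) (.leaf (nat_lit 60737758309916382265413)))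
    (.leaf (nat_lit 0))) (.node (.node (.leaf (nat_lit 458123000160583702)) (.leaf (nat_lit
    3223963082718893309482500098))) (.leaf (nat_lit 1283724291225026577)))) (.node (.node (.node
    (.leaf (nat_lit 9961491481761201455109)) (.leaf (nat_lit 79485162691686876512313))) (.leaf
    (nat_lit 0))) (.node (.node (.leaf (nat_lit 0)) (.leaf (nat_lit 12233521500242869157890)))
    (.leaf (nat_lit 71288935482583064707085)))))) (.node (.node (.node (.node (.node (.leaf
    (nat_lit 1798600052575339479063)) (.leaf (nat_lit 1770691394097250321))) (.leaf (nat_lit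
    842485948665921084911255617))) (.node (.node (.leaf (nat_lit 12608729022925625294880)) (.leaf
    (nat_lit 3187424768110468439109533698))) (.leaf (nat_lit 1422209266951575911729987619))))
    (.node (.node (.node (.leaf (nat_lit 7817004985918876221500)) (.leaf (nat_lit
    85493584552894704844837))) (.leaf (nat_lit 0))) (.node (.node (.leaf (nat_lit
    23128174553863123304466)) (.leaf (nat_lit 377744882426735113669967874))) (.leaf (nat_lit 0)))))
    (.node (.node (.node (.node (.leaf (nat_lit 0)) (.leaf (nat_lit 80189946343013061165081)))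
    (.leaf (nat_lit 34400519316252882528836390289450))) (.node (.node (.leaf (nat_lit
    26314768804888675811355)) (.leaf (nat_lit 349934958790313547149869058))) (.leaf (nat_lit 0))))
    (.node (.node (.node (.leaf (nat_lit 519337210525384732)) (.leaf (nat_lit
    45118950126178575515650))) (.leaf (nat_lit 54695696796770625585207))) (.node (.node (.leaf
    (nat_lit 0)) (.leaf (nat_lit 281576814680342530))) (.leaf (nat_lit 0))))))) (.node (.node
    (.node (.node (.node (.node (.leaf (nat_lit 0)) (.leaf (nat_lit 77261932587613774086200)))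
    (.leaf (nat_lit 814625351815790620))) (.node (.node (.leaf (nat_lit 0)) (.leaf (nat_lit
    33340744263170290548738))) (.leaf (nat_lit 58237574119112917057591)))) (.node (.node (.node
    (.leaf (nat_lit 164532504823463939)) (.leaf (nat_lit 91580084070371841650584570888234))) (.leaf
    (nat_lit 0))) (.node (.node (.leaf (nat_lit 0)) (.leaf (nat_lit 5836864733339466268674)))
    (.leaf (nat_lit 0))))) (.node (.node (.node (.node (.leaf (nat_lit 0)) (.leaf (nat_lit 0)))
    (.leaf (nat_lit 43839511209594843234345))) (.node (.node (.leaf (nat_lit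
    15993800013424950968374)) (.leaf (nat_lit 567237234738329115982823426))) (.leaf (nat_lit
    1925066125171884052)))) (.node (.node (.node (.leaf (nat_lit 0)) (.leaf (nat_lit
    91753977969065428061262325284913))) (.leaf (nat_lit 34916139293092949983257))) (.node (.node
    (.leaf (nat_lit 0)) (.leaf (nat_lit 20041047577112810291202))) (.leaf (nat_lit
    54658580260734513079440504061994)))))) (.node (.node (.node (.node (.node (.leaf (nat_lit
    121882440192098324)) (.leaf (nat_lit 1989935333736826491443085365))) (.leaf (nat_lit 0)))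
    (.node (.node (.leaf (nat_lit 699486684588408839)) (.leaf (nat_lit 3004834213489934338)))
    (.leaf (nat_lit 0)))) (.node (.node (.node (.leaf (nat_lit 0)) (.leaf (nat_lit
    77695791372422923616258))) (.leaf (nat_lit 51246042780222743576631))) (.node (.node (.leaf
    (nat_lit 0)) (.leaf (nat_lit 3269709493788868610))) (.leaf (nat_lit 0))))) (.node (.node (.node
    (.node (.leaf (nat_lit 0)) (.leaf (nat_lit 0))) (.leaf (nat_lit 0))) (.node (.node (.leaf
    (nat_lit 22491693481619448070213)) (.leaf (nat_lit 17725700955834677395458))) (.leaf (nat_lit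
    0)))) (.node (.node (.node (.leaf (nat_lit 0)) (.leaf (nat_lit 25325601579837402841090)))
    (.leaf (nat_lit 1155929154240249872))) (.node (.leaf (nat_lit 0)) (.leaf (nat_lit
    74868395484544661389364)))))))) (.node (.node (.node (.node (.node (.node (.node (.leaf
    (nat_lit 834730932934780583973)) (.leaf (nat_lit 0))) (.leaf (nat_lit 0))) (.node (.node (.leaf
    (nat_lit 347780960999309334)) (.leaf (nat_lit 18587953635471004991490))) (.leaf (nat_lit
    1196744675130736656)))) (.node (.node (.node (.leaf (nat_lit 345607009164495328779698241))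
    (.leaf (nat_lit 0))) (.leaf (nat_lit 0))) (.node (.node (.leaf (nat_lit 0)) (.leaf (nat_lit
    3199905177033375746))) (.leaf (nat_lit 46228948086207428100148))))) (.node (.node (.node (.node
    (.leaf (nat_lit 0)) (.leaf (nat_lit 1897639357372825603))) (.leaf (nat_lit
    43249211739503094595642))) (.node (.node (.leaf (nat_lit 0)) (.leaf (nat_lit
    45787752659793922424834))) (.leaf (nat_lit 62443506362635813847046)))) (.node (.node (.node
    (.leaf (nat_lit 0)) (.leaf (nat_lit 2269335748543119362))) (.leaf (nat_lit
    34284319167728815636526))) (.node (.node (.leaf (nat_lit 0)) (.leaf (nat_lit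
    4393555326363066630146))) (.leaf (nat_lit 0)))))) (.node (.node (.node (.node (.node (.leaf
    (nat_lit 56438966940991504)) (.leaf (nat_lit 1779417668131094531))) (.leaf (nat_lit
    25466506680889185075248))) (.node (.node (.leaf (nat_lit 22288665294495272861715)) (.leaf
    (nat_lit 16950846783120193290242))) (.leaf (nat_lit 1464199746712773429794439201)))) (.node
    (.node (.node (.leaf (nat_lit 385811176214831603504119843)) (.leaf (nat_lit
    88352847617801563865143))) (.leaf (nat_lit 32079864428089695207491))) (.node (.node (.leaf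
    (nat_lit 582542086692274179)) (.leaf (nat_lit 3273368273349115906))) (.leaf (nat_lit
    2213006262190042053762875457))))) (.node (.node (.node (.node (.leaf (nat_lit
    6684971870494969657373382475818)) (.leaf (nat_lit 0))) (.leaf (nat_lit
    31696994138324388216906))) (.node (.node (.leaf (nat_lit 0)) (.leaf (nat_lit
    3101947255163322370))) (.leaf (nat_lit 0)))) (.node (.node (.node (.leaf (nat_lit
    11414210579445053587514)) (.leaf (nat_lit 32409140355110591987714))) (.leaf (nat_lit 0)))
    (.node (.node (.leaf (nat_lit 24382678693679967961111)) (.leaf (nat_lit 3363587913987260418)))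
    (.leaf (nat_lit 53137465699057598136387))))))) (.node (.node (.node (.node (.node (.node (.leaf
    (nat_lit 2255150353196532301847)) (.leaf (nat_lit 2308167303780499458))) (.leaf (nat_lit
    1221638717895213067))) (.node (.node (.leaf (nat_lit 366077933997129745)) (.leaf (nat_lit
    2952197284743479298))) (.leaf (nat_lit 1797835578818035732)))) (.node (.node (.node (.leaf
    (nat_lit 11575516283276001214490)) (.leaf (nat_lit 2825480030423658985578299457))) (.leaf
    (nat_lit 0))) (.node (.node (.leaf (nat_lit 937539410453048092136833059)) (.leaf (nat_lit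
    2412194581375483906))) (.leaf (nat_lit 0))))) (.node (.node (.node (.node (.leaf (nat_lit
    181135680158695490)) (.leaf (nat_lit 63421840216871217070119))) (.leaf (nat_lit
    44199233415631050309659))) (.node (.node (.leaf (nat_lit 18687035344785416323097)) (.leaf
    (nat_lit 18901678620209653678082))) (.leaf (nat_lit 47666529139501763090110222762026)))) (.node
    (.node (.node (.leaf (nat_lit 0)) (.leaf (nat_lit 57994758051241516007426))) (.leaf (nat_lit
    54096156784677032755230))) (.node (.node (.leaf (nat_lit 22312013374433072971834)) (.leaf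
    (nat_lit 2770097178268532738))) (.leaf (nat_lit 0)))))) (.node (.node (.node (.node (.node
    (.leaf (nat_lit 4644085903148810698806)) (.leaf (nat_lit 79147572162452888158226))) (.leaf
    (nat_lit 0))) (.node (.node (.leaf (nat_lit 422093653385805841)) (.leaf (nat_lit
    896819400231557753223774210))) (.leaf (nat_lit 0)))) (.node (.node (.node (.leaf (nat_lit
    14010530131826075435027)) (.leaf (nat_lit 2335340488120467458))) (.leaf (nat_lit
    1017158142431199235))) (.node (.node (.leaf (nat_lit 35118534807953195646671904899114)) (.leaf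
    (nat_lit 3556740685872793125485019138))) (.leaf (nat_lit 0))))) (.node (.node (.node (.node
    (.leaf (nat_lit 5248241686964435353637)) (.leaf (nat_lit 2039787519146590230))) (.leaf (nat_lit
    1437818088488828935))) (.node (.node (.leaf (nat_lit 17810858069154672607255)) (.leaf (nat_lit
    3396503947077505397542879234))) (.leaf (nat_lit 0)))) (.node (.node (.node (.leaf (nat_lit
    307528939818057750)) (.leaf (nat_lit 16724817033551507816450))) (.leaf (nat_lit
    37152875694681919520837))) (.node (.leaf (nat_lit 0)) (.leaf (nat_lit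
    81057718862961071825590858088509)))))))))))) (.node (.node (.node (.node (.node (.node (.node
    (.node (.node (.node (.node (.leaf (nat_lit 1)) (.leaf (nat_lit 0))) (.leaf (nat_lit
    36940317174517482061833))) (.node (.node (.leaf (nat_lit 0)) (.leaf (nat_lit
    808260151013441344991657986))) (.leaf (nat_lit 37383462951193623593011)))) (.node (.node (.node
    (.leaf (nat_lit 0)) (.leaf (nat_lit 0))) (.leaf (nat_lit 46652716807822436925478))) (.node
    (.node (.leaf (nat_lit 0)) (.leaf (nat_lit 1712547281376765083459518466))) (.leaf (nat_lit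
    1403918057650388995))))) (.node (.node (.node (.node (.leaf (nat_lit 0)) (.leaf (nat_lit
    2615721107139520683076485185))) (.leaf (nat_lit 26840817403801117065221))) (.node (.node (.leaf
    (nat_lit 0)) (.leaf (nat_lit 28710663576069620301826))) (.leaf (nat_lit 0)))) (.node (.node
    (.node (.leaf (nat_lit 14139660155203478552585)) (.leaf (nat_lit 1699629321938927618))) (.leaf
    (nat_lit 33149810347727063810069))) (.node (.node (.leaf (nat_lit 0)) (.leaf (nat_lit
    13653901689349921243138))) (.leaf (nat_lit 0)))))) (.node (.node (.node (.node (.node (.leaf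
    (nat_lit 2176752113198810988557)) (.leaf (nat_lit 73092990664135705559137))) (.leaf (nat_lit
    39735043658387619512333))) (.node (.node (.leaf (nat_lit 0)) (.leaf (nat_lit
    2908005816479121410))) (.leaf (nat_lit 39975311842008518295610)))) (.node (.node (.node (.leaf
    (nat_lit 11418720929043026477096)) (.leaf (nat_lit 86282156262222402355277))) (.leaf (nat_lit
    1185676618861214312853405731))) (.node (.node (.leaf (nat_lit 938034811795275821)) (.leaf
    (nat_lit 309576642785837058))) (.leaf (nat_lit 0))))) (.node (.node (.node (.node (.leaf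
    (nat_lit 3754015726943481298982)) (.leaf (nat_lit 82643935965227052630119))) (.leaf (nat_lit
    43811853197561112494107))) (.node (.node (.leaf (nat_lit 16076821621417137340454)) (.leaf
    (nat_lit 3072952686862270466))) (.leaf (nat_lit 59358794368781119586362)))) (.node (.node
    (.node (.leaf (nat_lit 16104276118908038217758)) (.leaf (nat_lit 78567490241244166291458)))
    (.leaf (nat_lit 1771130284108948766615404588))) (.node (.node (.leaf (nat_lit
    1143074200185401291498061838)) (.leaf (nat_lit 722506472344387586))) (.leaf (nat_lit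
    2060183562921050123))))))) (.node (.node (.node (.node (.node (.node (.leaf (nat_lit
    1199055958106741866509)) (.leaf (nat_lit 0))) (.leaf (nat_lit
    40046059186877619112453370871850))) (.node (.node (.leaf (nat_lit 0)) (.leaf (nat_lit
    33345350320569652019202))) (.leaf (nat_lit 0)))) (.node (.node (.node (.leaf (nat_lit
    162843208286601238)) (.leaf (nat_lit 71169636831142265159749))) (.leaf (nat_lit 0))) (.node
    (.node (.leaf (nat_lit 18013792239900004909061)) (.leaf (nat_lit 16083996431325249863682)))
    (.leaf (nat_lit 46210503031086658027528))))) (.node (.node (.node (.node (.leaf (nat_lit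
    117239864012963906)) (.leaf (nat_lit 2487314521455198276))) (.leaf (nat_lit
    43240484467224361500704))) (.node (.node (.leaf (nat_lit 0)) (.leaf (nat_lit
    938680135971941909855993858))) (.leaf (nat_lit 62268262856980015808538)))) (.node (.node (.node
    (.leaf (nat_lit 8808580955339871158326)) (.leaf (nat_lit 2252447413149237250))) (.leaf (nat_lit
    53053883092410122305542))) (.node (.node (.leaf (nat_lit 0)) (.leaf (nat_lit
    3351902721019084802))) (.leaf (nat_lit 72017611710494958354438)))))) (.node (.node (.node
    (.node (.node (.leaf (nat_lit 0)) (.leaf (nat_lit 0))) (.leaf (nat_lit 1262300062344675407)))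
    (.node (.node (.leaf (nat_lit 0)) (.leaf (nat_lit 9807346548887355850754))) (.leaf (nat_lit
    45319366111801696114350133411889)))) (.node (.node (.node (.leaf (nat_lit 0)) (.leaf (nat_lit
    85567392358990654668870))) (.leaf (nat_lit
    3158495140717821898334022531319939568823526799262454026272877100748216771949213710338914447672806109898735702)))
    (.node (.node (.leaf (nat_lit 0)) (.leaf (nat_lit 4407299733288116224002))) (.leaf (nat_lit
    0))))) (.node (.node (.node (.node (.leaf (nat_lit 0)) (.leaf (nat_lit
    78885447607165701521410))) (.leaf (nat_lit 32845306912511732416551))) (.node (.node (.leaf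
    (nat_lit 26112162695109895454728)) (.leaf (nat_lit 20511295831838967398402))) (.leaf (nat_lit
    0)))) (.node (.node (.node (.leaf (nat_lit 0)) (.leaf (nat_lit 27502308133251498311682)))
    (.leaf (nat_lit 0))) (.node (.node (.leaf (nat_lit 0)) (.leaf (nat_lit
    111744524330054138920962))) (.leaf (nat_lit 53432623174497828274184)))))))) (.node (.node
    (.node (.node (.node (.node (.node (.leaf (nat_lit 0)) (.leaf (nat_lit 0))) (.leaf (nat_lit
    24295099726753630978086))) (.node (.node (.leaf (nat_lit 561563212918739658170695745)) (.leaf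
    (nat_lit 17084538678080870481922))) (.leaf (nat_lit 0)))) (.node (.node (.node (.leaf (nat_lit
    0)) (.leaf (nat_lit 0))) (.leaf (nat_lit 46791626820441226805305))) (.node (.node (.leaf
    (nat_lit 0)) (.leaf (nat_lit 67555011173232167550978))) (.leaf (nat_lit
    1695400279726553103440543777))))) (.node (.node (.node (.node (.leaf (nat_lit
    162978997972631563)) (.leaf (nat_lit 1871461737862135825))) (.leaf (nat_lit 0))) (.node (.node
    (.leaf (nat_lit 14822410230929423532056)) (.leaf (nat_lit 61407527162498464808962))) (.leaf
    (nat_lit 1396654092600558354172215310)))) (.node (.node (.node (.leaf (nat_lit 0)) (.leaf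
    (nat_lit 83552668914174872715375))) (.leaf (nat_lit 0))) (.node (.node (.leaf (nat_lit 0))
    (.leaf (nat_lit 21410765980735407063042))) (.leaf (nat_lit 1692547753802368296149057550))))))
    (.node (.node (.node (.node (.node (.leaf (nat_lit 1784765839048066662423)) (.leaf (nat_lit
    77617052397229203193930))) (.leaf (nat_lit 25374267471320504795141))) (.node (.node (.leaf
    (nat_lit 0)) (.leaf (nat_lit 17522684302145095925762))) (.leaf (nat_lit
    40122891283909996380184)))) (.node (.node (.node (.leaf (nat_lit 0)) (.leaf (nat_lit 0)))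
    (.leaf (nat_lit 50172062479941749637178))) (.node (.node (.leaf (nat_lit 0)) (.leaf (nat_lit
    423835382013455948088344578))) (.leaf (nat_lit 69066045117234894012425))))) (.node (.node
    (.node (.node (.leaf (nat_lit 7697019235917984104474)) (.leaf (nat_lit
    83252109800018779766825))) (.leaf (nat_lit 45278914709720974688307))) (.node (.node (.leaf
    (nat_lit 26434672641462277177350)) (.leaf (nat_lit 106077503211394064227401633955842))) (.leaf
    (nat_lit 0)))) (.node (.node (.node (.leaf (nat_lit 429941119275131293126623267)) (.leaf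
    (nat_lit 3032681686581731512050515970))) (.leaf (nat_lit 36913041139308641320998))) (.node
    (.node (.leaf (nat_lit 690632429119078403)) (.leaf (nat_lit 419077443882713090))) (.leaf
    (nat_lit 72589529176848562585623))))))) (.node (.node (.node (.node (.node (.node (.leaf
    (nat_lit 54044874860789780)) (.leaf (nat_lit 77136785013455462793257))) (.leaf (nat_lit 0)))
    (.node (.node (.leaf (nat_lit 20568459401754558267401)) (.leaf (nat_lit
    17439652279630310866946))) (.leaf (nat_lit 0)))) (.node (.node (.node (.leaf (nat_lit
    10846851596061491003433)) (.leaf (nat_lit 2648478908630040604))) (.leaf (nat_lit 0))) (.node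
    (.node (.leaf (nat_lit 0)) (.leaf (nat_lit 3225797378787377154))) (.leaf (nat_lit 0))))) (.node
    (.node (.node (.node (.leaf (nat_lit 6493348636344214290458)) (.leaf (nat_lit
    81933128191143705772102))) (.leaf (nat_lit 0))) (.node (.node (.leaf (nat_lit
    25346300947765812985883)) (.leaf (nat_lit 143204262572911113653190658))) (.leaf (nat_lit
    54599043645583814492165)))) (.node (.node (.node (.leaf (nat_lit 8679457547294435639365))
    (.leaf (nat_lit 82704157680994177187842))) (.leaf (nat_lit 0))) (.node (.node (.leaf (nat_lit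
    0)) (.leaf (nat_lit 644959154187927554))) (.leaf (nat_lit 72423465694889204973635)))))) (.node
    (.node (.node (.node (.node (.leaf (nat_lit 0)) (.leaf (nat_lit 0))) (.leaf (nat_lit
    798161367780687894))) (.node (.node (.leaf (nat_lit 22920483449637649449000)) (.leaf (nat_lit
    33377683368229784977410))) (.leaf (nat_lit 0)))) (.node (.node (.node (.leaf (nat_lit
    415605048723243074)) (.leaf (nat_lit 2568119993212469250))) (.leaf (nat_lit 0))) (.node (.node
    (.leaf (nat_lit 992082551399120941)) (.leaf (nat_lit 361572198162634649274417154))) (.leaf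
    (nat_lit 0))))) (.node (.node (.node (.node (.leaf (nat_lit 4298219870777596117038)) (.leaf
    (nat_lit 2764897718217267544227840014))) (.leaf (nat_lit 30041414198739431784486))) (.node
    (.node (.leaf (nat_lit 518362046790762518)) (.leaf (nat_lit 3362950029782604830910709762)))
    (.leaf (nat_lit 0)))) (.node (.node (.node (.leaf (nat_lit 17271065475037041721373)) (.leaf
    (nat_lit 42550250389999926312962))) (.leaf (nat_lit 37106756441505077067827))) (.node (.leaf
    (nat_lit 36912636080315890335750)) (.leaf (nat_lit 1655564933166923792))))))))) (.node (.node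
    (.node (.node (.node (.node (.node (.node (.leaf (nat_lit 225976133619323961369)) (.leaf
    (nat_lit 1723682702164623371))) (.leaf (nat_lit 0))) (.node (.node (.leaf (nat_lit
    19143421399088341647366)) (.leaf (nat_lit 45045187341626334445570))) (.leaf (nat_lit 0))))
    (.node (.node (.node (.leaf (nat_lit 9343424219730470436901)) (.leaf (nat_lit
    2603441529376866311))) (.leaf (nat_lit 47381369954416873111607))) (.node (.node (.leaf (nat_lit
    0)) (.leaf (nat_lit 16070136879616939458562))) (.leaf (nat_lit
    52079208575240543590816235716657))))) (.node (.node (.node (.node (.leaf (nat_lit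
    3611027844216616321101)) (.leaf (nat_lit 65612170679673753365896885501994))) (.leaf (nat_lit
    27163638803074222587942))) (.node (.node (.leaf (nat_lit
    1468725572384927252219507878272109638244706931775545656682966398159734584478225481470648313514065675372855380))
    (.leaf (nat_lit 39432837490682294894594))) (.leaf (nat_lit 49742914059957388378150)))) (.node
    (.node (.node (.leaf (nat_lit 441366262564651015)) (.leaf (nat_lit 43384873138717179707394)))
    (.leaf (nat_lit 1038269143641620497))) (.node (.node (.leaf (nat_lit 31752086660849340710916))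
    (.leaf (nat_lit 3307431341146112002))) (.leaf (nat_lit 1505535197167353873)))))) (.node (.node
    (.node (.node (.node (.leaf (nat_lit 2660982945320750219288)) (.leaf (nat_lit 0))) (.leaf
    (nat_lit 0))) (.node (.node (.leaf (nat_lit 656982691794780180)) (.leaf (nat_lit
    39677217162838281486338))) (.leaf (nat_lit 0)))) (.node (.node (.node (.leaf (nat_lit
    6428885946105241731080)) (.leaf (nat_lit 87495039959171743285257))) (.leaf (nat_lit 0))) (.node
    (.node (.leaf (nat_lit 29519969264195128721483)) (.leaf (nat_lit 3252542603996037122))) (.leaf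
    (nat_lit 1595850392269705415093387299))))) (.node (.node (.node (.node (.leaf (nat_lit
    116959763425787907)) (.leaf (nat_lit 0))) (.leaf (nat_lit 1199579477815967406820163628)))
    (.node (.node (.leaf (nat_lit 0)) (.leaf (nat_lit 579177313786952389094539266))) (.leaf
    (nat_lit 0)))) (.node (.node (.node (.leaf (nat_lit 0)) (.leaf (nat_lit
    788614259022766827572035586))) (.leaf (nat_lit 1666945703148126219))) (.node (.node (.leaf
    (nat_lit 22362746002400893665305)) (.leaf (nat_lit 373618986035838978))) (.leaf (nat_lit
    2290984356746073856886964257))))))) (.node (.node (.node (.node (.node (.node (.leaf (nat_lit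
    1489600340291100016666)) (.leaf (nat_lit 0))) (.leaf (nat_lit 0))) (.node (.node (.leaf
    (nat_lit 0)) (.leaf (nat_lit 24882952641993060319234))) (.leaf (nat_lit 0)))) (.node (.node
    (.node (.leaf (nat_lit 304200686502106378686169121)) (.leaf (nat_lit 2638627009567260700)))
    (.leaf (nat_lit 30170569697431883284501))) (.node (.node (.leaf (nat_lit
    29492631568923958116410)) (.leaf (nat_lit 104227170184519135461378))) (.leaf (nat_lit
    67438742151791655452704))))) (.node (.node (.node (.node (.leaf (nat_lit
    3053025659044025794603)) (.leaf (nat_lit 81748651461466090831918))) (.leaf (nat_lit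
    43931743522408118812701))) (.node (.node (.leaf (nat_lit 24728330517422037729321)) (.leaf
    (nat_lit 357791593263151365721686018))) (.leaf (nat_lit 0)))) (.node (.node (.node (.leaf
    (nat_lit 273467547058307089)) (.leaf (nat_lit 2703229906178932738))) (.leaf (nat_lit
    1058536441476415505))) (.node (.node (.leaf (nat_lit 711920198367227268632412225)) (.leaf
    (nat_lit 311692214826827778))) (.leaf (nat_lit 0)))))) (.node (.node (.node (.node (.node
    (.leaf (nat_lit 3809313594139778154509)) (.leaf (nat_lit 2424258586164199469))) (.leaf (nat_lit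
    0))) (.node (.node (.leaf (nat_lit 17261943438114971385915)) (.leaf (nat_lit
    20741661672242417958914))) (.leaf (nat_lit 0)))) (.node (.node (.node (.leaf (nat_lit 0))
    (.leaf (nat_lit 2201920782223933443))) (.leaf (nat_lit 990135823112470531))) (.node (.node
    (.leaf (nat_lit 25789135683314105122837)) (.leaf (nat_lit 3204127353223643138))) (.leaf
    (nat_lit 0))))) (.node (.node (.node (.node (.leaf (nat_lit 260935304934981639)) (.leaf
    (nat_lit 2567974591389630471))) (.leaf (nat_lit 0))) (.node (.node (.leaf (nat_lit 0)) (.leaf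
    (nat_lit 16411366510928314171394))) (.leaf (nat_lit 0)))) (.node (.node (.node (.leaf (nat_lit
    549737427133136903)) (.leaf (nat_lit 15954654205884472950786))) (.leaf (nat_lit 0))) (.node
    (.node (.leaf (nat_lit 0)) (.leaf (nat_lit 2267103877377687554))) (.leaf (nat_lit 0))))))))
    (.node (.node (.node (.node (.node (.node (.node (.leaf (nat_lit
    940848634970478979392335052815)) (.leaf (nat_lit 2334183754643406893))) (.leaf (nat_lit 0)))
    (.node (.node (.leaf (nat_lit 325262791063764995)) (.leaf (nat_lit 29213276813917168009218)))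
    (.leaf (nat_lit 0)))) (.node (.node (.node (.leaf (nat_lit 0)) (.leaf (nat_lit
    2794802394024234210241544227))) (.leaf (nat_lit 0))) (.node (.node (.leaf (nat_lit
    558895817826631696)) (.leaf (nat_lit 3190615274441277442))) (.leaf (nat_lit
    2044978141742628892))))) (.node (.node (.node (.node (.leaf (nat_lit 172408293728321604))
    (.leaf (nat_lit 1919312758780854289))) (.leaf (nat_lit 40952590413313186398247))) (.node (.node
    (.leaf (nat_lit 748879628831162413)) (.leaf (nat_lit 3050436827619131394))) (.leaf (nat_lit
    1391046702042779146317463585)))) (.node (.node (.node (.leaf (nat_lit 14766877320565521317901))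
    (.leaf (nat_lit 34410553253894438453250))) (.leaf (nat_lit 0))) (.node (.node (.leaf (nat_lit
    33453806542760662204422)) (.leaf (nat_lit 10430243900619130863618))) (.leaf (nat_lit 0))))))
    (.node (.node (.node (.node (.node (.leaf (nat_lit 58690594955984913)) (.leaf (nat_lit
    78220734876305938645043))) (.leaf (nat_lit 0))) (.node (.node (.leaf (nat_lit
    702246891529665253877219393)) (.leaf (nat_lit 40428937209436585525250))) (.leaf (nat_lit
    59187609024934145359927)))) (.node (.node (.node (.leaf (nat_lit 0)) (.leaf (nat_lit 0)))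
    (.leaf (nat_lit 0))) (.node (.node (.leaf (nat_lit 31295476685351241842729)) (.leaf (nat_lit
    3264642394452262914))) (.leaf (nat_lit 0))))) (.node (.node (.node (.node (.leaf (nat_lit
    7839986710068360052763)) (.leaf (nat_lit 80208408568597036859413))) (.leaf (nat_lit
    873600234951933955))) (.node (.node (.leaf (nat_lit 0)) (.leaf (nat_lit 3112362765604487170)))
    (.leaf (nat_lit 1364791661498073105)))) (.node (.node (.node (.leaf (nat_lit
    295424244509179926)) (.leaf (nat_lit 32243112066276466556930))) (.leaf (nat_lit
    36442654091516018098224))) (.node (.node (.leaf (nat_lit 22939218999415559880742)) (.leaf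
    (nat_lit 259200103787659266))) (.leaf (nat_lit 74056065597164493144076))))))) (.node (.node
    (.node (.node (.node (.node (.leaf (nat_lit 34482647447240721)) (.leaf (nat_lit
    76786307290878227709965))) (.leaf (nat_lit 24747061987169995522096))) (.node (.node (.leaf
    (nat_lit 20863609840474989461516)) (.leaf (nat_lit 2880139630576009218))) (.leaf (nat_lit
    39975308464042509795380)))) (.node (.node (.node (.leaf (nat_lit 0)) (.leaf (nat_lit
    85848653272598542745675))) (.leaf (nat_lit 0))) (.node (.node (.leaf (nat_lit
    18124478475403918508080)) (.leaf (nat_lit 113031486465238077198249025142786))) (.leaf (nat_lit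
    68079130516175760588826))))) (.node (.node (.node (.node (.leaf (nat_lit
    5197493012938667261986)) (.leaf (nat_lit 81567208857990416917803290656783))) (.leaf (nat_lit
    0))) (.node (.node (.leaf (nat_lit 25438539734958819442729)) (.leaf (nat_lit
    108018577323545927695517952049154))) (.leaf (nat_lit 0)))) (.node (.node (.node (.leaf (nat_lit
    15278980931597300334635)) (.leaf (nat_lit 86951530492865731035251))) (.leaf (nat_lit 0)))
    (.node (.node (.leaf (nat_lit 1072733881075105812)) (.leaf (nat_lit 1054224328670969858)))
    (.leaf (nat_lit 72838531510571383324680)))))) (.node (.node (.node (.node (.node (.leaf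
    (nat_lit 4446749984343471210537616212010)) (.leaf (nat_lit 0))) (.leaf (nat_lit 0))) (.node
    (.node (.leaf (nat_lit 0)) (.leaf (nat_lit 3240303803402026942502010882))) (.leaf (nat_lit
    48355340919409844532075957649457)))) (.node (.node (.node (.leaf (nat_lit 423632789276065799))
    (.leaf (nat_lit 58953910922493256990722))) (.leaf (nat_lit 0))) (.node (.node (.leaf (nat_lit
    0)) (.leaf (nat_lit 7843136438156086411266))) (.leaf (nat_lit 1488083198855479299))))) (.node
    (.node (.node (.node (.leaf (nat_lit 280495505123967021)) (.leaf (nat_lit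
    84742315874455465951264))) (.leaf (nat_lit 933555504502931459))) (.node (.node (.leaf (nat_lit
    28081410606740533346360)) (.leaf (nat_lit 3116301431003545602))) (.leaf (nat_lit
    64352830508725772156983)))) (.node (.node (.node (.leaf (nat_lit 483732103440236555)) (.leaf
    (nat_lit 27977326970803734118402))) (.leaf (nat_lit 56148990242864555556896))) (.node (.leaf
    (nat_lit 36359237699029155643422)) (.leaf (nat_lit 54696261454643561955386)))))))))) (.node
    (.node (.node (.node (.node (.node (.node (.node (.node (.leaf (nat_lit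
    118844057160127898800649207823)) (.leaf (nat_lit 0))) (.leaf (nat_lit
    37945672889446416187398))) (.node (.node (.leaf (nat_lit 18949733823113414770714)) (.leaf
    (nat_lit 36785655713238643572738))) (.leaf (nat_lit 0)))) (.node (.node (.node (.leaf (nat_lit
    170160595608403971)) (.leaf (nat_lit 2107341754075316241))) (.leaf (nat_lit 0))) (.node (.node
    (.leaf (nat_lit 868939817478651924)) (.leaf (nat_lit 60310194414547038830594))) (.leaf (nat_lit
    45675529156113522163720))))) (.node (.node (.node (.node (.leaf (nat_lit
    4703996304546561458213)) (.leaf (nat_lit 60378035822645716647957))) (.leaf (nat_lit 0))) (.node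
    (.node (.leaf (nat_lit 23713727785450103570445)) (.leaf (nat_lit 31159470821681184047106)))
    (.leaf (nat_lit 0)))) (.node (.node (.node (.leaf (nat_lit 14328743504221091069958)) (.leaf
    (nat_lit 2332103740636659714))) (.leaf (nat_lit 50471311055106018050100))) (.node (.node (.leaf
    (nat_lit 20933059580278306177029)) (.leaf (nat_lit 3556976426046759374678130690))) (.leaf
    (nat_lit 0)))))) (.node (.node (.node (.node (.node (.leaf (nat_lit 77829686486499396)) (.leaf
    (nat_lit 71884642233444399775819))) (.leaf (nat_lit 0))) (.node (.node (.leaf (nat_lit 0))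
    (.leaf (nat_lit 23029104109706763501570))) (.leaf (nat_lit 43613934081018593214523)))) (.node
    (.node (.node (.leaf (nat_lit 7873412745116348585173275967503)) (.leaf (nat_lit 0))) (.leaf
    (nat_lit 37923050897283605528627))) (.node (.node (.leaf (nat_lit 0)) (.leaf (nat_lit
    541512152444436482))) (.leaf (nat_lit 0))))) (.node (.node (.node (.node (.leaf (nat_lit 0))
    (.leaf (nat_lit 63504852957980730261508))) (.leaf (nat_lit 0))) (.node (.node (.leaf (nat_lit
    498938761569239056)) (.leaf (nat_lit 3030168413092839426))) (.leaf (nat_lit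
    1357191149932118038)))) (.node (.node (.node (.leaf (nat_lit 0)) (.leaf (nat_lit
    1899616718277419155501350914))) (.leaf (nat_lit 0))) (.node (.node (.leaf (nat_lit
    1085400663048978452)) (.leaf (nat_lit 718144117011513346))) (.leaf (nat_lit
    69015457453235176144959))))))) (.node (.node (.node (.node (.node (.node (.leaf (nat_lit
    41096609320271892)) (.leaf (nat_lit 1739446262933094422))) (.leaf (nat_lit 0))) (.node (.node
    (.leaf (nat_lit 17284933889680950362181)) (.leaf (nat_lit 40807060272635602731010))) (.leaf
    (nat_lit 1889287347201137362268848181)))) (.node (.node (.node (.leaf (nat_lit 0)) (.leaf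
    (nat_lit 69195837467184005840965))) (.leaf (nat_lit 0))) (.node (.node (.leaf (nat_lit
    29496891270337979940893)) (.leaf (nat_lit 3181607619920003074))) (.leaf (nat_lit 0))))) (.node
    (.node (.node (.node (.leaf (nat_lit 3108364765219218718790)) (.leaf (nat_lit
    81582629075806815715355))) (.leaf (nat_lit 26914620847644813230149))) (.node (.node (.leaf
    (nat_lit 24553081663475394215962)) (.leaf (nat_lit 18067022255341720240130))) (.leaf (nat_lit
    1914932716772655132)))) (.node (.node (.node (.leaf (nat_lit 0)) (.leaf (nat_lit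
    74716186920818470748181))) (.leaf (nat_lit 53109226420993433731085))) (.node (.node (.leaf
    (nat_lit 709824823878868877332185141)) (.leaf (nat_lit 3567932685255198574226178050))) (.leaf
    (nat_lit 2203580074119266354)))))) (.node (.node (.node (.node (.node (.leaf (nat_lit
    61224282063241219)) (.leaf (nat_lit 79009184144869170544670))) (.leaf (nat_lit
    41469069127767839408134))) (.node (.node (.leaf (nat_lit 22477757650806629400595)) (.leaf
    (nat_lit 2993012831403769858))) (.leaf (nat_lit 1247412610480078870)))) (.node (.node (.node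
    (.leaf (nat_lit 10220588465771937864043110662159)) (.leaf (nat_lit 2189254270833000470)))
    (.leaf (nat_lit 0))) (.node (.node (.leaf (nat_lit 0)) (.leaf (nat_lit 3280970090585128962)))
    (.leaf (nat_lit 0))))) (.node (.node (.node (.node (.leaf (nat_lit 6779303429842005065766))
    (.leaf (nat_lit 0))) (.leaf (nat_lit 1410232690367660043))) (.node (.node (.leaf (nat_lit
    26978856658899254313015)) (.leaf (nat_lit 41351359131201652850690))) (.leaf (nat_lit 0))))
    (.node (.node (.node (.leaf (nat_lit 17792173469087735939093)) (.leaf (nat_lit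
    8423767015490974842882))) (.leaf (nat_lit 0))) (.node (.node (.leaf (nat_lit
    22985341208036708122658)) (.leaf (nat_lit 3384699207255457794))) (.leaf (nat_lit
    57654494290517117626725202984975)))))))) (.node (.node (.node (.node (.node (.node (.node
    (.leaf (nat_lit 23785245417537581)) (.leaf (nat_lit 57020626503440718299170))) (.leaf (nat_lit
    0))) (.node (.node (.leaf (nat_lit 19563094960276712390677)) (.leaf (nat_lit
    2896746147395796994))) (.leaf (nat_lit 0)))) (.node (.node (.node (.leaf (nat_lit 0)) (.leaf
    (nat_lit 70708460629062838321206))) (.leaf (nat_lit 949037590294691843))) (.node (.node (.leaf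
    (nat_lit 888502689137295428)) (.leaf (nat_lit 3174290172468658178))) (.leaf (nat_lit
    2166742731321153690821460021))))) (.node (.node (.node (.node (.leaf (nat_lit
    2730199474301179199520)) (.leaf (nat_lit 2473813549458260047))) (.leaf (nat_lit
    828843377192730641))) (.node (.node (.leaf (nat_lit 24184134959519605391379)) (.leaf (nat_lit
    665462448349356509945397250))) (.leaf (nat_lit 62065345012565016772627)))) (.node (.node (.node
    (.leaf (nat_lit 0)) (.leaf (nat_lit 2603727823306883089))) (.leaf (nat_lit 0))) (.node (.node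
    (.leaf (nat_lit 33730506014887596195865)) (.leaf (nat_lit 8640906728157657366530))) (.leaf
    (nat_lit 2185563820183912527)))))) (.node (.node (.node (.node (.node (.leaf (nat_lit
    3052981746061440909341)) (.leaf (nat_lit 2401054844958933012))) (.leaf (nat_lit
    786619931662876675))) (.node (.node (.leaf (nat_lit 21915116474893603110953)) (.leaf (nat_lit
    28290973424444787326978))) (.leaf (nat_lit 58661872596562743590952)))) (.node (.node (.node
    (.leaf (nat_lit 12442526484854529523737)) (.leaf (nat_lit 0))) (.leaf (nat_lit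
    1537025046978101327))) (.node (.node (.leaf (nat_lit 22722349280723955023939)) (.leaf (nat_lit
    3408648043075973457677385730))) (.leaf (nat_lit 1450364315025670161))))) (.node (.node (.node
    (.node (.leaf (nat_lit 0)) (.leaf (nat_lit 2152858942144228272447422499))) (.leaf (nat_lit
    32375198787189512414683828912177))) (.node (.node (.leaf (nat_lit 0)) (.leaf (nat_lit
    3053249945298665474))) (.leaf (nat_lit 0)))) (.node (.node (.node (.leaf (nat_lit 0)) (.leaf
    (nat_lit 26538455298804075921410))) (.leaf (nat_lit 0))) (.node (.node (.leaf (nat_lit 0))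
    (.leaf (nat_lit 260185008508108802))) (.leaf (nat_lit 0))))))) (.node (.node (.node (.node
    (.node (.node (.leaf (nat_lit 1955384850723593453595)) (.leaf (nat_lit 2365024948428341259)))
    (.leaf (nat_lit 39255868961152074711091))) (.node (.node (.leaf (nat_lit
    20850061463416471748664)) (.leaf (nat_lit 58432931559436017926146))) (.leaf (nat_lit
    58431271406043259928616)))) (.node (.node (.node (.leaf (nat_lit 305712277278488483596599340))
    (.leaf (nat_lit 2653264120673075228))) (.leaf (nat_lit 0))) (.node (.node (.leaf (nat_lit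
    18124477349366572711940)) (.leaf (nat_lit 3216227341248364546))) (.leaf (nat_lit 0))))) (.node
    (.node (.node (.node (.leaf (nat_lit 203371894081191952)) (.leaf (nat_lit
    81702546986575929212940))) (.leaf (nat_lit 43055528245860222828550))) (.node (.node (.leaf
    (nat_lit 25207952056165930827795)) (.leaf (nat_lit 3073797524109262850))) (.leaf (nat_lit
    42650172912537750929433)))) (.node (.node (.node (.leaf (nat_lit 491470328837570588)) (.leaf
    (nat_lit 82860959229248597590018))) (.leaf (nat_lit 53902460764306775670813))) (.node (.node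
    (.leaf (nat_lit 22109091026530115715077)) (.leaf (nat_lit 663958895504523266))) (.leaf (nat_lit
    0)))))) (.node (.node (.node (.node (.node (.leaf (nat_lit 0)) (.leaf (nat_lit
    79691737038560656818194))) (.leaf (nat_lit 0))) (.node (.node (.leaf (nat_lit
    22846697880846543814675)) (.leaf (nat_lit 45289670711532845203458))) (.leaf (nat_lit
    1860043447046635548)))) (.node (.node (.node (.leaf (nat_lit 13595470227084048269325)) (.leaf
    (nat_lit 2506899323216855043))) (.leaf (nat_lit 0))) (.node (.node (.leaf (nat_lit
    996311092730920976)) (.leaf (nat_lit 3204126794877894658))) (.leaf (nat_lit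
    68282099168473323339801))))) (.node (.node (.node (.node (.leaf (nat_lit
    8725440841151219433485)) (.leaf (nat_lit 84524972015563638505502))) (.leaf (nat_lit 0))) (.node
    (.node (.leaf (nat_lit 27933787677668118036562)) (.leaf (nat_lit 46438223621194294427650)))
    (.leaf (nat_lit 44393441880360553218082)))) (.node (.node (.node (.leaf (nat_lit 0)) (.leaf
    (nat_lit 39875474081736906964994))) (.leaf (nat_lit 0))) (.node (.leaf (nat_lit 0)) (.leaf
    (nat_lit 0))))))))) (.node (.node (.node (.node (.node (.node (.node (.node (.leaf (nat_lit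
    15716506055830963013025825)) (.leaf (nat_lit 75974595944003466887189))) (.leaf (nat_lit
    33979594765212805713157557649450))) (.node (.node (.leaf (nat_lit 500806135723490240417234958))
    (.leaf (nat_lit 15714865951864963399682))) (.leaf (nat_lit 0)))) (.node (.node (.node (.leaf
    (nat_lit 0)) (.leaf (nat_lit 0))) (.leaf (nat_lit 951289115230470160))) (.node (.node (.leaf
    (nat_lit 21312725105279680053483585994794)) (.leaf (nat_lit 19164583029145614876674))) (.leaf
    (nat_lit 0))))) (.node (.node (.node (.node (.leaf (nat_lit 157912310952886283)) (.leaf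
    (nat_lit 0))) (.leaf (nat_lit 0))) (.node (.node (.leaf (nat_lit 734109171875708948)) (.leaf
    (nat_lit 61255399088645539561474))) (.leaf (nat_lit 0)))) (.node (.node (.node (.leaf (nat_lit
    0)) (.leaf (nat_lit 2322111791280291842))) (.leaf (nat_lit 1027010282012147715))) (.node (.node
    (.leaf (nat_lit 20762441271620206264328)) (.leaf (nat_lit 8207492558912745570306))) (.leaf
    (nat_lit 2175586516666023947)))))) (.node (.node (.node (.node (.node (.leaf (nat_lit
    1770929936430415413266)) (.leaf (nat_lit 0))) (.leaf (nat_lit 40251561500071648493580))) (.node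
    (.node (.leaf (nat_lit 21666078674207025332243)) (.leaf (nat_lit 2908287566333739010))) (.leaf
    (nat_lit 0)))) (.node (.node (.node (.leaf (nat_lit 12082812723342501675034)) (.leaf (nat_lit
    2679723584527663111))) (.leaf (nat_lit 49973187601646791884846))) (.node (.node (.leaf (nat_lit
    0)) (.leaf (nat_lit 218015568277614447315648514))) (.leaf (nat_lit 0))))) (.node (.node (.node
    (.node (.leaf (nat_lit 6585600512810832560166)) (.leaf (nat_lit 83113754434253915095067)))
    (.leaf (nat_lit 32923687559722113892391))) (.node (.node (.leaf (nat_lit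
    16076825280995561504807)) (.leaf (nat_lit 178418210995639159001186306))) (.leaf (nat_lit
    44172047454570830561334)))) (.node (.node (.node (.leaf (nat_lit 0)) (.leaf (nat_lit
    36522765703786132602882))) (.leaf (nat_lit 1104136624654123011))) (.node (.node (.leaf (nat_lit
    27631335936749632859685861523498)) (.leaf (nat_lit 250051591518945282))) (.leaf (nat_lit
    69135371423096917655611))))))) (.node (.node (.node (.node (.node (.node (.leaf (nat_lit
    1586462635348476493856)) (.leaf (nat_lit 0))) (.leaf (nat_lit 1202216351796690951))) (.node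
    (.node (.leaf (nat_lit 628349456084165087010750499)) (.leaf (nat_lit 20308118994097086332930)))
    (.leaf (nat_lit 0)))) (.node (.node (.node (.leaf (nat_lit 0)) (.leaf (nat_lit
    71137362066282828202062))) (.leaf (nat_lit 0))) (.node (.node (.leaf (nat_lit
    942526709066563199365808142)) (.leaf (nat_lit 1939989487940811292674))) (.leaf (nat_lit
    46441093524869831917619))))) (.node (.node (.node (.node (.leaf (nat_lit 93877853262839824))
    (.leaf (nat_lit 62803850927403354488875))) (.leaf (nat_lit 0))) (.node (.node (.leaf (nat_lit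
    15966129897280026902595)) (.leaf (nat_lit 60628211197587312803842))) (.leaf (nat_lit
    42272002836802805366831)))) (.node (.node (.node (.leaf (nat_lit 15463454001430203138091))
    (.leaf (nat_lit 91392403565153934835758))) (.leaf (nat_lit 57213763445092615304096034127921)))
    (.node (.node (.leaf (nat_lit 1059633346059042895)) (.leaf (nat_lit 11431030695094529490946)))
    (.leaf (nat_lit 0)))))) (.node (.node (.node (.node (.node (.leaf (nat_lit
    2453480297396867104786)) (.leaf (nat_lit 1825580079707717654))) (.leaf (nat_lit 0))) (.node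
    (.node (.leaf (nat_lit 0)) (.leaf (nat_lit 895912474755483854413496322))) (.leaf (nat_lit
    41045255087942845792310)))) (.node (.node (.node (.leaf (nat_lit 0)) (.leaf (nat_lit
    76773453176428201967618))) (.leaf (nat_lit 0))) (.node (.node (.leaf (nat_lit
    32337731799951861809158)) (.leaf (nat_lit 3269428001632288770))) (.leaf (nat_lit 0))))) (.node
    (.node (.node (.node (.leaf (nat_lit 266984117831336015)) (.leaf (nat_lit 0))) (.leaf (nat_lit
    46209977779401223503885))) (.node (.node (.leaf (nat_lit 25918175067376730701854)) (.leaf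
    (nat_lit 3110674491269840898))) (.leaf (nat_lit 65210584404501169635383)))) (.node (.node
    (.node (.leaf (nat_lit 17409644894625670037547)) (.leaf (nat_lit 26492357985668801167362)))
    (.leaf (nat_lit 0))) (.node (.leaf (nat_lit 0)) (.leaf (nat_lit
    2449639757403019394972647459)))))))) (.node (.node (.node (.node (.node (.node (.node (.leaf
    (nat_lit 20407936539033603)) (.leaf (nat_lit 0))) (.leaf (nat_lit 37562925468731123630155)))
    (.node (.node (.leaf (nat_lit 347780926639570961)) (.leaf (nat_lit 29891195803982102724610)))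
    (.leaf (nat_lit 0)))) (.node (.node (.node (.leaf (nat_lit 10376453147561648390184)) (.leaf
    (nat_lit 0))) (.leaf (nat_lit 0))) (.node (.node (.leaf (nat_lit 557488580382031888)) (.leaf
    (nat_lit 3439461636497915770931773442))) (.leaf (nat_lit 46210501342099358810163))))) (.node
    (.node (.node (.node (.leaf (nat_lit 4856189262328693456973)) (.leaf (nat_lit 0))) (.leaf
    (nat_lit 43203094879293050912776))) (.node (.node (.leaf (nat_lit 15993789879741673832471))
    (.leaf (nat_lit 571619866793480550686654466))) (.leaf (nat_lit 0)))) (.node (.node (.node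
    (.leaf (nat_lit 15108143774907857305609)) (.leaf (nat_lit 2254136056851070978))) (.leaf
    (nat_lit 1044180805347311633))) (.node (.node (.leaf (nat_lit 1090320214896814027595579425))
    (.leaf (nat_lit 6957651890415484469250))) (.leaf (nat_lit 2194572350878515279)))))) (.node
    (.node (.node (.node (.node (.leaf (nat_lit 56438932581253123)) (.leaf (nat_lit
    58192029376017311399960))) (.leaf (nat_lit 785775781610651664))) (.node (.node (.leaf (nat_lit
    22256383492331921408012)) (.leaf (nat_lit 2954732595348373506))) (.leaf (nat_lit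
    60073056118300773384233)))) (.node (.node (.node (.leaf (nat_lit 12078208356240404447291))
    (.leaf (nat_lit 0))) (.leaf (nat_lit 50660402142997567963174))) (.node (.node (.leaf (nat_lit
    641651797441773634)) (.leaf (nat_lit 3257889563401650178))) (.leaf (nat_lit 0))))) (.node
    (.node (.node (.node (.leaf (nat_lit 158618747173732418)) (.leaf (nat_lit 0))) (.leaf (nat_lit
    45241511893032694382622))) (.node (.node (.leaf (nat_lit 824183913202188308)) (.leaf (nat_lit
    3338165390405568698909982722))) (.leaf (nat_lit 1976859127204413460)))) (.node (.node (.node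
    (.leaf (nat_lit 9491135820868022894646)) (.leaf (nat_lit 14704875476274523602946))) (.leaf
    (nat_lit 36913051272828709699623))) (.node (.node (.leaf (nat_lit 1112141610470211591)) (.leaf
    (nat_lit 379108615665090562))) (.leaf (nat_lit 0))))))) (.node (.node (.node (.node (.node
    (.node (.leaf (nat_lit 1346644689094768263235)) (.leaf (nat_lit
    125527481905465550988742290861852005564154213404923791232694019902801559047311703950450547200848303009724844408928)))
    (.leaf (nat_lit 39947180652165066850313))) (.node (.node (.leaf (nat_lit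
    398353195871358327357440065)) (.leaf (nat_lit 40493489100872076165122))) (.leaf (nat_lit
    40095213426550377742403)))) (.node (.node (.node (.leaf (nat_lit 11593963027323940962323))
    (.leaf (nat_lit 69527898564600961105963))) (.leaf (nat_lit 0))) (.node (.node (.leaf (nat_lit
    32222044660575221537630962647082)) (.leaf (nat_lit 20077773417830374637570))) (.leaf (nat_lit
    1434600891696152598))))) (.node (.node (.node (.node (.leaf (nat_lit
    7308904076897203877871211577386)) (.leaf (nat_lit 0))) (.leaf (nat_lit
    27375801975948649365555))) (.node (.node (.leaf (nat_lit 23238769163463911735314)) (.leaf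
    (nat_lit 648690068866157108003078146))) (.leaf (nat_lit 63587230110493838606361)))) (.node
    (.node (.node (.leaf (nat_lit 499914853016797212)) (.leaf (nat_lit 83949326702538398040066)))
    (.leaf (nat_lit 0))) (.node (.node (.leaf (nat_lit 1156813187201089590131949633)) (.leaf
    (nat_lit 3310246408740798466))) (.leaf (nat_lit 0)))))) (.node (.node (.node (.node (.node
    (.leaf (nat_lit 0)) (.leaf (nat_lit 79894664171503858417683))) (.leaf (nat_lit
    36165644562624789282848))) (.node (.node (.leaf (nat_lit 420404769165803537)) (.leaf (nat_lit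
    3022285911154098178))) (.leaf (nat_lit 0)))) (.node (.node (.node (.leaf (nat_lit
    382032070117677925589581838)) (.leaf (nat_lit 59714840663001902809090))) (.leaf (nat_lit 0)))
    (.node (.node (.leaf (nat_lit 1004333395855147015)) (.leaf (nat_lit 13709240795714092728322)))
    (.leaf (nat_lit 2317710456005090623831146529))))) (.node (.node (.node (.node (.leaf (nat_lit
    0)) (.leaf (nat_lit 2040913384693694486))) (.leaf (nat_lit 29893848127878599999493))) (.node
    (.node (.leaf (nat_lit 19876893123883626070083)) (.leaf (nat_lit 46419628544528027418626)))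
    (.leaf (nat_lit 50162288645219100749412046274609)))) (.node (.node (.node (.leaf (nat_lit 0))
    (.leaf (nat_lit 23476324524171607605250))) (.leaf (nat_lit 56181273452505869778978))) (.node
    (.leaf (nat_lit 0)) (.leaf (nat_lit 0))))))))))) (.node (.node (.node (.node (.node (.node
    (.node (.node (.node (.node (.leaf (nat_lit 110682857086933729288)) (.leaf (nat_lit 0))) (.leaf
    (nat_lit 37604835262291228426248))) (.node (.node (.leaf (nat_lit 10192136163093754609733))
    (.leaf (nat_lit 8774273433865700966402))) (.leaf (nat_lit 54787967392173598638117)))) (.node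
    (.node (.node (.leaf (nat_lit 0)) (.leaf (nat_lit 69998233960017371004952))) (.leaf (nat_lit
    909349000103198742))) (.node (.node (.leaf (nat_lit 532436414101585923)) (.leaf (nat_lit
    683751214892161835649466370))) (.leaf (nat_lit 0))))) (.node (.node (.node (.node (.leaf
    (nat_lit 145527068380233756)) (.leaf (nat_lit 0))) (.leaf (nat_lit 0))) (.node (.node (.leaf
    (nat_lit 15717153465691199622297629818929)) (.leaf (nat_lit 11121798355931155857410))) (.leaf
    (nat_lit 57841030485976482512935)))) (.node (.node (.node (.leaf (nat_lit 237155969392574481))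
    (.leaf (nat_lit 2313104093809344514))) (.leaf (nat_lit 0))) (.node (.node (.leaf (nat_lit
    1011651951408054292)) (.leaf (nat_lit 262445482989822247879049218))) (.leaf (nat_lit
    70763869668103157907508)))))) (.node (.node (.node (.node (.node (.leaf (nat_lit 0)) (.leaf
    (nat_lit 61688293390071076421725))) (.leaf (nat_lit 810826161184702475))) (.node (.node (.leaf
    (nat_lit 22818090564134291141700392124458)) (.leaf (nat_lit 28244842487651229696002))) (.leaf
    (nat_lit 0)))) (.node (.node (.node (.leaf (nat_lit 363813244986589234)) (.leaf (nat_lit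
    2130424832469368848))) (.leaf (nat_lit 49521238149364069892136))) (.node (.node (.leaf (nat_lit
    30612932798635672010786)) (.leaf (nat_lit 20898660450463132090370))) (.leaf (nat_lit 0)))))
    (.node (.node (.node (.node (.leaf (nat_lit 7088272177387725324294)) (.leaf (nat_lit 0)))
    (.leaf (nat_lit 0))) (.node (.node (.leaf (nat_lit 16122939607570037538859)) (.leaf (nat_lit
    101598542397315798466562))) (.leaf (nat_lit 58514385623511852056599)))) (.node (.node (.node
    (.leaf (nat_lit 17673314068203896283312291119153)) (.leaf (nat_lit 38602619730672304193538)))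
    (.leaf (nat_lit 1103573331103318019))) (.node (.node (.leaf (nat_lit 35326590027920060907552))
    (.leaf (nat_lit 2767563302182715394))) (.leaf (nat_lit 2168405604016685919573901345)))))))
    (.node (.node (.node (.node (.node (.node (.leaf (nat_lit 0)) (.leaf (nat_lit
    2345461711697477711))) (.leaf (nat_lit 36797389671265497972814))) (.node (.node (.leaf (nat_lit
    0)) (.leaf (nat_lit 39345178708583400013826))) (.leaf (nat_lit 42336462149848863539204))))
    (.node (.node (.node (.leaf (nat_lit 10740940583120861855825)) (.leaf (nat_lit 0))) (.leaf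
    (nat_lit 0))) (.node (.node (.leaf (nat_lit 18059910226061495042080)) (.leaf (nat_lit
    3338165390407491852121145346))) (.leaf (nat_lit 46302737595948855394355))))) (.node (.node
    (.node (.node (.leaf (nat_lit 0)) (.leaf (nat_lit 0))) (.leaf (nat_lit
    26933067310174826594329))) (.node (.node (.leaf (nat_lit 15329709204373793603605)) (.leaf
    (nat_lit 592776041642866453048983554))) (.leaf (nat_lit 41921504565968154853445)))) (.node
    (.node (.node (.leaf (nat_lit 0)) (.leaf (nat_lit 74652138696688793747458))) (.leaf (nat_lit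
    53090777987983964569606))) (.node (.node (.leaf (nat_lit 34265474822812935061533)) (.leaf
    (nat_lit 11592520787652520378370))) (.leaf (nat_lit 2200357061940871188)))))) (.node (.node
    (.node (.node (.node (.leaf (nat_lit 3578771795759503441971)) (.leaf (nat_lit
    1781669639743471638))) (.leaf (nat_lit 32310259850660217552930))) (.node (.node (.leaf (nat_lit
    22376300558323917455372)) (.leaf (nat_lit 9894970007740689350658))) (.leaf (nat_lit
    1841026401306804303)))) (.node (.node (.node (.leaf (nat_lit 397736335504441351)) (.leaf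
    (nat_lit 87426364428618425368619))) (.leaf (nat_lit 1649157935149964508476473388))) (.node
    (.node (.leaf (nat_lit 19143691486216964997166)) (.leaf (nat_lit 3266053067870699522))) (.leaf
    (nat_lit 0))))) (.node (.node (.node (.node (.leaf (nat_lit 8370402796906968449047)) (.leaf
    (nat_lit 2510975659497619458))) (.leaf (nat_lit 888237277338271747))) (.node (.node (.leaf
    (nat_lit 505413716825735171)) (.leaf (nat_lit 3339978834479727103378194434))) (.leaf (nat_lit
    43950708340770105131012)))) (.node (.node (.node (.leaf (nat_lit 542981821533650964)) (.leaf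
    (nat_lit 45137397432317475225602))) (.leaf (nat_lit 55553492351967857672196))) (.node (.node
    (.leaf (nat_lit 0)) (.leaf (nat_lit 3379351139748282370))) (.leaf (nat_lit 0)))))))) (.node
    (.node (.node (.node (.node (.node (.node (.leaf (nat_lit 19422430523162652)) (.leaf (nat_lit
    55286577813568920682504))) (.leaf (nat_lit 38351519555413958918173))) (.node (.node (.leaf
    (nat_lit 0)) (.leaf (nat_lit 38851698093240478793730))) (.leaf (nat_lit 0)))) (.node (.node
    (.node (.leaf (nat_lit 0)) (.leaf (nat_lit 2615263830586032135))) (.leaf (nat_lit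
    47768757209799315357722))) (.node (.node (.leaf (nat_lit 28712895920853980741658)) (.leaf
    (nat_lit 1349109575458836067127656450))) (.leaf (nat_lit 49106629465270456090672))))) (.node
    (.node (.node (.node (.leaf (nat_lit 0)) (.leaf (nat_lit 78557856894955202740291))) (.leaf
    (nat_lit 26960733625823449513992))) (.node (.node (.leaf (nat_lit
    17222506688151965245629914218538)) (.leaf (nat_lit 3021723485186686978))) (.leaf (nat_lit 0))))
    (.node (.node (.node (.leaf (nat_lit 453887299118301263)) (.leaf (nat_lit
    77359181069289840115769))) (.leaf (nat_lit 0))) (.node (.node (.leaf (nat_lit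
    1030089073483710480)) (.leaf (nat_lit 276506631557218306))) (.leaf (nat_lit
    49807719741826443444229)))))) (.node (.node (.node (.node (.node (.leaf (nat_lit
    3043757670268424880158)) (.leaf (nat_lit 77653947996516257038411))) (.leaf (nat_lit
    25494173278184583397414))) (.node (.node (.leaf (nat_lit 12627179426337240842245)) (.leaf
    (nat_lit 28493886764306676252674))) (.leaf (nat_lit 0)))) (.node (.node (.node (.leaf (nat_lit
    0)) (.leaf (nat_lit 87956229109031379337222))) (.leaf (nat_lit 33431078860953164644400)))
    (.node (.node (.leaf (nat_lit 958304656545677357)) (.leaf (nat_lit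
    3411972409221628013731643394))) (.leaf (nat_lit 1449519821376061462))))) (.node (.node (.node
    (.node (.leaf (nat_lit 0)) (.leaf (nat_lit 0))) (.leaf (nat_lit 28353509389687599595566)))
    (.node (.node (.leaf (nat_lit 26066040767895004446771)) (.leaf (nat_lit
    19759429991205706072066))) (.leaf (nat_lit 0)))) (.node (.node (.node (.leaf (nat_lit
    334830535090241600)) (.leaf (nat_lit 32280013705043452821506))) (.leaf (nat_lit
    37023723011185911726118))) (.node (.node (.leaf (nat_lit 23225138465810908643351)) (.leaf
    (nat_lit 10425755132050704367618))) (.leaf (nat_lit 0))))))) (.node (.node (.node (.node (.node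
    (.node (.leaf (nat_lit 33094911576776281327665185)) (.leaf (nat_lit 76196002754606265466947)))
    (.leaf (nat_lit 764382240271630339))) (.node (.node (.leaf (nat_lit 0)) (.leaf (nat_lit
    25072010069762055012354))) (.leaf (nat_lit 1211382095474196502)))) (.node (.node (.node (.leaf
    (nat_lit 10819182887385939771419)) (.leaf (nat_lit 75565442831390061029791218597930))) (.leaf
    (nat_lit 944816496436183043))) (.node (.node (.leaf (nat_lit 29677104076562821742643)) (.leaf
    (nat_lit 98208939088559565111298))) (.leaf (nat_lit 0))))) (.node (.node (.node (.node (.leaf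
    (nat_lit 3177546670638618574894)) (.leaf (nat_lit 81877789366374770081804))) (.leaf (nat_lit
    0))) (.node (.node (.leaf (nat_lit 479797844677623824)) (.leaf (nat_lit
    15996275341461482045442))) (.leaf (nat_lit 0)))) (.node (.node (.node (.leaf (nat_lit 0))
    (.leaf (nat_lit 2647216677871288322))) (.leaf (nat_lit 1072610533909331990))) (.node (.node
    (.leaf (nat_lit 34883459890147557048332)) (.leaf (nat_lit 109710677362771017007106))) (.leaf
    (nat_lit 72700169952288311541789)))))) (.node (.node (.node (.node (.node (.leaf (nat_lit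
    128356545045069852)) (.leaf (nat_lit 59649344254373362073654))) (.leaf (nat_lit
    1281313225434071047))) (.node (.node (.leaf (nat_lit 22680676339698098176026)) (.leaf (nat_lit
    48015175072309255012354))) (.leaf (nat_lit 0)))) (.node (.node (.node (.leaf (nat_lit
    417856857126862914)) (.leaf (nat_lit 2723488717158350893))) (.leaf (nat_lit
    46182422509685362065446))) (.node (.node (.leaf (nat_lit 0)) (.leaf (nat_lit
    3289979918359855106))) (.leaf (nat_lit 70320462840437137408027))))) (.node (.node (.node (.node
    (.leaf (nat_lit 136382979927834640)) (.leaf (nat_lit 84497301054959424569371))) (.leaf (nat_lit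
    0))) (.node (.node (.leaf (nat_lit 848673000680194076)) (.leaf (nat_lit 3155145003559419906)))
    (.leaf (nat_lit 0)))) (.node (.node (.node (.leaf (nat_lit 301336112373301270)) (.leaf (nat_lit
    28507666618520237703170))) (.leaf (nat_lit 37152873301766660358162))) (.node (.leaf (nat_lit
    1137193647901638667)) (.leaf (nat_lit 0))))))))) (.node (.node (.node (.node (.node (.node
    (.node (.node (.leaf (nat_lit 386244243663518533973897969695)) (.leaf (nat_lit 0))) (.leaf
    (nat_lit 26551835601708943304012677316650))) (.node (.node (.leaf (nat_lit 0)) (.leaf (nat_lit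
    15853259615616983302146))) (.leaf (nat_lit 1810554872563343667623100460)))) (.node (.node
    (.node (.leaf (nat_lit 0)) (.leaf (nat_lit 0))) (.leaf (nat_lit 45527474145385439756293)))
    (.node (.node (.leaf (nat_lit 20255059259183646048274)) (.leaf (nat_lit 3181885495714119682)))
    (.leaf (nat_lit 48244240520374959407163))))) (.node (.node (.node (.node (.leaf (nat_lit
    85432435730415632)) (.leaf (nat_lit 1865832032169492502))) (.leaf (nat_lit
    27265097865856001703973))) (.node (.node (.leaf (nat_lit 0)) (.leaf (nat_lit
    3258115545989433289544564738))) (.leaf (nat_lit 0)))) (.node (.node (.node (.leaf (nat_lit 0))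
    (.leaf (nat_lit 2366443911133659138))) (.leaf (nat_lit 33509531990607159033877))) (.node (.node
    (.leaf (nat_lit 20762440145651579945011)) (.leaf (nat_lit 262445907441424653426622466))) (.leaf
    (nat_lit 1506661165793673238)))))) (.node (.node (.node (.node (.node (.leaf (nat_lit
    83319174381830172)) (.leaf (nat_lit 78262067083617560100918))) (.leaf (nat_lit
    844762530541421511433257004))) (.node (.node (.leaf (nat_lit 0)) (.leaf (nat_lit
    19736291057870070546434))) (.leaf (nat_lit 59372067176515973087261)))) (.node (.node (.node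
    (.leaf (nat_lit 378703502600804827434057742)) (.leaf (nat_lit 0))) (.leaf (nat_lit
    49632479171505914314804))) (.node (.node (.leaf (nat_lit 0)) (.leaf (nat_lit
    6616409649071538765826))) (.leaf (nat_lit 68761667084395907055641))))) (.node (.node (.node
    (.node (.leaf (nat_lit 0)) (.leaf (nat_lit 2534196563392200715))) (.leaf (nat_lit
    978353108721861129167700001))) (.node (.node (.leaf (nat_lit 810307176199335576282071084))
    (.leaf (nat_lit 3100537243169849346))) (.leaf (nat_lit 0)))) (.node (.node (.node (.leaf
    (nat_lit 15500152428432374038588)) (.leaf (nat_lit 45215791860767944540162))) (.leaf (nat_lit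
    39793095690423931089124759765007))) (.node (.node (.leaf (nat_lit 714557595981053969)) (.leaf
    (nat_lit 369115463717879810))) (.leaf (nat_lit 2246375416019419186))))))) (.node (.node (.node
    (.node (.node (.node (.leaf (nat_lit 0)) (.leaf (nat_lit 56393415672854789423147))) (.leaf
    (nat_lit 868185883317655458493497377))) (.node (.node (.leaf (nat_lit
    625940353055803400543010860)) (.leaf (nat_lit 18062227621493352890370))) (.leaf (nat_lit 0))))
    (.node (.node (.node (.leaf (nat_lit 5368165931934137122885)) (.leaf (nat_lit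
    86083834763113182461964))) (.leaf (nat_lit 1550023638253030671137374241))) (.node (.node (.leaf
    (nat_lit 912288260972216327)) (.leaf (nat_lit 537851749386551298))) (.leaf (nat_lit 0)))))
    (.node (.node (.node (.node (.leaf (nat_lit 6225867328632058478621)) (.leaf (nat_lit 0)))
    (.leaf (nat_lit 44093665801251475095623))) (.node (.node (.leaf (nat_lit 0)) (.leaf (nat_lit
    3256305911317775986047844354))) (.leaf (nat_lit 62932355214134955147305)))) (.node (.node
    (.node (.leaf (nat_lit 15366400725678437892150)) (.leaf (nat_lit 2786541693216882738))) (.leaf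
    (nat_lit 0))) (.node (.node (.leaf (nat_lit 721901708531162879346606113)) (.leaf (nat_lit
    1159213790609408002))) (.leaf (nat_lit 50398041589462308421653)))))) (.node (.node (.node
    (.node (.node (.leaf (nat_lit 0)) (.leaf (nat_lit 64106801287516514370343714226218))) (.leaf
    (nat_lit 25973807343011616718896))) (.node (.node (.leaf (nat_lit 0)) (.leaf (nat_lit
    45511028280421494489090))) (.leaf (nat_lit 0)))) (.node (.node (.node (.leaf (nat_lit
    13088173787180756566022)) (.leaf (nat_lit 2359290751169754073353420839))) (.leaf (nat_lit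
    32328905184409557336112))) (.node (.node (.leaf (nat_lit 0)) (.leaf (nat_lit
    3267457608075837442))) (.leaf (nat_lit 48405723562237327769667))))) (.node (.node (.node (.node
    (.leaf (nat_lit 0)) (.leaf (nat_lit 81416683816842369892391))) (.leaf (nat_lit
    32801054090016985987681010122801))) (.node (.node (.leaf (nat_lit 26028854687325338402846))
    (.leaf (nat_lit 3121648725416607746))) (.leaf (nat_lit 0)))) (.node (.node (.node (.leaf
    (nat_lit 0)) (.leaf (nat_lit 18302003206707958972418))) (.leaf (nat_lit
    55765634131206456147994))) (.node (.node (.leaf (nat_lit 22920778589155891544112)) (.leaf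
    (nat_lit 112238028426438533906434))) (.leaf (nat_lit 58233858691863038236266496065578))))))))
    (.node (.node (.node (.node (.node (.node (.node (.leaf (nat_lit 544193447059150536708)) (.leaf
    (nat_lit 0))) (.leaf (nat_lit 38467246162784664354874))) (.node (.node (.leaf (nat_lit
    17533961134411656396821)) (.leaf (nat_lit 812564746766254082))) (.leaf (nat_lit
    1195900147121389571)))) (.node (.node (.node (.leaf (nat_lit 8264299825136098541615)) (.leaf
    (nat_lit 2104527760222453763))) (.leaf (nat_lit 0))) (.node (.node (.leaf (nat_lit 0)) (.leaf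
    (nat_lit 112615717678494224460312828248066))) (.leaf (nat_lit 0))))) (.node (.node (.node
    (.node (.leaf (nat_lit 0)) (.leaf (nat_lit 0))) (.leaf (nat_lit 0))) (.node (.node (.leaf
    (nat_lit 15200578336391071727641)) (.leaf (nat_lit 3032982381175898114))) (.leaf (nat_lit 0))))
    (.node (.node (.node (.leaf (nat_lit 0)) (.leaf (nat_lit 2212899921223352322))) (.leaf (nat_lit
    0))) (.node (.node (.leaf (nat_lit 33416914180564689551366)) (.leaf (nat_lit
    10522478465455558426626))) (.leaf (nat_lit 54562376189857103020069)))))) (.node (.node (.node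
    (.node (.node (.leaf (nat_lit 3200563017189490360346)) (.leaf (nat_lit
    62024340175795364495420))) (.leaf (nat_lit 41044781065871403712531))) (.node (.node (.leaf
    (nat_lit 0)) (.leaf (nat_lit 2951917227105976322))) (.leaf (nat_lit 0)))) (.node (.node (.node
    (.leaf (nat_lit 12807033623567623454758)) (.leaf (nat_lit 0))) (.leaf (nat_lit 0))) (.node
    (.node (.leaf (nat_lit 20587146394951502463046)) (.leaf (nat_lit 420511178058892441626607618)))
    (.leaf (nat_lit 0))))) (.node (.node (.node (.node (.leaf (nat_lit 0)) (.leaf (nat_lit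
    83621057911160473583645))) (.leaf (nat_lit 0))) (.node (.node (.leaf (nat_lit 0)) (.leaf
    (nat_lit 20977074711942997934082))) (.leaf (nat_lit 64546491484129988902953)))) (.node (.node
    (.node (.leaf (nat_lit 0)) (.leaf (nat_lit 14963129330562662334466))) (.leaf (nat_lit
    55110760923774742364173))) (.node (.node (.leaf (nat_lit 22985336985568460079147)) (.leaf
    (nat_lit 426959241446817794))) (.leaf (nat_lit 54041351373500272803848))))))) (.node (.node
    (.node (.node (.node (.node (.leaf (nat_lit 59533989093965888)) (.leaf (nat_lit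
    1747046843218526211))) (.leaf (nat_lit 1219515483632566351))) (.node (.node (.leaf (nat_lit 0))
    (.leaf (nat_lit 15152335410843443462146))) (.leaf (nat_lit 47067845954116635898979220258865))))
    (.node (.node (.node (.leaf (nat_lit 11529399423005827989513)) (.leaf (nat_lit
    87066676843179719983162))) (.leaf (nat_lit 48691112429257691955229))) (.node (.node (.leaf
    (nat_lit 30133310134103541219341)) (.leaf (nat_lit 345605113387286530))) (.leaf (nat_lit 0)))))
    (.node (.node (.node (.node (.leaf (nat_lit 0)) (.leaf (nat_lit 0))) (.leaf (nat_lit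
    43359903463940852744232))) (.node (.node (.leaf (nat_lit 524552640852525073)) (.leaf (nat_lit
    108189341723811102950092202901506))) (.leaf (nat_lit 63338198502471496826899)))) (.node (.node
    (.node (.leaf (nat_lit 0)) (.leaf (nat_lit 2678601455602106370))) (.leaf (nat_lit
    1079929158181715984))) (.node (.node (.leaf (nat_lit 22256672016217548193844)) (.leaf (nat_lit
    252442900460339202))) (.leaf (nat_lit 2384830120273960001270448163)))))) (.node (.node (.node
    (.node (.node (.leaf (nat_lit 4141364698997491695657)) (.leaf (nat_lit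
    59381881243024318726192))) (.leaf (nat_lit 42225398020427640668189))) (.node (.node (.leaf
    (nat_lit 23432511054080595132454)) (.leaf (nat_lit 3007367660079022082))) (.leaf (nat_lit 0))))
    (.node (.node (.node (.leaf (nat_lit 231526194980454417)) (.leaf (nat_lit
    57026226874021398642690))) (.leaf (nat_lit 0))) (.node (.node (.leaf (nat_lit
    1018248878278588814556659745)) (.leaf (nat_lit 9199010426316807929858))) (.leaf (nat_lit 0)))))
    (.node (.node (.node (.node (.leaf (nat_lit 173819426708258819)) (.leaf (nat_lit 0))) (.leaf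
    (nat_lit 0))) (.node (.node (.leaf (nat_lit 0)) (.leaf (nat_lit 67481230956343974887426)))
    (.leaf (nat_lit 47972138941305399214127)))) (.node (.node (.node (.leaf (nat_lit
    13314242108532172455959)) (.leaf (nat_lit 16669474562797719453698))) (.leaf (nat_lit
    1141855852081315857))) (.node (.leaf (nat_lit 1025502539332050447348531244)) (.leaf (nat_lit
    0)))))))))) (.node (.node (.node (.node (.node (.node (.node (.node (.node (.leaf (nat_lit
    5489006859124753)) (.leaf (nat_lit 0))) (.leaf (nat_lit 0))) (.node (.node (.leaf (nat_lit 0))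
    (.leaf (nat_lit 28475398345113026625538))) (.leaf (nat_lit 37392689701136357326906)))) (.node
    (.node (.node (.leaf (nat_lit 9297304826211276619814)) (.leaf (nat_lit 0))) (.leaf (nat_lit
    47113889350503828226088))) (.node (.node (.leaf (nat_lit 30404374209659965393721308282922))
    (.leaf (nat_lit 31999052400039077019650))) (.leaf (nat_lit
    52425833144939995517652304199729))))) (.node (.node (.node (.node (.leaf (nat_lit 0)) (.leaf
    (nat_lit 2458036987823783981))) (.leaf (nat_lit 0))) (.node (.node (.leaf (nat_lit 0)) (.leaf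
    (nat_lit 3202209501459950207672516610))) (.leaf (nat_lit 0)))) (.node (.node (.node (.leaf
    (nat_lit 0)) (.leaf (nat_lit 2327037234005540866))) (.leaf (nat_lit 50873043541681332486196)))
    (.node (.node (.leaf (nat_lit 32974174870685679288350)) (.leaf (nat_lit
    11200366782345828827138))) (.leaf (nat_lit 68365120635667891814425)))))) (.node (.node (.node
    (.node (.node (.leaf (nat_lit 79096903702282247)) (.leaf (nat_lit 57417242902488607293491)))
    (.leaf (nat_lit 29394178875459602018125669007375))) (.node (.node (.leaf (nat_lit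
    374241017559384067)) (.leaf (nat_lit 18338942900646124388354))) (.leaf (nat_lit
    40002983787912589672473)))) (.node (.node (.node (.leaf (nat_lit 6465778308284034514996))
    (.leaf (nat_lit 2306096248259992121948504108))) (.leaf (nat_lit 31332750040936262860847)))
    (.node (.node (.leaf (nat_lit 30959175306545606099001)) (.leaf (nat_lit 3166125748876607490)))
    (.leaf (nat_lit 1549136050669840259914924067))))) (.node (.node (.node (.node (.leaf (nat_lit
    0)) (.leaf (nat_lit 63504853802474379870256))) (.leaf (nat_lit 1377158298272399428))) (.node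
    (.node (.leaf (nat_lit 799694842904051732)) (.leaf (nat_lit 3335481905626418165003321346)))
    (.leaf (nat_lit 63993070865358021394451)))) (.node (.node (.node (.leaf (nat_lit
    15108155316825011453965)) (.leaf (nat_lit 42347318102872631214082))) (.leaf (nat_lit 0)))
    (.node (.node (.leaf (nat_lit 35321980593838886158379)) (.leaf (nat_lit 416965986420391938)))
    (.leaf (nat_lit 73267770946860714906237918314545))))))) (.node (.node (.node (.node (.node
    (.node (.leaf (nat_lit 26600729624051729)) (.leaf (nat_lit 0))) (.leaf (nat_lit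
    818143548506505282))) (.node (.node (.leaf (nat_lit 17723045187391588597829)) (.leaf (nat_lit
    58571275665957001035778))) (.leaf (nat_lit 39790824415663313059878)))) (.node (.node (.node
    (.leaf (nat_lit 167628489049112593)) (.leaf (nat_lit 85908588442467099148329))) (.leaf (nat_lit
    48368282866806534897705))) (.node (.node (.leaf (nat_lit 29404658112988105080871)) (.leaf
    (nat_lit 3192019685797396482))) (.leaf (nat_lit 0))))) (.node (.node (.node (.node (.leaf
    (nat_lit 0)) (.leaf (nat_lit 62434909712536029036548))) (.leaf (nat_lit 0))) (.node (.node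
    (.leaf (nat_lit 15366604381508511924248)) (.leaf (nat_lit 1089342755385510685483204610)))
    (.leaf (nat_lit 47587300069850388539070270996511)))) (.node (.node (.node (.leaf (nat_lit
    11820171412635335329322904125489)) (.leaf (nat_lit 2987179351479955647296176181))) (.leaf
    (nat_lit 37515250353794093705580635291697))) (.node (.node (.leaf (nat_lit 0)) (.leaf (nat_lit
    3337831257106153474))) (.leaf (nat_lit 54479374004720641441839)))))) (.node (.node (.node
    (.node (.node (.leaf (nat_lit 0)) (.leaf (nat_lit 2422010097770299442))) (.leaf (nat_lit 0)))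
    (.node (.node (.leaf (nat_lit 13199046929920406257685)) (.leaf (nat_lit 1328791417421692930)))
    (.leaf (nat_lit 0)))) (.node (.node (.node (.leaf (nat_lit 13152735983952187293705)) (.leaf
    (nat_lit 77308513788311007724049321492511))) (.leaf (nat_lit 0))) (.node (.node (.leaf (nat_lit
    0)) (.leaf (nat_lit 424440536709381981001220098))) (.leaf (nat_lit
    1697377203523823978865229877))))) (.node (.node (.node (.node (.leaf (nat_lit
    258964911378530311)) (.leaf (nat_lit 64602469134440381743152))) (.leaf (nat_lit
    49033258002129413805571232301105))) (.node (.node (.leaf (nat_lit 26895847436527597715469))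
    (.leaf (nat_lit 107820603482534652358324417527810))) (.leaf (nat_lit 1989244378367000596))))
    (.node (.node (.node (.leaf (nat_lit 12013146951349104542283605540906)) (.leaf (nat_lit
    14852459294086251347970))) (.leaf (nat_lit 37060635077386168369203))) (.node (.node (.leaf
    (nat_lit 0)) (.leaf (nat_lit 3388358553751388162))) (.leaf (nat_lit 1640364940827164689))))))))
    (.node (.node (.node (.node (.node (.node (.node (.leaf (nat_lit 807057016680102428719)) (.leaf
    (nat_lit 1696661585436737553))) (.leaf (nat_lit 1177445806521843723))) (.node (.node (.leaf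
    (nat_lit 10662540804034494922776)) (.leaf (nat_lit 2907443562310402050))) (.leaf (nat_lit 0))))
    (.node (.node (.node (.leaf (nat_lit 10155090248137548431415)) (.leaf (nat_lit
    2794200444547060943496151084))) (.leaf (nat_lit 47731866536539102314547))) (.node (.node (.leaf
    (nat_lit 0)) (.leaf (nat_lit 112466034382136873481509945016322))) (.leaf (nat_lit 0))))) (.node
    (.node (.node (.node (.leaf (nat_lit 147188982957267593573171235)) (.leaf (nat_lit 0))) (.leaf
    (nat_lit 0))) (.node (.node (.leaf (nat_lit 746633799022018628)) (.leaf (nat_lit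
    3048466674580848642))) (.leaf (nat_lit 43761623300420141252678)))) (.node (.node (.node (.leaf
    (nat_lit 8882361738858804215847)) (.leaf (nat_lit 72659876107230927585282))) (.leaf (nat_lit
    1610086031275720711))) (.node (.node (.leaf (nat_lit 0)) (.leaf (nat_lit
    257307981928338282955145218))) (.leaf (nat_lit 0)))))) (.node (.node (.node (.node (.node
    (.leaf (nat_lit 2144485933686940958741)) (.leaf (nat_lit 78372759370421156118595))) (.leaf
    (nat_lit 43021703752225661287730858229809))) (.node (.node (.leaf (nat_lit 0)) (.leaf (nat_lit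
    2979783979944771586))) (.leaf (nat_lit 1827518119275528242)))) (.node (.node (.node (.leaf
    (nat_lit 199718285661569040)) (.leaf (nat_lit 2691827360713539591))) (.leaf (nat_lit 0)))
    (.node (.node (.leaf (nat_lit 0)) (.leaf (nat_lit 393914690102986241212678146))) (.leaf
    (nat_lit 0))))) (.node (.node (.node (.node (.leaf (nat_lit 0)) (.leaf (nat_lit 0))) (.leaf
    (nat_lit 895133001950822411))) (.node (.node (.leaf (nat_lit 828583522823453055591383054))
    (.leaf (nat_lit 3294643489043321692157640706))) (.leaf (nat_lit 64564933442991655419910))))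
    (.node (.node (.node (.leaf (nat_lit 17229543270733161103369)) (.leaf (nat_lit
    26381658256030478565378))) (.leaf (nat_lit 36442652684081005002756))) (.node (.node (.leaf
    (nat_lit 0)) (.leaf (nat_lit 272569967612919810))) (.leaf (nat_lit 0))))))) (.node (.node
    (.node (.node (.node (.node (.leaf (nat_lit 61363426118729735)) (.leaf (nat_lit 0))) (.leaf
    (nat_lit 24765508449691418951726))) (.node (.node (.leaf (nat_lit 342433795435266064)) (.leaf
    (nat_lit 51713706426035073122306))) (.leaf (nat_lit 1240937105467768848)))) (.node (.node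
    (.node (.leaf (nat_lit 348476702751588359)) (.leaf (nat_lit 69407991068740993351750))) (.leaf
    (nat_lit 48229941856944087302199))) (.node (.node (.leaf (nat_lit 943735330517997180674113601))
    (.leaf (nat_lit 3406833625906547899209351170))) (.leaf (nat_lit
    1579358292204865845626929217))))) (.node (.node (.node (.node (.leaf (nat_lit
    102885396114964483)) (.leaf (nat_lit 0))) (.leaf (nat_lit 43203103324427115495437))) (.node
    (.node (.leaf (nat_lit 16464196491221999484946)) (.leaf (nat_lit 60392980014322533203970)))
    (.leaf (nat_lit 1305117798204309520)))) (.node (.node (.node (.leaf (nat_lit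
    16058156725088196689960)) (.leaf (nat_lit 2659742451773865986))) (.leaf (nat_lit
    1646397411372957716))) (.node (.node (.leaf (nat_lit 35007981745960921530374)) (.leaf (nat_lit
    660581264503472130))) (.leaf (nat_lit 61595902323025883889721)))))) (.node (.node (.node (.node
    (.node (.leaf (nat_lit 73609799513800726)) (.leaf (nat_lit 59418772338505586769990))) (.leaf
    (nat_lit 41874907068157132996621))) (.node (.node (.leaf (nat_lit 22966602843320052023326))
    (.leaf (nat_lit 3237865568109185596039364610))) (.leaf (nat_lit 41128270362438818529349))))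
    (.node (.node (.node (.leaf (nat_lit 238766354476796928327942197)) (.leaf (nat_lit
    76169333847212654002178))) (.leaf (nat_lit 0))) (.node (.node (.leaf (nat_lit
    927868119238386015193530403)) (.leaf (nat_lit 3304613095275626498))) (.leaf (nat_lit 0)))))
    (.node (.node (.node (.node (.leaf (nat_lit 5734223191167109734215480311823)) (.leaf (nat_lit
    0))) (.leaf (nat_lit 934681335690297347))) (.node (.node (.leaf (nat_lit
    27892327823649286586376)) (.leaf (nat_lit 3110672395325800450))) (.leaf (nat_lit 0)))) (.node
    (.node (.node (.leaf (nat_lit 19431017857706774986536262107178)) (.leaf (nat_lit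
    63192159721165078855682))) (.leaf (nat_lit 1799673525606035648235700257))) (.node (.leaf
    (nat_lit 37392253959730467373068)) (.leaf (nat_lit 2295217023900319764))))))))) (.node (.node
    (.node (.node (.node (.node (.node (.node (.leaf (nat_lit 433506930492577087525)) (.leaf
    (nat_lit 75946927516802892365854))) (.leaf (nat_lit 38337777243041380368438))) (.node (.node
    (.leaf (nat_lit 0)) (.leaf (nat_lit 41254383965078047358978))) (.leaf (nat_lit
    1159026512855433233)))) (.node (.node (.node (.leaf (nat_lit 179168138460528656)) (.leaf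
    (nat_lit 0))) (.leaf (nat_lit 0))) (.node (.node (.leaf (nat_lit 0)) (.leaf (nat_lit
    110554351666902661693170239471618))) (.leaf (nat_lit 47764626300504446795835))))) (.node (.node
    (.node (.node (.leaf (nat_lit 0)) (.leaf (nat_lit 0))) (.leaf (nat_lit 858960993542340624)))
    (.node (.node (.leaf (nat_lit 14803962923828451147797)) (.leaf (nat_lit
    1334451589349016338365153282))) (.leaf (nat_lit 0)))) (.node (.node (.node (.leaf (nat_lit
    8513421790551564550182)) (.leaf (nat_lit 2958470074988687450976813066))) (.leaf (nat_lit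
    1601922990663139345))) (.node (.node (.leaf (nat_lit 33518364517184103972883)) (.leaf (nat_lit
    21576786959054158364674))) (.leaf (nat_lit 51652376979094970236980)))))) (.node (.node (.node
    (.node (.node (.leaf (nat_lit 2822394911659122688021)) (.leaf (nat_lit
    78409647228785573167116))) (.leaf (nat_lit 0))) (.node (.node (.leaf (nat_lit
    380996691878346755)) (.leaf (nat_lit 2960923464288043010))) (.leaf (nat_lit 0)))) (.node (.node
    (.node (.leaf (nat_lit 12198280373528474877995)) (.leaf (nat_lit 0))) (.leaf (nat_lit
    49595032444429209370665))) (.node (.node (.leaf (nat_lit 23091281065767243808791)) (.leaf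
    (nat_lit 3414374309031866654280384514))) (.leaf (nat_lit 47095970392103308165178))))) (.node
    (.node (.node (.node (.leaf (nat_lit 0)) (.leaf (nat_lit 2539119399072301124))) (.leaf (nat_lit
    28445742687706243334149))) (.node (.node (.leaf (nat_lit 26074961694923354734635)) (.leaf
    (nat_lit 3107293003388157954))) (.leaf (nat_lit 0)))) (.node (.node (.node (.leaf (nat_lit
    343797231511474032276144172)) (.leaf (nat_lit 14990806775906068267010))) (.leaf (nat_lit
    1673138358794190859))) (.node (.node (.leaf (nat_lit 1096941480691499015)) (.leaf (nat_lit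
    255118192639344642))) (.leaf (nat_lit 1589980095362236432))))))) (.node (.node (.node (.node
    (.node (.node (.leaf (nat_lit 1627953735808437125182)) (.leaf (nat_lit
    77229015356055570546701))) (.leaf (nat_lit 830859533117581788438593580))) (.node (.node (.leaf
    (nat_lit 11142172476332816138244)) (.leaf (nat_lit 45455643712421200330754))) (.leaf (nat_lit
    58366702172088173789193)))) (.node (.node (.node (.leaf (nat_lit 0)) (.leaf (nat_lit
    74882083458274703635303184531487))) (.leaf (nat_lit 0))) (.node (.node (.leaf (nat_lit 0))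
    (.leaf (nat_lit 3211442086255656962))) (.leaf (nat_lit 53069553050605798829309760438321)))))
    (.node (.node (.node (.node (.leaf (nat_lit 0)) (.leaf (nat_lit 65450960390890664951833)))
    (.leaf (nat_lit 1366566304231091698598674476))) (.node (.node (.leaf (nat_lit 0)) (.leaf
    (nat_lit 60157908167923459096578))) (.leaf (nat_lit 0)))) (.node (.node (.node (.leaf (nat_lit
    0)) (.leaf (nat_lit 93036666693910853389328316694577))) (.leaf (nat_lit
    1151084191539578851045933091))) (.node (.node (.leaf (nat_lit 663609663123750915)) (.leaf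
    (nat_lit 723490621150593026))) (.leaf (nat_lit 72478798045742266253331)))))) (.node (.node
    (.node (.node (.node (.leaf (nat_lit 2130661572471047782425)) (.leaf (nat_lit
    1824735723497062422))) (.leaf (nat_lit 41801115869462766223369))) (.node (.node (.leaf (nat_lit
    700894102421635100)) (.leaf (nat_lit 18615771233452774588418))) (.leaf (nat_lit
    1259516378076020758)))) (.node (.node (.node (.leaf (nat_lit 10606830895926821169256412282929))
    (.leaf (nat_lit 2474529460376961026))) (.leaf (nat_lit 51282936831354475839497))) (.node (.node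
    (.leaf (nat_lit 32254723140512978763795)) (.leaf (nat_lit 4052213983699647266818))) (.leaf
    (nat_lit 70163661012073539895302))))) (.node (.node (.node (.node (.leaf (nat_lit
    268253860487888916)) (.leaf (nat_lit 0))) (.leaf (nat_lit 0))) (.node (.node (.leaf (nat_lit
    22694607103523249389591)) (.leaf (nat_lit 3051843060041383938))) (.leaf (nat_lit 0)))) (.node
    (.node (.node (.leaf (nat_lit 0)) (.leaf (nat_lit 40290523554570307829762))) (.leaf (nat_lit
    37060638455360766803976))) (.node (.leaf (nat_lit 37087879586014638047251)) (.leaf (nat_lit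
    54059832317462257532932)))))))) (.node (.node (.node (.node (.node (.node (.node (.leaf
    (nat_lit 807060816884345798694)) (.leaf (nat_lit 2340254394563559444))) (.leaf (nat_lit
    39729146084487949063932575285290))) (.node (.node (.leaf (nat_lit 11105272654457255165984))
    (.leaf (nat_lit 30684406642764794757122))) (.leaf (nat_lit 0)))) (.node (.node (.node (.leaf
    (nat_lit 5349716794910808670266)) (.leaf (nat_lit 2793442712191351416783372302))) (.leaf
    (nat_lit 1475255402852646940))) (.node (.node (.leaf (nat_lit 29483148394534411632663)) (.leaf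
    (nat_lit 3411366857735130859341873154))) (.leaf (nat_lit 71540238026578518775843904618545)))))
    (.node (.node (.node (.node (.leaf (nat_lit 108352287122245044129759297)) (.leaf (nat_lit
    2483811022142570503))) (.leaf (nat_lit 833065845440774161))) (.node (.node (.leaf (nat_lit 0))
    (.leaf (nat_lit 29088963956778704502786))) (.leaf (nat_lit 0)))) (.node (.node (.node (.leaf
    (nat_lit 444592505498174251983962126)) (.leaf (nat_lit 1619973011631374338))) (.leaf (nat_lit
    1619656463951724551))) (.node (.node (.leaf (nat_lit 34182461378127649243142)) (.leaf (nat_lit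
    3560045078846543847775010818))) (.leaf (nat_lit 49881517836812358451224)))))) (.node (.node
    (.node (.node (.node (.leaf (nat_lit 3481878538454688792616)) (.leaf (nat_lit
    79009181329913245007899))) (.leaf (nat_lit 40915655264867759357992))) (.node (.node (.leaf
    (nat_lit 493252212552273455780986894)) (.leaf (nat_lit 19602567093999206858754))) (.leaf
    (nat_lit 0)))) (.node (.node (.node (.leaf (nat_lit 7743224624870106267708)) (.leaf (nat_lit
    0))) (.leaf (nat_lit 50624021783986095456288))) (.node (.node (.leaf (nat_lit
    582542121052012560)) (.leaf (nat_lit 3277028702176804866))) (.leaf (nat_lit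
    69624746907736249401382))))) (.node (.node (.node (.node (.leaf (nat_lit 135819342779645955))
    (.leaf (nat_lit 83791973870922021142576))) (.leaf (nat_lit 886548290039054339))) (.node (.node
    (.leaf (nat_lit 809251197002254824010678325)) (.leaf (nat_lit 20691151304855025549314))) (.leaf
    (nat_lit 0)))) (.node (.node (.node (.leaf (nat_lit 299083625364848657)) (.leaf (nat_lit
    17001498206712579162114))) (.leaf (nat_lit 0))) (.node (.node (.leaf (nat_lit
    36239325417424568909856)) (.leaf (nat_lit 111564662117439824396290))) (.leaf (nat_lit 0)))))))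
    (.node (.node (.node (.node (.node (.node (.leaf (nat_lit 51793564673376267)) (.leaf (nat_lit
    2013694943593844460163956761))) (.leaf (nat_lit 40002520884446325047315))) (.node (.node (.leaf
    (nat_lit 646286299082391572)) (.leaf (nat_lit 1462896120928484114009686018))) (.leaf (nat_lit
    0)))) (.node (.node (.node (.leaf (nat_lit 7498787250395433599013)) (.leaf (nat_lit
    86475845808273058103374))) (.leaf (nat_lit 0))) (.node (.node (.leaf (nat_lit
    32618186832528620458127502147626)) (.leaf (nat_lit 313939376075833346))) (.leaf (nat_lit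
    1480199906642755648))))) (.node (.node (.node (.node (.leaf (nat_lit 215193993426894916))
    (.leaf (nat_lit 0))) (.leaf (nat_lit 44730107184419627532331))) (.node (.node (.leaf (nat_lit
    790968843748114460)) (.leaf (nat_lit 19053865103448846041090))) (.leaf (nat_lit
    67414637807921038153918682824735)))) (.node (.node (.node (.leaf (nat_lit 0)) (.leaf (nat_lit
    83967774009592125784066))) (.leaf (nat_lit 1729573689651033615802564643))) (.node (.node (.leaf
    (nat_lit 0)) (.leaf (nat_lit 2769112033029914626))) (.leaf (nat_lit 0)))))) (.node (.node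
    (.node (.node (.node (.leaf (nat_lit 139028632211864642096726051)) (.leaf (nat_lit
    59686258572098554495008))) (.leaf (nat_lit 0))) (.node (.node (.leaf (nat_lit 0)) (.leaf
    (nat_lit 3135393651233715885038632962))) (.leaf (nat_lit 44785345538100939653183)))) (.node
    (.node (.node (.leaf (nat_lit 0)) (.leaf (nat_lit 76621283020820717961218))) (.leaf (nat_lit
    0))) (.node (.node (.leaf (nat_lit 32937272375055537602566)) (.leaf (nat_lit
    263956631041531473215881218))) (.leaf (nat_lit 70487160062619364294708))))) (.node (.node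
    (.node (.node (.leaf (nat_lit 5285135175154804129830)) (.leaf (nat_lit
    84866281817267136299031))) (.leaf (nat_lit 0))) (.node (.node (.leaf (nat_lit
    20589753917366396180375739367466)) (.leaf (nat_lit 61061891812382631723010))) (.leaf (nat_lit
    1401666189117227024)))) (.node (.node (.node (.leaf (nat_lit 0)) (.leaf (nat_lit
    15290584346700237963266))) (.leaf (nat_lit 56392830748757760081961))) (.node (.leaf (nat_lit
    0)) (.leaf (nat_lit 0))))))))))))) (.node (.node (.node (.node (.node (.node (.node (.node
    (.node (.node (.node (.node (.leaf (nat_lit 1)) (.leaf (nat_lit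
    61408598689993829395308180996145))) (.leaf (nat_lit 848840252423271013117329422))) (.node
    (.node (.leaf (nat_lit 10192135600066491777045)) (.leaf (nat_lit 15156845733859863756802)))
    (.leaf (nat_lit 50070210061961691070501)))) (.node (.node (.node (.leaf (nat_lit 0)) (.leaf
    (nat_lit 84995420847783664615449))) (.leaf (nat_lit 0))) (.node (.node (.leaf (nat_lit
    533562228109082640)) (.leaf (nat_lit 1709524994498548334298660866))) (.leaf (nat_lit
    50548531679827668237871338553359))))) (.node (.node (.node (.node (.leaf (nat_lit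
    143556649053978631)) (.leaf (nat_lit 2613324525222208742864715829))) (.leaf (nat_lit
    42437539236647566245892))) (.node (.node (.leaf (nat_lit 0)) (.leaf (nat_lit
    3024819177354559490))) (.leaf (nat_lit 61309016964373095317534)))) (.node (.node (.node (.leaf
    (nat_lit 0)) (.leaf (nat_lit 80010873369551790342146))) (.leaf (nat_lit 1586015076043849778)))
    (.node (.node (.leaf (nat_lit 0)) (.leaf (nat_lit 232524484939853292080726018))) (.leaf
    (nat_lit 65169720716875308138573)))))) (.node (.node (.node (.node (.node (.leaf (nat_lit 0))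
    (.leaf (nat_lit 77667780924126026465374))) (.leaf (nat_lit 795204214077915147))) (.node (.node
    (.leaf (nat_lit 0)) (.leaf (nat_lit 1421793159575487825144184834))) (.leaf (nat_lit 0))))
    (.node (.node (.node (.leaf (nat_lit 6170621254910240555054)) (.leaf (nat_lit
    2831826854083992134976012353))) (.leaf (nat_lit 31378865915743369887778))) (.node (.node (.leaf
    (nat_lit 939666158950003047286439980)) (.leaf (nat_lit 21027785688628492173314))) (.leaf
    (nat_lit 48493357557822259396640))))) (.node (.node (.node (.node (.leaf (nat_lit 0)) (.leaf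
    (nat_lit
    5138990891438022078862953587418594792718446385376106392715489339188943232745435707969823698328425257156083796)))
    (.leaf (nat_lit 1379260532634048407286317100))) (.node (.node (.leaf (nat_lit 0)) (.leaf
    (nat_lit 3326718646109115535935668226))) (.leaf (nat_lit 67375022366484009041850249052191))))
    (.node (.node (.node (.leaf (nat_lit 16122722862964567900201)) (.leaf (nat_lit
    78576713612490747084802))) (.leaf (nat_lit 1614450327933812764))) (.node (.node (.leaf (nat_lit
    22256674268206340440122)) (.leaf (nat_lit 429913234053660674))) (.leaf (nat_lit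
    73152130945148157886505))))))) (.node (.node (.node (.node (.node (.node (.leaf (nat_lit 0))
    (.leaf (nat_lit 71575075067641471369234))) (.leaf (nat_lit 0))) (.node (.node (.leaf (nat_lit
    337366472760360963)) (.leaf (nat_lit 44796166547743233474562))) (.leaf (nat_lit
    38757791829138474205236)))) (.node (.node (.node (.leaf (nat_lit 10630098271215535980563))
    (.leaf (nat_lit 0))) (.leaf (nat_lit 1477225779229229076))) (.node (.node (.leaf (nat_lit 0))
    (.leaf (nat_lit 46299916109723113553922))) (.leaf (nat_lit 2054390446607695922))))) (.node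
    (.node (.node (.node (.leaf (nat_lit 109863850225132995157950478)) (.leaf (nat_lit
    62398012424253086040096))) (.leaf (nat_lit 43507465875137361018906))) (.node (.node (.leaf
    (nat_lit 756627848617394204)) (.leaf (nat_lit 45801716370442050273282))) (.leaf (nat_lit 0))))
    (.node (.node (.node (.leaf (nat_lit 270933980210135062)) (.leaf (nat_lit
    2216840802825535490))) (.leaf (nat_lit 0))) (.node (.node (.leaf (nat_lit 0)) (.leaf (nat_lit
    117914053300429998541425038655490))) (.leaf (nat_lit 71999164966404068933659)))))) (.node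
    (.node (.node (.node (.node (.leaf (nat_lit 3564937863140271652935)) (.leaf (nat_lit
    62024342287046668386366))) (.leaf (nat_lit 0))) (.node (.node (.leaf (nat_lit
    18829912321234676416530)) (.leaf (nat_lit 2971903144453341186))) (.leaf (nat_lit
    62452886482356348934356107329585)))) (.node (.node (.node (.leaf (nat_lit
    7604874044360234303551)) (.leaf (nat_lit 0))) (.leaf (nat_lit 0))) (.node (.node (.leaf
    (nat_lit 20720885148937386917922)) (.leaf (nat_lit 7059018948838800162818))) (.leaf (nat_lit
    48424160172859688419351))))) (.node (.node (.node (.node (.leaf (nat_lit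
    4178309982010959134758)) (.leaf (nat_lit 63150374768362804936706))) (.leaf (nat_lit
    28916150143319441342501))) (.node (.node (.leaf (nat_lit 26729823924891106345000)) (.leaf
    (nat_lit 310947368808037721856802818))) (.leaf (nat_lit 0)))) (.node (.node (.node (.leaf
    (nat_lit 17450907577652403699766)) (.leaf (nat_lit 2843828027140472834))) (.leaf (nat_lit 0)))
    (.node (.node (.leaf (nat_lit 22902329733650489475115)) (.leaf (nat_lit
    111845980859406508818434))) (.leaf (nat_lit 53303490617940124041274)))))))) (.node (.node
    (.node (.node (.node (.node (.node (.leaf (nat_lit 558024282611824918567)) (.leaf (nat_lit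
    76011491965528755601438))) (.leaf (nat_lit 0))) (.node (.node (.leaf (nat_lit 0)) (.leaf
    (nat_lit 3093695962077128865412808706))) (.leaf (nat_lit 0)))) (.node (.node (.node (.leaf
    (nat_lit 8845368040989701373989)) (.leaf (nat_lit 0))) (.leaf (nat_lit
    47731863721565996908553))) (.node (.node (.leaf (nat_lit 540318177305952272)) (.leaf (nat_lit
    3188927137545584642))) (.leaf (nat_lit 0))))) (.node (.node (.node (.node (.leaf (nat_lit 0))
    (.leaf (nat_lit 1874276470449373206))) (.leaf (nat_lit 0))) (.node (.node (.leaf (nat_lit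
    14803963486838534111301)) (.leaf (nat_lit 60342227273078699917314))) (.leaf (nat_lit
    1334812085397356555)))) (.node (.node (.node (.leaf (nat_lit 0)) (.leaf (nat_lit
    83239077925316278288466))) (.leaf (nat_lit 0))) (.node (.node (.leaf (nat_lit 0)) (.leaf
    (nat_lit 12113617945092704894978))) (.leaf (nat_lit 67927562858902682009652)))))) (.node (.node
    (.node (.node (.node (.leaf (nat_lit 47994253783203862)) (.leaf (nat_lit
    72986418327794584059912))) (.leaf (nat_lit 40675840273053334569000))) (.node (.node (.leaf
    (nat_lit 21845937103058231296040)) (.leaf (nat_lit 3191954804147186707407831042))) (.leaf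
    (nat_lit 0)))) (.node (.node (.node (.leaf (nat_lit 203658711997218833)) (.leaf (nat_lit
    2882919322724830155983028259))) (.leaf (nat_lit 0))) (.node (.node (.leaf (nat_lit 0)) (.leaf
    (nat_lit 288466491978940418))) (.leaf (nat_lit 2108433977143590978))))) (.node (.node (.node
    (.node (.leaf (nat_lit 233349915403747348)) (.leaf (nat_lit 83242885865014791700509))) (.leaf
    (nat_lit 890629178985152576))) (.node (.node (.leaf (nat_lit 26121078555159168221189)) (.leaf
    (nat_lit 3078019356702146562))) (.leaf (nat_lit 0)))) (.node (.node (.node (.leaf (nat_lit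
    15938264148484326359069)) (.leaf (nat_lit 57768791086823318421506))) (.leaf (nat_lit 0)))
    (.node (.node (.leaf (nat_lit 1099612297514582061)) (.leaf (nat_lit 280450966313107458)))
    (.leaf (nat_lit 72571082432749083230226))))))) (.node (.node (.node (.node (.node (.node (.leaf
    (nat_lit 0)) (.leaf (nat_lit 77035326513649406902298))) (.leaf (nat_lit 1206438596706435079)))
    (.node (.node (.leaf (nat_lit 0)) (.leaf (nat_lit 26888996620243417890818))) (.leaf (nat_lit
    0)))) (.node (.node (.node (.leaf (nat_lit 11155833714845426057222)) (.leaf (nat_lit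
    2648885349975195716))) (.leaf (nat_lit 47870225843700965244983))) (.node (.node (.leaf (nat_lit
    0)) (.leaf (nat_lit 103318685225325129039874))) (.leaf (nat_lit 67627182189870254850075)))))
    (.node (.node (.node (.node (.leaf (nat_lit 97255673242451990)) (.leaf (nat_lit 0))) (.leaf
    (nat_lit 834755296596459542))) (.node (.node (.leaf (nat_lit 774361313316044807)) (.leaf
    (nat_lit 3341841851692481708034))) (.leaf (nat_lit 0)))) (.node (.node (.node (.leaf (nat_lit
    0)) (.leaf (nat_lit 82754885945850750763010))) (.leaf (nat_lit 53681092094697192751133)))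
    (.node (.node (.leaf (nat_lit 0)) (.leaf (nat_lit 644255466746150914))) (.leaf (nat_lit
    2216522159201845293)))))) (.node (.node (.node (.node (.node (.leaf (nat_lit 0)) (.leaf
    (nat_lit 0))) (.leaf (nat_lit 41847232729689989775379))) (.node (.node (.leaf (nat_lit
    406612065810251792)) (.leaf (nat_lit 1013930823928663725853376514))) (.leaf (nat_lit 0))))
    (.node (.node (.node (.leaf (nat_lit 245036633085313088)) (.leaf (nat_lit
    79688043246444192399362))) (.leaf (nat_lit 32494929118232743968811))) (.node (.node (.leaf
    (nat_lit 0)) (.leaf (nat_lit 3250290013908369410))) (.leaf (nat_lit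
    69831622152064508035139))))) (.node (.node (.node (.node (.leaf (nat_lit 0)) (.leaf (nat_lit
    65211227029585445191738))) (.leaf (nat_lit 935807012258840592))) (.node (.node (.leaf (nat_lit
    26231771968541275914259)) (.leaf (nat_lit 159681530702007663899967490))) (.leaf (nat_lit
    44338097144393768304674)))) (.node (.node (.node (.leaf (nat_lit 330046474098442268)) (.leaf
    (nat_lit 17840836574855049707522))) (.leaf (nat_lit 0))) (.node (.leaf (nat_lit
    710899709774004227)) (.leaf (nat_lit 54105951429497884704772))))))))) (.node (.node (.node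
    (.node (.node (.node (.node (.node (.leaf (nat_lit 295151705370711490583)) (.leaf (nat_lit
    75780902034850153955346))) (.leaf (nat_lit 0))) (.node (.node (.leaf (nat_lit 0)) (.leaf
    (nat_lit 18357359801912671797250))) (.leaf (nat_lit 56042349085599570526221)))) (.node (.node
    (.node (.leaf (nat_lit 4888534822242171945008)) (.leaf (nat_lit 0))) (.leaf (nat_lit
    30465704231424560922662))) (.node (.node (.leaf (nat_lit 28316285574909660430377)) (.leaf
    (nat_lit 11112572467769315098626))) (.leaf (nat_lit 0))))) (.node (.node (.node (.node (.leaf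
    (nat_lit 152282656799850507)) (.leaf (nat_lit 60442600834398842716185))) (.leaf (nat_lit
    851079470856142864))) (.node (.node (.leaf (nat_lit 0)) (.leaf (nat_lit
    23314994689354670211074))) (.leaf (nat_lit 0)))) (.node (.node (.node (.leaf (nat_lit 0))
    (.leaf (nat_lit 2445538259330269186))) (.leaf (nat_lit 1039676501345304598))) (.node (.node
    (.leaf (nat_lit 0)) (.leaf (nat_lit 3307149917709008898))) (.leaf (nat_lit
    48913030417384772665414)))))) (.node (.node (.node (.node (.node (.leaf (nat_lit 0)) (.leaf
    (nat_lit 1757743356189999126))) (.leaf (nat_lit 29354563434031796278094090010639))) (.node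
    (.node (.leaf (nat_lit 0)) (.leaf (nat_lit 15281397554801058971650))) (.leaf (nat_lit
    1915431742367782063904653356)))) (.node (.node (.node (.leaf (nat_lit 6511895168511258066967))
    (.leaf (nat_lit 0))) (.leaf (nat_lit 0))) (.node (.node (.leaf (nat_lit
    668402558123217751711678529)) (.leaf (nat_lit 102260771923510119803125762))) (.leaf (nat_lit
    48839245831428213243947))))) (.node (.node (.node (.node (.leaf (nat_lit
    7318852115670294003731)) (.leaf (nat_lit 63670877173210174128160))) (.leaf (nat_lit
    42354570830561304313886))) (.node (.node (.leaf (nat_lit 523427204802150422)) (.leaf (nat_lit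
    308377929608507977208430594))) (.leaf (nat_lit 1360287494935019537)))) (.node (.node (.node
    (.leaf (nat_lit 15578548698131028181005)) (.leaf (nat_lit 790880985716520184847794178))) (.leaf
    (nat_lit 53539457370610714410172293644337))) (.node (.node (.leaf (nat_lit 0)) (.leaf (nat_lit
    3604734050351544977655595010))) (.leaf (nat_lit 0))))))) (.node (.node (.node (.node (.node
    (.node (.leaf (nat_lit 963867149027959308311)) (.leaf (nat_lit 0))) (.leaf (nat_lit
    762693029634113539))) (.node (.node (.leaf (nat_lit 17686151699287119167512)) (.leaf (nat_lit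
    51570737123074737635330))) (.leaf (nat_lit 1774190950629900299)))) (.node (.node (.node (.leaf
    (nat_lit 0)) (.leaf (nat_lit 86504015118480997285970))) (.leaf (nat_lit
    1529792697973242256058220579))) (.node (.node (.leaf (nat_lit 0)) (.leaf (nat_lit
    1347906515865403419733000194))) (.leaf (nat_lit 1573916479633854150943703084))))) (.node (.node
    (.node (.node (.leaf (nat_lit 0)) (.leaf (nat_lit 2661663239845557485699334209))) (.leaf
    (nat_lit 0))) (.node (.node (.leaf (nat_lit 24792892714287957737502)) (.leaf (nat_lit
    363533990316070568328429570))) (.leaf (nat_lit 1409045905078637608428634126)))) (.node (.node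
    (.node (.leaf (nat_lit 487809864900843690323607605)) (.leaf (nat_lit 87919965984575340085250)))
    (.leaf (nat_lit 1631039299812196431))) (.node (.node (.leaf (nat_lit 0)) (.leaf (nat_lit
    10199695448956557524994))) (.leaf (nat_lit 61334310350273469829144945950735)))))) (.node (.node
    (.node (.node (.node (.leaf (nat_lit 3421975315738291011636)) (.leaf (nat_lit 0))) (.leaf
    (nat_lit 44467651720828331443402876190762))) (.node (.node (.leaf (nat_lit
    17059146346894477951008)) (.leaf (nat_lit 34041763887557208375298))) (.leaf (nat_lit 0))))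
    (.node (.node (.node (.leaf (nat_lit 210696411048706065)) (.leaf (nat_lit
    71649339296020726743065))) (.leaf (nat_lit 1270922085416024533507506209))) (.node (.node (.leaf
    (nat_lit 0)) (.leaf (nat_lit 3287444899812737026))) (.leaf (nat_lit 0))))) (.node (.node (.node
    (.node (.leaf (nat_lit 0)) (.leaf (nat_lit 0))) (.leaf (nat_lit 0))) (.node (.node (.leaf
    (nat_lit 18816175080398135689241)) (.leaf (nat_lit 3249943965856704845672873986))) (.leaf
    (nat_lit 65182912317902559576090)))) (.node (.node (.node (.leaf (nat_lit 0)) (.leaf (nat_lit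
    31293121354801130700802))) (.leaf (nat_lit 1828386293174723277230440513))) (.node (.node (.leaf
    (nat_lit 1125934288055959559)) (.leaf (nat_lit 3407499358973853698))) (.leaf (nat_lit
    74674061642006026977309)))))))) (.node (.node (.node (.node (.node (.node (.node (.leaf
    (nat_lit 894681302898755960844)) (.leaf (nat_lit 0))) (.leaf (nat_lit 0))) (.node (.node (.leaf
    (nat_lit 19775234909781933359134)) (.leaf (nat_lit 27322485253088687095810))) (.leaf (nat_lit
    1189144661780987920)))) (.node (.node (.node (.leaf (nat_lit 10136643504115378487309)) (.leaf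
    (nat_lit 68651650635297909309474))) (.leaf (nat_lit 0))) (.node (.node (.leaf (nat_lit
    18013788861908226605093)) (.leaf (nat_lit 112516680057462859069175445651458))) (.leaf (nat_lit
    1613205858561267637409808417))))) (.node (.node (.node (.node (.leaf (nat_lit
    4667109290993621598249)) (.leaf (nat_lit 2371691339438479646346444835))) (.leaf (nat_lit
    40915696925148587425797))) (.node (.node (.leaf (nat_lit 24257924469226672947230)) (.leaf
    (nat_lit 3006807166846894082))) (.leaf (nat_lit 41847714774554182352921)))) (.node (.node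
    (.node (.leaf (nat_lit 460080087908352050)) (.leaf (nat_lit 50542230365407574949890))) (.leaf
    (nat_lit 52713179728586897293317))) (.node (.node (.leaf (nat_lit 0)) (.leaf (nat_lit
    3203731386324339589122))) (.leaf (nat_lit 71602552931670017900557)))))) (.node (.node (.node
    (.node (.node (.leaf (nat_lit 2116815817610736369689)) (.leaf (nat_lit
    78815482635616608518156))) (.leaf (nat_lit 779020227550773270))) (.node (.node (.leaf (nat_lit
    12654851372215542415406)) (.leaf (nat_lit 25510132652477788651522))) (.leaf (nat_lit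
    40731640171787085611055)))) (.node (.node (.node (.leaf (nat_lit 0)) (.leaf (nat_lit
    2692953303570055175))) (.leaf (nat_lit 971557907713884177))) (.node (.node (.leaf (nat_lit
    31360038882208571916318)) (.leaf (nat_lit 3265768302949040130))) (.leaf (nat_lit
    73713433740025164931032284463146))))) (.node (.node (.node (.node (.leaf (nat_lit 0)) (.leaf
    (nat_lit 0))) (.leaf (nat_lit 943143527057590254378942517))) (.node (.node (.leaf (nat_lit
    16076827110978047115311)) (.leaf (nat_lit 9756802054604657459202))) (.leaf (nat_lit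
    43683219855282834440217)))) (.node (.node (.node (.leaf (nat_lit 17312553619124983627795))
    (.leaf (nat_lit 42416491125170086543362))) (.leaf (nat_lit 0))) (.node (.node (.leaf (nat_lit
    0)) (.leaf (nat_lit 225845198788362242))) (.leaf (nat_lit 1649230904377344011))))))) (.node
    (.node (.node (.node (.node (.node (.leaf (nat_lit 63755555398877250)) (.leaf (nat_lit
    75749147296255730450490))) (.leaf (nat_lit 0))) (.node (.node (.leaf (nat_lit
    639249209916260363)) (.leaf (nat_lit 2878732247102521346))) (.leaf (nat_lit
    1793177540756635727)))) (.node (.node (.node (.leaf (nat_lit 7893219332360833477501427974193))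
    (.leaf (nat_lit 87029782229046494691379))) (.leaf (nat_lit 0))) (.node (.node (.leaf (nat_lit
    0)) (.leaf (nat_lit 3215666057742254082))) (.leaf (nat_lit 1432067462286934038))))) (.node
    (.node (.node (.node (.leaf (nat_lit 153410205974134812)) (.leaf (nat_lit 0))) (.leaf (nat_lit
    41238526488012061343781))) (.node (.node (.leaf (nat_lit 15726326587579078737944)) (.leaf
    (nat_lit 60780363050853089869826))) (.leaf (nat_lit 47161445674418295078242086092831)))) (.node
    (.node (.node (.leaf (nat_lit 0)) (.leaf (nat_lit 83031596254970446544956))) (.leaf (nat_lit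
    54036740230524625420368))) (.node (.node (.leaf (nat_lit 0)) (.leaf (nat_lit
    394446940311519234))) (.leaf (nat_lit 2016549724321322391774167054)))))) (.node (.node (.node
    (.node (.node (.leaf (nat_lit 0)) (.leaf (nat_lit 0))) (.leaf (nat_lit 1178575056503177244)))
    (.node (.node (.leaf (nat_lit 0)) (.leaf (nat_lit 29868193951369601941506))) (.leaf (nat_lit
    0)))) (.node (.node (.node (.leaf (nat_lit 0)) (.leaf (nat_lit 59668721955174237798402)))
    (.leaf (nat_lit 50538627244702069709889354399793))) (.node (.node (.leaf (nat_lit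
    621386544011411472)) (.leaf (nat_lit 232977656878558716832776194))) (.leaf (nat_lit
    2300353703038350544095936556))))) (.node (.node (.node (.node (.leaf (nat_lit
    185875051958869708369035308)) (.leaf (nat_lit 84733084902263527506001))) (.leaf (nat_lit
    46542029869155067559976))) (.node (.node (.leaf (nat_lit 0)) (.leaf (nat_lit
    3394747457309777587387760642))) (.leaf (nat_lit 0)))) (.node (.node (.node (.leaf (nat_lit
    568167655786283053)) (.leaf (nat_lit 30154042182837538586626))) (.leaf (nat_lit
    56365158662099020480541))) (.node (.leaf (nat_lit 1143667761344544796)) (.leaf (nat_lit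
    54640920377980323299380)))))))))) (.node (.node (.node (.node (.node (.node (.node (.node
    (.node (.leaf (nat_lit 110683420071246888973)) (.leaf (nat_lit 2310417136499163164))) (.leaf
    (nat_lit 1157741922496937991))) (.node (.node (.leaf (nat_lit 10229029651292713320472)) (.leaf
    (nat_lit 16309769520451554574338))) (.leaf (nat_lit 54502043422015413747759)))) (.node (.node
    (.node (.leaf (nat_lit 9472548050400687882266)) (.leaf (nat_lit 69647750326268056502296)))
    (.leaf (nat_lit 0))) (.node (.node (.leaf (nat_lit 28242495783701846360083)) (.leaf (nat_lit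
    50593370997495940972546))) (.leaf (nat_lit 1698875978346788543124471861))))) (.node (.node
    (.node (.node (.leaf (nat_lit 81773037694877699)) (.leaf (nat_lit 0))) (.leaf (nat_lit 0)))
    (.node (.node (.leaf (nat_lit 0)) (.leaf (nat_lit 990964903651475829108768770))) (.leaf
    (nat_lit 0)))) (.node (.node (.node (.leaf (nat_lit 0)) (.leaf (nat_lit
    83192941643539000000514))) (.leaf (nat_lit 0))) (.node (.node (.leaf (nat_lit
    33149413309800486469658)) (.leaf (nat_lit 3310524516463149058))) (.leaf (nat_lit 0)))))) (.node
    (.node (.node (.node (.node (.leaf (nat_lit 2527242361790466818075)) (.leaf (nat_lit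
    75242040003770101989461))) (.leaf (nat_lit 40205436195346015518724))) (.node (.node (.leaf
    (nat_lit 12082984290853432000533)) (.leaf (nat_lit 17370487147900742860802))) (.leaf (nat_lit
    1908328740550585094527778869)))) (.node (.node (.node (.leaf (nat_lit 364239773893787659))
    (.leaf (nat_lit 81809193638074748436558))) (.leaf (nat_lit 1147760555939987520))) (.node (.node
    (.leaf (nat_lit 941984334871658564)) (.leaf (nat_lit 327450398296244226))) (.leaf (nat_lit
    0))))) (.node (.node (.node (.node (.leaf (nat_lit 3468091616107937595439)) (.leaf (nat_lit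
    0))) (.leaf (nat_lit 0))) (.node (.node (.leaf (nat_lit 26001170777609475391494)) (.leaf
    (nat_lit 28272593397671499333634))) (.leaf (nat_lit 58542057147057429479491)))) (.node (.node
    (.node (.leaf (nat_lit 12102419626013730762877655384079)) (.leaf (nat_lit
    39165245706477026607106))) (.leaf (nat_lit 36046032908415727239205))) (.node (.node (.leaf
    (nat_lit 0)) (.leaf (nat_lit 106869958345628844228610))) (.leaf (nat_lit 0))))))) (.node (.node
    (.node (.node (.node (.node (.leaf (nat_lit 19282294330228753)) (.leaf (nat_lit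
    56273503391903037718595))) (.leaf (nat_lit 27832273177394102337613))) (.node (.node (.leaf
    (nat_lit 20088837862959125561384)) (.leaf (nat_lit 2922923878575636482))) (.leaf (nat_lit 0))))
    (.node (.node (.node (.leaf (nat_lit 10533253568644851630093)) (.leaf (nat_lit
    2110439061150892049))) (.leaf (nat_lit 0))) (.node (.node (.leaf (nat_lit
    29340094508661402173483)) (.leaf (nat_lit 302538119100628994))) (.leaf (nat_lit 0))))) (.node
    (.node (.node (.node (.leaf (nat_lit 118928834132312130)) (.leaf (nat_lit 0))) (.leaf (nat_lit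
    1394371671866952303864184876))) (.node (.node (.leaf (nat_lit 16353503641236521812022)) (.leaf
    (nat_lit 3240891987211601498677182466))) (.leaf (nat_lit 0)))) (.node (.node (.node (.leaf
    (nat_lit 15172708505332035551250)) (.leaf (nat_lit 2693378135965171729))) (.leaf (nat_lit 0)))
    (.node (.node (.leaf (nat_lit 34274698194909919379496)) (.leaf (nat_lit
    3568234902875325676984205314))) (.leaf (nat_lit 2202608921884098571)))))) (.node (.node (.node
    (.node (.node (.leaf (nat_lit 98379719040437441987346485)) (.leaf (nat_lit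
    2419192311461314605))) (.leaf (nat_lit 0))) (.node (.node (.leaf (nat_lit 409144928283787281))
    (.leaf (nat_lit 756834127306686466))) (.leaf (nat_lit 1247412593300209681)))) (.node (.node
    (.node (.leaf (nat_lit 0)) (.leaf (nat_lit 88717709133050775011351))) (.leaf (nat_lit 0)))
    (.node (.node (.leaf (nat_lit 32042578968668358770697)) (.leaf (nat_lit 3265771541354381314)))
    (.leaf (nat_lit 0))))) (.node (.node (.node (.node (.leaf (nat_lit 0)) (.leaf (nat_lit
    83759412151214409973769))) (.leaf (nat_lit 49062968714003522239487021482033))) (.node (.node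
    (.leaf (nat_lit 26840505233887142805544)) (.leaf (nat_lit 107929580287108950356022318661634)))
    (.leaf (nat_lit 65095934142099782565981)))) (.node (.node (.node (.leaf (nat_lit
    545649369886621760)) (.leaf (nat_lit 15345906879867945943042))) (.leaf (nat_lit 0))) (.node
    (.node (.leaf (nat_lit 0)) (.leaf (nat_lit 3386106573549076482))) (.leaf (nat_lit 0))))))))
    (.node (.node (.node (.node (.node (.node (.node (.leaf (nat_lit 12391830925667593982574636))
    (.leaf (nat_lit 0))) (.leaf (nat_lit 29231068941765584289099470405674))) (.node (.node (.leaf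
    (nat_lit 0)) (.leaf (nat_lit 2895620238899019778))) (.leaf (nat_lit 0)))) (.node (.node (.node
    (.leaf (nat_lit 5368158753557726822418)) (.leaf (nat_lit 0))) (.leaf (nat_lit
    45324564745984246218799))) (.node (.node (.leaf (nat_lit 28832802572160169345065)) (.leaf
    (nat_lit 18537420733975053402114))) (.leaf (nat_lit 0))))) (.node (.node (.node (.node (.leaf
    (nat_lit 5340412916271790882829)) (.leaf (nat_lit 2356117094090010768160587841))) (.leaf
    (nat_lit 26979180369940108738618))) (.node (.node (.leaf (nat_lit 459812073359147025)) (.leaf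
    (nat_lit 107295711765664737265274126139394))) (.leaf (nat_lit 41921501328499116539922))))
    (.node (.node (.node (.leaf (nat_lit 0)) (.leaf (nat_lit 2738750551649263504058482753))) (.leaf
    (nat_lit 35727760706350419738686))) (.node (.node (.leaf (nat_lit
    1084578250744530154761224236)) (.leaf (nat_lit 266936499528925186))) (.leaf (nat_lit 0))))))
    (.node (.node (.node (.node (.node (.leaf (nat_lit 0)) (.leaf (nat_lit
    80943307662626319798597585272908))) (.leaf (nat_lit 25392716889518162247726))) (.node (.node
    (.leaf (nat_lit 0)) (.leaf (nat_lit 9553692852199572570114))) (.leaf (nat_lit 0)))) (.node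
    (.node (.node (.leaf (nat_lit 382536197135794196)) (.leaf (nat_lit 0))) (.leaf (nat_lit 0)))
    (.node (.node (.leaf (nat_lit 0)) (.leaf (nat_lit 382732024753378583436853250))) (.leaf
    (nat_lit 0))))) (.node (.node (.node (.node (.leaf (nat_lit 7784758082529468284960)) (.leaf
    (nat_lit 2151630006216024173811335212))) (.leaf (nat_lit 28353509952689092624431))) (.node
    (.node (.leaf (nat_lit 507102068469792771)) (.leaf (nat_lit 314422993601890344193228802)))
    (.leaf (nat_lit 0)))) (.node (.node (.node (.leaf (nat_lit 297394414727331857)) (.leaf (nat_lit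
    26524620224857414762498))) (.leaf (nat_lit 0))) (.node (.node (.leaf (nat_lit 0)) (.leaf
    (nat_lit 263281224661991426))) (.leaf (nat_lit 73793190768252415049805))))))) (.node (.node
    (.node (.node (.node (.node (.leaf (nat_lit 34606354775827753243770924)) (.leaf (nat_lit
    77275139534778217463817))) (.leaf (nat_lit 39532125813972620476456))) (.node (.node (.leaf
    (nat_lit 0)) (.leaf (nat_lit 2939812411538014210))) (.leaf (nat_lit 0)))) (.node (.node (.node
    (.leaf (nat_lit 10846853003539453771805)) (.leaf (nat_lit 86886279108170057187355))) (.leaf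
    (nat_lit 46080893638996234797103))) (.node (.node (.leaf (nat_lit 0)) (.leaf (nat_lit
    3221575357215932418))) (.leaf (nat_lit 46708576943678672797747))))) (.node (.node (.node (.node
    (.leaf (nat_lit 6428787424752381919245)) (.leaf (nat_lit 2508018617463996427))) (.leaf (nat_lit
    856147532265422851))) (.node (.node (.leaf (nat_lit 16325844503199805014034)) (.leaf (nat_lit
    3181916146035162027110170626))) (.leaf (nat_lit 0)))) (.node (.node (.node (.leaf (nat_lit
    16030486608908912885787)) (.leaf (nat_lit 82611927058662849445890))) (.leaf (nat_lit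
    35188238057086325555221))) (.node (.node (.leaf (nat_lit 673461476287184899)) (.leaf (nat_lit
    3349371567942533122))) (.leaf (nat_lit 57749088947139250421797)))))) (.node (.node (.node
    (.node (.node (.leaf (nat_lit 69387588963794960)) (.leaf (nat_lit 0))) (.leaf (nat_lit
    27265084072834818572293))) (.node (.node (.leaf (nat_lit 23077281900292936499221)) (.leaf
    (nat_lit 28355558418271265030146))) (.leaf (nat_lit 65469146896175728845136622583869)))) (.node
    (.node (.node (.leaf (nat_lit 239829483455119371)) (.leaf (nat_lit 80933200862079988465726)))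
    (.leaf (nat_lit 50231614185913485351126338699279))) (.node (.node (.leaf (nat_lit
    32632895608725096824844)) (.leaf (nat_lit 3220733852863561730))) (.leaf (nat_lit
    68263652424382433918997))))) (.node (.node (.node (.node (.leaf (nat_lit 275431446624206927))
    (.leaf (nat_lit 84451771492348417212434))) (.leaf (nat_lit 1427684671499665419))) (.node (.node
    (.leaf (nat_lit 27587610191379747242054)) (.leaf (nat_lit 28932262932276796653570))) (.leaf
    (nat_lit 0)))) (.node (.node (.node (.leaf (nat_lit 18096548406011216724009)) (.leaf (nat_lit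
    39520373979604685357058))) (.leaf (nat_lit 56065977642569840132139))) (.node (.leaf (nat_lit
    23040684959236211540015)) (.leaf (nat_lit 0))))))))) (.node (.node (.node (.node (.node (.node
    (.node (.node (.leaf (nat_lit 0)) (.leaf (nat_lit 1813878755023539468436242465))) (.leaf
    (nat_lit 0))) (.node (.node (.leaf (nat_lit 16459557918476370903098)) (.leaf (nat_lit
    331038345071165392755621890))) (.leaf (nat_lit 57001581466428356362270)))) (.node (.node (.node
    (.leaf (nat_lit 9859935868690133876745)) (.leaf (nat_lit 68282705761041138253848))) (.leaf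
    (nat_lit 32753106126201518489604))) (.node (.node (.leaf (nat_lit 19913794212396582240281))
    (.leaf (nat_lit 1670990870836285902369849346))) (.leaf (nat_lit 47764625596713925804095)))))
    (.node (.node (.node (.node (.leaf (nat_lit 131623924676192850684411969)) (.leaf (nat_lit
    1870054208359759894))) (.leaf (nat_lit 42815702557103329837102))) (.node (.node (.leaf (nat_lit
    0)) (.leaf (nat_lit 2953887715151708162))) (.leaf (nat_lit 56692726297231194521647)))) (.node
    (.node (.node (.leaf (nat_lit 0)) (.leaf (nat_lit 2358140545349582850))) (.leaf (nat_lit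
    33518755925645506838552))) (.node (.node (.leaf (nat_lit 1022629810507218964)) (.leaf (nat_lit
    9249733317293120880642))) (.leaf (nat_lit 71303442279669539471417)))))) (.node (.node (.node
    (.node (.node (.leaf (nat_lit 50245916157935633)) (.leaf (nat_lit 2391765878669705236))) (.leaf
    (nat_lit 0))) (.node (.node (.leaf (nat_lit 13983010611931927216149)) (.leaf (nat_lit
    10586706296991476023298))) (.leaf (nat_lit 43152768294174729633851)))) (.node (.node (.node
    (.leaf (nat_lit 200843824791158806)) (.leaf (nat_lit 0))) (.leaf (nat_lit 0))) (.node (.node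
    (.leaf (nat_lit 29838176303248549543948)) (.leaf (nat_lit 3414978845727805993394634754)))
    (.leaf (nat_lit 68909243007379139919899))))) (.node (.node (.node (.node (.leaf (nat_lit
    118367258568425488)) (.leaf (nat_lit 0))) (.leaf (nat_lit 872192430571651088))) (.node (.node
    (.leaf (nat_lit 805606006393536519)) (.leaf (nat_lit 161790879168006982990036994))) (.leaf
    (nat_lit 1359443207443841046)))) (.node (.node (.node (.leaf (nat_lit 15168111035148551782463))
    (.leaf (nat_lit 39096086497034913382402))) (.leaf (nat_lit 36073706543238378356782))) (.node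
    (.node (.leaf (nat_lit 27675410969744602497049)) (.leaf (nat_lit 654812590848999426))) (.leaf
    (nat_lit 2165990731539009799299792940))))))) (.node (.node (.node (.node (.node (.node (.leaf
    (nat_lit 39593418207852191214206990)) (.leaf (nat_lit 0))) (.leaf (nat_lit 0))) (.node (.node
    (.leaf (nat_lit 625456523740577820)) (.leaf (nat_lit 26427826469236040204290))) (.leaf (nat_lit
    1236433145063145475)))) (.node (.node (.node (.leaf (nat_lit 10925251524831763169306)) (.leaf
    (nat_lit 86554764213503754698804))) (.leaf (nat_lit 0))) (.node (.node (.leaf (nat_lit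
    913977170962022411)) (.leaf (nat_lit 31971425086696411299842))) (.leaf (nat_lit
    1563942813954732236894109740))))) (.node (.node (.node (.node (.leaf (nat_lit
    3080699293712058089476)) (.leaf (nat_lit 0))) (.leaf (nat_lit 0))) (.node (.node (.leaf
    (nat_lit 15514183963786701111365)) (.leaf (nat_lit 58525235916700731506690))) (.leaf (nat_lit
    0)))) (.node (.node (.node (.leaf (nat_lit 16970034465685560707706802995261)) (.leaf (nat_lit
    91364736263694353367156))) (.leaf (nat_lit 1635560006294306895))) (.node (.node (.leaf (nat_lit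
    0)) (.leaf (nat_lit 625677809045602306))) (.leaf (nat_lit 72441901742759180697625)))))) (.node
    (.node (.node (.node (.node (.leaf (nat_lit 2102991456308943847445)) (.leaf (nat_lit
    1825580062527848465))) (.leaf (nat_lit 26001477459156540784687))) (.node (.node (.leaf (nat_lit
    0)) (.leaf (nat_lit 3131447256256605294055129090))) (.leaf (nat_lit 0)))) (.node (.node (.node
    (.leaf (nat_lit 6908513537368587960367)) (.leaf (nat_lit 72092591734022071320578))) (.leaf
    (nat_lit 0))) (.node (.node (.leaf (nat_lit 0)) (.leaf (nat_lit 3428879827871319177629532162)))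
    (.leaf (nat_lit 48156693502456206917656))))) (.node (.node (.node (.node (.leaf (nat_lit
    8633204305740846792713)) (.leaf (nat_lit 84257484937528560779293))) (.leaf (nat_lit
    1419366028516917327))) (.node (.node (.leaf (nat_lit 0)) (.leaf (nat_lit 3135441025045233666)))
    (.leaf (nat_lit 65321264024501316943918)))) (.node (.node (.node (.leaf (nat_lit
    18013535805587652280360)) (.leaf (nat_lit 18283556481648069640194))) (.leaf (nat_lit
    1706353411068395527))) (.node (.leaf (nat_lit 0)) (.leaf (nat_lit 0)))))))) (.node (.node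
    (.node (.node (.node (.node (.node (.leaf (nat_lit 581086935240929378350)) (.leaf (nat_lit 0)))
    (.leaf (nat_lit 0))) (.node (.node (.leaf (nat_lit 17570854622593435238425)) (.leaf (nat_lit
    45326508623434814259202))) (.leaf (nat_lit 57315211582061060227111)))) (.node (.node (.node
    (.leaf (nat_lit 0)) (.leaf (nat_lit 0))) (.leaf (nat_lit 47897888359299963617347))) (.node
    (.node (.leaf (nat_lit 29257080219396567400454)) (.leaf (nat_lit
    112506283149638185147406016118786))) (.leaf (nat_lit 2049885635799547954))))) (.node (.node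
    (.node (.node (.leaf (nat_lit 174801342131470347)) (.leaf (nat_lit 0))) (.leaf (nat_lit
    26933065761821936517174))) (.node (.node (.leaf (nat_lit 511040793998393366)) (.leaf (nat_lit
    579477876026560521259188226))) (.leaf (nat_lit 1905362275506716679)))) (.node (.node (.node
    (.leaf (nat_lit 0)) (.leaf (nat_lit 53129389337168587194370))) (.leaf (nat_lit
    1045025213097574422))) (.node (.node (.leaf (nat_lit 0)) (.leaf (nat_lit 399652286055448578)))
    (.leaf (nat_lit 71787025720569109872648)))))) (.node (.node (.node (.node (.node (.leaf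
    (nat_lit 102457971288277159185219619)) (.leaf (nat_lit 0))) (.leaf (nat_lit
    40887984304246365552646))) (.node (.node (.leaf (nat_lit 0)) (.leaf (nat_lit
    2954451111781728258))) (.leaf (nat_lit 0)))) (.node (.node (.node (.leaf (nat_lit
    392524212302118962)) (.leaf (nat_lit 2177150554776666128))) (.leaf (nat_lit
    32042970939890736496648))) (.node (.node (.leaf (nat_lit 967740532191264775)) (.leaf (nat_lit
    3516242731565215309598294018))) (.leaf (nat_lit 73990734726713625644902662864927))))) (.node
    (.node (.node (.node (.leaf (nat_lit 247987030804529159)) (.leaf (nat_lit 0))) (.leaf (nat_lit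
    45361413759169789624350))) (.node (.node (.leaf (nat_lit 0)) (.leaf (nat_lit
    3114048531678232578))) (.leaf (nat_lit 0)))) (.node (.node (.node (.leaf (nat_lit
    535100298847453204)) (.leaf (nat_lit 23494748759532899598338))) (.leaf (nat_lit
    54907849835223040852005))) (.node (.node (.leaf (nat_lit 0)) (.leaf (nat_lit
    198964613390401538))) (.leaf (nat_lit 0))))))) (.node (.node (.node (.node (.node (.node (.leaf
    (nat_lit 0)) (.leaf (nat_lit
    4793518953514551643315479286082398426649567079050711225708243095251674938674268045309688281137098323245006943)))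
    (.leaf (nat_lit 1220231282882117652))) (.node (.node (.leaf (nat_lit 11594127698955639914519))
    (.leaf (nat_lit 74795197920012151226370))) (.leaf (nat_lit 0)))) (.node (.node (.node (.leaf
    (nat_lit 0)) (.leaf (nat_lit 2844671672468260838686588963))) (.leaf (nat_lit
    49392089830018691301417))) (.node (.node (.leaf (nat_lit 18465747885233509957664)) (.leaf
    (nat_lit 2411772308780875778))) (.leaf (nat_lit 0))))) (.node (.node (.node (.node (.leaf
    (nat_lit 6806949900662956294185)) (.leaf (nat_lit 63449509769988878303302))) (.leaf (nat_lit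
    27357354105957853102138))) (.node (.node (.leaf (nat_lit 525397117322264593)) (.leaf (nat_lit
    108199183286732463093519512567810))) (.leaf (nat_lit 42723962422373667504197)))) (.node (.node
    (.node (.leaf (nat_lit 441113740063530741867479073)) (.leaf (nat_lit 63159846126683139801090)))
    (.leaf (nat_lit 35741643898001108959286))) (.node (.node (.leaf (nat_lit
    22293566630316413747208)) (.leaf (nat_lit 3239173947056586754))) (.leaf (nat_lit 0)))))) (.node
    (.node (.node (.node (.node (.leaf (nat_lit 3337535157344886243304050851871)) (.leaf (nat_lit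
    1821921437586423824))) (.leaf (nat_lit 1293276204002050116))) (.node (.node (.leaf (nat_lit
    716791356932096064)) (.leaf (nat_lit 3245388385540807966972968962))) (.leaf (nat_lit
    60635707990812670492727)))) (.node (.node (.node (.leaf (nat_lit 376626597014405131)) (.leaf
    (nat_lit 59415081071138402664450))) (.leaf (nat_lit 50875353131021841020081385308209))) (.node
    (.node (.leaf (nat_lit 0)) (.leaf (nat_lit 3306583703580442626))) (.leaf (nat_lit 0))))) (.node
    (.node (.node (.node (.leaf (nat_lit 5128336161592513331238)) (.leaf (nat_lit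
    2040913367513825297))) (.leaf (nat_lit 47067765453110129131532))) (.node (.node (.leaf (nat_lit
    20255051095919695167557)) (.leaf (nat_lit 1048393353701493380609212418))) (.leaf (nat_lit
    55351849649004328553359685779471)))) (.node (.node (.node (.leaf (nat_lit
    487816316836344994914893838)) (.leaf (nat_lit 15285969869721867321346))) (.leaf (nat_lit
    37171321875736956174361))) (.node (.leaf (nat_lit 36774292818516190101545)) (.leaf (nat_lit
    2301128187389804572))))))))))) (.node (.node (.node (.node (.node (.node (.node (.node (.node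
    (.node (.leaf (nat_lit 1688909989937159)) (.leaf (nat_lit 72317523723742701879355))) (.leaf
    (nat_lit 1184029407821816767879315509))) (.node (.node (.leaf (nat_lit 314565968854646801))
    (.leaf (nat_lit 16886228835238014025730))) (.leaf (nat_lit 0)))) (.node (.node (.node (.leaf
    (nat_lit 290491062252863499)) (.leaf (nat_lit 69979787215926481584197))) (.leaf (nat_lit 0)))
    (.node (.node (.leaf (nat_lit 28316281071095284695069)) (.leaf (nat_lit
    687377973903417207354032130))) (.leaf (nat_lit 1403918109189996560))))) (.node (.node (.node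
    (.node (.leaf (nat_lit 4810105192531802390551)) (.leaf (nat_lit
    67617690211538604719132608102449))) (.leaf (nat_lit 26434988612018581471279))) (.node (.node
    (.leaf (nat_lit 0)) (.leaf (nat_lit 1513372094087980109395132418))) (.leaf (nat_lit
    1874962084668768263)))) (.node (.node (.node (.leaf (nat_lit 238844802072969238)) (.leaf
    (nat_lit 78032462458027669389314))) (.leaf (nat_lit 1014343547282915344))) (.node (.node (.leaf
    (nat_lit 0)) (.leaf (nat_lit 450886831553984961391624194))) (.leaf (nat_lit 0)))))) (.node
    (.node (.node (.node (.node (.leaf (nat_lit 37579198608572433)) (.leaf (nat_lit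
    75177474429157216813156))) (.leaf (nat_lit 0))) (.node (.node (.leaf (nat_lit 0)) (.leaf
    (nat_lit 5679861957045365440514))) (.leaf (nat_lit 58809437259851123326999)))) (.node (.node
    (.node (.leaf (nat_lit 361987905360625675)) (.leaf (nat_lit 2130424815289499651))) (.leaf
    (nat_lit 961142577661345808))) (.node (.node (.leaf (nat_lit 0)) (.leaf (nat_lit
    20589677205744930455554))) (.leaf (nat_lit 68475740017686560833561))))) (.node (.node (.node
    (.node (.leaf (nat_lit 7125165384060167716869)) (.leaf (nat_lit 82643349512164615585804)))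
    (.leaf (nat_lit 44789530352027101757470))) (.node (.node (.leaf (nat_lit 0)) (.leaf (nat_lit
    3330045456310161331477282818))) (.leaf (nat_lit 1358035488962904086)))) (.node (.node (.node
    (.leaf (nat_lit 9002281620906237427763)) (.leaf (nat_lit 78622830754699753488386))) (.leaf
    (nat_lit 54289856323321289965594))) (.node (.node (.leaf (nat_lit
    1144874615856854944929022005)) (.leaf (nat_lit 2255561504957005826))) (.leaf (nat_lit
    68065447037137081008187))))))) (.node (.node (.node (.node (.node (.node (.leaf (nat_lit
    1297379446501547922248519974961)) (.leaf (nat_lit 75495491898120947826696))) (.leaf (nat_lit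
    0))) (.node (.node (.leaf (nat_lit 660538014508497666155216929)) (.leaf (nat_lit
    41185217662325646098434))) (.leaf (nat_lit 1767716820007124999)))) (.node (.node (.node (.leaf
    (nat_lit 5432728550746234224691)) (.leaf (nat_lit 85668778517554442469417))) (.leaf (nat_lit
    0))) (.node (.node (.leaf (nat_lit 18032238984008074199079)) (.leaf (nat_lit
    100141198614864932831234))) (.leaf (nat_lit 0))))) (.node (.node (.node (.node (.leaf (nat_lit
    90499792765059075)) (.leaf (nat_lit 0))) (.leaf (nat_lit 26914620566083937173525))) (.node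
    (.node (.leaf (nat_lit 24746771350280718188584)) (.leaf (nat_lit 20917052685152677986306)))
    (.leaf (nat_lit 1392573142447296067997532204)))) (.node (.node (.node (.leaf (nat_lit
    471340418416640079)) (.leaf (nat_lit 74573739878725913346050))) (.leaf (nat_lit
    53155341029291994578948))) (.node (.node (.leaf (nat_lit 1046837414418579484)) (.leaf (nat_lit
    3256201271887134722))) (.leaf (nat_lit 0)))))) (.node (.node (.node (.node (.node (.leaf
    (nat_lit 100041544695352884864483372)) (.leaf (nat_lit 58265818604292351918149))) (.leaf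
    (nat_lit 1180403887937552412))) (.node (.node (.leaf (nat_lit 13263610111811305799732)) (.leaf
    (nat_lit 17896244921774274445314))) (.leaf (nat_lit 60183746434564784062519)))) (.node (.node
    (.node (.leaf (nat_lit 0)) (.leaf (nat_lit 2844688833068865498806222892))) (.leaf (nat_lit
    1647948741852560793333399585))) (.node (.node (.leaf (nat_lit 0)) (.leaf (nat_lit
    3271964016611819522))) (.leaf (nat_lit 0))))) (.node (.node (.node (.node (.leaf (nat_lit
    6754298175230820855666587271210)) (.leaf (nat_lit 2511820058657947650))) (.leaf (nat_lit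
    28860810614845884006446))) (.node (.node (.leaf (nat_lit 806520543607671402797465614)) (.leaf
    (nat_lit 20571252535174602358786))) (.leaf (nat_lit 64979995881094372327430)))) (.node (.node
    (.node (.leaf (nat_lit 0)) (.leaf (nat_lit 23476307356538785431554))) (.leaf (nat_lit
    55341353669194521182248))) (.node (.node (.leaf (nat_lit 1118334248936407047)) (.leaf (nat_lit
    1628013551186739202))) (.leaf (nat_lit 0)))))))) (.node (.node (.node (.node (.node (.node
    (.node (.leaf (nat_lit 687157120472707170327)) (.leaf (nat_lit 57089746906002181259322)))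
    (.leaf (nat_lit 0))) (.node (.node (.leaf (nat_lit 10616422817804285313045)) (.leaf (nat_lit
    15087679740860503883778))) (.leaf (nat_lit 0)))) (.node (.node (.node (.leaf (nat_lit 0))
    (.leaf (nat_lit 0))) (.leaf (nat_lit 0))) (.node (.node (.leaf (nat_lit
    19973750634459103952950)) (.leaf (nat_lit 67702586251627261526018))) (.leaf (nat_lit 0)))))
    (.node (.node (.node (.node (.leaf (nat_lit 163823465852436500)) (.leaf (nat_lit
    80872386362653316153370))) (.leaf (nat_lit 829687716223516694))) (.node (.node (.leaf (nat_lit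
    0)) (.leaf (nat_lit 3031014607549497346))) (.leaf (nat_lit 1893258499320840212)))) (.node
    (.node (.node (.leaf (nat_lit 14766871409367672094729)) (.leaf (nat_lit
    83617238429544806023241))) (.leaf (nat_lit 1042491594709794838))) (.node (.node (.leaf (nat_lit
    33693612104433222746138)) (.leaf (nat_lit 255343311136782871416799234))) (.leaf (nat_lit
    55955096922915174809604)))))) (.node (.node (.node (.node (.node (.leaf (nat_lit 0)) (.leaf
    (nat_lit 73074042614021827526707))) (.leaf (nat_lit 0))) (.node (.node (.leaf (nat_lit 0))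
    (.leaf (nat_lit 30998032254514403409922))) (.leaf (nat_lit 59685665485201430741019)))) (.node
    (.node (.node (.leaf (nat_lit 12221340774074297811014)) (.leaf (nat_lit 0))) (.leaf (nat_lit
    0))) (.node (.node (.leaf (nat_lit 957044148068810780)) (.leaf (nat_lit 3259294223865872386)))
    (.leaf (nat_lit 1449519804196192273))))) (.node (.node (.node (.node (.leaf (nat_lit
    7770924149944596234296)) (.leaf (nat_lit 0))) (.leaf (nat_lit 0))) (.node (.node (.leaf
    (nat_lit 26397779153357807747112)) (.leaf (nat_lit 3309801708836472246008807426))) (.leaf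
    (nat_lit 1362258163369377814)))) (.node (.node (.node (.leaf (nat_lit
    331405695745534361237454892)) (.leaf (nat_lit 38229096561976830787586))) (.leaf (nat_lit
    1146639535115993104))) (.node (.node (.leaf (nat_lit 35851935347189280342035)) (.leaf (nat_lit
    316902130415960066))) (.leaf (nat_lit 72478851245732635279414))))))) (.node (.node (.node
    (.node (.node (.node (.leaf (nat_lit 1397369716499483394107)) (.leaf (nat_lit 0))) (.leaf
    (nat_lit 854424344763412579508027436))) (.node (.node (.leaf (nat_lit 0)) (.leaf (nat_lit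
    26676860487765827190786))) (.leaf (nat_lit 0)))) (.node (.node (.node (.leaf (nat_lit 0))
    (.leaf (nat_lit 2115224616791310339))) (.leaf (nat_lit 1543240757134354337627373582))) (.node
    (.node (.leaf (nat_lit 30096413830905707298842)) (.leaf (nat_lit 98172045037273214025730)))
    (.leaf (nat_lit 49092817348499517669436))))) (.node (.node (.node (.node (.leaf (nat_lit
    96411317031796752)) (.leaf (nat_lit 2145754376919730315908612161))) (.leaf (nat_lit
    44319128244515770662939))) (.node (.node (.leaf (nat_lit 25392417807993036537862)) (.leaf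
    (nat_lit 15369085498035676577794))) (.leaf (nat_lit 1378019662553546768)))) (.node (.node
    (.node (.leaf (nat_lit 0)) (.leaf (nat_lit 82741052015391887523842))) (.leaf (nat_lit
    53782552001921081868307))) (.node (.node (.leaf (nat_lit 34874236518093522403337)) (.leaf
    (nat_lit 109706065395294792777730))) (.leaf (nat_lit 53658517678497005240383)))))) (.node
    (.node (.node (.node (.node (.leaf (nat_lit 129059205989662788)) (.leaf (nat_lit
    1826424693616410646))) (.leaf (nat_lit 0))) (.node (.node (.leaf (nat_lit 412804584017362966))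
    (.leaf (nat_lit 33359236905656821940226))) (.leaf (nat_lit 0)))) (.node (.node (.node (.leaf
    (nat_lit 246725551665053760)) (.leaf (nat_lit 89430887041862099393514398089247))) (.leaf
    (nat_lit 32753192401795163553840))) (.node (.node (.leaf (nat_lit 601683089483235344)) (.leaf
    (nat_lit 3529821840986968131719397378))) (.leaf (nat_lit 70182111696908592545822))))) (.node
    (.node (.node (.node (.leaf (nat_lit 8587089416061798514694)) (.leaf (nat_lit
    2578670966922149916))) (.leaf (nat_lit 0))) (.node (.node (.leaf (nat_lit
    27841559305289768042567)) (.leaf (nat_lit 3061413432587845634))) (.leaf (nat_lit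
    44393437939624979922987)))) (.node (.node (.node (.leaf (nat_lit 17921303492791556571155))
    (.leaf (nat_lit 18255888598048620871682))) (.leaf (nat_lit 1806473761010780188667281461)))
    (.node (.leaf (nat_lit 1175853985643745732211245121)) (.leaf (nat_lit
    2290150319700705287))))))))) (.node (.node (.node (.node (.node (.node (.node (.node (.leaf
    (nat_lit 378165994429387833373)) (.leaf (nat_lit 56250450168213206663238))) (.leaf (nat_lit
    737077775961292816))) (.node (.node (.leaf (nat_lit 0)) (.leaf (nat_lit
    327562600328158210171338754))) (.leaf (nat_lit 0)))) (.node (.node (.node (.leaf (nat_lit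
    4934651682477985431599)) (.leaf (nat_lit 85382836813622321283099))) (.leaf (nat_lit
    949881654447570947))) (.node (.node (.leaf (nat_lit 19876900724197623529493)) (.leaf (nat_lit
    1664341206935428038343786498))) (.leaf (nat_lit 0))))) (.node (.node (.node (.node (.leaf
    (nat_lit 2591844811991828070404)) (.leaf (nat_lit 1867520864849887254))) (.leaf (nat_lit
    26573344259404451741744))) (.node (.node (.leaf (nat_lit 14637937019731967148090)) (.leaf
    (nat_lit 60411399196607556812802))) (.leaf (nat_lit 0)))) (.node (.node (.node (.leaf (nat_lit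
    247852276205617155)) (.leaf (nat_lit 79457483286635792760834))) (.leaf (nat_lit
    1037424770251096086))) (.node (.node (.leaf (nat_lit 0)) (.leaf (nat_lit 3307147787405230082)))
    (.leaf (nat_lit 70661744213631843893267)))))) (.node (.node (.node (.node (.node (.leaf
    (nat_lit 84022685729947716)) (.leaf (nat_lit 78234396123064885772311))) (.leaf (nat_lit 0)))
    (.node (.node (.leaf (nat_lit 395070286095056913)) (.leaf (nat_lit 8746642724247581163522)))
    (.leaf (nat_lit 59362843804461938442267)))) (.node (.node (.node (.leaf (nat_lit 0)) (.leaf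
    (nat_lit 0))) (.leaf (nat_lit 0))) (.node (.node (.leaf (nat_lit 29976525476366358085644))
    (.leaf (nat_lit 6376604227973257822210))) (.leaf (nat_lit 2100711887938387988))))) (.node
    (.node (.node (.node (.leaf (nat_lit 6382685202014221303847)) (.leaf (nat_lit 0))) (.leaf
    (nat_lit 28298166201687157702688))) (.node (.node (.leaf (nat_lit 16039931792770832990251))
    (.leaf (nat_lit 574643888086731672787353602))) (.leaf (nat_lit 0)))) (.node (.node (.node
    (.leaf (nat_lit 16380983754264563351579)) (.leaf (nat_lit 36559657204158262607874))) (.leaf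
    (nat_lit 1668634604547997707))) (.node (.node (.leaf (nat_lit 33846193921003782078523)) (.leaf
    (nat_lit 658753163213537282))) (.leaf (nat_lit 0))))))) (.node (.node (.node (.node (.node
    (.node (.leaf (nat_lit 1572628702875273592888)) (.leaf (nat_lit 0))) (.leaf (nat_lit
    27131303095248785440800))) (.node (.node (.leaf (nat_lit 11114500249005307658283)) (.leaf
    (nat_lit 90096762987342104559618))) (.leaf (nat_lit 1776724294139772939)))) (.node (.node
    (.node (.leaf (nat_lit 166502709401354257)) (.leaf (nat_lit 0))) (.leaf (nat_lit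
    47889208938136638521414))) (.node (.node (.leaf (nat_lit 0)) (.leaf (nat_lit
    9309455677768452997122))) (.leaf (nat_lit 1686972276616798900106559523))))) (.node (.node
    (.node (.node (.leaf (nat_lit 113581015733239836)) (.leaf (nat_lit 0))) (.leaf (nat_lit 0)))
    (.node (.node (.leaf (nat_lit 24553087293189676793874)) (.leaf (nat_lit
    686013587744058289428889602))) (.leaf (nat_lit 1406173926861286670353039404)))) (.node (.node
    (.node (.leaf (nat_lit 478522110541692948)) (.leaf (nat_lit 92402092295864911533361819090959)))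
    (.leaf (nat_lit 0))) (.node (.node (.leaf (nat_lit 1056126354938003463)) (.leaf (nat_lit
    7916915813956538531842))) (.leaf (nat_lit 2349770745757166497440202787)))))) (.node (.node
    (.node (.node (.node (.leaf (nat_lit 3919995466025638494220)) (.leaf (nat_lit
    64146415822028594752028234022954))) (.leaf (nat_lit 0))) (.node (.node (.leaf (nat_lit
    22680673806139839938581)) (.leaf (nat_lit 45557144434341346213890))) (.leaf (nat_lit
    41155934426399296913462)))) (.node (.node (.node (.leaf (nat_lit 9961449822262057435140))
    (.leaf (nat_lit 88939078215836211806301))) (.leaf (nat_lit 0))) (.node (.node (.leaf (nat_lit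
    26231857822609650679831)) (.leaf (nat_lit 3280123930488209410))) (.leaf (nat_lit 0))))) (.node
    (.node (.node (.node (.leaf (nat_lit 0)) (.leaf (nat_lit 0))) (.leaf (nat_lit 0))) (.node
    (.node (.leaf (nat_lit 0)) (.leaf (nat_lit 8465432623951095463938))) (.leaf (nat_lit
    65044562300377000771624)))) (.node (.node (.node (.leaf (nat_lit 551144862146232348)) (.leaf
    (nat_lit 28230962924844178669570))) (.leaf (nat_lit 0))) (.node (.node (.leaf (nat_lit
    1174645391862990880140165134)) (.leaf (nat_lit 3423262438705987586))) (.leaf (nat_lit 0))))))))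
    (.node (.node (.node (.node (.node (.node (.node (.leaf (nat_lit 0)) (.leaf (nat_lit 0)))
    (.leaf (nat_lit 0))) (.node (.node (.leaf (nat_lit 0)) (.leaf (nat_lit
    17568769901564524691458))) (.leaf (nat_lit 0)))) (.node (.node (.node (.leaf (nat_lit
    316669051130740743)) (.leaf (nat_lit 2792233398988140760252284993))) (.leaf (nat_lit
    48063908774402473525257))) (.node (.node (.leaf (nat_lit 22248878122007359942151872249898))
    (.leaf (nat_lit 52184423526078525669378))) (.leaf (nat_lit
    50855546552484612846365608050703))))) (.node (.node (.node (.node (.leaf (nat_lit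
    3996168220266147534053860245535)) (.leaf (nat_lit 69068570446065250135683939762207))) (.leaf
    (nat_lit 26905395645659832582202))) (.node (.node (.leaf (nat_lit 749309293064486932)) (.leaf
    (nat_lit 99025137437190645809154))) (.leaf (nat_lit 41847715056097878540312)))) (.node (.node
    (.node (.leaf (nat_lit 461070120819752971)) (.leaf (nat_lit 52230108875172062887938))) (.leaf
    (nat_lit 0))) (.node (.node (.leaf (nat_lit 31853552901792781762564)) (.leaf (nat_lit
    3291103782452199426))) (.leaf (nat_lit 54451696288364799131696)))))) (.node (.node (.node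
    (.node (.node (.leaf (nat_lit 2684053901650646204439)) (.leaf (nat_lit 2407936043992088655)))
    (.leaf (nat_lit 0))) (.node (.node (.leaf (nat_lit 22150315698984610627624)) (.leaf (nat_lit
    39949322989566072913922))) (.leaf (nat_lit 59058483223844601659447)))) (.node (.node (.node
    (.leaf (nat_lit 6631806323966829854728)) (.leaf (nat_lit 0))) (.leaf (nat_lit
    34072106314005603352614))) (.node (.node (.leaf (nat_lit 632363037310976066)) (.leaf (nat_lit
    3267461215848366082))) (.leaf (nat_lit 0))))) (.node (.node (.node (.node (.leaf (nat_lit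
    7996783893991762624542)) (.leaf (nat_lit 86737019791204517192249649725471))) (.leaf (nat_lit
    28445746769488542629936))) (.node (.node (.leaf (nat_lit 0)) (.leaf (nat_lit
    20216146518803694682114))) (.leaf (nat_lit 0)))) (.node (.node (.node (.leaf (nat_lit
    9454242332643294380090)) (.leaf (nat_lit 27921962793508570071042))) (.leaf (nat_lit
    55129207667831272046647))) (.node (.node (.leaf (nat_lit 0)) (.leaf (nat_lit
    428225861662146562))) (.leaf (nat_lit 1776872944584322047812042817))))))) (.node (.node (.node
    (.node (.node (.node (.leaf (nat_lit 2116797239231481315382)) (.leaf (nat_lit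
    1747891250968788995))) (.leaf (nat_lit 0))) (.node (.node (.leaf (nat_lit
    14756479956997394330988459655217)) (.leaf (nat_lit 2880421114142654466))) (.leaf (nat_lit 0))))
    (.node (.node (.node (.leaf (nat_lit 353261897614753812)) (.leaf (nat_lit
    87168136748904665514040))) (.leaf (nat_lit 0))) (.node (.node (.leaf (nat_lit
    30151756878160070901815)) (.leaf (nat_lit 2361108221722230786))) (.leaf (nat_lit 0))))) (.node
    (.node (.node (.node (.leaf (nat_lit 4159840718642032607237)) (.leaf (nat_lit 0))) (.leaf
    (nat_lit 0))) (.node (.node (.leaf (nat_lit 0)) (.leaf (nat_lit 895764237137536160459128834)))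
    (.leaf (nat_lit 0)))) (.node (.node (.node (.leaf (nat_lit 8790139982396537372693)) (.leaf
    (nat_lit 2680008821895725058))) (.leaf (nat_lit 1079929141001846787))) (.node (.node (.leaf
    (nat_lit 22247448644163513548851)) (.leaf (nat_lit 646648596753678338))) (.leaf (nat_lit
    2226816525795459100)))))) (.node (.node (.node (.node (.node (.leaf (nat_lit
    138066379474599981)) (.leaf (nat_lit 0))) (.leaf (nat_lit 1184626837221933084))) (.node (.node
    (.leaf (nat_lit 533454839071623692324962369)) (.leaf (nat_lit 18615681172919199924226))) (.leaf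
    (nat_lit 48177076497330776086450557747249)))) (.node (.node (.node (.leaf (nat_lit
    378702072976592617479602229)) (.leaf (nat_lit 56163841307109090328578))) (.leaf (nat_lit
    1016032122265272336))) (.node (.node (.leaf (nat_lit 0)) (.leaf (nat_lit
    8207497650914302558210))) (.leaf (nat_lit 68079188220813729005637))))) (.node (.node (.node
    (.node (.leaf (nat_lit 282184350689263661)) (.leaf (nat_lit 91015496366782540462626112340010)))
    (.leaf (nat_lit 1433314368602374151))) (.node (.node (.leaf (nat_lit 26674498893212073263113))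
    (.leaf (nat_lit 3163871054254964738))) (.leaf (nat_lit 1402228984451825680)))) (.node (.node
    (.node (.leaf (nat_lit 309217669419237398)) (.leaf (nat_lit 9180096170972709847042))) (.leaf
    (nat_lit 1803017856324522328333746211))) (.node (.leaf (nat_lit 1145919629877706780)) (.leaf
    (nat_lit 0)))))))))) (.node (.node (.node (.node (.node (.node (.node (.node (.node (.leaf
    (nat_lit 6474130622906388)) (.leaf (nat_lit 2313354383028518978))) (.leaf (nat_lit
    38001016921631270043678))) (.node (.node (.leaf (nat_lit 312032831503204355)) (.leaf (nat_lit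
    15073838494126715371522))) (.leaf (nat_lit 56914531809729685159992)))) (.node (.node (.node
    (.leaf (nat_lit 170160647148011536)) (.leaf (nat_lit 70431745675176530083894))) (.leaf (nat_lit
    46929421628291755999271))) (.node (.node (.leaf (nat_lit 0)) (.leaf (nat_lit
    31971382565437849141250))) (.leaf (nat_lit 0))))) (.node (.node (.node (.node (.leaf (nat_lit
    2610291133698453733415)) (.leaf (nat_lit 0))) (.leaf (nat_lit 0))) (.node (.node (.leaf
    (nat_lit 0)) (.leaf (nat_lit 25510233139499740889090))) (.leaf (nat_lit 0)))) (.node (.node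
    (.node (.leaf (nat_lit 0)) (.leaf (nat_lit 2326333546563764226))) (.leaf (nat_lit
    1041083807509381142))) (.node (.node (.leaf (nat_lit 944804268933628776189001772)) (.leaf
    (nat_lit 76580239346903780884482))) (.leaf (nat_lit 1508068386058403862)))))) (.node (.node
    (.node (.node (.node (.leaf (nat_lit 0)) (.leaf (nat_lit 2066549868426938147550789665))) (.leaf
    (nat_lit 40067086740770410135607))) (.node (.node (.leaf (nat_lit 0)) (.leaf (nat_lit
    15272171407515251310594))) (.leaf (nat_lit 0)))) (.node (.node (.node (.leaf (nat_lit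
    12041358073252074946599)) (.leaf (nat_lit 0))) (.leaf (nat_lit 965364839750959120))) (.node
    (.node (.leaf (nat_lit 29215595031405766312010)) (.leaf (nat_lit 216353100030806261915451394)))
    (.leaf (nat_lit 0))))) (.node (.node (.node (.node (.leaf (nat_lit 0)) (.leaf (nat_lit 0)))
    (.leaf (nat_lit 1280291537349657100682526753))) (.node (.node (.leaf (nat_lit
    24055040403810333950021)) (.leaf (nat_lit 178720525325923913834954754))) (.leaf (nat_lit
    1952651514703118356)))) (.node (.node (.node (.leaf (nat_lit 0)) (.leaf (nat_lit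
    1250877195638583153681235970))) (.leaf (nat_lit 1105825251176087568))) (.node (.node (.leaf
    (nat_lit 35547556469744974626857)) (.leaf (nat_lit 718707118504542210))) (.leaf (nat_lit
    0))))))) (.node (.node (.node (.node (.node (.node (.leaf (nat_lit 42615248520427237166809141))
    (.leaf (nat_lit 1738038939589148689))) (.leaf (nat_lit 38628230568813801963532))) (.node (.node
    (.leaf (nat_lit 0)) (.leaf (nat_lit 2922360945802084354))) (.leaf (nat_lit
    43360269112425364783152)))) (.node (.node (.node (.leaf (nat_lit 316597590418908854880567331))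
    (.leaf (nat_lit 0))) (.leaf (nat_lit 0))) (.node (.node (.leaf (nat_lit 561711031450206224))
    (.leaf (nat_lit 3190333876773978114))) (.leaf (nat_lit 2169031225820447862126018595))))) (.node
    (.node (.node (.node (.leaf (nat_lit 3163704997500476915717)) (.leaf (nat_lit
    2492818487685283851))) (.leaf (nat_lit 0))) (.node (.node (.leaf (nat_lit
    24663764098294028107795)) (.leaf (nat_lit 20220701311486295998466))) (.leaf (nat_lit
    62757104108397087883293)))) (.node (.node (.node (.leaf (nat_lit 8725573140480537067571))
    (.leaf (nat_lit 74744376777853601251399))) (.leaf (nat_lit 34616370975913193701422))) (.node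
    (.node (.leaf (nat_lit 34422273554951788757047)) (.leaf (nat_lit 3357816384179535874))) (.leaf
    (nat_lit 54756074039926377873447)))))) (.node (.node (.node (.node (.node (.leaf (nat_lit
    3740138022302491279407)) (.leaf (nat_lit 1834727793112514571))) (.leaf (nat_lit
    31286467243556636655648))) (.node (.node (.leaf (nat_lit 0)) (.leaf (nat_lit
    17993096241970438930434))) (.leaf (nat_lit 0)))) (.node (.node (.node (.leaf (nat_lit
    402803005344317460)) (.leaf (nat_lit 2709685963579326509))) (.leaf (nat_lit
    32292009022095240659014))) (.node (.node (.leaf (nat_lit 0)) (.leaf (nat_lit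
    21207817766430564352002))) (.leaf (nat_lit 66022361619209130278964))))) (.node (.node (.node
    (.node (.leaf (nat_lit 0)) (.leaf (nat_lit 64620915597021934714926))) (.leaf (nat_lit
    884015272946696214))) (.node (.node (.leaf (nat_lit 0)) (.leaf (nat_lit
    947598536784837068892405762))) (.leaf (nat_lit 0)))) (.node (.node (.node (.leaf (nat_lit
    17810620213187215294489)) (.leaf (nat_lit 10471357283620513579010))) (.leaf (nat_lit
    54548147614812123365414))) (.node (.node (.leaf (nat_lit 36479134779481761447975)) (.leaf
    (nat_lit 3390610319205335042))) (.leaf (nat_lit 74411190613066264019004)))))))) (.node (.node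
    (.node (.node (.node (.node (.node (.leaf (nat_lit 24207616796393479)) (.leaf (nat_lit
    1823852568287591977290301473))) (.leaf (nat_lit 41452053206858333960828390539340))) (.node
    (.node (.leaf (nat_lit 327795979954814998)) (.leaf (nat_lit 436364725027104959628574722)))
    (.leaf (nat_lit 1190270492968353808)))) (.node (.node (.node (.leaf (nat_lit
    5432723483792926507016)) (.leaf (nat_lit 68587086186537686335531))) (.leaf (nat_lit 0))) (.node
    (.node (.leaf (nat_lit 890184186013548612)) (.leaf (nat_lit 3195115206166577154))) (.leaf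
    (nat_lit 53099282047851846504490436198415))))) (.node (.node (.node (.node (.leaf (nat_lit
    167764261555273756)) (.leaf (nat_lit 61872266707001294389300))) (.leaf (nat_lit
    27034520602221366935606))) (.node (.node (.leaf (nat_lit 0)) (.leaf (nat_lit
    3051843145940729858))) (.leaf (nat_lit 0)))) (.node (.node (.node (.leaf (nat_lit
    14711533147565869694982)) (.leaf (nat_lit 53166279164818459131906))) (.leaf (nat_lit 0)))
    (.node (.node (.leaf (nat_lit 33717065162580146978855)) (.leaf (nat_lit
    258516963091562695540080642))) (.leaf (nat_lit 1530586933951070211)))))) (.node (.node (.node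
    (.node (.node (.leaf (nat_lit 0)) (.leaf (nat_lit 80873981811528190412128226967654))) (.leaf
    (nat_lit 25392717171053268500527))) (.node (.node (.leaf (nat_lit 21910788656449317961786))
    (.leaf (nat_lit 225410868233462449514479618))) (.leaf (nat_lit 0)))) (.node (.node (.node
    (.leaf (nat_lit 12640830813294385364998)) (.leaf (nat_lit 0))) (.leaf (nat_lit
    972683738901250070))) (.node (.node (.leaf (nat_lit 27449326886696433942553)) (.leaf (nat_lit
    34041983742556518940674))) (.leaf (nat_lit 0))))) (.node (.node (.node (.node (.leaf (nat_lit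
    120619401979494417)) (.leaf (nat_lit 2003194414964539456))) (.leaf (nat_lit
    45665780814055188135948))) (.node (.node (.leaf (nat_lit 0)) (.leaf (nat_lit
    3114614986324967426))) (.leaf (nat_lit 0)))) (.node (.node (.node (.leaf (nat_lit
    9518804810872521949192)) (.leaf (nat_lit 26358599809866574004226))) (.leaf (nat_lit
    55055416750740731002892))) (.node (.node (.leaf (nat_lit 30132280073454229377815580835882))
    (.leaf (nat_lit 274540266680090626))) (.leaf (nat_lit 1606868851662913552))))))) (.node (.node
    (.node (.node (.node (.node (.leaf (nat_lit 29697486943813635)) (.leaf (nat_lit 0))) (.leaf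
    (nat_lit 768041535227953168))) (.node (.node (.leaf (nat_lit 342433778255396867)) (.leaf
    (nat_lit 43094464701314415919106))) (.leaf (nat_lit 40879197797651291766789)))) (.node (.node
    (.node (.leaf (nat_lit 0)) (.leaf (nat_lit 87020532679480323538998))) (.leaf (nat_lit
    30493397148597376712712))) (.node (.node (.leaf (nat_lit 29368112387724167806984)) (.leaf
    (nat_lit 3231708490737254402))) (.leaf (nat_lit 0))))) (.node (.node (.node (.node (.leaf
    (nat_lit 158371795836918947249389612)) (.leaf (nat_lit 0))) (.leaf (nat_lit 0))) (.node (.node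
    (.leaf (nat_lit 0)) (.leaf (nat_lit 4338072710731920506882))) (.leaf (nat_lit 0)))) (.node
    (.node (.node (.leaf (nat_lit 268682936310693904)) (.leaf (nat_lit 2654112943649718274)))
    (.leaf (nat_lit 35607903314410696015890))) (.node (.node (.leaf (nat_lit 0)) (.leaf (nat_lit
    661425672253734914))) (.leaf (nat_lit 72820083077553324228617)))))) (.node (.node (.node (.node
    (.node (.leaf (nat_lit 4049127882206631624723)) (.leaf (nat_lit 1819387956637597699))) (.leaf
    (nat_lit 41893353812213662679095))) (.node (.node (.leaf (nat_lit 22985049587376581705769))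
    (.leaf (nat_lit 44270586496506854047746))) (.leaf (nat_lit 1423702069164332795157544993))))
    (.node (.node (.node (.leaf (nat_lit 13669259173755263057933)) (.leaf (nat_lit
    76358412973950997037058))) (.leaf (nat_lit 32826982474452184530992))) (.node (.node (.leaf
    (nat_lit 30009117887661158367275)) (.leaf (nat_lit 3300953903398518786))) (.leaf (nat_lit
    0))))) (.node (.node (.node (.node (.leaf (nat_lit 0)) (.leaf (nat_lit 0))) (.leaf (nat_lit
    46735719555960391532570))) (.node (.node (.leaf (nat_lit 816808044095000950197190709)) (.leaf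
    (nat_lit 3069294946684108802))) (.leaf (nat_lit 0)))) (.node (.node (.node (.leaf (nat_lit
    18465484131979057365019)) (.leaf (nat_lit 74642975952079576825858))) (.leaf (nat_lit
    37088310119824221208601))) (.node (.leaf (nat_lit 37069436219889757126711)) (.leaf (nat_lit
    1663164946516672529))))))))) (.node (.node (.node (.node (.node (.node (.node (.node (.leaf
    (nat_lit 0)) (.leaf (nat_lit 0))) (.leaf (nat_lit 24258206238528902463520))) (.node (.node
    (.leaf (nat_lit 320477355682430998)) (.leaf (nat_lit 433191137954839708878241794))) (.leaf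
    (nat_lit 1745479609652215828)))) (.node (.node (.node (.leaf (nat_lit 8485654842625195442181))
    (.leaf (nat_lit 85456627449220705746963))) (.leaf (nat_lit 0))) (.node (.node (.leaf (nat_lit
    0)) (.leaf (nat_lit 20465083536454879215618))) (.leaf (nat_lit
    1696319647003598194364121132))))) (.node (.node (.node (.node (.leaf (nat_lit
    5100603272791161241604)) (.leaf (nat_lit 1869209852149104662))) (.leaf (nat_lit
    39762771198064902471685))) (.node (.node (.leaf (nat_lit 0)) (.leaf (nat_lit
    3034952517034311682))) (.leaf (nat_lit 0)))) (.node (.node (.node (.leaf (nat_lit 0)) (.leaf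
    (nat_lit 2957865648362412760895848557))) (.leaf (nat_lit 52445116611969031536646))) (.node
    (.node (.leaf (nat_lit 1085950730385401623928373262)) (.leaf (nat_lit
    3566050005909731757149913090))) (.leaf (nat_lit 0)))))) (.node (.node (.node (.node (.node
    (.leaf (nat_lit 0)) (.leaf (nat_lit 0))) (.leaf (nat_lit 0))) (.node (.node (.leaf (nat_lit
    12617952394979659939874)) (.leaf (nat_lit 10591318545431575855106))) (.leaf (nat_lit
    40095220041822215798805)))) (.node (.node (.node (.leaf (nat_lit 0)) (.leaf (nat_lit 0)))
    (.leaf (nat_lit 0))) (.node (.node (.leaf (nat_lit 0)) (.leaf (nat_lit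
    456778407887277539075555330))) (.leaf (nat_lit 68134481163718351847437))))) (.node (.node
    (.node (.node (.leaf (nat_lit 3920047401594815447092)) (.leaf (nat_lit 0))) (.leaf (nat_lit
    0))) (.node (.node (.leaf (nat_lit 0)) (.leaf (nat_lit 3315838936175447560354529282))) (.leaf
    (nat_lit 64214436298091271487513)))) (.node (.node (.node (.leaf (nat_lit
    10547202770661525356606)) (.leaf (nat_lit 38270596388826789380098))) (.leaf (nat_lit
    1673825837029392463))) (.node (.node (.leaf (nat_lit 0)) (.leaf (nat_lit 282139764633763842)))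
    (.leaf (nat_lit 1724455276780206629014732853))))))) (.node (.node (.node (.node (.node (.node
    (.leaf (nat_lit 1581855452972626149419)) (.leaf (nat_lit 77165085211215494578184))) (.leaf
    (nat_lit 26808482681550415265826))) (.node (.node (.leaf (nat_lit 0)) (.leaf (nat_lit
    30426158964094166827010))) (.leaf (nat_lit 45299559524206677905740254216207)))) (.node (.node
    (.node (.leaf (nat_lit 0)) (.leaf (nat_lit 0))) (.leaf (nat_lit 46366813668341536980997)))
    (.node (.node (.leaf (nat_lit 29911944982656289275950)) (.leaf (nat_lit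
    8456302411159345233922))) (.leaf (nat_lit 2070153788332834895))))) (.node (.node (.node (.node
    (.leaf (nat_lit 4209062474832031228627228360753)) (.leaf (nat_lit 0))) (.leaf (nat_lit 0)))
    (.node (.node (.leaf (nat_lit 25207948115292918579225)) (.leaf (nat_lit
    59087864432781041008642))) (.leaf (nat_lit 0)))) (.node (.node (.node (.leaf (nat_lit
    483870272538148884)) (.leaf (nat_lit 2610906311386333187))) (.leaf (nat_lit
    1147443694290341801889103905))) (.node (.node (.leaf (nat_lit 1061322170149503026)) (.leaf
    (nat_lit 3246773015513530370))) (.leaf (nat_lit 72423456969079027597338)))))) (.node (.node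
    (.node (.node (.node (.leaf (nat_lit 3237466639106085945398)) (.leaf (nat_lit
    1824735706317193233))) (.leaf (nat_lit 1276527996211167252))) (.node (.node (.leaf (nat_lit
    22892813333458365644827)) (.leaf (nat_lit 609397128829219152721084418))) (.leaf (nat_lit
    60561911162404021141571)))) (.node (.node (.node (.leaf (nat_lit 0)) (.leaf (nat_lit
    2710968432223977474))) (.leaf (nat_lit 51236819408203068669965))) (.node (.node (.leaf (nat_lit
    19397341535975002800197)) (.leaf (nat_lit 399809061440162806932701186))) (.leaf (nat_lit 0)))))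
    (.node (.node (.node (.node (.leaf (nat_lit 0)) (.leaf (nat_lit 64980638647199604080686)))
    (.leaf (nat_lit 29912285301296295247910))) (.node (.node (.leaf (nat_lit
    26287110793310211604499)) (.leaf (nat_lit 17587350656610803580930))) (.leaf (nat_lit
    62139204612496222781461)))) (.node (.node (.node (.leaf (nat_lit 9564927442118452117525))
    (.leaf (nat_lit 27193334718077054681090))) (.leaf (nat_lit 54585044480925550968871))) (.node
    (.leaf (nat_lit 37069432841915158691852)) (.leaf (nat_lit 0)))))))) (.node (.node (.node (.node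
    (.node (.node (.node (.leaf (nat_lit 0)) (.leaf (nat_lit 71630414173893973704771))) (.leaf
    (nat_lit 24451903525777072914464))) (.node (.node (.leaf (nat_lit 18377900379582979309591))
    (.leaf (nat_lit 26603064346612074741762))) (.leaf (nat_lit 51135554006286940176422)))) (.node
    (.node (.node (.leaf (nat_lit 321454271763709963)) (.leaf (nat_lit 0))) (.leaf (nat_lit
    48354953335923934429264))) (.node (.node (.leaf (nat_lit 17967675379629831684166)) (.leaf
    (nat_lit 1053986093518965831136182274))) (.leaf (nat_lit 0))))) (.node (.node (.node (.node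
    (.leaf (nat_lit 3546472122005305098315)) (.leaf (nat_lit 0))) (.leaf (nat_lit
    1372761292737153579656413237))) (.node (.node (.leaf (nat_lit 0)) (.leaf (nat_lit
    45718703868094064033794))) (.leaf (nat_lit 1280065683463471120)))) (.node (.node (.node (.leaf
    (nat_lit 8762464095078287867962)) (.leaf (nat_lit 34470510520175731867650))) (.leaf (nat_lit
    1054595431025213443))) (.node (.node (.leaf (nat_lit 0)) (.leaf (nat_lit
    256854477635236153283313666))) (.leaf (nat_lit 0)))))) (.node (.node (.node (.node (.node
    (.leaf (nat_lit 2024584771469215727654)) (.leaf (nat_lit 1779417685310963728))) (.leaf (nat_lit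
    0))) (.node (.node (.leaf (nat_lit 517371850670604299)) (.leaf (nat_lit
    13160041455226529710082))) (.leaf (nat_lit 62532115097802743463495942340657)))) (.node (.node
    (.node (.leaf (nat_lit 12304181815619816194075)) (.leaf (nat_lit 0))) (.leaf (nat_lit
    32098311172180584628278))) (.node (.node (.leaf (nat_lit 31738201639516813590534)) (.leaf
    (nat_lit 3369058821547013528592056322))) (.leaf (nat_lit 2068202215323074624))))) (.node (.node
    (.node (.node (.leaf (nat_lit 8204380412029377380375)) (.leaf (nat_lit 1972795392357695505)))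
    (.leaf (nat_lit 45472099571679554109449))) (.node (.node (.leaf (nat_lit
    26061432459962844643386)) (.leaf (nat_lit 20474402061683995639810))) (.leaf (nat_lit
    61908610740875889410117)))) (.node (.node (.node (.leaf (nat_lit 325508244005046063831711797))
    (.leaf (nat_lit 45238851135306486448130))) (.leaf (nat_lit 0))) (.node (.node (.leaf (nat_lit
    27758434125806211104793)) (.leaf (nat_lit 111527768347851788320770))) (.leaf (nat_lit
    1627416799840698390))))))) (.node (.node (.node (.node (.node (.node (.leaf (nat_lit
    2102960633201266196506)) (.leaf (nat_lit 57763246158055611760715))) (.leaf (nat_lit 0))) (.node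
    (.node (.leaf (nat_lit 0)) (.leaf (nat_lit 1351373581060798724153016322))) (.leaf (nat_lit
    58800211635851246108698)))) (.node (.node (.node (.leaf (nat_lit 193243519383633923)) (.leaf
    (nat_lit 87246538508993158119476))) (.leaf (nat_lit 31314300622566806716421))) (.node (.node
    (.leaf (nat_lit 18539536268971951194182)) (.leaf (nat_lit 20511273029685794242562))) (.leaf
    (nat_lit 48382673715602972147782))))) (.node (.node (.node (.node (.leaf (nat_lit
    184064563948707648744194081)) (.leaf (nat_lit 1946335645035266064))) (.leaf (nat_lit 0)))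
    (.node (.node (.leaf (nat_lit 16030704761155554050080)) (.leaf (nat_lit
    10282438278588724871170))) (.leaf (nat_lit 0)))) (.node (.node (.node (.leaf (nat_lit
    8790141108425293234245)) (.leaf (nat_lit 63146011631560631189506))) (.leaf (nat_lit
    54234507928196987682845))) (.node (.node (.leaf (nat_lit 678809844442071057)) (.leaf (nat_lit
    3602068518932982164338507778))) (.leaf (nat_lit 0)))))) (.node (.node (.node (.node (.node
    (.leaf (nat_lit 141023314134040604)) (.leaf (nat_lit 79156795534506922803223))) (.leaf (nat_lit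
    26730135813390233436165))) (.node (.node (.leaf (nat_lit 422093670565675030)) (.leaf (nat_lit
    1355455633633609991950958594))) (.leaf (nat_lit 1963487908797903705108381740)))) (.node (.node
    (.node (.leaf (nat_lit 230118940355985430)) (.leaf (nat_lit 40322701800618271637506))) (.leaf
    (nat_lit 0))) (.node (.node (.leaf (nat_lit 0)) (.leaf (nat_lit 3310527986796724226))) (.leaf
    (nat_lit 2296273933508233803356962869))))) (.node (.node (.node (.node (.leaf (nat_lit
    172130697107079184)) (.leaf (nat_lit 84857058445213101654034))) (.leaf (nat_lit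
    29912294871978079354919))) (.node (.node (.leaf (nat_lit 17312795275477072936985)) (.leaf
    (nat_lit 3026792293920276482))) (.leaf (nat_lit 45408045033625829441540)))) (.node (.node
    (.node (.leaf (nat_lit 13212786705096889270326)) (.leaf (nat_lit 19547169702893014155266)))
    (.leaf (nat_lit 1727183186410209300))) (.node (.leaf (nat_lit 37300026713535492063244)) (.leaf
    (nat_lit 2303380055922966556)))))))))))) (.node (.node (.node (.node (.node (.node (.node
    (.node (.node (.node (.node (.leaf (nat_lit 1266693229903875)) (.leaf (nat_lit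
    56988277850334742904891))) (.leaf (nat_lit 37840035746645899673656))) (.node (.node (.leaf
    (nat_lit 576759866710949908)) (.leaf (nat_lit 22392581401869732216834))) (.leaf (nat_lit
    56730054517720592089169)))) (.node (.node (.node (.leaf (nat_lit 289083644419637268)) (.leaf
    (nat_lit 85041539678327135207445))) (.leaf (nat_lit 47141554962825786621998))) (.node (.node
    (.leaf (nat_lit 20510524999706994054610863587370)) (.leaf (nat_lit 46350457468499297239042)))
    (.leaf (nat_lit 47999816938938649739312))))) (.node (.node (.node (.node (.leaf (nat_lit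
    2527280785212141928518)) (.leaf (nat_lit 60248894399531756748808))) (.leaf (nat_lit 0))) (.node
    (.node (.leaf (nat_lit 0)) (.leaf (nat_lit 31892727491764536147970))) (.leaf (nat_lit
    41451097954230131163184)))) (.node (.node (.node (.leaf (nat_lit
    14964462646174201711566097023025)) (.leaf (nat_lit 2352088343724032002))) (.leaf (nat_lit
    33149810629219220389957))) (.node (.node (.leaf (nat_lit 20656354196919163224101)) (.leaf
    (nat_lit 471740857614849242552336386))) (.leaf (nat_lit 0)))))) (.node (.node (.node (.node
    (.node (.leaf (nat_lit 39592938594336600848859189)) (.leaf (nat_lit 73148331738445302136930)))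
    (.leaf (nat_lit 0))) (.node (.node (.leaf (nat_lit 0)) (.leaf (nat_lit
    22936870107979203149826))) (.leaf (nat_lit 0)))) (.node (.node (.node (.leaf (nat_lit
    11658530290919830388791)) (.leaf (nat_lit 0))) (.leaf (nat_lit 961142543301607427))) (.node
    (.node (.leaf (nat_lit 30566815938408448458784)) (.leaf (nat_lit 330405799652360194))) (.leaf
    (nat_lit 46736251986056596095045))))) (.node (.node (.node (.node (.leaf (nat_lit 0)) (.leaf
    (nat_lit 0))) (.leaf (nat_lit 44923802216719773270087))) (.node (.node (.leaf (nat_lit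
    16104492863453378314310)) (.leaf (nat_lit 179324785378127079824162818))) (.leaf (nat_lit 0))))
    (.node (.node (.node (.leaf (nat_lit 16546998821119177457691)) (.leaf (nat_lit
    78530596756945037885442))) (.leaf (nat_lit 54354990055118831026184))) (.node (.node (.leaf
    (nat_lit 22293568600813049413683)) (.leaf (nat_lit 431039142550437890))) (.leaf (nat_lit
    0))))))) (.node (.node (.node (.node (.node (.node (.leaf (nat_lit 17593341390749713)) (.leaf
    (nat_lit 82379315044958542674010912915505))) (.leaf (nat_lit 0))) (.node (.node (.leaf (nat_lit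
    11156001200737265844262)) (.leaf (nat_lit 17531879263020532301826))) (.leaf (nat_lit
    1883394018295845599553257516)))) (.node (.node (.node (.leaf (nat_lit 5395833655180981895222))
    (.leaf (nat_lit 69463312441399948017687))) (.leaf (nat_lit 1525844752923885970787663905)))
    (.node (.node (.leaf (nat_lit 0)) (.leaf (nat_lit 3366273690477346077727260674))) (.leaf
    (nat_lit 67355711255266971549734))))) (.node (.node (.node (.node (.leaf (nat_lit
    3670991444509519446086)) (.leaf (nat_lit 62416459168361155330082))) (.leaf (nat_lit 0))) (.node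
    (.node (.leaf (nat_lit 24765218094328657936390)) (.leaf (nat_lit 938226788790149391048769538)))
    (.leaf (nat_lit 1331857182257446940)))) (.node (.node (.node (.leaf (nat_lit 0)) (.leaf
    (nat_lit 74463058569905970544642))) (.leaf (nat_lit 1622189824641466375))) (.node (.node (.leaf
    (nat_lit 0)) (.leaf (nat_lit 3300956033702297602))) (.leaf (nat_lit
    71953049513629038346281)))))) (.node (.node (.node (.node (.node (.leaf (nat_lit
    1973857632753067163691)) (.leaf (nat_lit 58293488157435782955033))) (.leaf (nat_lit
    41330708695470573813772))) (.node (.node (.leaf (nat_lit 684849556302725140)) (.leaf (nat_lit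
    4706822366312632877058))) (.leaf (nat_lit 1838650678801727499)))) (.node (.node (.node (.leaf
    (nat_lit 10044456792584792244228)) (.leaf (nat_lit 95026604798266825553779857096746))) (.leaf
    (nat_lit 0))) (.node (.node (.leaf (nat_lit 19175972303131998617634)) (.leaf (nat_lit
    3262953759340363778))) (.leaf (nat_lit 0))))) (.node (.node (.node (.node (.leaf (nat_lit
    5096038032995749396512)) (.leaf (nat_lit 78590299983448440504322))) (.leaf (nat_lit
    889363125705506819))) (.node (.node (.leaf (nat_lit 830094265048763310572568641)) (.leaf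
    (nat_lit 20866395655356660514818))) (.leaf (nat_lit 43987601406653519560736)))) (.node (.node
    (.node (.leaf (nat_lit 17667673005372601466907)) (.leaf (nat_lit 24375585567332496506882)))
    (.leaf (nat_lit 0))) (.node (.node (.leaf (nat_lit 22920776477758558765061)) (.leaf (nat_lit
    1084344539180826626))) (.leaf (nat_lit 2271693861682282575)))))))) (.node (.node (.node (.node
    (.node (.node (.node (.leaf (nat_lit 470401544625802379291)) (.leaf (nat_lit
    76131395520584430583833))) (.leaf (nat_lit 24304324224716162400326))) (.node (.node (.leaf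
    (nat_lit 596322777024299087)) (.leaf (nat_lit 5813578341024801161218))) (.leaf (nat_lit
    38167477018703444508718)))) (.node (.node (.node (.leaf (nat_lit 306535642731511815)) (.leaf
    (nat_lit 70708458940092718972952))) (.leaf (nat_lit 30152116900838720602170))) (.node (.node
    (.leaf (nat_lit 18364271932518609125394)) (.leaf (nat_lit 1345482761108755823408185346)))
    (.leaf (nat_lit 2036533634743271452))))) (.node (.node (.node (.node (.leaf (nat_lit
    80647584464633873)) (.leaf (nat_lit 80890833106692665966611))) (.leaf (nat_lit 0))) (.node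
    (.node (.leaf (nat_lit 17311638521884101816673246707754)) (.leaf (nat_lit
    61333740746653909057538))) (.leaf (nat_lit 1286257686274506769)))) (.node (.node (.node (.leaf
    (nat_lit 0)) (.leaf (nat_lit 75994120317851601666133))) (.leaf (nat_lit 0))) (.node (.node
    (.leaf (nat_lit
    2095437131682882759342565335365912435204687821608699244674537042700374190280897517002671807336294916075946070))
    (.leaf (nat_lit 3486798382875529903159377922))) (.leaf (nat_lit 68029021077242351124538))))))
    (.node (.node (.node (.node (.node (.leaf (nat_lit 1475782453600966606872)) (.leaf (nat_lit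
    2392537225286785843551535169))) (.leaf (nat_lit 25392714215411394215975))) (.node (.node (.leaf
    (nat_lit 717661198392127532487147553)) (.leaf (nat_lit 3193157813256656966784385026))) (.leaf
    (nat_lit 0)))) (.node (.node (.node (.leaf (nat_lit 378876910769405972)) (.leaf (nat_lit
    2685634722247344139))) (.leaf (nat_lit 49982416321845643116556))) (.node (.node (.leaf (nat_lit
    955636730235584519)) (.leaf (nat_lit 218922456865971397802065922))) (.leaf (nat_lit
    69098999785312892420139))))) (.node (.node (.node (.node (.leaf (nat_lit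
    3901601783532681887752)) (.leaf (nat_lit 83270557388534599319579))) (.leaf (nat_lit
    1388966219931058242))) (.node (.node (.leaf (nat_lit 503442790693339152)) (.leaf (nat_lit
    17573620601525132001282))) (.leaf (nat_lit 59644709332332755222586)))) (.node (.node (.node
    (.leaf (nat_lit 15781467668334264909851)) (.leaf (nat_lit 3037508876688100350264344578)))
    (.leaf (nat_lit 54907841109137985568772))) (.node (.node (.leaf (nat_lit 0)) (.leaf (nat_lit
    416262711295475714))) (.leaf (nat_lit 0))))))) (.node (.node (.node (.node (.node (.node (.leaf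
    (nat_lit 963869260390932348953)) (.leaf (nat_lit 56651675438143208882210))) (.leaf (nat_lit
    27260430163267782115371))) (.node (.node (.leaf (nat_lit 0)) (.leaf (nat_lit
    20031420084859976220674))) (.leaf (nat_lit 1212507943841431569)))) (.node (.node (.node (.leaf
    (nat_lit 0)) (.leaf (nat_lit 0))) (.leaf (nat_lit 0))) (.node (.node (.leaf (nat_lit 0)) (.leaf
    (nat_lit 3224956235212259330))) (.leaf (nat_lit 67812300541516763562018))))) (.node (.node
    (.node (.node (.leaf (nat_lit 96411282672058371)) (.leaf (nat_lit 62803854305257693839394)))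
    (.leaf (nat_lit 0))) (.node (.node (.leaf (nat_lit 775768731149271068)) (.leaf (nat_lit
    16466665626439675740162))) (.leaf (nat_lit 1379145528100651024)))) (.node (.node (.node (.leaf
    (nat_lit 487248083927826452)) (.leaf (nat_lit 2649609189403525122))) (.leaf (nat_lit 0)))
    (.node (.node (.leaf (nat_lit 34874235814371720888333)) (.leaf (nat_lit 652982556823781378)))
    (.leaf (nat_lit 72552594029322258546711)))))) (.node (.node (.node (.node (.node (.leaf
    (nat_lit 126949110031974407)) (.leaf (nat_lit 0))) (.leaf (nat_lit 41828785985642050027546)))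
    (.node (.node (.leaf (nat_lit 412804549657624593)) (.leaf (nat_lit 49121979435205311791106)))
    (.leaf (nat_lit 0)))) (.node (.node (.node (.leaf (nat_lit 219985394517803025)) (.leaf (nat_lit
    2569808851662667778))) (.leaf (nat_lit 0))) (.node (.node (.leaf (nat_lit
    32476086321308976218139)) (.leaf (nat_lit 3473592411082712988057337858))) (.leaf (nat_lit
    48304271395867355971608))))) (.node (.node (.node (.node (.leaf (nat_lit 0)) (.leaf (nat_lit
    1997284368166551574))) (.leaf (nat_lit 29257427153394310774831))) (.node (.node (.leaf (nat_lit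
    0)) (.leaf (nat_lit 3357812399420801373872324610))) (.leaf (nat_lit 64850877398809489637417))))
    (.node (.node (.node (.leaf (nat_lit 0)) (.leaf (nat_lit 28277082035788884148226))) (.leaf
    (nat_lit 56139764758902087024728))) (.node (.leaf (nat_lit 23040684396183178903598)) (.leaf
    (nat_lit 0))))))))) (.node (.node (.node (.node (.node (.node (.node (.node (.leaf (nat_lit 0))
    (.leaf (nat_lit 56591678482515809730618))) (.leaf (nat_lit 0))) (.node (.node (.leaf (nat_lit
    482747507957432331)) (.leaf (nat_lit 1881465738896736258))) (.leaf (nat_lit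
    56923776856941769457707)))) (.node (.node (.node (.leaf (nat_lit 0)) (.leaf (nat_lit
    68762318151375841853494))) (.leaf (nat_lit 47556614867559223853065))) (.node (.node (.leaf
    (nat_lit 20569947330121911006512481107999)) (.leaf (nat_lit 1116996988530937573453070338)))
    (.leaf (nat_lit 0))))) (.node (.node (.node (.node (.leaf (nat_lit 4989921822988916949005))
    (.leaf (nat_lit 0))) (.leaf (nat_lit 26619459712162302459950))) (.node (.node (.leaf (nat_lit
    0)) (.leaf (nat_lit 827907100092006402))) (.leaf (nat_lit 59521358333631425853879073701937))))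
    (.node (.node (.node (.leaf (nat_lit 0)) (.leaf (nat_lit 1692170535703805954))) (.leaf (nat_lit
    1038269160821489686))) (.node (.node (.leaf (nat_lit 0)) (.leaf (nat_lit 3310527574479863810)))
    (.leaf (nat_lit 0)))))) (.node (.node (.node (.node (.node (.leaf (nat_lit
    2453455807854122565658)) (.leaf (nat_lit 0))) (.leaf (nat_lit 25106778985936313319458))) (.node
    (.node (.leaf (nat_lit 21407817783130368180250)) (.leaf (nat_lit 15438196286076624240642)))
    (.leaf (nat_lit 1225456617403842563)))) (.node (.node (.node (.leaf (nat_lit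
    12018249118964259160073)) (.leaf (nat_lit 2304109824448213833815949377))) (.leaf (nat_lit
    49862506011184368648204))) (.node (.node (.leaf (nat_lit 31051427885299506806840)) (.leaf
    (nat_lit 209250762299492711992131586))) (.leaf (nat_lit 0))))) (.node (.node (.node (.node
    (.leaf (nat_lit 6355015085869297238021)) (.leaf (nat_lit 82956948946724210278427))) (.leaf
    (nat_lit 48498446898762260693176239325226))) (.node (.node (.leaf (nat_lit
    16030708420699618476102)) (.leaf (nat_lit 3108419444460879874))) (.leaf (nat_lit
    43793886667673325207575)))) (.node (.node (.node (.leaf (nat_lit 9076072538082677817395))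
    (.leaf (nat_lit 72890518652062064115714))) (.leaf (nat_lit 1668196019667599410))) (.node (.node
    (.leaf (nat_lit 35658238060190217994267)) (.leaf (nat_lit 657345771150114818))) (.leaf (nat_lit
    0))))))) (.node (.node (.node (.node (.node (.node (.leaf (nat_lit 876246240629285388296))
    (.leaf (nat_lit 0))) (.leaf (nat_lit 1198557056840368135))) (.node (.node (.leaf (nat_lit
    20051948034158202388521)) (.leaf (nat_lit 59954782871846419365890))) (.leaf (nat_lit
    1775598351283257364)))) (.node (.node (.node (.leaf (nat_lit 334121023672811548)) (.leaf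
    (nat_lit 85797909385477034803230))) (.leaf (nat_lit 0))) (.node (.node (.leaf (nat_lit
    20075218282949227249742)) (.leaf (nat_lit 3205249542278742018))) (.leaf (nat_lit
    72639541323654258011820112805949))))) (.node (.node (.node (.node (.leaf (nat_lit
    5939941951004500754462)) (.leaf (nat_lit 1908617276601532438))) (.leaf (nat_lit
    43968637010581307719686))) (.node (.node (.leaf (nat_lit 25106488208000309985309)) (.leaf
    (nat_lit 576002693917832771174400002))) (.leaf (nat_lit 0)))) (.node (.node (.node (.leaf
    (nat_lit 15329507237488069115971)) (.leaf (nat_lit 2703652118643998722))) (.leaf (nat_lit 0)))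
    (.node (.node (.leaf (nat_lit 723866438963044040459943969)) (.leaf (nat_lit
    197554180490133506))) (.leaf (nat_lit 2208238593217003548)))))) (.node (.node (.node (.node
    (.node (.leaf (nat_lit 0)) (.leaf (nat_lit 63740366955625048762358352379935))) (.leaf (nat_lit
    25973806780010123689988))) (.node (.node (.leaf (nat_lit 490681192988269999449964577)) (.leaf
    (nat_lit 20718603261718152019970))) (.leaf (nat_lit 1257545864260485137)))) (.node (.node
    (.node (.leaf (nat_lit 405899333167349780)) (.leaf (nat_lit 2373620535197302801))) (.leaf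
    (nat_lit 32328904621416654241796))) (.node (.node (.leaf (nat_lit 26204187706447546744850))
    (.leaf (nat_lit 3289415190289973250))) (.leaf (nat_lit 2067358168350064704))))) (.node (.node
    (.node (.node (.leaf (nat_lit 4178314063698769149999)) (.leaf (nat_lit
    84119131542122892820509))) (.leaf (nat_lit 0))) (.node (.node (.leaf (nat_lit
    24368645750315102175250)) (.leaf (nat_lit 15959421562623176671234))) (.leaf (nat_lit
    65081455788481470201862)))) (.node (.node (.node (.leaf (nat_lit 17967418945317479055387))
    (.leaf (nat_lit 42956076507684283809794))) (.leaf (nat_lit 37125199526146391343162))) (.node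
    (.node (.leaf (nat_lit 1033197077247987282811813953)) (.leaf (nat_lit 2266540944604135426)))
    (.leaf (nat_lit 74692509230539026399273)))))))) (.node (.node (.node (.node (.node (.node
    (.node (.leaf (nat_lit 0)) (.leaf (nat_lit 55517170136750464630853))) (.leaf (nat_lit
    1056776517221964970681696270))) (.node (.node (.leaf (nat_lit 0)) (.leaf (nat_lit
    29222500188629787410434))) (.leaf (nat_lit 38877687502594153578501)))) (.node (.node (.node
    (.leaf (nat_lit 8227406336954319700016)) (.leaf (nat_lit 68688544123479688151078))) (.leaf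
    (nat_lit 30115226227707356577846))) (.node (.node (.leaf (nat_lit 18032235606007705960486))
    (.leaf (nat_lit 3176819495889141762))) (.leaf (nat_lit 0))))) (.node (.node (.node (.node
    (.leaf (nat_lit 0)) (.leaf (nat_lit 64869864307923446071365))) (.leaf (nat_lit 0))) (.node
    (.node (.leaf (nat_lit 512729540779442193)) (.leaf (nat_lit 323941070885255748715282434)))
    (.leaf (nat_lit 62268260886406070730773)))) (.node (.node (.node (.leaf (nat_lit
    8633335760499205406771)) (.leaf (nat_lit 72678324258696700559362))) (.leaf (nat_lit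
    52722403100666701742119))) (.node (.node (.leaf (nat_lit 32605256737608257699886)) (.leaf
    (nat_lit 142762804214806945263255554))) (.leaf (nat_lit 0)))))) (.node (.node (.node (.node
    (.node (.leaf (nat_lit 2647160413460277428242)) (.leaf (nat_lit
    84627479591559887365291909644337))) (.leaf (nat_lit 42922668398206911790633256812593))) (.node
    (.node (.leaf (nat_lit 12627181537631494406192)) (.leaf (nat_lit 40401267374835357646850)))
    (.leaf (nat_lit 0)))) (.node (.node (.node (.leaf (nat_lit 389884733626974559818481717)) (.leaf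
    (nat_lit 86867875431030504751109))) (.leaf (nat_lit 50397473974770676727834))) (.node (.node
    (.leaf (nat_lit 0)) (.leaf (nat_lit 465845859312851186188812290))) (.leaf (nat_lit
    73644108946921594162895181381674))))) (.node (.node (.node (.node (.leaf (nat_lit 0)) (.leaf
    (nat_lit 2009386967531388950))) (.leaf (nat_lit 0))) (.node (.node (.leaf (nat_lit
    494717341293215761)) (.leaf (nat_lit 3357812385597000728520687618))) (.leaf (nat_lit
    64518818834675914702867)))) (.node (.node (.node (.leaf (nat_lit 17284883503048779038746))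
    (.leaf (nat_lit 27815893717426326667266))) (.leaf (nat_lit 0))) (.node (.node (.leaf (nat_lit
    22966890241451800854598)) (.leaf (nat_lit 649042963711787010))) (.leaf (nat_lit
    74074512341272562434074))))))) (.node (.node (.node (.node (.node (.node (.leaf (nat_lit 0))
    (.leaf (nat_lit 72419494228395410260019))) (.leaf (nat_lit 767197213377036304))) (.node (.node
    (.leaf (nat_lit 621549930881882374682181646)) (.leaf (nat_lit 24998284497081344393218))) (.leaf
    (nat_lit 0)))) (.node (.node (.node (.leaf (nat_lit 0)) (.leaf (nat_lit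
    2806154945165119113430040629))) (.leaf (nat_lit 49277368088486641598507))) (.node (.node (.leaf
    (nat_lit 0)) (.leaf (nat_lit 20446698968848892362754))) (.leaf (nat_lit
    46717802567704319819834))))) (.node (.node (.node (.node (.leaf (nat_lit
    152933146917700867138519075)) (.leaf (nat_lit 0))) (.leaf (nat_lit 43406019198173680173096)))
    (.node (.node (.leaf (nat_lit 25420092990902289760286)) (.leaf (nat_lit
    650805615268850246890029058))) (.leaf (nat_lit 63421208287801696780294)))) (.node (.node (.node
    (.leaf (nat_lit 10602533009790836342846)) (.leaf (nat_lit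
    159347487632741517720860212692633418201935904134962269284168516546456711686354228668258214097422318870446560706679)))
    (.leaf (nat_lit 0))) (.node (.node (.leaf (nat_lit 0)) (.leaf (nat_lit 647352275605520386)))
    (.leaf (nat_lit 0)))))) (.node (.node (.node (.node (.node (.leaf (nat_lit 0)) (.leaf (nat_lit
    79415044321858933686339))) (.leaf (nat_lit 0))) (.node (.node (.leaf (nat_lit
    505648636717215665434656833)) (.leaf (nat_lit 531119597436260556646645762))) (.leaf (nat_lit
    64553057516320459210331387133967)))) (.node (.node (.node (.leaf (nat_lit 0)) (.leaf (nat_lit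
    55508981309678224080898))) (.leaf (nat_lit 0))) (.node (.node (.leaf (nat_lit 0)) (.leaf
    (nat_lit 3414692247910466789501566978))) (.leaf (nat_lit 0))))) (.node (.node (.node (.node
    (.leaf (nat_lit 8153596560095446237214)) (.leaf (nat_lit 83109697114731127701538))) (.leaf
    (nat_lit 30428800046704040804357))) (.node (.node (.leaf (nat_lit 27620229904398668726330))
    (.leaf (nat_lit 3117145864523612162))) (.leaf (nat_lit 1402228950092087299)))) (.node (.node
    (.node (.leaf (nat_lit 15961453888061848092730)) (.leaf (nat_lit 28097231371040253476866)))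
    (.leaf (nat_lit 0))) (.node (.leaf (nat_lit 0)) (.leaf (nat_lit 0)))))))))) (.node (.node
    (.node (.node (.node (.node (.node (.node (.node (.leaf (nat_lit 0)) (.leaf (nat_lit
    1843365912328422242803515457))) (.leaf (nat_lit 0))) (.node (.node (.leaf (nat_lit 0)) (.leaf
    (nat_lit 55601334684326650118146))) (.leaf (nat_lit 0)))) (.node (.node (.node (.leaf (nat_lit
    5100670830865790730245)) (.leaf (nat_lit 70413298931068460793923))) (.leaf (nat_lit
    46892528140118567092229))) (.node (.node (.leaf (nat_lit 18272030048954829963318)) (.leaf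
    (nat_lit 50713275697151810404354))) (.leaf (nat_lit 66322135702747553660966))))) (.node (.node
    (.node (.node (.leaf (nat_lit 0)) (.leaf (nat_lit 1846973019751317526))) (.leaf (nat_lit
    42622009210831250849804))) (.node (.node (.leaf (nat_lit 726368360908062736)) (.leaf (nat_lit
    3250279525900410435055910914))) (.leaf (nat_lit 0)))) (.node (.node (.node (.leaf (nat_lit 0))
    (.leaf (nat_lit 76897990933833993879554))) (.leaf (nat_lit 1660491623972897987619979278)))
    (.node (.node (.leaf (nat_lit 20227471197263630630959)) (.leaf (nat_lit 3304616213421883394)))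
    (.leaf (nat_lit 69222892968415041093657)))))) (.node (.node (.node (.node (.node (.leaf
    (nat_lit 77126535915634716)) (.leaf (nat_lit 0))) (.leaf (nat_lit 40242329683527794360366)))
    (.node (.node (.leaf (nat_lit 653323396838457364)) (.leaf (nat_lit
    757035535734299974340706306))) (.leaf (nat_lit 0)))) (.node (.node (.node (.leaf (nat_lit 0))
    (.leaf (nat_lit 0))) (.leaf (nat_lit 1519577940633976898))) (.node (.node (.leaf (nat_lit
    954464667081187837167796259)) (.leaf (nat_lit 3228053035481694210))) (.leaf (nat_lit 0)))))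
    (.node (.node (.node (.node (.leaf (nat_lit 222090546968133643)) (.leaf (nat_lit
    63532523074117064392750))) (.leaf (nat_lit 41561353235464343191582))) (.node (.node (.leaf
    (nat_lit 16178279839868475605031)) (.leaf (nat_lit 11108044393704600043522))) (.leaf (nat_lit
    58551280519120054059062)))) (.node (.node (.node (.leaf (nat_lit 15145048804920890949687))
    (.leaf (nat_lit 1878460525821775822119501826))) (.leaf (nat_lit 0))) (.node (.node (.leaf
    (nat_lit 0)) (.leaf (nat_lit 717581184237961218))) (.leaf (nat_lit 0))))))) (.node (.node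
    (.node (.node (.node (.node (.leaf (nat_lit 876245114591939592243)) (.leaf (nat_lit
    56301173508039371849782))) (.leaf (nat_lit 27832273881115903852619))) (.node (.node (.leaf
    (nat_lit 19973560208485511266323)) (.leaf (nat_lit 39700255895359995445250))) (.leaf (nat_lit
    58044451463287399448610)))) (.node (.node (.node (.leaf (nat_lit 10833138696389459640400))
    (.leaf (nat_lit 69481761437376550469699))) (.leaf (nat_lit 0))) (.node (.node (.leaf (nat_lit
    0)) (.leaf (nat_lit 3190613281576452098))) (.leaf (nat_lit
    72481091647786508717767614857277))))) (.node (.node (.node (.node (.leaf (nat_lit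
    115758170644326146185101345)) (.leaf (nat_lit 62471802496944466755618))) (.leaf (nat_lit
    836162293522890774))) (.node (.node (.leaf (nat_lit 507944878492221457)) (.leaf (nat_lit
    3059441192195457026))) (.leaf (nat_lit 0)))) (.node (.node (.node (.leaf (nat_lit
    15200378621468369682455)) (.leaf (nat_lit 2985667681666244824791253006))) (.leaf (nat_lit
    1055158621496803331))) (.node (.node (.leaf (nat_lit 652068862661099523)) (.leaf (nat_lit
    4084589521239311319042))) (.leaf (nat_lit 56822110783530961403908)))))) (.node (.node (.node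
    (.node (.node (.leaf (nat_lit 0)) (.leaf (nat_lit 0))) (.leaf (nat_lit 840100744173584400)))
    (.node (.node (.leaf (nat_lit 409144962643525654)) (.leaf (nat_lit 754582336082935810))) (.leaf
    (nat_lit 0)))) (.node (.node (.node (.leaf (nat_lit 0)) (.leaf (nat_lit 0))) (.leaf (nat_lit
    0))) (.node (.node (.leaf (nat_lit 587045944017682449)) (.leaf (nat_lit 3281531142163005442)))
    (.leaf (nat_lit 0))))) (.node (.node (.node (.node (.leaf (nat_lit 8227371995203274735656))
    (.leaf (nat_lit 84013647387079662043160))) (.leaf (nat_lit 1411484346916929586))) (.node (.node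
    (.leaf (nat_lit 26960409914842724630541)) (.leaf (nat_lit 3118552294514360322))) (.leaf
    (nat_lit 0)))) (.node (.node (.node (.leaf (nat_lit 0)) (.leaf (nat_lit
    32506010243472579297282))) (.leaf (nat_lit 0))) (.node (.node (.leaf (nat_lit 0)) (.leaf
    (nat_lit 241749625894207490))) (.leaf (nat_lit 74411189346403099017278)))))))) (.node (.node
    (.node (.node (.node (.node (.node (.leaf (nat_lit 12526379493097475)) (.leaf (nat_lit 0)))
    (.leaf (nat_lit 0))) (.node (.node (.leaf (nat_lit 18982022803429838225426)) (.leaf (nat_lit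
    2905190817603911682))) (.leaf (nat_lit 38693215276645015027750)))) (.node (.node (.node (.leaf
    (nat_lit 311039379797835796)) (.leaf (nat_lit 76165320286416717004556940410922))) (.leaf
    (nat_lit 46154669073751875977221))) (.node (.node (.leaf (nat_lit 28814355828120819531806))
    (.leaf (nat_lit 1117001010290864948190117890))) (.leaf (nat_lit 66474241825512255324215)))))
    (.node (.node (.node (.node (.leaf (nat_lit 5630283980367786891320448319530)) (.leaf (nat_lit
    76173102939056529145916))) (.leaf (nat_lit 43184644757244742926355))) (.node (.node (.leaf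
    (nat_lit 459812107718885398)) (.leaf (nat_lit 17928672288217602654210))) (.leaf (nat_lit
    1284850448829906966)))) (.node (.node (.node (.leaf (nat_lit 8393522317157929779204)) (.leaf
    (nat_lit
    108279341117182801612582373681049325414676686620481307102625397798178944504041310121311444733135085048907871748208)))
    (.leaf (nat_lit 35589411673944329748542))) (.node (.node (.leaf (nat_lit 0)) (.leaf (nat_lit
    264262495840108546))) (.leaf (nat_lit 71593326744780316803091)))))) (.node (.node (.node (.node
    (.node (.leaf (nat_lit 0)) (.leaf (nat_lit 0))) (.leaf (nat_lit 25374270426945199210544)))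
    (.node (.node (.leaf (nat_lit 21915115630494442782749)) (.leaf (nat_lit
    28207963357545121382402))) (.leaf (nat_lit 40381150345442254585907)))) (.node (.node (.node
    (.leaf (nat_lit 0)) (.leaf (nat_lit 0))) (.leaf (nat_lit 1536618820381310987))) (.node (.node
    (.leaf (nat_lit 0)) (.leaf (nat_lit 3257887020781010946))) (.leaf (nat_lit 0))))) (.node (.node
    (.node (.node (.leaf (nat_lit 7780150618661461360683)) (.leaf (nat_lit 0))) (.leaf (nat_lit
    0))) (.node (.node (.leaf (nat_lit 16076826829408581124142)) (.leaf (nat_lit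
    3121648072581578754))) (.leaf (nat_lit 0)))) (.node (.node (.node (.leaf (nat_lit
    527500233958096916)) (.leaf (nat_lit 26566125414996244627458))) (.leaf (nat_lit 0))) (.node
    (.node (.leaf (nat_lit 0)) (.leaf (nat_lit 261310917004886018))) (.leaf (nat_lit
    79398240730187855079685379915825))))))) (.node (.node (.node (.node (.node (.node (.leaf
    (nat_lit 59674537603760156)) (.leaf (nat_lit 2523235505609721746565627969))) (.leaf (nat_lit
    0))) (.node (.node (.leaf (nat_lit 20176741513616150429754)) (.leaf (nat_lit
    24763049087435601543170))) (.leaf (nat_lit 0)))) (.node (.node (.node (.leaf (nat_lit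
    191272885309014019)) (.leaf (nat_lit 2654529465283117101))) (.leaf (nat_lit
    45831863438469035655173))) (.node (.node (.leaf (nat_lit 0)) (.leaf (nat_lit
    3230864048627253250))) (.leaf (nat_lit 46736247059832186798098))))) (.node (.node (.node (.node
    (.leaf (nat_lit 155521165220249628)) (.leaf (nat_lit 0))) (.leaf (nat_lit 856147566625161232)))
    (.node (.node (.leaf (nat_lit 16353514619361908949015)) (.leaf (nat_lit
    22420355957218269659138))) (.leaf (nat_lit 42631726449964787892293)))) (.node (.node (.node
    (.leaf (nat_lit 0)) (.leaf (nat_lit 2652987009383137282))) (.leaf (nat_lit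
    1082180769016840209))) (.node (.node (.leaf (nat_lit 673461510646923280)) (.leaf (nat_lit
    662551537800839170))) (.leaf (nat_lit 0)))))) (.node (.node (.node (.node (.node (.leaf
    (nat_lit 2241345977820677079061)) (.leaf (nat_lit 63845989508769455996953))) (.leaf (nat_lit
    42013255678324988117038))) (.node (.node (.leaf (nat_lit 411678787189735446)) (.leaf (nat_lit
    3236943701395283709190733826))) (.leaf (nat_lit 1933888678900631100268478499)))) (.node (.node
    (.node (.leaf (nat_lit 249348052510704505662472245)) (.leaf (nat_lit 2726583962649624655)))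
    (.leaf (nat_lit 1573211666865324043))) (.node (.node (.leaf (nat_lit 0)) (.leaf (nat_lit
    3254511588803215362))) (.leaf (nat_lit 48544084557733654888480))))) (.node (.node (.node (.node
    (.leaf (nat_lit 276554236974727218)) (.leaf (nat_lit 84506526115932038955049))) (.leaf (nat_lit
    46754166300008331280403))) (.node (.node (.leaf (nat_lit 16602573814053682216994)) (.leaf
    (nat_lit 3390516521310418197016739842))) (.leaf (nat_lit 65348943711070327078921)))) (.node
    (.node (.node (.leaf (nat_lit 18059654917889567424542)) (.leaf (nat_lit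
    51639885530313324167170))) (.leaf (nat_lit 37079086747761596629013))) (.node (.leaf (nat_lit
    1140852908498223115)) (.leaf (nat_lit 75089133650300901720076))))))))) (.node (.node (.node
    (.node (.node (.node (.node (.node (.leaf (nat_lit 14355691963809820)) (.leaf (nat_lit
    55092881511843945971736))) (.leaf (nat_lit 0))) (.node (.node (.leaf (nat_lit 0)) (.leaf
    (nat_lit 24855227644807567572994))) (.leaf (nat_lit 57047699171063330177054)))) (.node (.node
    (.node (.leaf (nat_lit 9444884971482368901133)) (.leaf (nat_lit 2609071192119836679))) (.leaf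
    (nat_lit 0))) (.node (.node (.leaf (nat_lit 0)) (.leaf (nat_lit 3298873931624648163343990786)))
    (.leaf (nat_lit 2159337949991468000008732705))))) (.node (.node (.node (.node (.leaf (nat_lit
    5174390671255514841101)) (.leaf (nat_lit 0))) (.leaf (nat_lit 42990950003563420647436))) (.node
    (.node (.leaf (nat_lit 24082673644749034029075)) (.leaf (nat_lit 3029888312505663490))) (.leaf
    (nat_lit 41801594114079765758003)))) (.node (.node (.node (.leaf (nat_lit
    8227496835145061826564)) (.leaf (nat_lit 2443005353907060738))) (.leaf (nat_lit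
    1027010299192016912))) (.node (.node (.leaf (nat_lit 1099387679636999150888026177)) (.leaf
    (nat_lit 3253667172463017986))) (.leaf (nat_lit 2287207663187830955051319349)))))) (.node
    (.node (.node (.node (.node (.leaf (nat_lit 50245950517674006)) (.leaf (nat_lit
    2560260002565219085956939790))) (.leaf (nat_lit 40556404388637104603144))) (.node (.node (.leaf
    (nat_lit 396759239034535958)) (.leaf (nat_lit 2895339889203740674))) (.leaf (nat_lit
    43494033059572716077118)))) (.node (.node (.node (.leaf (nat_lit 12059926133758006329376))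
    (.leaf (nat_lit 0))) (.leaf (nat_lit 0))) (.node (.node (.leaf (nat_lit
    25844457337241878069269)) (.leaf (nat_lit 3253664612662509570))) (.leaf (nat_lit
    52499549814389032875794003984415))))) (.node (.node (.node (.node (.leaf (nat_lit 0)) (.leaf
    (nat_lit 79470523605613365362742))) (.leaf (nat_lit 30276581755503989948448))) (.node (.node
    (.leaf (nat_lit 16104496241565415702560)) (.leaf (nat_lit 356735147546491809740095490))) (.leaf
    (nat_lit 0)))) (.node (.node (.node (.leaf (nat_lit 329590176415201415976452129)) (.leaf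
    (nat_lit 2821590954224517122))) (.leaf (nat_lit 0))) (.node (.node (.leaf (nat_lit
    1095534062858272796)) (.leaf (nat_lit 250755278960721922))) (.leaf (nat_lit 0))))))) (.node
    (.node (.node (.node (.node (.node (.leaf (nat_lit 1627953876502975807548)) (.leaf (nat_lit
    0))) (.leaf (nat_lit 39273868863416788254760))) (.node (.node (.leaf (nat_lit
    20181349821659979382835)) (.leaf (nat_lit 29337800641189240832002))) (.leaf (nat_lit
    1779539138396160007)))) (.node (.node (.node (.leaf (nat_lit 11105104464852203798558)) (.leaf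
    (nat_lit 2329819946303244883846234126))) (.leaf (nat_lit 0))) (.node (.node (.leaf (nat_lit
    29893498238556809920516)) (.leaf (nat_lit 8244164572759399268354))) (.leaf (nat_lit
    46468763640997576114228))))) (.node (.node (.node (.node (.leaf (nat_lit
    3094534351793110057006)) (.leaf (nat_lit 70619154570690307373255075627039))) (.leaf (nat_lit
    43774946760886159867930))) (.node (.node (.leaf (nat_lit 770702044129525780)) (.leaf (nat_lit
    105710783419846498801074928156674))) (.leaf (nat_lit 0)))) (.node (.node (.node (.leaf (nat_lit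
    0)) (.leaf (nat_lit 85715585976121629540434))) (.leaf (nat_lit 0))) (.node (.node (.leaf
    (nat_lit 673742710745726987)) (.leaf (nat_lit 3248743220091420674))) (.leaf (nat_lit 0))))))
    (.node (.node (.node (.node (.node (.leaf (nat_lit 0)) (.leaf (nat_lit 0))) (.leaf (nat_lit
    0))) (.node (.node (.leaf (nat_lit 0)) (.leaf (nat_lit 27050542738193063804930))) (.leaf
    (nat_lit 41072926329979086766131)))) (.node (.node (.node (.leaf (nat_lit
    10666253075576493458378889429041)) (.leaf (nat_lit 76699666481513851191298))) (.leaf (nat_lit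
    32375023170579637403695))) (.node (.node (.leaf (nat_lit 987444373266497543)) (.leaf (nat_lit
    3268865060268802050))) (.leaf (nat_lit 0))))) (.node (.node (.node (.node (.leaf (nat_lit
    266283492701241355)) (.leaf (nat_lit 2573463477989539908))) (.leaf (nat_lit
    937495759039889411))) (.node (.node (.leaf (nat_lit 0)) (.leaf (nat_lit 3110955974836486146)))
    (.leaf (nat_lit 65173691760795860533303)))) (.node (.node (.node (.leaf (nat_lit
    17755281951540031717406)) (.leaf (nat_lit 30117143062613604892674))) (.leaf (nat_lit
    54575821108862926389253))) (.node (.leaf (nat_lit 0)) (.leaf (nat_lit 0)))))))) (.node (.node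
    (.node (.node (.node (.node (.node (.leaf (nat_lit 544194291561390080048)) (.leaf (nat_lit
    76601808886965981085721))) (.leaf (nat_lit 0))) (.node (.node (.leaf (nat_lit
    18424017239732893450258)) (.leaf (nat_lit 32755052837608947384322))) (.leaf (nat_lit
    51117107262187460821029)))) (.node (.node (.node (.leaf (nat_lit 5340493422839594156040))
    (.leaf (nat_lit 2103683421191667715))) (.leaf (nat_lit 47916335103399442972726))) (.node (.node
    (.leaf (nat_lit 18152140568524163842087)) (.leaf (nat_lit 112595417250327590343402173300738)))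
    (.leaf (nat_lit 67208138427619424272423))))) (.node (.node (.node (.node (.leaf (nat_lit
    5202065432235770839052)) (.leaf (nat_lit 2482403595719409671))) (.leaf (nat_lit 0))) (.node
    (.node (.leaf (nat_lit 24589972336615348174873)) (.leaf (nat_lit 1327103314885738498))) (.leaf
    (nat_lit 62415836246499479715869)))) (.node (.node (.node (.leaf (nat_lit 465710966127067215))
    (.leaf (nat_lit 2277639225996345346))) (.leaf (nat_lit 1044180822527180822))) (.node (.node
    (.leaf (nat_lit 33675173382782896504861)) (.leaf (nat_lit 398104182273474562))) (.leaf (nat_lit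
    2193882957087899659)))))) (.node (.node (.node (.node (.node (.leaf (nat_lit
    3444985050272909950982)) (.leaf (nat_lit 63819595722353181728759926292522))) (.leaf (nat_lit
    0))) (.node (.node (.leaf (nat_lit 0)) (.leaf (nat_lit 16900117955356615966722))) (.leaf
    (nat_lit 0)))) (.node (.node (.node (.leaf (nat_lit 0)) (.leaf (nat_lit
    88459446835505472405560))) (.leaf (nat_lit 50628065875662446198836))) (.node (.node (.leaf
    (nat_lit 19157522744162493071430)) (.leaf (nat_lit 3500829144116058106976534530))) (.leaf
    (nat_lit 0))))) (.node (.node (.node (.node (.leaf (nat_lit 5026860490773496004678)) (.leaf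
    (nat_lit 0))) (.leaf (nat_lit 0))) (.node (.node (.leaf (nat_lit 0)) (.leaf (nat_lit
    3103073232379576322))) (.leaf (nat_lit 0)))) (.node (.node (.node (.leaf (nat_lit
    345245470005788683)) (.leaf (nat_lit 51386227029408267567106))) (.leaf (nat_lit 0))) (.node
    (.node (.leaf (nat_lit 0)) (.leaf (nat_lit 379953049185157122))) (.leaf (nat_lit 0)))))))
    (.node (.node (.node (.node (.node (.node (.leaf (nat_lit 0)) (.leaf (nat_lit
    61577606874316251791362))) (.leaf (nat_lit 1222330229104705615))) (.node (.node (.leaf (nat_lit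
    21103425676379336933395)) (.leaf (nat_lit 3139949761736499742042750978))) (.leaf (nat_lit 0))))
    (.node (.node (.node (.leaf (nat_lit 188176935443103766)) (.leaf (nat_lit 0))) (.leaf (nat_lit
    31295853878458737426475))) (.node (.node (.leaf (nat_lit 0)) (.leaf (nat_lit
    2414446372599234562))) (.leaf (nat_lit 46856155118702237515799))))) (.node (.node (.node (.node
    (.leaf (nat_lit 6986913036869763792919)) (.leaf (nat_lit 0))) (.leaf (nat_lit
    27403472092076393562164))) (.node (.node (.leaf (nat_lit 525397151682002966)) (.leaf (nat_lit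
    658210360320778330517536770))) (.leaf (nat_lit 0)))) (.node (.node (.node (.leaf (nat_lit
    15910584743046695551006)) (.leaf (nat_lit 57708833518068953186306))) (.leaf (nat_lit
    54169942635046194315289))) (.node (.node (.leaf (nat_lit 0)) (.leaf (nat_lit
    2773474517211807746))) (.leaf (nat_lit 62359403586608872148104584167473)))))) (.node (.node
    (.node (.node (.node (.leaf (nat_lit 4184331026126712156666674348074)) (.leaf (nat_lit
    2446655182755463188))) (.leaf (nat_lit 0))) (.node (.node (.leaf (nat_lit 420404786345672726))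
    (.leaf (nat_lit 29125714473998939783170))) (.leaf (nat_lit 0)))) (.node (.node (.node (.leaf
    (nat_lit 230118905996247057)) (.leaf (nat_lit 79946307513459633487874))) (.leaf (nat_lit
    51799463117356525617164))) (.node (.node (.leaf (nat_lit 0)) (.leaf (nat_lit
    264561047110525023559090178))) (.leaf (nat_lit 48599428449404358688802))))) (.node (.node
    (.node (.node (.leaf (nat_lit 9260408241521286119428)) (.leaf (nat_lit 2039787501966721041)))
    (.leaf (nat_lit 0))) (.node (.node (.leaf (nat_lit 560020772840669206)) (.leaf (nat_lit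
    46198267897161439182850))) (.leaf (nat_lit 2014296424388362251)))) (.node (.node (.node (.leaf
    (nat_lit 18686857445994475487251)) (.leaf (nat_lit 15853207793495072505858))) (.leaf (nat_lit
    1800580828714990108550627372))) (.node (.leaf (nat_lit 0)) (.leaf (nat_lit 0))))))))))) (.node
    (.node (.node (.node (.node (.node (.node (.node (.node (.node (.leaf (nat_lit
    3626865084396786522783754)) (.leaf (nat_lit 2073513707929294256445063212))) (.leaf (nat_lit
    1156334513253646347))) (.node (.node (.leaf (nat_lit 18912840334914456059923)) (.leaf (nat_lit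
    17084532490317192167426))) (.leaf (nat_lit 0)))) (.node (.node (.node (.leaf (nat_lit
    9490994794448627630099)) (.leaf (nat_lit 70044354479393521991749))) (.leaf (nat_lit 0))) (.node
    (.node (.leaf (nat_lit 0)) (.leaf (nat_lit 3166967090020220930))) (.leaf (nat_lit
    52475328381028646345619508887601))))) (.node (.node (.node (.node (.leaf (nat_lit
    4667102816347602747426)) (.leaf (nat_lit 60193562752357547311173))) (.leaf (nat_lit
    813924602131644433))) (.node (.node (.leaf (nat_lit 0)) (.leaf (nat_lit
    676039719141744202110730242))) (.leaf (nat_lit 0)))) (.node (.node (.node (.leaf (nat_lit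
    237155986572443670)) (.leaf (nat_lit 2514217981848977410))) (.leaf (nat_lit 0))) (.node (.node
    (.leaf (nat_lit 33130966565692417179657)) (.leaf (nat_lit 3314468954298253314))) (.leaf
    (nat_lit 0)))))) (.node (.node (.node (.node (.node (.leaf (nat_lit 74874658792538132)) (.leaf
    (nat_lit 75209669541511687241797))) (.leaf (nat_lit 826778767437952826286014478))) (.node
    (.node (.leaf (nat_lit 0)) (.leaf (nat_lit 28521543930476662816770))) (.leaf (nat_lit
    40030653481690429849651)))) (.node (.node (.node (.leaf (nat_lit 11861445320224285065225))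
    (.leaf (nat_lit 87449458886425249513523))) (.leaf (nat_lit 966490636578586627))) (.node (.node
    (.leaf (nat_lit 18539540491268400545824)) (.leaf (nat_lit 321680152683741186))) (.leaf (nat_lit
    2093393298025742343))))) (.node (.node (.node (.node (.leaf (nat_lit 108796800122617872))
    (.leaf (nat_lit 82759230508302348779541))) (.leaf (nat_lit 1380770592328701785999147041)))
    (.node (.node (.leaf (nat_lit 833579597763832249290326060)) (.leaf (nat_lit
    3078304173163413506))) (.leaf (nat_lit 1816136047919235083)))) (.node (.node (.node (.leaf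
    (nat_lit 0)) (.leaf (nat_lit 38588784692519900479490))) (.leaf (nat_lit 1103573348283187216)))
    (.node (.node (.leaf (nat_lit 1147759170517888086147596323)) (.leaf (nat_lit
    3635048594825558220209389570))) (.leaf (nat_lit 0))))))) (.node (.node (.node (.node (.node
    (.node (.leaf (nat_lit 1263621251300484907021)) (.leaf (nat_lit 1733535236882563089))) (.leaf
    (nat_lit 0))) (.node (.node (.leaf (nat_lit 11188284128834883878955)) (.leaf (nat_lit
    25016670119118982283266))) (.leaf (nat_lit 57702599681773943324678)))) (.node (.node (.node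
    (.leaf (nat_lit 326802468119904267)) (.leaf (nat_lit 68965251477369826508843))) (.leaf (nat_lit
    0))) (.node (.node (.leaf (nat_lit 29450774410102166454299)) (.leaf (nat_lit
    10923604494922031497218))) (.leaf (nat_lit 67429495416872172191783))))) (.node (.node (.node
    (.node (.leaf (nat_lit 182964348384313351)) (.leaf (nat_lit 62398014676147389005894))) (.leaf
    (nat_lit 43498749861866286284870))) (.node (.node (.leaf (nat_lit 24589975151588453580819))
    (.leaf (nat_lit 3291359576417271412041187330))) (.leaf (nat_lit 0)))) (.node (.node (.node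
    (.leaf (nat_lit 15145038389178521550900)) (.leaf (nat_lit 2273276673094975490))) (.leaf
    (nat_lit 1054032652870483984))) (.node (.node (.leaf (nat_lit 650379944081358851)) (.leaf
    (nat_lit 5583377621549578387458))) (.leaf (nat_lit 0)))))) (.node (.node (.node (.node (.node
    (.leaf (nat_lit 0)) (.leaf (nat_lit 58293488720437275983896))) (.leaf (nat_lit
    32328706594768286842917))) (.node (.node (.leaf (nat_lit 494459123067349960849883189)) (.leaf
    (nat_lit 2964301602095235074))) (.leaf (nat_lit 1840339597381468171)))) (.node (.node (.node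
    (.leaf (nat_lit 10505625675954047352871)) (.leaf (nat_lit 2845578445285115700848099363)))
    (.leaf (nat_lit 0))) (.node (.node (.leaf (nat_lit 0)) (.leaf (nat_lit 3262109411719643138)))
    (.leaf (nat_lit 48737757636957007183939))))) (.node (.node (.node (.node (.leaf (nat_lit
    133849172561494019)) (.leaf (nat_lit 2513368213979529218))) (.leaf (nat_lit 0))) (.node (.node
    (.leaf (nat_lit 26858951977926492618758)) (.leaf (nat_lit 6948178906948244275202))) (.leaf
    (nat_lit 1484700362354065425)))) (.node (.node (.node (.leaf (nat_lit 0)) (.leaf (nat_lit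
    3048095684486989652447985666))) (.leaf (nat_lit 1149454868998651920))) (.node (.node (.leaf
    (nat_lit 36359230942899570147398)) (.leaf (nat_lit 3381321473175191554))) (.leaf (nat_lit
    1632202046243471376)))))))) (.node (.node (.node (.node (.node (.node (.node (.leaf (nat_lit
    498072223746449670178)) (.leaf (nat_lit 1864522727522119264464273473))) (.leaf (nat_lit
    744677909570125827))) (.node (.node (.leaf (nat_lit 597026683509407764)) (.leaf (nat_lit
    41618709977830493716482))) (.leaf (nat_lit 0)))) (.node (.node (.node (.leaf (nat_lit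
    5349712009449657532468)) (.leaf (nat_lit 0))) (.leaf (nat_lit 45296894629847912087600))) (.node
    (.node (.leaf (nat_lit 28897364769008909484073)) (.leaf (nat_lit 10928120781758240325634)))
    (.leaf (nat_lit 0))))) (.node (.node (.node (.node (.leaf (nat_lit 5349636288282875854903))
    (.leaf (nat_lit 0))) (.leaf (nat_lit 1416132442661629887930171457))) (.node (.node (.leaf
    (nat_lit 25036536540553195914472966127647)) (.leaf (nat_lit 2993857239154032642))) (.leaf
    (nat_lit 41893831212354192474164)))) (.node (.node (.node (.leaf (nat_lit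
    14122641205632696961515643011087)) (.leaf (nat_lit 2622250544870009951081463861))) (.leaf
    (nat_lit 35764654194463479103547))) (.node (.node (.leaf (nat_lit 33601769634325252472902))
    (.leaf (nat_lit 9111298139130247184386))) (.leaf (nat_lit 49558688274653259169839)))))) (.node
    (.node (.node (.node (.node (.leaf (nat_lit 44898132118601731)) (.leaf (nat_lit
    84191716235324476426795253825585))) (.leaf (nat_lit 40768076526791162003496))) (.node (.node
    (.leaf (nat_lit 21956620945303288348678)) (.leaf (nat_lit 31057984454280475770882))) (.leaf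
    (nat_lit 0)))) (.node (.node (.node (.leaf (nat_lit 0)) (.leaf (nat_lit 0))) (.leaf (nat_lit
    0))) (.node (.node (.leaf (nat_lit 31332365669710055014406)) (.leaf (nat_lit
    457383138758023941858787330))) (.leaf (nat_lit 1448112463672377361))))) (.node (.node (.node
    (.node (.leaf (nat_lit 3920048527666520981562)) (.leaf (nat_lit 0))) (.leaf (nat_lit
    874725945880215555))) (.node (.node (.leaf (nat_lit 0)) (.leaf (nat_lit
    3311917559605380286360322050))) (.leaf (nat_lit 0)))) (.node (.node (.node (.leaf (nat_lit
    9445016145616154329139)) (.leaf (nat_lit 14677213538009324126210))) (.leaf (nat_lit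
    36331969686209338474543))) (.node (.node (.leaf (nat_lit 22634842233239737925656)) (.leaf
    (nat_lit 320842848809385986))) (.leaf (nat_lit 0))))))) (.node (.node (.node (.node (.node
    (.node (.leaf (nat_lit 56578244140466204)) (.leaf (nat_lit 56651678534436672176171))) (.leaf
    (nat_lit 39559795930048825065478))) (.node (.node (.leaf (nat_lit 0)) (.leaf (nat_lit
    2940095836429877250))) (.leaf (nat_lit 39661708325838422999088)))) (.node (.node (.node (.leaf
    (nat_lit 322637054285652511997296673)) (.leaf (nat_lit 0))) (.leaf (nat_lit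
    48036248229300110819334))) (.node (.node (.leaf (nat_lit 30239737361053262217272)) (.leaf
    (nat_lit 230856798912023094679044098))) (.leaf (nat_lit 2190771100462155149064011820)))))
    (.node (.node (.node (.node (.leaf (nat_lit 0)) (.leaf (nat_lit 65695385520267547836490)))
    (.leaf (nat_lit 0))) (.node (.node (.leaf (nat_lit 25373971063945096790056)) (.leaf (nat_lit
    24703139125198256799746))) (.leaf (nat_lit 0)))) (.node (.node (.node (.leaf (nat_lit 0))
    (.leaf (nat_lit 82943967044309795143682))) (.leaf (nat_lit 0))) (.node (.node (.leaf (nat_lit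
    0)) (.leaf (nat_lit 5809391632365226491906))) (.leaf (nat_lit 0)))))) (.node (.node (.node
    (.node (.node (.leaf (nat_lit 0)) (.leaf (nat_lit 79691731971933766615066))) (.leaf (nat_lit
    26158277598773357248558))) (.node (.node (.leaf (nat_lit 22570279179854259879970)) (.leaf
    (nat_lit 51759864398853190123522))) (.leaf (nat_lit 60921625486771513131035)))) (.node (.node
    (.node (.leaf (nat_lit 221955788074254353)) (.leaf (nat_lit 2541098489937526806))) (.leaf
    (nat_lit 32780862517922907750447))) (.node (.node (.leaf (nat_lit 0)) (.leaf (nat_lit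
    11597046384839660601346))) (.leaf (nat_lit 2147156667844919324))))) (.node (.node (.node (.node
    (.leaf (nat_lit 4298220996754812370991)) (.leaf (nat_lit 84460994864368092119110))) (.leaf
    (nat_lit 1426277253666439188))) (.node (.node (.leaf (nat_lit 26471581048977462853662)) (.leaf
    (nat_lit 3109264187218591746))) (.leaf (nat_lit 0)))) (.node (.node (.node (.leaf (nat_lit
    9592598121342178623512)) (.leaf (nat_lit 26335562913116961570818))) (.leaf (nat_lit
    55821549276368164028448))) (.node (.leaf (nat_lit 37207784548548275798020)) (.leaf (nat_lit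
    0))))))))) (.node (.node (.node (.node (.node (.node (.node (.node (.leaf (nat_lit 0)) (.leaf
    (nat_lit 2318580151341940756))) (.leaf (nat_lit 33593352637206370904220178382879))) (.node
    (.node (.leaf (nat_lit 14822276103507405897782)) (.leaf (nat_lit 328469331586216738012004354)))
    (.leaf (nat_lit 56337498961215429476379)))) (.node (.node (.node (.leaf (nat_lit 0)) (.leaf
    (nat_lit 0))) (.leaf (nat_lit 45555144261530363822119))) (.node (.node (.leaf (nat_lit 0))
    (.leaf (nat_lit 1663283387617641375377653762))) (.leaf (nat_lit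
    71440624185399852986544943333437))))) (.node (.node (.node (.node (.leaf (nat_lit
    2610291556091307425838)) (.leaf (nat_lit 0))) (.leaf (nat_lit 0))) (.node (.node (.leaf
    (nat_lit 24027330738446907146266)) (.leaf (nat_lit 60439069594261817327618))) (.leaf (nat_lit
    0)))) (.node (.node (.node (.leaf (nat_lit 8139872830401385005102)) (.leaf (nat_lit
    64372662119567617884162))) (.leaf (nat_lit 33518755362661193678873))) (.node (.node (.leaf
    (nat_lit 20780886889742469365812)) (.leaf (nat_lit 14299511263648333103106))) (.leaf (nat_lit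
    0)))))) (.node (.node (.node (.node (.node (.leaf (nat_lit 2527245598976037290014)) (.leaf
    (nat_lit 0))) (.leaf (nat_lit 911557877220082384497803297))) (.node (.node (.leaf (nat_lit
    660360477414653972)) (.leaf (nat_lit 10771173456090386071554))) (.leaf (nat_lit
    1224330786216476688)))) (.node (.node (.node (.leaf (nat_lit 200843790431420433)) (.leaf
    (nat_lit 2679301101479657551))) (.leaf (nat_lit 39370922148900949393485))) (.node (.node (.leaf
    (nat_lit 0)) (.leaf (nat_lit 3255353419573100546))) (.leaf (nat_lit 0))))) (.node (.node (.node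
    (.node (.leaf (nat_lit 6184384392114653560836)) (.leaf (nat_lit 2687052388420699215832023054)))
    (.leaf (nat_lit 0))) (.node (.node (.leaf (nat_lit 504849959418462211)) (.leaf (nat_lit
    10550025878765702414338))) (.leaf (nat_lit 1359443173084102673)))) (.node (.node (.node (.leaf
    (nat_lit 0)) (.leaf (nat_lit 27755948599730612928514))) (.leaf (nat_lit 0))) (.node (.node
    (.leaf (nat_lit 0)) (.leaf (nat_lit 653686673762287618))) (.leaf (nat_lit
    74198715154665740644384013352975))))))) (.node (.node (.node (.node (.node (.node (.leaf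
    (nat_lit 1401978728265113862196)) (.leaf (nat_lit 0))) (.leaf (nat_lit 0))) (.node (.node
    (.leaf (nat_lit 11169841607169292828704)) (.leaf (nat_lit 17347416307135531909122))) (.leaf
    (nat_lit 58191454162609410080787)))) (.node (.node (.node (.leaf (nat_lit 0)) (.leaf (nat_lit
    86333396810669005930504))) (.leaf (nat_lit 1489048106208198684))) (.node (.node (.leaf (nat_lit
    0)) (.leaf (nat_lit 3207223749766152194))) (.leaf (nat_lit 48078240935460108173372))))) (.node
    (.node (.node (.node (.leaf (nat_lit 100040124298172788405174307)) (.leaf (nat_lit 0))) (.leaf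
    (nat_lit 1345209995062542364))) (.node (.node (.leaf (nat_lit 24589980781371455635479)) (.leaf
    (nat_lit 3044241706661838850))) (.leaf (nat_lit 0)))) (.node (.node (.node (.leaf (nat_lit 0))
    (.leaf (nat_lit 2787386517578973234))) (.leaf (nat_lit 0))) (.node (.node (.leaf (nat_lit
    658261518307164163)) (.leaf (nat_lit 624270391212376066))) (.leaf (nat_lit
    2210208986773454868)))))) (.node (.node (.node (.node (.node (.leaf (nat_lit
    3970724012262699499539)) (.leaf (nat_lit 0))) (.leaf (nat_lit 0))) (.node (.node (.leaf
    (nat_lit 696108898968535060)) (.leaf (nat_lit 61306052755877301256194))) (.leaf (nat_lit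
    60525016548262205915188)))) (.node (.node (.node (.leaf (nat_lit 212666838964895760)) (.leaf
    (nat_lit 72129484377791804932098))) (.leaf (nat_lit 51135360908319703367726))) (.node (.node
    (.leaf (nat_lit 0)) (.leaf (nat_lit 3258731943927349250))) (.leaf (nat_lit
    48424170306336807125046))))) (.node (.node (.node (.node (.leaf (nat_lit 0)) (.leaf (nat_lit
    0))) (.leaf (nat_lit 46302210655293301522445))) (.node (.node (.leaf (nat_lit 0)) (.leaf
    (nat_lit 3121930208983252994))) (.leaf (nat_lit 0)))) (.node (.node (.node (.leaf (nat_lit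
    18031982549635592028166)) (.leaf (nat_lit 30642874992036828872706))) (.leaf (nat_lit
    1154521693457350659))) (.node (.node (.leaf (nat_lit 1129312090855702535)) (.leaf (nat_lit
    3433677304902057986))) (.leaf (nat_lit 0)))))))) (.node (.node (.node (.node (.node (.node
    (.node (.leaf (nat_lit 0)) (.leaf (nat_lit 0))) (.leaf (nat_lit 38582107234318516682765)))
    (.node (.node (.leaf (nat_lit 0)) (.leaf (nat_lit 28765943833895708590082))) (.leaf (nat_lit
    57305988209989845712901)))) (.node (.node (.node (.leaf (nat_lit 177761193073704963)) (.leaf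
    (nat_lit 0))) (.leaf (nat_lit 47870218243146449616954))) (.node (.node (.leaf (nat_lit
    29192516615104224231453)) (.leaf (nat_lit 3199337408126648322))) (.leaf (nat_lit
    55668766984137798147447095361585))))) (.node (.node (.node (.node (.leaf (nat_lit
    4856189684498208849995)) (.leaf (nat_lit 0))) (.leaf (nat_lit 26914619017722457161795))) (.node
    (.node (.leaf (nat_lit 24553078848433569333269)) (.leaf (nat_lit 28447810997033755672578)))
    (.leaf (nat_lit 0)))) (.node (.node (.node (.leaf (nat_lit 8679452620743608827922)) (.leaf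
    (nat_lit 50514562782412887228418))) (.leaf (nat_lit 37757890984694041069149411934284))) (.node
    (.node (.leaf (nat_lit 641090994972000272)) (.leaf (nat_lit 145180683526685666276802562)))
    (.leaf (nat_lit 54534706073798078300198)))))) (.node (.node (.node (.node (.node (.leaf
    (nat_lit 1955409481106905563168)) (.leaf (nat_lit 2409058868702347328))) (.leaf (nat_lit
    777894430723145750))) (.node (.node (.leaf (nat_lit 0)) (.leaf (nat_lit
    67448807691006003838978))) (.leaf (nat_lit 48112706485158565441667577741327)))) (.node (.node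
    (.node (.leaf (nat_lit 12737678330924074467340)) (.leaf (nat_lit 0))) (.leaf (nat_lit
    36322244877048121604086299951153))) (.node (.node (.leaf (nat_lit 580853150932664323)) (.leaf
    (nat_lit 3271679389129113602))) (.leaf (nat_lit 0))))) (.node (.node (.node (.node (.leaf
    (nat_lit 0)) (.leaf (nat_lit 0))) (.leaf (nat_lit 0))) (.node (.node (.leaf (nat_lit
    26905067430469594972172)) (.leaf (nat_lit 101985926275127369203714))) (.leaf (nat_lit 0))))
    (.node (.node (.node (.leaf (nat_lit 17284884910500972003346)) (.leaf (nat_lit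
    22798383889361286660098))) (.leaf (nat_lit 55304452580990802657292))) (.node (.node (.leaf
    (nat_lit 0)) (.leaf (nat_lit 427381453911883778))) (.leaf (nat_lit 2264939050651746370)))))))
    (.node (.node (.node (.node (.node (.node (.leaf (nat_lit 1766311635148739903539)) (.leaf
    (nat_lit 2372343521161117703))) (.leaf (nat_lit 0))) (.node (.node (.leaf (nat_lit
    11575680954856160559122)) (.leaf (nat_lit 15156947100388039000066))) (.leaf (nat_lit 0))))
    (.node (.node (.node (.leaf (nat_lit 355369021455073359)) (.leaf (nat_lit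
    85922441374879187140686))) (.leaf (nat_lit 0))) (.node (.node (.leaf (nat_lit
    30493022487982987477001)) (.leaf (nat_lit 315628045547470850))) (.leaf (nat_lit
    46800814886420979318836))))) (.node (.node (.node (.node (.leaf (nat_lit
    4178287462750101897255)) (.leaf (nat_lit 0))) (.leaf (nat_lit 27338907361849783812104))) (.node
    (.node (.leaf (nat_lit 24156493273704538767427)) (.leaf (nat_lit 3092655746253455362))) (.leaf
    (nat_lit 1939703287817306132)))) (.node (.node (.node (.leaf (nat_lit 15855243103390553800730))
    (.leaf (nat_lit 78779625968886729605122))) (.leaf (nat_lit 1083869825035534353))) (.node (.node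
    (.leaf (nat_lit 22275118760308437614610)) (.leaf (nat_lit 3270980567885283330))) (.leaf
    (nat_lit 72931428245333472378950)))))) (.node (.node (.node (.node (.node (.leaf (nat_lit
    139193348828299332)) (.leaf (nat_lit 0))) (.leaf (nat_lit 847701324459016195))) (.node (.node
    (.leaf (nat_lit 22745248669989597282331)) (.leaf (nat_lit 592321531277270703369617410))) (.leaf
    (nat_lit 0)))) (.node (.node (.node (.leaf (nat_lit 0)) (.leaf (nat_lit
    55716508306364413706242))) (.leaf (nat_lit 1580385391826042959))) (.node (.node (.leaf (nat_lit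
    32896158026708715503639)) (.leaf (nat_lit 3306865144197414914))) (.leaf (nat_lit
    68106858336950063136792))))) (.node (.node (.node (.node (.leaf (nat_lit
    5100666045447589265445)) (.leaf (nat_lit 2690395229037823071158009889))) (.leaf (nat_lit 0)))
    (.node (.node (.leaf (nat_lit 838859770465602142331994126)) (.leaf (nat_lit
    67398221452471571775490))) (.leaf (nat_lit 50251420781072011478186848485425)))) (.node (.node
    (.node (.leaf (nat_lit 495976350826496011)) (.leaf (nat_lit 22784570495580607021058))) (.leaf
    (nat_lit 56300595620876889817107))) (.node (.leaf (nat_lit 24170553241278508892214)) (.leaf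
    (nat_lit 0)))))))))) (.node (.node (.node (.node (.node (.node (.node (.node (.node (.leaf
    (nat_lit 258258217188932648978)) (.leaf (nat_lit 75780901190382274150426))) (.leaf (nat_lit
    23760130215278289289241))) (.node (.node (.leaf (nat_lit 0)) (.leaf (nat_lit
    17370458430490976387074))) (.leaf (nat_lit 0)))) (.node (.node (.node (.leaf (nat_lit
    4934649712041479307310)) (.leaf (nat_lit 0))) (.leaf (nat_lit 46966316523857008328709))) (.node
    (.node (.leaf (nat_lit 28380848053233377280030)) (.leaf (nat_lit 103770615253562420297730)))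
    (.leaf (nat_lit 0))))) (.node (.node (.node (.node (.leaf (nat_lit 3417337031399716356170))
    (.leaf (nat_lit 1845565713587240977))) (.leaf (nat_lit 26573342851935078907908))) (.node (.node
    (.leaf (nat_lit 23875141299780588863507)) (.leaf (nat_lit 1518055330241735876474568706)))
    (.leaf (nat_lit 0)))) (.node (.node (.node (.leaf (nat_lit 0)) (.leaf (nat_lit
    1804901169387143170))) (.leaf (nat_lit 1658998761772336299754389557))) (.node (.node (.leaf
    (nat_lit 0)) (.leaf (nat_lit 3318687471176384514))) (.leaf (nat_lit 0)))))) (.node (.node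
    (.node (.node (.node (.leaf (nat_lit 0)) (.leaf (nat_lit 78142160432268421824541))) (.leaf
    (nat_lit 0))) (.node (.node (.leaf (nat_lit 389159208504918033)) (.leaf (nat_lit
    17859327836045738967042))) (.leaf (nat_lit 59086724311292588523590)))) (.node (.node (.node
    (.leaf (nat_lit 202251027876020241)) (.leaf (nat_lit 87606260996263823736884))) (.leaf (nat_lit
    0))) (.node (.node (.leaf (nat_lit 29519966308656333652045)) (.leaf (nat_lit
    3251135186162810882))) (.leaf (nat_lit 0))))) (.node (.node (.node (.node (.leaf (nat_lit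
    7286570313506942550028)) (.leaf (nat_lit 82782290205177909805131))) (.leaf (nat_lit
    42391463192783046770718))) (.node (.node (.leaf (nat_lit 24082710519946668081176)) (.leaf
    (nat_lit 169351424014827490833072130))) (.leaf (nat_lit 1355783860947910678)))) (.node (.node
    (.node (.leaf (nat_lit 0)) (.leaf (nat_lit 57390637331912558051330))) (.leaf (nat_lit
    1105262335582404624))) (.node (.node (.leaf (nat_lit 0)) (.leaf (nat_lit 418654879230328834)))
    (.leaf (nat_lit 0))))))) (.node (.node (.node (.node (.node (.node (.leaf (nat_lit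
    1452706852109321175059)) (.leaf (nat_lit 56522536688801009565719))) (.leaf (nat_lit
    26693190671586700755014))) (.node (.node (.leaf (nat_lit 19890548171364087562259)) (.leaf
    (nat_lit 44413399865495482728450))) (.leaf (nat_lit 0)))) (.node (.node (.node (.leaf (nat_lit
    0)) (.leaf (nat_lit 68937584739105011597344))) (.leaf (nat_lit 0))) (.node (.node (.leaf
    (nat_lit 0)) (.leaf (nat_lit 1345337539276476212968685570))) (.leaf (nat_lit
    47746197149458595250235))))) (.node (.node (.node (.node (.leaf (nat_lit 187186610473926663))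
    (.leaf (nat_lit 0))) (.leaf (nat_lit 0))) (.node (.node (.leaf (nat_lit
    24626870610198148612122)) (.leaf (nat_lit 940216062476156930))) (.leaf (nat_lit 0)))) (.node
    (.node (.node (.leaf (nat_lit 0)) (.leaf (nat_lit 85235963864699682095211))) (.leaf (nat_lit
    0))) (.node (.node (.leaf (nat_lit 0)) (.leaf (nat_lit 3336986849355890690))) (.leaf (nat_lit
    72174414383369385345032)))))) (.node (.node (.node (.node (.node (.leaf (nat_lit
    3652516410216375582729)) (.leaf (nat_lit 62928237813448535375935))) (.leaf (nat_lit 0))) (.node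
    (.node (.leaf (nat_lit 414774530897215510)) (.leaf (nat_lit 31938835063046945308674))) (.leaf
    (nat_lit 1846093689621971023)))) (.node (.node (.node (.leaf (nat_lit 404210423177543691))
    (.leaf (nat_lit 2189817306685767697))) (.leaf (nat_lit 0))) (.node (.node (.leaf (nat_lit
    31950345670606765359144)) (.leaf (nat_lit 40950394661766151995394))) (.leaf (nat_lit
    2063698924933349440))))) (.node (.node (.node (.node (.leaf (nat_lit 0)) (.leaf (nat_lit
    84036707083886503592013))) (.leaf (nat_lit 1413047526034112523))) (.node (.node (.leaf (nat_lit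
    22860622733379356524611)) (.leaf (nat_lit 67398164309129994371074))) (.leaf (nat_lit 0))))
    (.node (.node (.node (.leaf (nat_lit 0)) (.leaf (nat_lit 51081865187827187384322))) (.leaf
    (nat_lit 37079081821477057789970))) (.node (.node (.leaf (nat_lit 908392882059732551211417653))
    (.leaf (nat_lit 3390047523870736386))) (.leaf (nat_lit 1640364958007033878)))))))) (.node
    (.node (.node (.node (.node (.node (.node (.leaf (nat_lit 0)) (.leaf (nat_lit
    1696661602616606742))) (.leaf (nat_lit 26098271774923255119949))) (.node (.node (.leaf (nat_lit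
    19613830121201495900186)) (.leaf (nat_lit 29157936427163116044290))) (.leaf (nat_lit
    1755613018051444747)))) (.node (.node (.node (.leaf (nat_lit 9528058153423096447033)) (.leaf
    (nat_lit 2102838790103105539))) (.leaf (nat_lit 0))) (.node (.node (.leaf (nat_lit
    17995342117800157315106)) (.leaf (nat_lit 1115943255794235445432549378))) (.leaf (nat_lit
    49295711969880318345279))))) (.node (.node (.node (.node (.leaf (nat_lit 170718026528849965))
    (.leaf (nat_lit 81933634723693307442119712243727))) (.leaf (nat_lit 39873455040516117954597)))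
    (.node (.node (.leaf (nat_lit 24304040766426633666590)) (.leaf (nat_lit
    3215227889884507559394803714))) (.leaf (nat_lit 0)))) (.node (.node (.node (.leaf (nat_lit
    14656192915404870582312)) (.leaf (nat_lit 53217008414755846815746))) (.leaf (nat_lit
    33878478694434098839598))) (.node (.node (.leaf (nat_lit 33859634349380779311145)) (.leaf
    (nat_lit 3338676300511576066))) (.leaf (nat_lit 56877437504463581675566)))))) (.node (.node
    (.node (.node (.node (.leaf (nat_lit 0)) (.leaf (nat_lit 2403869680625385492))) (.leaf (nat_lit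
    28948517137176705874668948881423))) (.node (.node (.leaf (nat_lit 12627181256079208284164))
    (.leaf (nat_lit 2980909871261679618))) (.leaf (nat_lit 40703970055650751479856)))) (.node
    (.node (.node (.leaf (nat_lit 12668500929430719496232)) (.leaf (nat_lit 0))) (.leaf (nat_lit
    35584007221694495166619028095025))) (.node (.node (.leaf (nat_lit
    26997499904365821466768016998442)) (.leaf (nat_lit 420964423765296595645759490))) (.leaf
    (nat_lit 47335789183606580248601))))) (.node (.node (.node (.node (.leaf (nat_lit
    241512930246524948)) (.leaf (nat_lit 80014716629871640117266))) (.leaf (nat_lit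
    31899898893491545243725))) (.node (.node (.leaf (nat_lit 16058380366887157694512)) (.leaf
    (nat_lit 3188020450522925008934928386))) (.leaf (nat_lit 1332984937590161424)))) (.node (.node
    (.node (.leaf (nat_lit 531012550838583362)) (.leaf (nat_lit 39843169743875858432002))) (.leaf
    (nat_lit 54926290668150440787974))) (.node (.node (.leaf (nat_lit 22902325511216601169954))
    (.leaf (nat_lit 436669904805036034))) (.leaf (nat_lit 0))))))) (.node (.node (.node (.node
    (.node (.node (.leaf (nat_lit 57845018974617664)) (.leaf (nat_lit 75675361727301416058932)))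
    (.leaf (nat_lit 805477741490208832))) (.node (.node (.leaf (nat_lit 0)) (.leaf (nat_lit
    91171292438121475670018))) (.leaf (nat_lit 43424848902070034694191)))) (.node (.node (.node
    (.leaf (nat_lit 7452666730770174509095)) (.leaf (nat_lit 87057421101138291392535))) (.leaf
    (nat_lit 0))) (.node (.node (.leaf (nat_lit 926080972917702667)) (.leaf (nat_lit
    3232552950027124738))) (.leaf (nat_lit 0))))) (.node (.node (.node (.node (.leaf (nat_lit 0))
    (.leaf (nat_lit 0))) (.leaf (nat_lit 0))) (.node (.node (.leaf (nat_lit
    25290964093441973354515)) (.leaf (nat_lit 3259324517953205583686664194))) (.leaf (nat_lit 0))))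
    (.node (.node (.node (.leaf (nat_lit 15629480046478923857952)) (.leaf (nat_lit
    2651298279781957634))) (.leaf (nat_lit 1769466867373941887315738677))) (.node (.node (.leaf
    (nat_lit 672617154436268048)) (.leaf (nat_lit 256524141593755650))) (.leaf (nat_lit
    51218946893182295801864)))))) (.node (.node (.node (.node (.node (.leaf (nat_lit
    2684068257862300926006)) (.leaf (nat_lit 2620255017045239974555025441))) (.leaf (nat_lit
    42151609073704886272009))) (.node (.node (.leaf (nat_lit 711161535275335725)) (.leaf (nat_lit
    1021338666808328712756658178))) (.leaf (nat_lit 41155940478566562725912)))) (.node (.node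
    (.node (.leaf (nat_lit 13853728444131246800923)) (.leaf (nat_lit 76160110475643950661634)))
    (.leaf (nat_lit 1575881530205667407))) (.node (.node (.leaf (nat_lit 0)) (.leaf (nat_lit
    248995305973689935150186498))) (.leaf (nat_lit 48580978045941203533862))))) (.node (.node
    (.node (.node (.leaf (nat_lit 0)) (.leaf (nat_lit 0))) (.leaf (nat_lit
    46569699985231272148998))) (.node (.node (.leaf (nat_lit 0)) (.leaf (nat_lit
    3061414265811501058))) (.leaf (nat_lit 65806154914082138030136)))) (.node (.node (.node (.leaf
    (nat_lit 0)) (.leaf (nat_lit 63238276862970358333442))) (.leaf (nat_lit 0))) (.node (.leaf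
    (nat_lit 0)) (.leaf (nat_lit 0))))))))) (.node (.node (.node (.node (.node (.node (.node (.node
    (.leaf (nat_lit 0)) (.leaf (nat_lit 75974597632939226497050))) (.leaf (nat_lit
    1169282774499196956))) (.node (.node (.leaf (nat_lit 19332508125891574038583)) (.leaf (nat_lit
    40931566225628179136514))) (.leaf (nat_lit 0)))) (.node (.node (.node (.leaf (nat_lit
    8513324958770119508007)) (.leaf (nat_lit 85484299535690466787369))) (.leaf (nat_lit
    1457803413130706964))) (.node (.node (.leaf (nat_lit 0)) (.leaf (nat_lit
    41143884786961926520834))) (.leaf (nat_lit 2034563241186820124))))) (.node (.node (.node (.node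
    (.leaf (nat_lit 160164188075982855)) (.leaf (nat_lit 80844710898432294977565))) (.leaf (nat_lit
    39559857435492332273710))) (.node (.node (.leaf (nat_lit 460937801467297814)) (.leaf (nat_lit
    1335660524389188246037594114))) (.leaf (nat_lit 41921498795052527452227)))) (.node (.node
    (.node (.leaf (nat_lit 8264390323344020537390)) (.leaf (nat_lit 2755852691598082076))) (.leaf
    (nat_lit 0))) (.node (.node (.leaf (nat_lit 33518365080151237263383)) (.leaf (nat_lit
    3484833832308269819401338882))) (.leaf (nat_lit 0)))))) (.node (.node (.node (.node (.node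
    (.leaf (nat_lit 1812435955098501447698)) (.leaf (nat_lit 1769847020706725905))) (.leaf (nat_lit
    40685063645064419540998))) (.node (.node (.leaf (nat_lit 0)) (.leaf (nat_lit
    3190144841982073837317259266))) (.leaf (nat_lit 59261387275169698086938)))) (.node (.node
    (.node (.leaf (nat_lit 7817004563749360828478)) (.leaf (nat_lit 70819201331160156405797)))
    (.leaf (nat_lit 50162549456921065357335))) (.node (.node (.leaf (nat_lit
    25881350825440836780057)) (.leaf (nat_lit 3258733979741847554))) (.leaf (nat_lit
    1559561790671074097740644366))))) (.node (.node (.node (.node (.leaf (nat_lit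
    3956940889776594288658)) (.leaf (nat_lit 83178320853347564978205))) (.leaf (nat_lit
    45324512670725552930822))) (.node (.node (.leaf (nat_lit 26351662293079044587549)) (.leaf
    (nat_lit 3244783881324843000314200066))) (.leaf (nat_lit 64306672270302582603803)))) (.node
    (.node (.node (.leaf (nat_lit 15910594032356582162459)) (.leaf (nat_lit
    14981583404947250282498))) (.leaf (nat_lit 1674963526621462578))) (.node (.node (.leaf (nat_lit
    27680854596490853009642985160746)) (.leaf (nat_lit 255821880081121282))) (.leaf (nat_lit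
    0))))))) (.node (.node (.node (.node (.node (.node (.leaf (nat_lit 37931435750545589404958755))
    (.leaf (nat_lit 1741416948547321878))) (.leaf (nat_lit 24747059312839889190917))) (.node (.node
    (.leaf (nat_lit 339900262946832400)) (.leaf (nat_lit 30578345163728078700546))) (.leaf (nat_lit
    0)))) (.node (.node (.node (.leaf (nat_lit 11114328540645219827741)) (.leaf (nat_lit 0)))
    (.leaf (nat_lit 47676532779084251594792))) (.node (.node (.leaf (nat_lit 0)) (.leaf (nat_lit
    3427934146243954967218225154))) (.leaf (nat_lit 67747085181890077065245))))) (.node (.node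
    (.node (.node (.leaf (nat_lit 6465678520190700290060)) (.leaf (nat_lit
    62748513228542915575878))) (.leaf (nat_lit 834755262236721169))) (.node (.node (.leaf (nat_lit
    0)) (.leaf (nat_lit 60997103715277917585410))) (.leaf (nat_lit 63079931700145450844186))))
    (.node (.node (.node (.leaf (nat_lit 481009620273290148890017825)) (.leaf (nat_lit
    75057981698289023778818))) (.leaf (nat_lit 1066980914116034582))) (.node (.node (.leaf (nat_lit
    663609680303620112)) (.leaf (nat_lit 722927688377040898))) (.leaf (nat_lit
    72460351301685736570906)))))) (.node (.node (.node (.node (.node (.leaf (nat_lit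
    3357341744589371135615022989354)) (.leaf (nat_lit 79562599133798006456346))) (.leaf (nat_lit
    1277935414044393483))) (.node (.node (.leaf (nat_lit 0)) (.leaf (nat_lit
    31131887089105382866946))) (.leaf (nat_lit 41155936678362319355927)))) (.node (.node (.node
    (.leaf (nat_lit 0)) (.leaf (nat_lit 2711672145435557890))) (.leaf (nat_lit 0))) (.node (.node
    (.leaf (nat_lit 27781387421206385459254)) (.leaf (nat_lit 3539213654795603489008648194)))
    (.leaf (nat_lit 69813173719115168415798))))) (.node (.node (.node (.node (.leaf (nat_lit 0))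
    (.leaf (nat_lit 0))) (.leaf (nat_lit 46542026491154699321348))) (.node (.node (.leaf (nat_lit
    26268664049279451725850)) (.leaf (nat_lit 756135679725010946))) (.leaf (nat_lit
    64777088733596071690266)))) (.node (.node (.node (.leaf (nat_lit 556493049912492052)) (.leaf
    (nat_lit 51584542765650628771842))) (.leaf (nat_lit 0))) (.node (.leaf (nat_lit 0)) (.leaf
    (nat_lit 1656409306557448208)))))))) (.node (.node (.node (.node (.node (.node (.node (.leaf
    (nat_lit 1023809778275456319534)) (.leaf (nat_lit 71967543368196638834746))) (.leaf (nat_lit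
    0))) (.node (.node (.leaf (nat_lit 611382328228446236)) (.leaf (nat_lit
    30725912222895245033474))) (.leaf (nat_lit 0)))) (.node (.node (.node (.leaf (nat_lit 0))
    (.leaf (nat_lit 86065380418819964731405))) (.leaf (nat_lit 1544299355849313950787436579)))
    (.node (.node (.leaf (nat_lit 898777075543048220)) (.leaf (nat_lit
    948204853721203463627735042))) (.leaf (nat_lit 67272696965284877238310))))) (.node (.node
    (.node (.node (.leaf (nat_lit 178179144931213323)) (.leaf (nat_lit 0))) (.leaf (nat_lit
    43535135991213565607955))) (.node (.node (.leaf (nat_lit 755220430784167943)) (.leaf (nat_lit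
    46419680033674008657922))) (.leaf (nat_lit 1395295655968077561928613923)))) (.node (.node
    (.node (.leaf (nat_lit 270933945850396689)) (.leaf (nat_lit 2254839855961997314))) (.leaf
    (nat_lit 0))) (.node (.node (.leaf (nat_lit 646157681991745552)) (.leaf (nat_lit
    250507598638048499657342978))) (.leaf (nat_lit 0)))))) (.node (.node (.node (.node (.node
    (.leaf (nat_lit 3375809900819886833696)) (.leaf (nat_lit 2413562549934096452))) (.leaf (nat_lit
    29423888983276648718524563652657))) (.node (.node (.leaf (nat_lit
    19574629633602008740474810335247)) (.leaf (nat_lit 2970777124287414274))) (.leaf (nat_lit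
    1244034721780989969)))) (.node (.node (.node (.leaf (nat_lit 0)) (.leaf (nat_lit 0))) (.leaf
    (nat_lit 54495217650152443057701373935677))) (.node (.node (.leaf (nat_lit
    31710531523440609001512)) (.leaf (nat_lit 6985231409813051867138))) (.leaf (nat_lit 0)))))
    (.node (.node (.node (.node (.leaf (nat_lit 4159863237902889844773)) (.leaf (nat_lit
    78498065415085844791298))) (.leaf (nat_lit 0))) (.node (.node (.leaf (nat_lit
    16150616057855420334084)) (.leaf (nat_lit 19708864155518276665346))) (.leaf (nat_lit
    1979673962870865940)))) (.node (.node (.node (.leaf (nat_lit 17570810851147202625555)) (.leaf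
    (nat_lit 16655622036371710083074))) (.leaf (nat_lit 0))) (.node (.node (.leaf (nat_lit
    30092683521829011432921396215850)) (.leaf (nat_lit 1061545014527655938))) (.leaf (nat_lit
    53137467810171463073813))))))) (.node (.node (.node (.node (.node (.node (.leaf (nat_lit
    42615695862979082871635982)) (.leaf (nat_lit 2346166477176045570))) (.leaf (nat_lit
    758753170234146838))) (.node (.node (.leaf (nat_lit 0)) (.leaf (nat_lit 2952760251876769794)))
    (.leaf (nat_lit 0)))) (.node (.node (.node (.leaf (nat_lit 193243553743372304)) (.leaf (nat_lit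
    0))) (.leaf (nat_lit 1511285307973173255))) (.node (.node (.leaf (nat_lit
    30673250210556233842711)) (.leaf (nat_lit 344479445408677890))) (.leaf (nat_lit
    46736251704521489842197))))) (.node (.node (.node (.node (.leaf (nat_lit 0)) (.leaf (nat_lit
    63421840920610198454319))) (.leaf (nat_lit 0))) (.node (.node (.leaf (nat_lit
    830849806784511101320298531)) (.leaf (nat_lit 9701332377158763610114))) (.leaf (nat_lit 0))))
    (.node (.node (.node (.leaf (nat_lit 8808587852533362524184)) (.leaf (nat_lit
    83930880802872438751234))) (.leaf (nat_lit 0))) (.node (.node (.leaf (nat_lit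
    35252404060716886327322)) (.leaf (nat_lit 3576959645550560339908886530))) (.leaf (nat_lit
    73032226545684732641307)))))) (.node (.node (.node (.node (.node (.leaf (nat_lit
    83180240779739139)) (.leaf (nat_lit 59713929532651228823622))) (.leaf (nat_lit
    41690444975728062824486))) (.node (.node (.leaf (nat_lit 23575362145797049352205)) (.leaf
    (nat_lit 883672811559019908008509442))) (.leaf (nat_lit 1964394095878560067809968161)))) (.node
    (.node (.node (.leaf (nat_lit 14038202218321606279223)) (.leaf (nat_lit
    79877133765712137093122))) (.leaf (nat_lit 51063524852724169648387618308111))) (.node (.node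
    (.leaf (nat_lit 619979409646026768)) (.leaf (nat_lit 453002406163430342750633986))) (.leaf
    (nat_lit 48562535665013100838960))))) (.node (.node (.node (.node (.leaf (nat_lit
    4731732430731052515375)) (.leaf (nat_lit 0))) (.leaf (nat_lit 47113884846663682686980))) (.node
    (.node (.leaf (nat_lit 863591603942588444)) (.leaf (nat_lit 3164715075458170882))) (.leaf
    (nat_lit 0)))) (.node (.node (.node (.leaf (nat_lit 20005437904064266230478393376817)) (.leaf
    (nat_lit 501495215056101377657012226))) (.leaf (nat_lit 1728309120676790300))) (.node (.leaf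
    (nat_lit 0)) (.leaf (nat_lit 0)))))))))))))))

/-- Certificate data. -/
def p2_rel : Trie :=
    (.node (.node (.node (.node (.node (.node (.node (.leaf (nat_lit 0)) (.leaf (nat_lit 263172)))
    (.node (.leaf (nat_lit 50660358)) (.leaf (nat_lit 201657349)))) (.node (.node (.leaf (nat_lit
    134612737)) (.leaf (nat_lit 184683265))) (.node (.leaf (nat_lit 723209)) (.leaf (nat_lit
    84476682))))) (.node (.node (.node (.leaf (nat_lit 21508653315)) (.leaf (nat_lit 34014728)))
    (.node (.leaf (nat_lit 4432473883656)) (.leaf (nat_lit
    769625357963614793117169689790177957131086653314304773)))) (.node (.node (.leaf (nat_lit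
    118163211)) (.leaf (nat_lit 960437550254201915908607079574366912840831670684223752))) (.leaf
    (nat_lit 17105414))))) (.node (.node (.node (.node (.leaf (nat_lit 168561164)) (.leaf (nat_lit
    67502853))) (.node (.leaf (nat_lit 151325188)) (.leaf (nat_lit 7709583935235)))) (.node (.node
    (.leaf (nat_lit 461831)) (.leaf (nat_lit
    769626819464992488574147499833393400858427416352589322))) (.node (.leaf (nat_lit 117770241))
    (.leaf (nat_lit 101319433))))) (.node (.node (.node (.leaf (nat_lit 4345627140)) (.leaf
    (nat_lit 17303047))) (.node (.leaf (nat_lit 151259654)) (.leaf (nat_lit 201722886)))) (.node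
    (.node (.leaf (nat_lit 51053323)) (.leaf (nat_lit 185010951))) (.leaf (nat_lit 50923018))))))
    (.node (.node (.node (.node (.node (.leaf (nat_lit 168036613)) (.leaf (nat_lit 788488))) (.node
    (.leaf (nat_lit 84410631)) (.leaf (nat_lit 101122312)))) (.node (.node (.leaf (nat_lit 460556))
    (.leaf (nat_lit 672726326533473135267888026988460308254648145784932362))) (.node (.leaf
    (nat_lit 17170949)) (.leaf (nat_lit 101254154))))) (.node (.node (.node (.leaf (nat_lit
    17498635)) (.leaf (nat_lit 8813407373316))) (.node (.leaf (nat_lit 12902073346)) (.leaf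
    (nat_lit 769626819464992488574147499833388604632911752981056522)))) (.node (.node (.leaf
    (nat_lit 197379)) (.leaf (nat_lit 864662407851613168127021111045981522359575608960943368)))
    (.leaf (nat_lit 67765769))))) (.node (.node (.node (.node (.leaf (nat_lit 33882374)) (.leaf
    (nat_lit 201460738))) (.node (.leaf (nat_lit 151783692)) (.leaf (nat_lit
    674218525324975436915432518126747282952922299562788873)))) (.node (.node (.leaf (nat_lit
    117508102)) (.leaf (nat_lit 184748803))) (.leaf (nat_lit 201526276)))) (.node (.node (.node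
    (.leaf (nat_lit 592649)) (.leaf (nat_lit 83953154))) (.node (.leaf (nat_lit 167971078)) (.leaf
    (nat_lit 769999479613624905413191510294067397957168776578992137)))) (.node (.node (.leaf
    (nat_lit 67437318)) (.leaf (nat_lit 863911207383840356450955707461250078882534274728659463)))
    (.leaf (nat_lit 131586))))))) (.node (.node (.node (.node (.node (.node (.leaf (nat_lit
    658186)) (.leaf (nat_lit 134547202))) (.node (.leaf (nat_lit 12968920065)) (.leaf (nat_lit
    184879877)))) (.node (.node (.leaf (nat_lit 134940683)) (.leaf (nat_lit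
    769999479613624905413191509979741962562654059805411337))) (.node (.leaf (nat_lit 33947909))
    (.leaf (nat_lit 201919497))))) (.node (.node (.node (.leaf (nat_lit 65793)) (.leaf (nat_lit
    34080007))) (.node (.leaf (nat_lit 50725893)) (.leaf (nat_lit 201985034)))) (.node (.node
    (.leaf (nat_lit 67896076)) (.leaf (nat_lit 100730114))) (.leaf (nat_lit 67699978))))) (.node
    (.node (.node (.node (.leaf (nat_lit 592139)) (.leaf (nat_lit 184617730))) (.node (.leaf
    (nat_lit 151390723)) (.leaf (nat_lit 101188103)))) (.node (.node (.leaf (nat_lit 117835778))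
    (.leaf (nat_lit 100926723))) (.node (.leaf (nat_lit 34341388)) (.leaf (nat_lit
    960441946243649235387758464006833955587926598714132743))))) (.node (.node (.node (.leaf
    (nat_lit 1138183700745)) (.leaf (nat_lit 723466))) (.node (.leaf (nat_lit 151194117)) (.leaf
    (nat_lit 84149763)))) (.node (.node (.leaf (nat_lit 3328650445575)) (.leaf (nat_lit
    865036552204303205113340482107907282826801123649391112))) (.leaf (nat_lit 50988297)))))) (.node
    (.node (.node (.node (.node (.leaf (nat_lit 168167684)) (.leaf (nat_lit 134285061))) (.node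
    (.leaf (nat_lit 168102147)) (.leaf (nat_lit 84018689)))) (.node (.node (.leaf (nat_lit
    134350598)) (.leaf (nat_lit 201395201))) (.node (.leaf (nat_lit 4395893251)) (.leaf (nat_lit
    84542473))))) (.node (.node (.node (.leaf (nat_lit 17563916)) (.leaf (nat_lit 17237256)))
    (.node (.leaf (nat_lit 788231)) (.leaf (nat_lit 25837044481)))) (.node (.node (.leaf (nat_lit
    51119116)) (.leaf (nat_lit 185076488))) (.leaf (nat_lit 11003874118146))))) (.node (.node
    (.node (.node (.leaf (nat_lit 34275595)) (.leaf (nat_lit 100861188))) (.node (.leaf (nat_lit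
    67830795)) (.leaf (nat_lit 674218525324975436915432520296750258069937747254380553)))) (.node
    (.node (.leaf (nat_lit 117573637)) (.leaf (nat_lit
    866534580009099878109598034371323821504347004494875143))) (.leaf (nat_lit 184814340)))) (.node
    (.node (.node (.leaf (nat_lit 527368)) (.leaf (nat_lit 201591811))) (.node (.leaf (nat_lit
    2242007138826)) (.leaf (nat_lit 674218525481340630357510255878286962972213704231553033))))
    (.node (.node (.leaf (nat_lit 17196844290)) (.leaf (nat_lit 84345352))) (.leaf (nat_lit
    8640333316))))))))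

/-- Certificate data. -/
def p2_rc : Trie :=
    (.node (.node (.node (.node (.node (.node (.node (.leaf (nat_lit 52)) (.leaf (nat_lit 3)))
    (.node (.leaf (nat_lit 262154)) (.leaf (nat_lit 131110)))) (.node (.node (.leaf (nat_lit 25))
    (.leaf (nat_lit 131102))) (.node (.leaf (nat_lit 40)) (.leaf (nat_lit 262190))))) (.node (.node
    (.node (.leaf (nat_lit 131079)) (.leaf (nat_lit 393239))) (.node (.leaf (nat_lit 131093))
    (.leaf (nat_lit 2621490)))) (.node (.node (.leaf (nat_lit 28)) (.leaf (nat_lit 2490419)))
    (.leaf (nat_lit 262152))))) (.node (.node (.node (.node (.leaf (nat_lit 131121)) (.leaf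
    (nat_lit 10))) (.node (.leaf (nat_lit 262189)) (.leaf (nat_lit 131092)))) (.node (.node (.leaf
    (nat_lit 131090)) (.leaf (nat_lit 1966131))) (.node (.leaf (nat_lit 131094)) (.leaf (nat_lit
    44))))) (.node (.node (.node (.leaf (nat_lit 393223)) (.leaf (nat_lit 131097))) (.node (.leaf
    (nat_lit 262191)) (.leaf (nat_lit 39)))) (.node (.node (.leaf (nat_lit 32)) (.leaf (nat_lit
    131100))) (.leaf (nat_lit 262188)))))) (.node (.node (.node (.node (.node (.leaf (nat_lit 45))
    (.leaf (nat_lit 131091))) (.node (.leaf (nat_lit 22)) (.leaf (nat_lit 393241)))) (.node (.node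
    (.leaf (nat_lit 262162)) (.leaf (nat_lit 2359347))) (.node (.leaf (nat_lit 131081)) (.leaf
    (nat_lit 393263))))) (.node (.node (.node (.leaf (nat_lit 262174)) (.leaf (nat_lit 21))) (.node
    (.leaf (nat_lit 262150)) (.leaf (nat_lit 2883635)))) (.node (.node (.leaf (nat_lit 2)) (.leaf
    (nat_lit 2490418))) (.leaf (nat_lit 131119))))) (.node (.node (.node (.node (.leaf (nat_lit
    393225)) (.leaf (nat_lit 37))) (.node (.leaf (nat_lit 48)) (.leaf (nat_lit 2359346)))) (.node
    (.node (.leaf (nat_lit 262169)) (.leaf (nat_lit 131104))) (.leaf (nat_lit 393242)))) (.node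
    (.node (.node (.leaf (nat_lit 131112)) (.leaf (nat_lit 262153))) (.node (.leaf (nat_lit
    393260)) (.leaf (nat_lit 1703987)))) (.node (.node (.leaf (nat_lit 393227)) (.leaf (nat_lit
    1048626))) (.leaf (nat_lit 1))))))) (.node (.node (.node (.node (.node (.node (.leaf (nat_lit
    262185)) (.leaf (nat_lit 393240))) (.node (.leaf (nat_lit 262151)) (.leaf (nat_lit 131106))))
    (.node (.node (.leaf (nat_lit 131101)) (.leaf (nat_lit 2621491))) (.node (.leaf (nat_lit 8))
    (.leaf (nat_lit 131120))))) (.node (.node (.node (.leaf (nat_lit 0)) (.leaf (nat_lit 24)))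
    (.node (.leaf (nat_lit 131083)) (.leaf (nat_lit 49)))) (.node (.node (.leaf (nat_lit 26))
    (.leaf (nat_lit 393224))) (.leaf (nat_lit 393261))))) (.node (.node (.node (.node (.leaf
    (nat_lit 262184)) (.leaf (nat_lit 393246))) (.node (.leaf (nat_lit 131116)) (.leaf (nat_lit
    131095)))) (.node (.node (.leaf (nat_lit 262167)) (.leaf (nat_lit 11))) (.node (.leaf (nat_lit
    131109)) (.leaf (nat_lit 393266))))) (.node (.node (.node (.leaf (nat_lit 42)) (.leaf (nat_lit
    131113))) (.node (.leaf (nat_lit 131118)) (.leaf (nat_lit 131082)))) (.node (.node (.leaf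
    (nat_lit 20)) (.leaf (nat_lit 2752563))) (.leaf (nat_lit 46)))))) (.node (.node (.node (.node
    (.node (.leaf (nat_lit 47)) (.leaf (nat_lit 393238))) (.node (.leaf (nat_lit 393262)) (.leaf
    (nat_lit 131080)))) (.node (.node (.leaf (nat_lit 23)) (.leaf (nat_lit 131108))) (.node (.leaf
    (nat_lit 131078)) (.leaf (nat_lit 131117))))) (.node (.node (.node (.leaf (nat_lit 36)) (.leaf
    (nat_lit 262166))) (.node (.leaf (nat_lit 18)) (.leaf (nat_lit 6)))) (.node (.node (.leaf
    (nat_lit 262170)) (.leaf (nat_lit 29))) (.leaf (nat_lit 43))))) (.node (.node (.node (.node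
    (.leaf (nat_lit 30)) (.leaf (nat_lit 393226))) (.node (.leaf (nat_lit 131105)) (.leaf (nat_lit
    1441842)))) (.node (.node (.leaf (nat_lit 131096)) (.leaf (nat_lit 131122))) (.leaf (nat_lit
    33)))) (.node (.node (.node (.leaf (nat_lit 262163)) (.leaf (nat_lit 131098))) (.node (.leaf
    (nat_lit 131115)) (.leaf (nat_lit 524338)))) (.node (.node (.leaf (nat_lit 524295)) (.leaf
    (nat_lit 262168))) (.leaf (nat_lit 393222))))))))

/-- Certificate data. -/
def p2_lv : Trie :=
    (.node (.node (.node (.node (.node (.node (.node (.node (.leaf (nat_lit 0)) (.leaf (nat_lit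
    129))) (.node (.leaf (nat_lit 64)) (.leaf (nat_lit 284)))) (.node (.node (.leaf (nat_lit 32))
    (.leaf (nat_lit 169))) (.leaf (nat_lit 97)))) (.node (.node (.node (.leaf (nat_lit 16)) (.leaf
    (nat_lit 145))) (.node (.leaf (nat_lit 80)) (.leaf (nat_lit 318)))) (.node (.node (.leaf
    (nat_lit 48)) (.leaf (nat_lit 224))) (.leaf (nat_lit 113))))) (.node (.node (.node (.node
    (.leaf (nat_lit 8)) (.leaf (nat_lit 137))) (.node (.leaf (nat_lit 72)) (.leaf (nat_lit 292))))
    (.node (.node (.leaf (nat_lit 40)) (.leaf (nat_lit 179))) (.leaf (nat_lit 105)))) (.node (.node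
    (.node (.leaf (nat_lit 24)) (.leaf (nat_lit 157))) (.node (.leaf (nat_lit 88)) (.leaf (nat_lit
    352)))) (.node (.node (.leaf (nat_lit 56)) (.leaf (nat_lit 270))) (.leaf (nat_lit 121))))))
    (.node (.node (.node (.node (.node (.leaf (nat_lit 4)) (.leaf (nat_lit 133))) (.node (.leaf
    (nat_lit 68)) (.leaf (nat_lit 288)))) (.node (.node (.leaf (nat_lit 36)) (.leaf (nat_lit 175)))
    (.leaf (nat_lit 101)))) (.node (.node (.node (.leaf (nat_lit 20)) (.leaf (nat_lit 149))) (.node
    (.leaf (nat_lit 84)) (.leaf (nat_lit 341)))) (.node (.node (.leaf (nat_lit 52)) (.leaf (nat_lit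
    264))) (.leaf (nat_lit 117))))) (.node (.node (.node (.node (.leaf (nat_lit 12)) (.leaf
    (nat_lit 141))) (.node (.leaf (nat_lit 76)) (.leaf (nat_lit 296)))) (.node (.node (.leaf
    (nat_lit 44)) (.leaf (nat_lit 185))) (.leaf (nat_lit 109)))) (.node (.node (.node (.leaf
    (nat_lit 28)) (.leaf (nat_lit 165))) (.leaf (nat_lit 93))) (.node (.node (.leaf (nat_lit 60))
    (.leaf (nat_lit 280))) (.leaf (nat_lit 125))))))) (.node (.node (.node (.node (.node (.node
    (.leaf (nat_lit 2)) (.leaf (nat_lit 131))) (.node (.leaf (nat_lit 66)) (.leaf (nat_lit 286))))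
    (.node (.node (.leaf (nat_lit 34)) (.leaf (nat_lit 172))) (.leaf (nat_lit 99)))) (.node (.node
    (.node (.leaf (nat_lit 18)) (.leaf (nat_lit 147))) (.node (.leaf (nat_lit 82)) (.leaf (nat_lit
    323)))) (.node (.node (.leaf (nat_lit 50)) (.leaf (nat_lit 236))) (.leaf (nat_lit 115)))))
    (.node (.node (.node (.node (.leaf (nat_lit 10)) (.leaf (nat_lit 139))) (.node (.leaf (nat_lit
    74)) (.leaf (nat_lit 294)))) (.node (.node (.leaf (nat_lit 42)) (.leaf (nat_lit 183))) (.leaf
    (nat_lit 107)))) (.node (.node (.node (.leaf (nat_lit 26)) (.leaf (nat_lit 163))) (.node (.leaf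
    (nat_lit 90)) (.leaf (nat_lit 358)))) (.node (.node (.leaf (nat_lit 58)) (.leaf (nat_lit 273)))
    (.leaf (nat_lit 123)))))) (.node (.node (.node (.node (.node (.leaf (nat_lit 6)) (.leaf
    (nat_lit 135))) (.node (.leaf (nat_lit 70)) (.leaf (nat_lit 290)))) (.node (.node (.leaf
    (nat_lit 38)) (.leaf (nat_lit 177))) (.leaf (nat_lit 103)))) (.node (.node (.node (.leaf
    (nat_lit 22)) (.leaf (nat_lit 154))) (.node (.leaf (nat_lit 86)) (.leaf (nat_lit 347)))) (.node
    (.node (.leaf (nat_lit 54)) (.leaf (nat_lit 268))) (.leaf (nat_lit 119))))) (.node (.node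
    (.node (.node (.leaf (nat_lit 14)) (.leaf (nat_lit 143))) (.node (.leaf (nat_lit 78)) (.leaf
    (nat_lit 304)))) (.node (.node (.leaf (nat_lit 46)) (.leaf (nat_lit 189))) (.leaf (nat_lit
    111)))) (.node (.node (.node (.leaf (nat_lit 30)) (.leaf (nat_lit 167))) (.leaf (nat_lit 95)))
    (.node (.node (.leaf (nat_lit 62)) (.leaf (nat_lit 282))) (.leaf (nat_lit 127)))))))) (.node
    (.node (.node (.node (.node (.node (.node (.leaf (nat_lit 1)) (.leaf (nat_lit 130))) (.node
    (.leaf (nat_lit 65)) (.leaf (nat_lit 285)))) (.node (.node (.leaf (nat_lit 33)) (.leaf (nat_lit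
    170))) (.leaf (nat_lit 98)))) (.node (.node (.node (.leaf (nat_lit 17)) (.leaf (nat_lit 146)))
    (.node (.leaf (nat_lit 81)) (.leaf (nat_lit 320)))) (.node (.node (.leaf (nat_lit 49)) (.leaf
    (nat_lit 225))) (.leaf (nat_lit 114))))) (.node (.node (.node (.node (.leaf (nat_lit 9)) (.leaf
    (nat_lit 138))) (.node (.leaf (nat_lit 73)) (.leaf (nat_lit 293)))) (.node (.node (.leaf
    (nat_lit 41)) (.leaf (nat_lit 180))) (.leaf (nat_lit 106)))) (.node (.node (.node (.leaf
    (nat_lit 25)) (.leaf (nat_lit 160))) (.node (.leaf (nat_lit 89)) (.leaf (nat_lit 355)))) (.node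
    (.node (.leaf (nat_lit 57)) (.leaf (nat_lit 271))) (.leaf (nat_lit 122)))))) (.node (.node
    (.node (.node (.node (.leaf (nat_lit 5)) (.leaf (nat_lit 134))) (.node (.leaf (nat_lit 69))
    (.leaf (nat_lit 289)))) (.node (.node (.leaf (nat_lit 37)) (.leaf (nat_lit 176))) (.leaf
    (nat_lit 102)))) (.node (.node (.node (.leaf (nat_lit 21)) (.leaf (nat_lit 153))) (.node (.leaf
    (nat_lit 85)) (.leaf (nat_lit 344)))) (.node (.node (.leaf (nat_lit 53)) (.leaf (nat_lit 265)))
    (.leaf (nat_lit 118))))) (.node (.node (.node (.node (.leaf (nat_lit 13)) (.leaf (nat_lit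
    142))) (.node (.leaf (nat_lit 77)) (.leaf (nat_lit 300)))) (.node (.node (.leaf (nat_lit 45))
    (.leaf (nat_lit 186))) (.leaf (nat_lit 110)))) (.node (.node (.node (.leaf (nat_lit 29)) (.leaf
    (nat_lit 166))) (.leaf (nat_lit 94))) (.node (.node (.leaf (nat_lit 61)) (.leaf (nat_lit 281)))
    (.leaf (nat_lit 126))))))) (.node (.node (.node (.node (.node (.node (.leaf (nat_lit 3)) (.leaf
    (nat_lit 132))) (.node (.leaf (nat_lit 67)) (.leaf (nat_lit 287)))) (.node (.node (.leaf
    (nat_lit 35)) (.leaf (nat_lit 173))) (.leaf (nat_lit 100)))) (.node (.node (.node (.leaf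
    (nat_lit 19)) (.leaf (nat_lit 148))) (.node (.leaf (nat_lit 83)) (.leaf (nat_lit 324)))) (.node
    (.node (.leaf (nat_lit 51)) (.leaf (nat_lit 237))) (.leaf (nat_lit 116))))) (.node (.node
    (.node (.node (.leaf (nat_lit 11)) (.leaf (nat_lit 140))) (.node (.leaf (nat_lit 75)) (.leaf
    (nat_lit 295)))) (.node (.node (.leaf (nat_lit 43)) (.leaf (nat_lit 184))) (.leaf (nat_lit
    108)))) (.node (.node (.node (.leaf (nat_lit 27)) (.leaf (nat_lit 164))) (.node (.leaf (nat_lit
    91)) (.leaf (nat_lit 359)))) (.node (.node (.leaf (nat_lit 59)) (.leaf (nat_lit 274))) (.leaf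
    (nat_lit 124)))))) (.node (.node (.node (.node (.node (.leaf (nat_lit 7)) (.leaf (nat_lit
    136))) (.node (.leaf (nat_lit 71)) (.leaf (nat_lit 291)))) (.node (.node (.leaf (nat_lit 39))
    (.leaf (nat_lit 178))) (.leaf (nat_lit 104)))) (.node (.node (.node (.leaf (nat_lit 23)) (.leaf
    (nat_lit 156))) (.node (.leaf (nat_lit 87)) (.leaf (nat_lit 348)))) (.node (.node (.leaf
    (nat_lit 55)) (.leaf (nat_lit 269))) (.leaf (nat_lit 120))))) (.node (.node (.node (.node
    (.leaf (nat_lit 15)) (.leaf (nat_lit 144))) (.node (.leaf (nat_lit 79)) (.leaf (nat_lit 305))))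
    (.node (.node (.leaf (nat_lit 47)) (.leaf (nat_lit 190))) (.leaf (nat_lit 112)))) (.node (.node
    (.node (.leaf (nat_lit 31)) (.leaf (nat_lit 168))) (.leaf (nat_lit 96))) (.node (.node (.leaf
    (nat_lit 63)) (.leaf (nat_lit 283))) (.leaf (nat_lit 128)))))))))

/-- Certificate data. -/
def p2_tb : Trie :=
    (.node (.node (.node (.node (.node (.node (.node (.node (.node (.node (.leaf (nat_lit 0))
    (.leaf (nat_lit 3212182))) (.node (.leaf (nat_lit 852326)) (.leaf (nat_lit 4119718)))) (.node
    (.node (.leaf (nat_lit 4228259)) (.leaf (nat_lit 6905276))) (.leaf (nat_lit 4785742)))) (.node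
    (.node (.node (.leaf (nat_lit 2196109)) (.leaf (nat_lit 2557172))) (.node (.leaf (nat_lit
    3956575)) (.leaf (nat_lit 6818513)))) (.node (.node (.leaf (nat_lit 6512005)) (.leaf (nat_lit
    2851633))) (.leaf (nat_lit 229469))))) (.node (.node (.node (.node (.leaf (nat_lit 524593))
    (.leaf (nat_lit 3113930))) (.node (.leaf (nat_lit 2261657)) (.leaf (nat_lit 2098459)))) (.node
    (.node (.leaf (nat_lit 5277231)) (.leaf (nat_lit 196728))) (.leaf (nat_lit 6381352)))) (.node
    (.node (.node (.leaf (nat_lit 4382340)) (.leaf (nat_lit 5594728))) (.node (.leaf (nat_lit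
    4359377)) (.leaf (nat_lit 5737010)))) (.node (.node (.leaf (nat_lit 229454)) (.leaf (nat_lit
    3989150))) (.leaf (nat_lit 590215)))))) (.node (.node (.node (.node (.node (.leaf (nat_lit
    1016108)) (.leaf (nat_lit 3539952))) (.node (.leaf (nat_lit 950782)) (.leaf (nat_lit
    4316321)))) (.node (.node (.leaf (nat_lit 2360658)) (.leaf (nat_lit 7134584))) (.leaf (nat_lit
    7167740)))) (.node (.node (.node (.leaf (nat_lit 5244458)) (.leaf (nat_lit 5047788))) (.node
    (.leaf (nat_lit 5014983)) (.leaf (nat_lit 4721070)))) (.node (.node (.leaf (nat_lit 4885195))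
    (.leaf (nat_lit 3769393))) (.leaf (nat_lit 1671665))))) (.node (.node (.node (.node (.leaf
    (nat_lit 885204)) (.leaf (nat_lit 4261040))) (.node (.leaf (nat_lit 4719945)) (.leaf (nat_lit
    2721280)))) (.node (.node (.leaf (nat_lit 3889681)) (.leaf (nat_lit 852246))) (.leaf (nat_lit
    5311368)))) (.node (.node (.node (.leaf (nat_lit 3300977)) (.leaf (nat_lit 5398226))) (.leaf
    (nat_lit 6752876))) (.node (.node (.leaf (nat_lit 1409448)) (.leaf (nat_lit 3366334))) (.leaf
    (nat_lit 1442344))))))) (.node (.node (.node (.node (.node (.node (.leaf (nat_lit 360563))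
    (.leaf (nat_lit 2645696))) (.node (.leaf (nat_lit 655789)) (.leaf (nat_lit 3432122)))) (.node
    (.node (.leaf (nat_lit 4490495)) (.leaf (nat_lit 5889623))) (.leaf (nat_lit 5670573)))) (.node
    (.node (.node (.leaf (nat_lit 2589415)) (.leaf (nat_lit 3202687))) (.node (.leaf (nat_lit
    3572727)) (.leaf (nat_lit 6118888)))) (.node (.node (.leaf (nat_lit 6588951)) (.leaf (nat_lit
    1606149))) (.leaf (nat_lit 1081656))))) (.node (.node (.node (.node (.leaf (nat_lit 2163327))
    (.leaf (nat_lit 2884626))) (.node (.leaf (nat_lit 5047778)) (.leaf (nat_lit 2983286)))) (.node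
    (.node (.leaf (nat_lit 5539445)) (.leaf (nat_lit 1474996))) (.leaf (nat_lit 6228535)))) (.node
    (.node (.node (.leaf (nat_lit 4326604)) (.leaf (nat_lit 6839886))) (.node (.leaf (nat_lit
    2295072)) (.leaf (nat_lit 6479671)))) (.node (.node (.leaf (nat_lit 426119)) (.leaf (nat_lit
    5375560))) (.leaf (nat_lit 688591)))))) (.node (.node (.node (.node (.node (.leaf (nat_lit
    1245567)) (.leaf (nat_lit 4546184))) (.node (.leaf (nat_lit 4261032)) (.leaf (nat_lit
    5801975)))) (.node (.node (.leaf (nat_lit 3704246)) (.leaf (nat_lit 295006))) (.leaf (nat_lit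
    5376434)))) (.node (.node (.node (.leaf (nat_lit 2917189)) (.leaf (nat_lit 5201552))) (.node
    (.leaf (nat_lit 3889679)) (.leaf (nat_lit 7036716)))) (.node (.node (.leaf (nat_lit 5376975))
    (.leaf (nat_lit 4785506))) (.leaf (nat_lit 2163318))))) (.node (.node (.node (.node (.leaf
    (nat_lit 3802170)) (.leaf (nat_lit 5998945))) (.node (.leaf (nat_lit 3301184)) (.leaf (nat_lit
    2885194)))) (.node (.node (.leaf (nat_lit 6479574)) (.leaf (nat_lit 1212783))) (.leaf (nat_lit
    6)))) (.node (.node (.node (.leaf (nat_lit 3966059)) (.leaf (nat_lit 4688336))) (.leaf (nat_lit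
    5211683))) (.node (.node (.leaf (nat_lit 1147222)) (.leaf (nat_lit 1639328))) (.leaf (nat_lit
    1180262)))))))) (.node (.node (.node (.node (.node (.node (.node (.leaf (nat_lit 131123))
    (.leaf (nat_lit 1376970))) (.node (.leaf (nat_lit 2687740)) (.leaf (nat_lit 4086940)))) (.node
    (.node (.leaf (nat_lit 5047790)) (.leaf (nat_lit 5856861))) (.leaf (nat_lit 5244568)))) (.node
    (.node (.node (.leaf (nat_lit 4621616)) (.leaf (nat_lit 6425062))) (.node (.leaf (nat_lit
    3441617)) (.leaf (nat_lit 4327404)))) (.node (.node (.leaf (nat_lit 6119135)) (.leaf (nat_lit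
    3277726))) (.leaf (nat_lit 885004))))) (.node (.node (.node (.node (.leaf (nat_lit 557403))
    (.leaf (nat_lit 2917358))) (.node (.leaf (nat_lit 1114791)) (.leaf (nat_lit 6195641)))) (.node
    (.node (.leaf (nat_lit 6785667)) (.leaf (nat_lit 262318))) (.leaf (nat_lit 5922148)))) (.node
    (.node (.node (.leaf (nat_lit 3235434)) (.leaf (nat_lit 7036462))) (.node (.leaf (nat_lit
    2491642)) (.leaf (nat_lit 5671635)))) (.node (.node (.leaf (nat_lit 131155)) (.leaf (nat_lit
    1311466))) (.leaf (nat_lit 1835562)))))) (.node (.node (.node (.node (.node (.leaf (nat_lit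
    1081661)) (.leaf (nat_lit 1704804))) (.node (.leaf (nat_lit 1868335)) (.leaf (nat_lit
    3693723)))) (.node (.node (.leaf (nat_lit 4185424)) (.leaf (nat_lit 32780))) (.leaf (nat_lit
    6064493)))) (.node (.node (.node (.leaf (nat_lit 2786081)) (.leaf (nat_lit 5267087))) (.node
    (.leaf (nat_lit 3015782)) (.leaf (nat_lit 6971192)))) (.node (.node (.leaf (nat_lit 5704582))
    (.leaf (nat_lit 4556052))) (.leaf (nat_lit 1966654))))) (.node (.node (.node (.node (.leaf
    (nat_lit 754169)) (.leaf (nat_lit 5900600))) (.node (.leaf (nat_lit 2097984)) (.leaf (nat_lit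
    6588953)))) (.node (.node (.leaf (nat_lit 6872431)) (.leaf (nat_lit 1245565))) (.leaf (nat_lit
    6020437)))) (.node (.node (.node (.leaf (nat_lit 3834951)) (.leaf (nat_lit 6512001))) (.leaf
    (nat_lit 2426285))) (.node (.node (.leaf (nat_lit 524538)) (.leaf (nat_lit 1672072))) (.leaf
    (nat_lit 950848))))))) (.node (.node (.node (.node (.node (.node (.leaf (nat_lit 819460))
    (.leaf (nat_lit 4293821))) (.node (.leaf (nat_lit 3212176)) (.leaf (nat_lit 2547351)))) (.node
    (.node (.leaf (nat_lit 6359512)) (.leaf (nat_lit 5660205))) (.leaf (nat_lit 5834827)))) (.node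
    (.node (.node (.leaf (nat_lit 3343283)) (.leaf (nat_lit 3890923))) (.node (.leaf (nat_lit
    3703835)) (.leaf (nat_lit 5955108)))) (.node (.node (.leaf (nat_lit 5954924)) (.leaf (nat_lit
    3867730))) (.leaf (nat_lit 295120))))) (.node (.node (.node (.node (.leaf (nat_lit 2884410))
    (.leaf (nat_lit 2589758))) (.node (.leaf (nat_lit 2654969)) (.leaf (nat_lit 5037293)))) (.node
    (.node (.leaf (nat_lit 7015335)) (.leaf (nat_lit 360695))) (.leaf (nat_lit 6479576)))) (.node
    (.node (.node (.leaf (nat_lit 3081203)) (.leaf (nat_lit 4229434))) (.node (.leaf (nat_lit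
    2164039)) (.leaf (nat_lit 7146500)))) (.node (.node (.leaf (nat_lit 688349)) (.leaf (nat_lit
    5408339))) (.leaf (nat_lit 3048305)))))) (.node (.node (.node (.node (.node (.leaf (nat_lit
    950557)) (.leaf (nat_lit 4742764))) (.node (.leaf (nat_lit 4523272)) (.leaf (nat_lit
    3268274)))) (.node (.node (.leaf (nat_lit 6949764)) (.leaf (nat_lit 557237))) (.leaf (nat_lit
    6872785)))) (.node (.node (.node (.leaf (nat_lit 2425708)) (.leaf (nat_lit 6119131))) (.node
    (.leaf (nat_lit 4250109)) (.leaf (nat_lit 6261264)))) (.node (.node (.leaf (nat_lit 2)) (.leaf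
    (nat_lit 4916631))) (.leaf (nat_lit 2130543))))) (.node (.node (.node (.node (.leaf (nat_lit
    2491087)) (.leaf (nat_lit 3933384))) (.node (.leaf (nat_lit 3366719)) (.leaf (nat_lit
    6916871)))) (.node (.node (.leaf (nat_lit 6446477)) (.leaf (nat_lit 2654963))) (.leaf (nat_lit
    32816)))) (.node (.node (.node (.leaf (nat_lit 4097163)) (.leaf (nat_lit 4655592))) (.leaf
    (nat_lit 6982554))) (.node (.node (.leaf (nat_lit 1704449)) (.leaf (nat_lit 4480693))) (.leaf
    (nat_lit 3441621))))))))) (.node (.node (.node (.node (.node (.node (.node (.node (.leaf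
    (nat_lit 98339)) (.leaf (nat_lit 1344184))) (.node (.leaf (nat_lit 590195)) (.leaf (nat_lit
    1999870)))) (.node (.node (.leaf (nat_lit 3474611)) (.leaf (nat_lit 6806954))) (.leaf (nat_lit
    6490619)))) (.node (.node (.node (.leaf (nat_lit 2130560)) (.leaf (nat_lit 3333751))) (.node
    (.leaf (nat_lit 4424945)) (.leaf (nat_lit 6687284)))) (.node (.node (.leaf (nat_lit 6392291))
    (.leaf (nat_lit 1704451))) (.leaf (nat_lit 491689))))) (.node (.node (.node (.node (.leaf
    (nat_lit 655686)) (.leaf (nat_lit 3245020))) (.node (.leaf (nat_lit 4556057)) (.leaf (nat_lit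
    2196788)))) (.node (.node (.leaf (nat_lit 5342781)) (.leaf (nat_lit 786681))) (.leaf (nat_lit
    4884984)))) (.node (.node (.node (.leaf (nat_lit 3671062)) (.leaf (nat_lit 5627583))) (.node
    (.leaf (nat_lit 3333986)) (.leaf (nat_lit 5540464)))) (.node (.node (.leaf (nat_lit 458890))
    (.leaf (nat_lit 5113342))) (.leaf (nat_lit 2523861)))))) (.node (.node (.node (.node (.node
    (.leaf (nat_lit 622789)) (.leaf (nat_lit 2875183))) (.node (.leaf (nat_lit 3539946)) (.leaf
    (nat_lit 4185266)))) (.node (.node (.leaf (nat_lit 6687278)) (.leaf (nat_lit 7101819))) (.leaf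
    (nat_lit 6643061)))) (.node (.node (.node (.leaf (nat_lit 4523282)) (.leaf (nat_lit 5015018)))
    (.node (.leaf (nat_lit 4119059)) (.leaf (nat_lit 5343686)))) (.node (.node (.leaf (nat_lit
    5442300)) (.leaf (nat_lit 4031613))) (.leaf (nat_lit 1802781))))) (.node (.node (.node (.node
    (.leaf (nat_lit 983530)) (.leaf (nat_lit 2416356))) (.node (.leaf (nat_lit 5113349)) (.leaf
    (nat_lit 2688528)))) (.node (.node (.leaf (nat_lit 5790041)) (.leaf (nat_lit 1933881))) (.leaf
    (nat_lit 5344172)))) (.node (.node (.node (.leaf (nat_lit 3627300)) (.leaf (nat_lit 5496540)))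
    (.leaf (nat_lit 6523397))) (.node (.node (.leaf (nat_lit 557284)) (.leaf (nat_lit 3464907)))
    (.leaf (nat_lit 4129932))))))) (.node (.node (.node (.node (.node (.node (.leaf (nat_lit
    229482)) (.leaf (nat_lit 4457719))) (.node (.leaf (nat_lit 917956)) (.leaf (nat_lit 2065492))))
    (.node (.node (.leaf (nat_lit 2327824)) (.leaf (nat_lit 6413753))) (.leaf (nat_lit 5736145))))
    (.node (.node (.node (.leaf (nat_lit 1770172)) (.leaf (nat_lit 3759705))) (.node (.leaf
    (nat_lit 3736619)) (.leaf (nat_lit 6151648)))) (.node (.node (.leaf (nat_lit 6654503)) (.leaf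
    (nat_lit 3605500))) (.leaf (nat_lit 1278336))))) (.node (.node (.node (.node (.leaf (nat_lit
    721318)) (.leaf (nat_lit 4939354))) (.node (.leaf (nat_lit 2589411)) (.leaf (nat_lit
    2327957)))) (.node (.node (.leaf (nat_lit 5605021)) (.leaf (nat_lit 327903))) (.leaf (nat_lit
    6785657)))) (.node (.node (.node (.leaf (nat_lit 5080572)) (.leaf (nat_lit 6872670))) (.node
    (.leaf (nat_lit 2393398)) (.leaf (nat_lit 6348583)))) (.node (.node (.leaf (nat_lit 491675))
    (.leaf (nat_lit 1442602))) (.leaf (nat_lit 786920)))))) (.node (.node (.node (.node (.node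
    (.leaf (nat_lit 393479)) (.leaf (nat_lit 2261908))) (.node (.leaf (nat_lit 2064987)) (.leaf
    (nat_lit 2449220)))) (.node (.node (.leaf (nat_lit 3409384)) (.leaf (nat_lit 426113))) (.leaf
    (nat_lit 6348579)))) (.node (.node (.node (.leaf (nat_lit 2982741)) (.leaf (nat_lit 5168778)))
    (.node (.leaf (nat_lit 6031720)) (.leaf (nat_lit 4753910)))) (.node (.node (.leaf (nat_lit
    6884348)) (.leaf (nat_lit 1082014))) (.leaf (nat_lit 524609))))) (.node (.node (.node (.node
    (.leaf (nat_lit 4064390)) (.leaf (nat_lit 3966126))) (.node (.leaf (nat_lit 3113861)) (.leaf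
    (nat_lit 2917980)))) (.node (.node (.leaf (nat_lit 6184384)) (.leaf (nat_lit 1180026))) (.leaf
    (nat_lit 163896)))) (.node (.node (.node (.leaf (nat_lit 3758623)) (.leaf (nat_lit 6249934)))
    (.leaf (nat_lit 5146134))) (.node (.node (.leaf (nat_lit 2032208)) (.leaf (nat_lit 3399077)))
    (.leaf (nat_lit 1147512)))))))) (.node (.node (.node (.node (.node (.node (.node (.leaf
    (nat_lit 196678)) (.leaf (nat_lit 4490499))) (.node (.leaf (nat_lit 623005)) (.leaf (nat_lit
    1967142)))) (.node (.node (.leaf (nat_lit 4424935)) (.leaf (nat_lit 6577595))) (.leaf (nat_lit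
    6949770)))) (.node (.node (.node (.leaf (nat_lit 4851058)) (.leaf (nat_lit 6457839))) (.node
    (.leaf (nat_lit 3507171)) (.leaf (nat_lit 4261956)))) (.node (.node (.leaf (nat_lit 6086087))
    (.leaf (nat_lit 3310503))) (.leaf (nat_lit 360596))))) (.node (.node (.node (.node (.leaf
    (nat_lit 1737225)) (.leaf (nat_lit 4906570))) (.node (.leaf (nat_lit 3834961)) (.leaf (nat_lit
    2262372)))) (.node (.node (.leaf (nat_lit 7146490)) (.leaf (nat_lit 622795))) (.leaf (nat_lit
    7179282)))) (.node (.node (.node (.leaf (nat_lit 1967028)) (.leaf (nat_lit 6970920))) (.node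
    (.leaf (nat_lit 2884874)) (.leaf (nat_lit 5507832)))) (.node (.node (.leaf (nat_lit 360559))
    (.leaf (nat_lit 5211679))) (.leaf (nat_lit 3015522)))))) (.node (.node (.node (.node (.node
    (.leaf (nat_lit 1606104)) (.leaf (nat_lit 2360190))) (.node (.leaf (nat_lit 3605505)) (.leaf
    (nat_lit 5867601)))) (.node (.node (.leaf (nat_lit 5922276)) (.leaf (nat_lit 98347))) (.leaf
    (nat_lit 6130045)))) (.node (.node (.node (.leaf (nat_lit 5506670)) (.leaf (nat_lit 5299771)))
    (.node (.leaf (nat_lit 5769203)) (.leaf (nat_lit 5278172)))) (.node (.node (.leaf (nat_lit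
    5180325)) (.leaf (nat_lit 4588829))) (.leaf (nat_lit 426278))))) (.node (.node (.node (.node
    (.leaf (nat_lit 3015531)) (.leaf (nat_lit 1934478))) (.node (.leaf (nat_lit 5637796)) (.leaf
    (nat_lit 6654507)))) (.node (.node (.leaf (nat_lit 6839671)) (.leaf (nat_lit 2392750))) (.leaf
    (nat_lit 6556672)))) (.node (.node (.node (.leaf (nat_lit 5855755)) (.leaf (nat_lit 6610389)))
    (.leaf (nat_lit 4457956))) (.node (.node (.leaf (nat_lit 1737231)) (.leaf (nat_lit 3104424)))
    (.leaf (nat_lit 1868372))))))) (.node (.node (.node (.node (.node (.node (.leaf (nat_lit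
    327826)) (.leaf (nat_lit 2973490))) (.node (.leaf (nat_lit 3408838)) (.leaf (nat_lit
    2032756)))) (.node (.node (.leaf (nat_lit 6556172)) (.leaf (nat_lit 5725739))) (.leaf (nat_lit
    3999816)))) (.node (.node (.node (.leaf (nat_lit 2229000)) (.leaf (nat_lit 3661411))) (.node
    (.leaf (nat_lit 1901608)) (.leaf (nat_lit 5987811)))) (.node (.node (.leaf (nat_lit 7113703))
    (.leaf (nat_lit 983604))) (.leaf (nat_lit 1638886))))) (.node (.node (.node (.node (.leaf
    (nat_lit 1343934)) (.leaf (nat_lit 4972268))) (.node (.leaf (nat_lit 2720525)) (.leaf (nat_lit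
    5004518)))) (.node (.node (.leaf (nat_lit 5113548)) (.leaf (nat_lit 819480))) (.leaf (nat_lit
    6916865)))) (.node (.node (.node (.leaf (nat_lit 4020871)) (.leaf (nat_lit 4196694))) (.node
    (.leaf (nat_lit 6162869)) (.leaf (nat_lit 7113730)))) (.node (.node (.leaf (nat_lit 1212776))
    (.leaf (nat_lit 4949417))) (.leaf (nat_lit 852502)))))) (.node (.node (.node (.node (.node
    (.leaf (nat_lit 1671669)) (.leaf (nat_lit 1737644))) (.node (.leaf (nat_lit 2753308)) (.leaf
    (nat_lit 6162860)))) (.node (.node (.leaf (nat_lit 5637800)) (.leaf (nat_lit 688342))) (.leaf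
    (nat_lit 6720084)))) (.node (.node (.node (.leaf (nat_lit 3202689)) (.leaf (nat_lit 6151695)))
    (.node (.leaf (nat_lit 4293815)) (.leaf (nat_lit 6392352)))) (.node (.node (.leaf (nat_lit
    65567)) (.leaf (nat_lit 3956562))) (.leaf (nat_lit 2491080))))) (.node (.node (.node (.node
    (.leaf (nat_lit 4392154)) (.leaf (nat_lit 3572956))) (.node (.leaf (nat_lit 3244955)) (.leaf
    (nat_lit 6884091)))) (.node (.node (.leaf (nat_lit 6261197)) (.leaf (nat_lit 1147298))) (.leaf
    (nat_lit 65601)))) (.node (.node (.node (.leaf (nat_lit 4971851)) (.leaf (nat_lit 6544770)))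
    (.leaf (nat_lit 5572246))) (.node (.node (.leaf (nat_lit 2327202)) (.leaf (nat_lit 3858085)))
    (.leaf (nat_lit 4021987)))))))))) (.node (.node (.node (.node (.node (.node (.node (.node
    (.node (.leaf (nat_lit 65560)) (.leaf (nat_lit 4054761))) (.node (.leaf (nat_lit 1245557))
    (.leaf (nat_lit 5769194)))) (.node (.node (.leaf (nat_lit 1934497)) (.leaf (nat_lit 6675926)))
    (.leaf (nat_lit 6195647)))) (.node (.node (.node (.leaf (nat_lit 1311346)) (.leaf (nat_lit
    2688256))) (.node (.leaf (nat_lit 3399485)) (.leaf (nat_lit 6851301)))) (.node (.node (.leaf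
    (nat_lit 6151697)) (.leaf (nat_lit 655798))) (.leaf (nat_lit 655566))))) (.node (.node (.node
    (.node (.leaf (nat_lit 1114441)) (.leaf (nat_lit 2327511))) (.node (.leaf (nat_lit 1082007))
    (.leaf (nat_lit 6490612)))) (.node (.node (.leaf (nat_lit 2623021)) (.leaf (nat_lit 163967)))
    (.leaf (nat_lit 6610718)))) (.node (.node (.node (.leaf (nat_lit 3563130)) (.leaf (nat_lit
    5529282))) (.node (.leaf (nat_lit 2000079)) (.leaf (nat_lit 5704272)))) (.node (.node (.leaf
    (nat_lit 327782)) (.leaf (nat_lit 4415128))) (.leaf (nat_lit 2458305)))))) (.node (.node (.node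
    (.node (.node (.leaf (nat_lit 1147212)) (.leaf (nat_lit 3671060))) (.node (.leaf (nat_lit
    1180172)) (.leaf (nat_lit 4381871)))) (.node (.node (.leaf (nat_lit 2721120)) (.leaf (nat_lit
    7200125))) (.leaf (nat_lit 7134962)))) (.node (.node (.node (.leaf (nat_lit 5310006)) (.leaf
    (nat_lit 5080570))) (.node (.leaf (nat_lit 4982191)) (.leaf (nat_lit 4524471)))) (.node (.node
    (.leaf (nat_lit 4917981)) (.leaf (nat_lit 3638277))) (.leaf (nat_lit 1770004))))) (.node (.node
    (.node (.node (.leaf (nat_lit 1376730)) (.leaf (nat_lit 4326602))) (.node (.leaf (nat_lit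
    4752727)) (.leaf (nat_lit 2557447)))) (.node (.node (.leaf (nat_lit 3922433)) (.leaf (nat_lit
    917795))) (.leaf (nat_lit 5507992)))) (.node (.node (.node (.leaf (nat_lit 3114018)) (.leaf
    (nat_lit 5463558))) (.leaf (nat_lit 5441121))) (.node (.node (.leaf (nat_lit 786685)) (.leaf
    (nat_lit 3038682))) (.leaf (nat_lit 2032214))))))) (.node (.node (.node (.node (.node (.node
    (.leaf (nat_lit 590014)) (.leaf (nat_lit 2678470))) (.node (.leaf (nat_lit 2622189)) (.leaf
    (nat_lit 3137186)))) (.node (.node (.leaf (nat_lit 2065661)) (.leaf (nat_lit 5824103))) (.leaf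
    (nat_lit 2950827)))) (.node (.node (.node (.leaf (nat_lit 4152645)) (.leaf (nat_lit 3300975)))
    (.node (.leaf (nat_lit 1770485)) (.leaf (nat_lit 6086458)))) (.node (.node (.leaf (nat_lit
    4655637)) (.leaf (nat_lit 1507859))) (.leaf (nat_lit 1114435))))) (.node (.node (.node (.node
    (.leaf (nat_lit 688538)) (.leaf (nat_lit 4392159))) (.node (.leaf (nat_lit 5080560)) (.leaf
    (nat_lit 2360718)))) (.node (.node (.leaf (nat_lit 2819699)) (.leaf (nat_lit 491736))) (.leaf
    (nat_lit 6446816)))) (.node (.node (.node (.leaf (nat_lit 4293819)) (.leaf (nat_lit 6708836)))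
    (.node (.leaf (nat_lit 2917670)) (.leaf (nat_lit 6315805)))) (.node (.node (.leaf (nat_lit
    295044)) (.leaf (nat_lit 5441114))) (.leaf (nat_lit 3343274)))))) (.node (.node (.node (.node
    (.node (.leaf (nat_lit 852233)) (.leaf (nat_lit 4775548))) (.node (.leaf (nat_lit 4326592))
    (.leaf (nat_lit 4250796)))) (.node (.node (.leaf (nat_lit 3245520)) (.leaf (nat_lit 393334)))
    (.leaf (nat_lit 4819388)))) (.node (.node (.node (.leaf (nat_lit 1442627)) (.leaf (nat_lit
    5135928))) (.node (.leaf (nat_lit 4086313)) (.leaf (nat_lit 7003936)))) (.node (.node (.leaf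
    (nat_lit 5409765)) (.leaf (nat_lit 4818283))) (.leaf (nat_lit 557370))))) (.node (.node (.node
    (.node (.leaf (nat_lit 3933282)) (.leaf (nat_lit 5933377))) (.node (.leaf (nat_lit 3202882))
    (.leaf (nat_lit 2754129)))) (.node (.node (.leaf (nat_lit 6315528)) (.leaf (nat_lit 1048940)))
    (.leaf (nat_lit 131118)))) (.node (.node (.node (.leaf (nat_lit 1868905)) (.leaf (nat_lit
    4557267))) (.leaf (nat_lit 2852362))) (.node (.node (.leaf (nat_lit 1048887)) (.leaf (nat_lit
    1573797))) (.leaf (nat_lit 1016429)))))))) (.node (.node (.node (.node (.node (.node (.node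
    (.leaf (nat_lit 163903)) (.leaf (nat_lit 1245907))) (.node (.leaf (nat_lit 1376671)) (.leaf
    (nat_lit 5834818)))) (.node (.node (.leaf (nat_lit 3507412)) (.leaf (nat_lit 5791309))) (.leaf
    (nat_lit 7015343)))) (.node (.node (.node (.leaf (nat_lit 4752735)) (.leaf (nat_lit 3169927)))
    (.node (.leaf (nat_lit 1639375)) (.leaf (nat_lit 3573749)))) (.node (.node (.leaf (nat_lit
    6544782)) (.leaf (nat_lit 1737233))) (.leaf (nat_lit 983332))))) (.node (.node (.node (.node
    (.leaf (nat_lit 1704443)) (.leaf (nat_lit 4424941))) (.node (.leaf (nat_lit 4687171)) (.leaf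
    (nat_lit 6523391)))) (.node (.node (.leaf (nat_lit 6752884)) (.leaf (nat_lit 229555))) (.leaf
    (nat_lit 6818511)))) (.node (.node (.node (.leaf (nat_lit 3464820)) (.leaf (nat_lit 7003696)))
    (.node (.leaf (nat_lit 2524422)) (.leaf (nat_lit 5638887)))) (.node (.node (.leaf (nat_lit
    393339)) (.leaf (nat_lit 1278705))) (.leaf (nat_lit 1498824)))))) (.node (.node (.node (.node
    (.node (.leaf (nat_lit 1507772)) (.leaf (nat_lit 1508207))) (.node (.leaf (nat_lit 885293))
    (.leaf (nat_lit 3562665)))) (.node (.node (.leaf (nat_lit 5987661)) (.leaf (nat_lit 14)))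
    (.leaf (nat_lit 4131179)))) (.node (.node (.node (.leaf (nat_lit 1409823)) (.leaf (nat_lit
    5365309))) (.node (.leaf (nat_lit 3048560)) (.leaf (nat_lit 7069476)))) (.node (.node (.leaf
    (nat_lit 5737366)) (.leaf (nat_lit 4654386))) (.leaf (nat_lit 1999433))))) (.node (.node (.node
    (.node (.leaf (nat_lit 786951)) (.leaf (nat_lit 5966164))) (.node (.leaf (nat_lit 2130764))
    (.leaf (nat_lit 6228424)))) (.node (.node (.leaf (nat_lit 4808159)) (.leaf (nat_lit 2294428)))
    (.leaf (nat_lit 6392810)))) (.node (.node (.node (.leaf (nat_lit 1836101)) (.leaf (nat_lit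
    6184326))) (.leaf (nat_lit 2459077))) (.node (.node (.leaf (nat_lit 1606116)) (.leaf (nat_lit
    1541003))) (.leaf (nat_lit 918087))))))) (.node (.node (.node (.node (.node (.node (.leaf
    (nat_lit 917778)) (.leaf (nat_lit 4359383))) (.node (.leaf (nat_lit 1016290)) (.leaf (nat_lit
    2482007)))) (.node (.node (.leaf (nat_lit 2557230)) (.leaf (nat_lit 5758517))) (.leaf (nat_lit
    4032506)))) (.node (.node (.node (.leaf (nat_lit 1999574)) (.leaf (nat_lit 3792467))) (.node
    (.leaf (nat_lit 1803289)) (.leaf (nat_lit 6020956)))) (.node (.node (.leaf (nat_lit 6020464))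
    (.leaf (nat_lit 3998834))) (.leaf (nat_lit 1540552))))) (.node (.node (.node (.node (.leaf
    (nat_lit 2949966)) (.leaf (nat_lit 2720842))) (.node (.leaf (nat_lit 1475318)) (.leaf (nat_lit
    5102830)))) (.node (.node (.leaf (nat_lit 7048115)) (.leaf (nat_lit 950561))) (.leaf (nat_lit
    6654690)))) (.node (.node (.node (.leaf (nat_lit 5014991)) (.leaf (nat_lit 4065599))) (.node
    (.leaf (nat_lit 2196821)) (.leaf (nat_lit 7179280)))) (.node (.node (.leaf (nat_lit 753907))
    (.leaf (nat_lit 5473895))) (.leaf (nat_lit 3376059)))))) (.node (.node (.node (.node (.node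
    (.leaf (nat_lit 426267)) (.leaf (nat_lit 4644472))) (.node (.leaf (nat_lit 4621604)) (.leaf
    (nat_lit 3497646)))) (.node (.node (.leaf (nat_lit 6982548)) (.leaf (nat_lit 131168))) (.leaf
    (nat_lit 6708943)))) (.node (.node (.node (.leaf (nat_lit 1803124)) (.leaf (nat_lit 6086149)))
    (.node (.leaf (nat_lit 3922395)) (.leaf (nat_lit 5311003)))) (.node (.node (.leaf (nat_lit
    32786)) (.leaf (nat_lit 1114800))) (.leaf (nat_lit 2425526))))) (.node (.node (.node (.node
    (.leaf (nat_lit 3376063)) (.leaf (nat_lit 2753753))) (.node (.leaf (nat_lit 3989345)) (.leaf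
    (nat_lit 6785665)))) (.node (.node (.leaf (nat_lit 6348170)) (.leaf (nat_lit 1016214))) (.leaf
    (nat_lit 98362)))) (.node (.node (.node (.leaf (nat_lit 1901705)) (.leaf (nat_lit 4590061)))
    (.leaf (nat_lit 7048123))) (.node (.node (.leaf (nat_lit 2228884)) (.leaf (nat_lit 3530444)))
    (.leaf (nat_lit 3081088))))))))) (.node (.node (.node (.node (.node (.node (.node (.node (.leaf
    (nat_lit 32801)) (.leaf (nat_lit 1213119))) (.node (.leaf (nat_lit 2556636)) (.leaf (nat_lit
    1770499)))) (.node (.node (.leaf (nat_lit 3333747)) (.leaf (nat_lit 6381009))) (.leaf (nat_lit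
    4916842)))) (.node (.node (.node (.leaf (nat_lit 1278602)) (.leaf (nat_lit 6293966))) (.node
    (.leaf (nat_lit 4392162)) (.leaf (nat_lit 6720082)))) (.node (.node (.leaf (nat_lit 4590049))
    (.leaf (nat_lit 3146630))) (.leaf (nat_lit 327797))))) (.node (.node (.node (.node (.leaf
    (nat_lit 1179997)) (.leaf (nat_lit 2229225))) (.node (.leaf (nat_lit 2359977)) (.leaf (nat_lit
    2131259)))) (.node (.node (.leaf (nat_lit 2655803)) (.leaf (nat_lit 721121))) (.leaf (nat_lit
    5474818)))) (.node (.node (.node (.leaf (nat_lit 3572731)) (.leaf (nat_lit 5562053))) (.node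
    (.leaf (nat_lit 3170148)) (.leaf (nat_lit 5606014)))) (.node (.node (.leaf (nat_lit 262229))
    (.leaf (nat_lit 5178894))) (.leaf (nat_lit 2064993)))))) (.node (.node (.node (.node (.node
    (.leaf (nat_lit 295107)) (.leaf (nat_lit 2842421))) (.node (.leaf (nat_lit 3671050)) (.leaf
    (nat_lit 4152497)))) (.node (.node (.leaf (nat_lit 6720072)) (.leaf (nat_lit 7167358))) (.leaf
    (nat_lit 6282599)))) (.node (.node (.node (.leaf (nat_lit 2261782)) (.leaf (nat_lit 4982264)))
    (.node (.leaf (nat_lit 4217342)) (.leaf (nat_lit 6621730)))) (.node (.node (.leaf (nat_lit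
    5475080)) (.leaf (nat_lit 3900507))) (.leaf (nat_lit 393486))))) (.node (.node (.node (.node
    (.leaf (nat_lit 1638898)) (.leaf (nat_lit 2318054))) (.node (.leaf (nat_lit 5178905)) (.leaf
    (nat_lit 2590237)))) (.node (.node (.leaf (nat_lit 5822810)) (.leaf (nat_lit 1376677))) (.leaf
    (nat_lit 5606328)))) (.node (.node (.node (.leaf (nat_lit 3660071)) (.leaf (nat_lit 5430796)))
    (.leaf (nat_lit 6884084))) (.node (.node (.leaf (nat_lit 721136)) (.leaf (nat_lit 4513453)))
    (.leaf (nat_lit 4162709))))))) (.node (.node (.node (.node (.node (.node (.leaf (nat_lit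
    491685)) (.leaf (nat_lit 3802177))) (.node (.leaf (nat_lit 3081084)) (.leaf (nat_lit
    1836121)))) (.node (.node (.leaf (nat_lit 6228420)) (.leaf (nat_lit 6643117))) (.leaf (nat_lit
    2983631)))) (.node (.node (.node (.leaf (nat_lit 3048311)) (.leaf (nat_lit 3628617))) (.node
    (.leaf (nat_lit 1934344)) (.leaf (nat_lit 6053411)))) (.node (.node (.leaf (nat_lit 4688421))
    (.leaf (nat_lit 3736612))) (.leaf (nat_lit 1311113))))) (.node (.node (.node (.node (.leaf
    (nat_lit 2753304)) (.leaf (nat_lit 4841040))) (.node (.leaf (nat_lit 1278689)) (.leaf (nat_lit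
    2950571)))) (.node (.node (.leaf (nat_lit 2852507)) (.leaf (nat_lit 458986))) (.leaf (nat_lit
    4852343)))) (.node (.node (.node (.leaf (nat_lit 3169923)) (.leaf (nat_lit 6741588))) (.node
    (.leaf (nat_lit 4654400)) (.leaf (nat_lit 6446891)))) (.node (.node (.leaf (nat_lit 196761))
    (.leaf (nat_lit 1409839))) (.leaf (nat_lit 721391)))))) (.node (.node (.node (.node (.node
    (.leaf (nat_lit 1540557)) (.leaf (nat_lit 3408844))) (.node (.leaf (nat_lit 983641)) (.leaf
    (nat_lit 2514593)))) (.node (.node (.leaf (nat_lit 4261366)) (.leaf (nat_lit 524460))) (.leaf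
    (nat_lit 7080919)))) (.node (.node (.node (.leaf (nat_lit 1475411)) (.leaf (nat_lit 5234238)))
    (.node (.leaf (nat_lit 6097270)) (.leaf (nat_lit 4622845)))) (.node (.node (.leaf (nat_lit
    6917128)) (.leaf (nat_lit 4883852))) (.leaf (nat_lit 2196103))))) (.node (.node (.node (.node
    (.leaf (nat_lit 4195482)) (.leaf (nat_lit 2786495))) (.node (.leaf (nat_lit 1540995)) (.leaf
    (nat_lit 2786917)))) (.node (.node (.leaf (nat_lit 6217160)) (.leaf (nat_lit 2622184))) (.leaf
    (nat_lit 196675)))) (.node (.node (.node (.leaf (nat_lit 3791397)) (.leaf (nat_lit 6774198)))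
    (.leaf (nat_lit 2819616))) (.node (.node (.leaf (nat_lit 819544)) (.leaf (nat_lit 3071453)))
    (.leaf (nat_lit 1049221)))))))) (.node (.node (.node (.node (.node (.node (.node (.leaf
    (nat_lit 458902)) (.leaf (nat_lit 3834957))) (.node (.leaf (nat_lit 1442223)) (.leaf (nat_lit
    1803311)))) (.node (.node (.leaf (nat_lit 2032869)) (.leaf (nat_lit 6282671))) (.leaf (nat_lit
    5277346)))) (.node (.node (.node (.leaf (nat_lit 2687750)) (.leaf (nat_lit 6326741))) (.node
    (.leaf (nat_lit 1672161)) (.leaf (nat_lit 3704911)))) (.node (.node (.leaf (nat_lit 6053315))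
    (.leaf (nat_lit 3179405))) (.leaf (nat_lit 458923))))) (.node (.node (.node (.node (.leaf
    (nat_lit 2097771)) (.leaf (nat_lit 4808288))) (.node (.leaf (nat_lit 3802178)) (.leaf (nat_lit
    2229609)))) (.node (.node (.leaf (nat_lit 7179270)) (.leaf (nat_lit 590029))) (.leaf (nat_lit
    6315803)))) (.node (.node (.node (.leaf (nat_lit 2524092)) (.leaf (nat_lit 7069238))) (.node
    (.leaf (nat_lit 4588835)) (.leaf (nat_lit 5573380)))) (.node (.node (.leaf (nat_lit 163949))
    (.leaf (nat_lit 5146121))) (.leaf (nat_lit 754122)))))) (.node (.node (.node (.node (.node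
    (.leaf (nat_lit 1212784)) (.leaf (nat_lit 3474398))) (.node (.leaf (nat_lit 3769399)) (.leaf
    (nat_lit 4218018)))) (.node (.node (.leaf (nat_lit 2393507)) (.leaf (nat_lit 65581))) (.leaf
    (nat_lit 4163963)))) (.node (.node (.node (.leaf (nat_lit 5572236)) (.leaf (nat_lit 5332621)))
    (.node (.leaf (nat_lit 5867605)) (.leaf (nat_lit 6556178)))) (.node (.node (.leaf (nat_lit
    5213105)) (.leaf (nat_lit 4687165))) (.leaf (nat_lit 2097764))))) (.node (.node (.node (.node
    (.leaf (nat_lit 2458309)) (.leaf (nat_lit 1901715))) (.node (.leaf (nat_lit 5703366)) (.leaf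
    (nat_lit 6359518)))) (.node (.node (.leaf (nat_lit 4840786)) (.leaf (nat_lit 1343897))) (.leaf
    (nat_lit 5987678)))) (.node (.node (.node (.leaf (nat_lit 5888505)) (.leaf (nat_lit 6938032)))
    (.leaf (nat_lit 4490738))) (.node (.node (.leaf (nat_lit 1835556)) (.leaf (nat_lit 3825337)))
    (.leaf (nat_lit 1409635))))))) (.node (.node (.node (.node (.node (.node (.leaf (nat_lit
    262310)) (.leaf (nat_lit 3006256))) (.node (.leaf (nat_lit 3474392)) (.leaf (nat_lit
    1868923)))) (.node (.node (.leaf (nat_lit 6621724)) (.leaf (nat_lit 5692979))) (.leaf (nat_lit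
    5802066)))) (.node (.node (.node (.leaf (nat_lit 4719953)) (.leaf (nat_lit 3923697))) (.node
    (.leaf (nat_lit 3638324)) (.leaf (nat_lit 5922279)))) (.node (.node (.leaf (nat_lit 7080913))
    (.leaf (nat_lit 885303))) (.leaf (nat_lit 1573329))))) (.node (.node (.node (.node (.leaf
    (nat_lit 1573335)) (.leaf (nat_lit 4873966))) (.node (.leaf (nat_lit 1311499)) (.leaf (nat_lit
    5070057)))) (.node (.node (.leaf (nat_lit 5146328)) (.leaf (nat_lit 1901106))) (.leaf (nat_lit
    4950783)))) (.node (.node (.node (.leaf (nat_lit 4053507)) (.leaf (nat_lit 4098399))) (.node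
    (.leaf (nat_lit 5408343)) (.leaf (nat_lit 7080974)))) (.node (.node (.leaf (nat_lit 1343890))
    (.leaf (nat_lit 4851064))) (.leaf (nat_lit 819739)))))) (.node (.node (.node (.node (.node
    (.leaf (nat_lit 1048883)) (.leaf (nat_lit 1606585))) (.node (.leaf (nat_lit 2786087)) (.leaf
    (nat_lit 2163990)))) (.node (.node (.leaf (nat_lit 5670579)) (.leaf (nat_lit 753896))) (.leaf
    (nat_lit 5954912)))) (.node (.node (.node (.leaf (nat_lit 4982197)) (.leaf (nat_lit 6053589)))
    (.node (.leaf (nat_lit 1967285)) (.leaf (nat_lit 5245485)))) (.node (.node (.leaf (nat_lit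
    98344)) (.leaf (nat_lit 4448071))) (.leaf (nat_lit 622978))))) (.node (.node (.node (.node
    (.leaf (nat_lit 4457714)) (.leaf (nat_lit 3704042))) (.node (.leaf (nat_lit 1573785)) (.leaf
    (nat_lit 6752883)))) (.node (.node (.leaf (nat_lit 4557259)) (.leaf (nat_lit 2818856))) (.leaf
    (nat_lit 262235)))) (.node (.node (.node (.leaf (nat_lit 2317646)) (.leaf (nat_lit 6217097)))
    (.leaf (nat_lit 5539449))) (.node (.node (.leaf (nat_lit 1507782)) (.leaf (nat_lit 3235499)))
    (.leaf (nat_lit 3507175)))))))))))

/-- Certificate data. -/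
def p2_C : TC.Cert := ⟨12, 4095, 15, 32767, 954153212964953290490700169728, 6654, p2_par, p2_fact, p2_just, p2_rel, 118⟩

/-- Certificate data. -/
def p2_rs : List (List ℕ) := [[1, 1, 1], [3, 3, 3], [5, 5, 5], [1, 3, 2, 4, 6], [5, 1, 6, 2], [5, 3, 6, 4], [12, 12], [11, 11], [12, 11, 12, 11], [7, 7, 12], [7, 3, 7, 3, 7, 3], [7, 1, 8, 5], [7, 5, 8, 2], [12, 3, 12, 4], [11, 7, 11, 7], [11, 1, 11, 2], [11, 3, 11, 3], [11, 5, 11, 5], [12, 1, 12, 1], [12, 5, 12, 5], [9, 9, 11], [9, 1, 9, 1, 9, 1], [9, 3, 10, 6], [9, 5, 10, 3], [12, 9, 12, 9], [9, 7, 10, 7, 9, 8, 5, 9, 7, 10, 7, 9, 8, 5, 9, 7, 10, 7, 9, 8, 5, 11, 12]]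

/-- Certificate data. -/
def p2_gl : List ℕ := [1, 56323, 112647, 168969]

theorem p2_h1_0 : allR p2_C.factChk 0 753 = true := by decide +kernel

theorem p2_h1_1 : allR p2_C.factChk 753 772 = true := by decide +kernel

theorem p2_h1_2 : allR p2_C.factChk 1525 784 = true := by decide +kernel

theorem p2_h1_3 : allR p2_C.factChk 2309 810 = true := by decide +kernel

theorem p2_h1_4 : allR p2_C.factChk 3119 826 = true := by decide +kernel

theorem p2_h1_5 : allR p2_C.factChk 3945 826 = true := by decide +kernel

theorem p2_h1_6 : allR p2_C.factChk 4771 823 = true := by decide +kernel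

theorem p2_h1_7 : allR p2_C.factChk 5594 882 = true := by decide +kernel

theorem p2_h1_8 : allR p2_C.factChk 6476 856 = true := by decide +kernel

theorem p2_h1_9 : allR p2_C.factChk 7332 857 = true := by decide +kernel

theorem p2_h1_10 : allR p2_C.factChk 8189 832 = true := by decide +kernel

theorem p2_h1_11 : allR p2_C.factChk 9021 765 = true := by decide +kernel

theorem p2_h1_12 : allR p2_C.factChk 9786 588 = true := by decide +kernel

theorem p2_h1_13 : allR p2_C.factChk 10374 595 = true := by decide +kernel

theorem p2_h1_14 : allR p2_C.factChk 10969 600 = true := by decide +kernel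

theorem p2_h1_15 : allR p2_C.factChk 11569 642 = true := by decide +kernel

theorem p2_h1 : allB p2_C.factChk 12211 = true :=
  allB_of_allR (a := 12211)
    (allR_append (allR_append (allR_append (allR_append (allR_append (allR_append (allR_append
    (allR_append (allR_append (allR_append (allR_append (allR_append (allR_append (allR_append
    (allR_append (p2_h1_0) p2_h1_1) p2_h1_2) p2_h1_3) p2_h1_4) p2_h1_5) p2_h1_6) p2_h1_7) p2_h1_8)
    p2_h1_9) p2_h1_10) p2_h1_11) p2_h1_12) p2_h1_13) p2_h1_14) p2_h1_15)

theorem p2_h2 : p2_C.finChk 12211 220 p2_lv p2_tb p2_gl = true := by decide +kernel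

theorem p2_h3 : TC.relChk p2_C.ivc p2_rs p2_C.rel p2_rc p2_C.nrel = true := by decide +kernel

theorem p2_bound {G : Type*} [Group G] {x y z u v r s : G}
    (r0 : x * x * x = 1)
    (r1 : y * y * y = 1)
    (r2 : z * z * z = 1)
    (r3 : x * y * x⁻¹ * y⁻¹ * z⁻¹ = 1)
    (r4 : z * x * z⁻¹ * x⁻¹ = 1)
    (r5 : z * y * z⁻¹ * y⁻¹ = 1)
    (r6 : s * s = 1)
    (r7 : r * r = 1)
    (r8 : s * r * s * r = 1)
    (r9 : u * u * s = 1)
    (r10 : u * y * u * y * u * y = 1)
    (r11 : u * x * u⁻¹ * z = 1)
    (r12 : u * z * u⁻¹ * x⁻¹ = 1)
    (r13 : s * y * s * y⁻¹ = 1)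
    (r14 : r * u * r * u = 1)
    (r15 : r * x * r * x⁻¹ = 1)
    (r16 : r * y * r * y = 1)
    (r17 : r * z * r * z = 1)
    (r18 : s * x * s * x = 1)
    (r19 : s * z * s * z = 1)
    (r20 : v * v * r = 1)
    (r21 : v * x * v * x * v * x = 1)
    (r22 : v * y * v⁻¹ * z⁻¹ = 1)
    (r23 : v * z * v⁻¹ * y = 1)
    (r24 : s * v * s * v = 1)
    (r25 : v * u * v⁻¹ * u * v * u⁻¹ * z * v * u * v⁻¹ * u * v * u⁻¹ * z * v * u * v⁻¹ * u * v *
    u⁻¹ * z * r * s = 1)
    (H : Subgroup G) [Finite H] (m1 : x ∈ H) (m3 : y ∈ H) (m5 : z ∈ H) (m7 : u ∈ H) (m11 : r ∈ H) (m12 : s ∈ H) :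
    Finite (Subgroup.closure ({x, y, u, v} : Set G)) ∧
      Nat.card (Subgroup.closure ({x, y, u, v} : Set G)) ≤ 220 * Nat.card H := by
  have hL : TC.Lett (TC.lett [x, x⁻¹, y, y⁻¹, z, z⁻¹, u, u⁻¹, v, v⁻¹, r, s]) p2_C.ivc :=
    TC.lett_ok (show Nat.shiftRight p2_C.ivc (8 * 13) = 0 by decide +kernel) (by
      intro a ha
      change a < 13 at ha
      interval_cases a
      · exact inv_one.symm
      · rfl
      · exact (inv_inv _).symm
      · rfl
      · exact (inv_inv _).symm
      · rfl
      · exact (inv_inv _).symm
      · rfl
      · exact (inv_inv _).symm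
      · rfl
      · exact (inv_inv _).symm
      · exact (inv_eq_of_mul_eq_one_right r7).symm
      · exact (inv_eq_of_mul_eq_one_right r6).symm)
  have h := TC.card_le p2_h1 p2_h2 p2_h3 (by decide) hL (by
    simp only [p2_rs, List.forall_mem_cons]
    refine ⟨?_, ?_, ?_, ?_, ?_, ?_, ?_, ?_, ?_, ?_, ?_, ?_, ?_, ?_, ?_, ?_, ?_, ?_, ?_, ?_, ?_, ?_,
    ?_, ?_, ?_, ?_, List.forall_mem_nil _⟩
    · show x * (x * (x * 1)) = 1
      simp only [mul_assoc, mul_one] at r0 ⊢
      exact r0
    · show y * (y * (y * 1)) = 1
      simp only [mul_assoc, mul_one] at r1 ⊢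
      exact r1
    · show z * (z * (z * 1)) = 1
      simp only [mul_assoc, mul_one] at r2 ⊢
      exact r2
    · show x * (y * (x⁻¹ * (y⁻¹ * (z⁻¹ * 1)))) = 1
      simp only [mul_assoc, mul_one] at r3 ⊢
      exact r3
    · show z * (x * (z⁻¹ * (x⁻¹ * 1))) = 1
      simp only [mul_assoc, mul_one] at r4 ⊢
      exact r4
    · show z * (y * (z⁻¹ * (y⁻¹ * 1))) = 1
      simp only [mul_assoc, mul_one] at r5 ⊢
      exact r5
    · show s * (s * 1) = 1
      simp only [mul_one] at r6 ⊢
      exact r6
    · show r * (r * 1) = 1
      simp only [mul_one] at r7 ⊢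
      exact r7
    · show s * (r * (s * (r * 1))) = 1
      simp only [mul_assoc, mul_one] at r8 ⊢
      exact r8
    · show u * (u * (s * 1)) = 1
      simp only [mul_assoc, mul_one] at r9 ⊢
      exact r9
    · show u * (y * (u * (y * (u * (y * 1))))) = 1
      simp only [mul_assoc, mul_one] at r10 ⊢
      exact r10
    · show u * (x * (u⁻¹ * (z * 1))) = 1
      simp only [mul_assoc, mul_one] at r11 ⊢
      exact r11
    · show u * (z * (u⁻¹ * (x⁻¹ * 1))) = 1
      simp only [mul_assoc, mul_one] at r12 ⊢
      exact r12
    · show s * (y * (s * (y⁻¹ * 1))) = 1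
      simp only [mul_assoc, mul_one] at r13 ⊢
      exact r13
    · show r * (u * (r * (u * 1))) = 1
      simp only [mul_assoc, mul_one] at r14 ⊢
      exact r14
    · show r * (x * (r * (x⁻¹ * 1))) = 1
      simp only [mul_assoc, mul_one] at r15 ⊢
      exact r15
    · show r * (y * (r * (y * 1))) = 1
      simp only [mul_assoc, mul_one] at r16 ⊢
      exact r16
    · show r * (z * (r * (z * 1))) = 1
      simp only [mul_assoc, mul_one] at r17 ⊢
      exact r17
    · show s * (x * (s * (x * 1))) = 1
      simp only [mul_assoc, mul_one] at r18 ⊢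
      exact r18
    · show s * (z * (s * (z * 1))) = 1
      simp only [mul_assoc, mul_one] at r19 ⊢
      exact r19
    · show v * (v * (r * 1)) = 1
      simp only [mul_assoc, mul_one] at r20 ⊢
      exact r20
    · show v * (x * (v * (x * (v * (x * 1))))) = 1
      simp only [mul_assoc, mul_one] at r21 ⊢
      exact r21
    · show v * (y * (v⁻¹ * (z⁻¹ * 1))) = 1
      simp only [mul_assoc, mul_one] at r22 ⊢
      exact r22
    · show v * (z * (v⁻¹ * (y * 1))) = 1
      simp only [mul_assoc, mul_one] at r23 ⊢
      exact r23
    · show s * (v * (s * (v * 1))) = 1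
      simp only [mul_assoc, mul_one] at r24 ⊢
      exact r24
    · show v * (u * (v⁻¹ * (u * (v * (u⁻¹ * (z * (v * (u * (v⁻¹ * (u * (v * (u⁻¹ * (z * (v * (u *
    (v⁻¹ * (u * (v * (u⁻¹ * (z * (r * (s * 1)))))))))))))))))))))) = 1
      simp only [mul_assoc, mul_one] at r25 ⊢
      exact r25) H
    (TC.forall_subs (K := 13) (by decide +kernel) (by
      intro a ha hb
      interval_cases a
      · exact absurd hb (by decide +kernel)
      · exact m1
      · exact H.inv_mem m1
      · exact m3
      · exact H.inv_mem m3
      · exact m5
      · exact H.inv_mem m5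
      · exact m7
      · exact H.inv_mem m7
      · exact absurd hb (by decide +kernel)
      · exact absurd hb (by decide +kernel)
      · exact m11
      · exact m12))
  have e : {g₀ | ∃ ak ∈ p2_gl, TC.lett [x, x⁻¹, y, y⁻¹, z, z⁻¹, u, u⁻¹, v, v⁻¹, r, s] (ak % 256) = g₀} =
      {x, y, u, v} := by
    ext g₀
    simp only [p2_gl, List.mem_cons, List.not_mem_nil, or_false, exists_eq_or_imp,
      exists_eq_left, Set.mem_ofPred_eq, Set.mem_insert_iff, Set.mem_singleton_iff]
    exact or_congr eq_comm (or_congr eq_comm (or_congr eq_comm (eq_comm)))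
  rw [e] at h
  exact h

theorem p2_card {G : Type*} [Group G] {x y z u v r s : G}
    (e0 : x ^ 3 = 1)
    (e1 : y ^ 3 = 1)
    (e2 : z ^ 3 = 1)
    (e3 : x * y = z * y * x)
    (e4 : z * x = x * z)
    (e5 : z * y = y * z)
    (e6 : s * s = 1)
    (e7 : r * r = 1)
    (e8 : s * r = r * s)
    (e9 : u * u = s)
    (e10 : (u * y) ^ 3 = 1)
    (e11 : u * x * u⁻¹ = z⁻¹)
    (e12 : u * z * u⁻¹ = x)
    (e13 : s * y = y * s)
    (e14 : r * u * r = u⁻¹)
    (e15 : r * x = x * r)
    (e16 : r * y * r = y⁻¹)
    (e17 : r * z * r = z⁻¹)
    (e18 : s * x * s = x⁻¹)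
    (e19 : s * z * s = z⁻¹)
    (e20 : v * v = r)
    (e21 : (v * x) ^ 3 = 1)
    (e22 : v * y * v⁻¹ = z)
    (e23 : v * z * v⁻¹ = y⁻¹)
    (e24 : s * v * s = v⁻¹)
    (e25 : (v * u * v⁻¹ * (u * v * u⁻¹) * z) ^ 3 = s * r)
    (H : Subgroup G) [Finite H] (mx : x ∈ H) (my : y ∈ H) (mz : z ∈ H) (mu : u ∈ H) (mr : r ∈ H) (ms : s ∈ H) :
    Finite (Subgroup.closure ({x, y, u, v} : Set G)) ∧
      Nat.card (Subgroup.closure ({x, y, u, v} : Set G)) ≤ 220 * Nat.card H := by
  have ir : r⁻¹ = r := inv_eq_of_mul_eq_one_right e7
  have is : s⁻¹ = s := inv_eq_of_mul_eq_one_right e6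
  refine p2_bound ?_ ?_ ?_ ?_ ?_ ?_ ?_ ?_ ?_ ?_ ?_ ?_ ?_ ?_ ?_ ?_ ?_ ?_ ?_ ?_ ?_ ?_ ?_ ?_ ?_ ?_ H mx my mz mu mr ms
  · have h := mul_inv_eq_one.mpr e0
    simp only [pow_succ, pow_zero, mul_inv_rev, inv_inv, inv_one, one_mul, mul_one, mul_assoc,
      mul_inv_cancel_left, inv_mul_cancel_left, mul_inv_cancel, inv_mul_cancel, ir, is] at h ⊢
    exact h
  · have h := mul_inv_eq_one.mpr e1
    simp only [pow_succ, pow_zero, mul_inv_rev, inv_inv, inv_one, one_mul, mul_one, mul_assoc,
      mul_inv_cancel_left, inv_mul_cancel_left, mul_inv_cancel, inv_mul_cancel, ir, is] at h ⊢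
    exact h
  · have h := mul_inv_eq_one.mpr e2
    simp only [pow_succ, pow_zero, mul_inv_rev, inv_inv, inv_one, one_mul, mul_one, mul_assoc,
      mul_inv_cancel_left, inv_mul_cancel_left, mul_inv_cancel, inv_mul_cancel, ir, is] at h ⊢
    exact h
  · have h := mul_inv_eq_one.mpr e3
    simp only [pow_succ, pow_zero, mul_inv_rev, inv_inv, inv_one, one_mul, mul_one, mul_assoc,
      mul_inv_cancel_left, inv_mul_cancel_left, mul_inv_cancel, inv_mul_cancel, ir, is] at h ⊢
    exact h
  · have h := mul_inv_eq_one.mpr e4
    simp only [pow_succ, pow_zero, mul_inv_rev, inv_inv, inv_one, one_mul, mul_one, mul_assoc,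
      mul_inv_cancel_left, inv_mul_cancel_left, mul_inv_cancel, inv_mul_cancel, ir, is] at h ⊢
    exact h
  · have h := mul_inv_eq_one.mpr e5
    simp only [pow_succ, pow_zero, mul_inv_rev, inv_inv, inv_one, one_mul, mul_one, mul_assoc,
      mul_inv_cancel_left, inv_mul_cancel_left, mul_inv_cancel, inv_mul_cancel, ir, is] at h ⊢
    exact h
  · have h := mul_inv_eq_one.mpr e6
    simp only [pow_succ, pow_zero, mul_inv_rev, inv_inv, inv_one, one_mul, mul_one, mul_assoc,
      mul_inv_cancel_left, inv_mul_cancel_left, mul_inv_cancel, inv_mul_cancel, ir, is] at h ⊢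
    exact h
  · have h := mul_inv_eq_one.mpr e7
    simp only [pow_succ, pow_zero, mul_inv_rev, inv_inv, inv_one, one_mul, mul_one, mul_assoc,
      mul_inv_cancel_left, inv_mul_cancel_left, mul_inv_cancel, inv_mul_cancel, ir, is] at h ⊢
    exact h
  · have h := mul_inv_eq_one.mpr e8
    simp only [pow_succ, pow_zero, mul_inv_rev, inv_inv, inv_one, one_mul, mul_one, mul_assoc,
      mul_inv_cancel_left, inv_mul_cancel_left, mul_inv_cancel, inv_mul_cancel, ir, is] at h ⊢
    exact h
  · have h := mul_inv_eq_one.mpr e9
    simp only [pow_succ, pow_zero, mul_inv_rev, inv_inv, inv_one, one_mul, mul_one, mul_assoc,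
      mul_inv_cancel_left, inv_mul_cancel_left, mul_inv_cancel, inv_mul_cancel, ir, is] at h ⊢
    exact h
  · have h := mul_inv_eq_one.mpr e10
    simp only [pow_succ, pow_zero, mul_inv_rev, inv_inv, inv_one, one_mul, mul_one, mul_assoc,
      mul_inv_cancel_left, inv_mul_cancel_left, mul_inv_cancel, inv_mul_cancel, ir, is] at h ⊢
    exact h
  · have h := mul_inv_eq_one.mpr e11
    simp only [pow_succ, pow_zero, mul_inv_rev, inv_inv, inv_one, one_mul, mul_one, mul_assoc,
      mul_inv_cancel_left, inv_mul_cancel_left, mul_inv_cancel, inv_mul_cancel, ir, is] at h ⊢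
    exact h
  · have h := mul_inv_eq_one.mpr e12
    simp only [pow_succ, pow_zero, mul_inv_rev, inv_inv, inv_one, one_mul, mul_one, mul_assoc,
      mul_inv_cancel_left, inv_mul_cancel_left, mul_inv_cancel, inv_mul_cancel, ir, is] at h ⊢
    exact h
  · have h := mul_inv_eq_one.mpr e13
    simp only [pow_succ, pow_zero, mul_inv_rev, inv_inv, inv_one, one_mul, mul_one, mul_assoc,
      mul_inv_cancel_left, inv_mul_cancel_left, mul_inv_cancel, inv_mul_cancel, ir, is] at h ⊢
    exact h
  · have h := mul_inv_eq_one.mpr e14
    simp only [pow_succ, pow_zero, mul_inv_rev, inv_inv, inv_one, one_mul, mul_one, mul_assoc,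
      mul_inv_cancel_left, inv_mul_cancel_left, mul_inv_cancel, inv_mul_cancel, ir, is] at h ⊢
    exact h
  · have h := mul_inv_eq_one.mpr e15
    simp only [pow_succ, pow_zero, mul_inv_rev, inv_inv, inv_one, one_mul, mul_one, mul_assoc,
      mul_inv_cancel_left, inv_mul_cancel_left, mul_inv_cancel, inv_mul_cancel, ir, is] at h ⊢
    exact h
  · have h := mul_inv_eq_one.mpr e16
    simp only [pow_succ, pow_zero, mul_inv_rev, inv_inv, inv_one, one_mul, mul_one, mul_assoc,
      mul_inv_cancel_left, inv_mul_cancel_left, mul_inv_cancel, inv_mul_cancel, ir, is] at h ⊢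
    exact h
  · have h := mul_inv_eq_one.mpr e17
    simp only [pow_succ, pow_zero, mul_inv_rev, inv_inv, inv_one, one_mul, mul_one, mul_assoc,
      mul_inv_cancel_left, inv_mul_cancel_left, mul_inv_cancel, inv_mul_cancel, ir, is] at h ⊢
    exact h
  · have h := mul_inv_eq_one.mpr e18
    simp only [pow_succ, pow_zero, mul_inv_rev, inv_inv, inv_one, one_mul, mul_one, mul_assoc,
      mul_inv_cancel_left, inv_mul_cancel_left, mul_inv_cancel, inv_mul_cancel, ir, is] at h ⊢
    exact h
  · have h := mul_inv_eq_one.mpr e19
    simp only [pow_succ, pow_zero, mul_inv_rev, inv_inv, inv_one, one_mul, mul_one, mul_assoc,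
      mul_inv_cancel_left, inv_mul_cancel_left, mul_inv_cancel, inv_mul_cancel, ir, is] at h ⊢
    exact h
  · have h := mul_inv_eq_one.mpr e20
    simp only [pow_succ, pow_zero, mul_inv_rev, inv_inv, inv_one, one_mul, mul_one, mul_assoc,
      mul_inv_cancel_left, inv_mul_cancel_left, mul_inv_cancel, inv_mul_cancel, ir, is] at h ⊢
    exact h
  · have h := mul_inv_eq_one.mpr e21
    simp only [pow_succ, pow_zero, mul_inv_rev, inv_inv, inv_one, one_mul, mul_one, mul_assoc,
      mul_inv_cancel_left, inv_mul_cancel_left, mul_inv_cancel, inv_mul_cancel, ir, is] at h ⊢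
    exact h
  · have h := mul_inv_eq_one.mpr e22
    simp only [pow_succ, pow_zero, mul_inv_rev, inv_inv, inv_one, one_mul, mul_one, mul_assoc,
      mul_inv_cancel_left, inv_mul_cancel_left, mul_inv_cancel, inv_mul_cancel, ir, is] at h ⊢
    exact h
  · have h := mul_inv_eq_one.mpr e23
    simp only [pow_succ, pow_zero, mul_inv_rev, inv_inv, inv_one, one_mul, mul_one, mul_assoc,
      mul_inv_cancel_left, inv_mul_cancel_left, mul_inv_cancel, inv_mul_cancel, ir, is] at h ⊢
    exact h
  · have h := mul_inv_eq_one.mpr e24
    simp only [pow_succ, pow_zero, mul_inv_rev, inv_inv, inv_one, one_mul, mul_one, mul_assoc,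
      mul_inv_cancel_left, inv_mul_cancel_left, mul_inv_cancel, inv_mul_cancel, ir, is] at h ⊢
    exact h
  · have h := mul_inv_eq_one.mpr e25
    simp only [pow_succ, pow_zero, mul_inv_rev, inv_inv, inv_one, one_mul, mul_one, mul_assoc,
      mul_inv_cancel_left, inv_mul_cancel_left, mul_inv_cancel, inv_mul_cancel, ir, is] at h ⊢
    exact h

/-- The relations of the amalgam. -/
structure Rel {G : Type*} [Group G] (x y z u v r s : G) : Prop where
  x3 : x ^ 3 = 1
  y3 : y ^ 3 = 1
  z3 : z ^ 3 = 1
  xy : x * y = z * y * x
  zx : z * x = x * z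
  zy : z * y = y * z
  ss : s * s = 1
  rr : r * r = 1
  sr : s * r = r * s
  uu : u * u = s
  uy : (u * y) ^ 3 = 1
  ux : u * x * u⁻¹ = z⁻¹
  uz : u * z * u⁻¹ = x
  sy : s * y = y * s
  ru : r * u * r = u⁻¹
  rx : r * x = x * r
  ry : r * y * r = y⁻¹
  rz : r * z * r = z⁻¹
  sx : s * x * s = x⁻¹
  sz : s * z * s = z⁻¹
  vv : v * v = r
  vx : (v * x) ^ 3 = 1
  vy : v * y * v⁻¹ = z
  vz : v * z * v⁻¹ = y⁻¹
  sv : s * v * s = v⁻¹

variable {G : Type*} [Group G] {x y z u v r s : G}

theorem Rel.card_A (h : Rel x y z u v r s) :
    Finite (Subgroup.closure ({x, y, z, u, r, s} : Set G)) ∧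
      Nat.card (Subgroup.closure ({x, y, z, u, r, s} : Set G)) ≤ 432 := by
  obtain ⟨hf, hc⟩ := TC.finite_zpowers_of_pow (by norm_num) h.x3
  have h1 := pn_card h.x3 h.y3 h.z3 h.xy h.zx h.zy h.ss h.rr h.sr h.uu
    h.uy h.ux h.uz h.sy h.ru h.rx h.ry h.rz h.sx h.sz _ (Subgroup.mem_zpowers x)
  exact ⟨h1.1, h1.2.trans (by omega)⟩

theorem Rel.card_one (h : Rel x y z u v r s)
    (hk : (v * u * v⁻¹ * (u * v * u⁻¹) * z) ^ 3 = 1) :
    Finite (Subgroup.closure ({x, y, u, v} : Set G)) ∧
      Nat.card (Subgroup.closure ({x, y, u, v} : Set G)) ≤ 5616 := by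
  obtain ⟨hf, hc⟩ := h.card_A
  have h1 := p1_card h.x3 h.y3 h.z3 h.xy h.zx h.zy h.ss h.rr h.sr h.uu h.uy h.ux
    h.uz h.sy h.ru h.rx h.ry h.rz h.sx h.sz h.vv h.vx h.vy h.vz h.sv hk
    (Subgroup.closure {x, y, z, u, r, s}) (Subgroup.subset_closure (by simp))
    (Subgroup.subset_closure (by simp)) (Subgroup.subset_closure (by simp))
    (Subgroup.subset_closure (by simp)) (Subgroup.subset_closure (by simp))
    (Subgroup.subset_closure (by simp))
  exact ⟨h1.1, h1.2.trans (by omega)⟩

theorem Rel.card_two (h : Rel x y z u v r s)
    (hk : (v * u * v⁻¹ * (u * v * u⁻¹) * z) ^ 3 = s * r) :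
    Finite (Subgroup.closure ({x, y, u, v} : Set G)) ∧
      Nat.card (Subgroup.closure ({x, y, u, v} : Set G)) ≤ 95040 := by
  obtain ⟨hf, hc⟩ := h.card_A
  have h1 := p2_card h.x3 h.y3 h.z3 h.xy h.zx h.zy h.ss h.rr h.sr h.uu h.uy h.ux
    h.uz h.sy h.ru h.rx h.ry h.rz h.sx h.sz h.vv h.vx h.vy h.vz h.sv hk
    (Subgroup.closure {x, y, z, u, r, s}) (Subgroup.subset_closure (by simp))
    (Subgroup.subset_closure (by simp)) (Subgroup.subset_closure (by simp))
    (Subgroup.subset_closure (by simp)) (Subgroup.subset_closure (by simp))
    (Subgroup.subset_closure (by simp))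
  exact ⟨h1.1, h1.2.trans (by omega)⟩

theorem Rel.prod {M : Type*} [Group M] {x' y' z' u' v' r' s' : M} (h : Rel x y z u v r s)
    (h' : Rel x' y' z' u' v' r' s') :
    Rel (x, x') (y, y') (z, z') (u, u') (v, v') (r, r') (s, s') :=
    ⟨Prod.ext h.x3 h'.x3, Prod.ext h.y3 h'.y3, Prod.ext h.z3 h'.z3, Prod.ext h.xy h'.xy, Prod.ext
    h.zx h'.zx, Prod.ext h.zy h'.zy, Prod.ext h.ss h'.ss, Prod.ext h.rr h'.rr, Prod.ext h.sr h'.sr,
    Prod.ext h.uu h'.uu, Prod.ext h.uy h'.uy, Prod.ext h.ux h'.ux, Prod.ext h.uz h'.uz, Prod.ext
    h.sy h'.sy, Prod.ext h.ru h'.ru, Prod.ext h.rx h'.rx, Prod.ext h.ry h'.ry, Prod.ext h.rz h'.rz,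
    Prod.ext h.sx h'.sx, Prod.ext h.sz h'.sz, Prod.ext h.vv h'.vv, Prod.ext h.vx h'.vx, Prod.ext
    h.vy h'.vy, Prod.ext h.vz h'.vz, Prod.ext h.sv h'.sv⟩

theorem exists_hom {M : Type*} [Group M] [Finite M] {x' y' u' v' : M}
    (h : Finite (Subgroup.closure ({(x, x'), (y, y'), (u, u'), (v, v')} : Set (G × M))) ∧
      Nat.card (Subgroup.closure ({(x, x'), (y, y'), (u, u'), (v, v')} : Set (G × M))) ≤ Nat.card M)
    (ht : Subgroup.closure {x', y', u', v'} = ⊤) :
    ∃ φ : M →* G, φ.range = Subgroup.closure {x, y, u, v} := by
  obtain ⟨h1, h2⟩ := h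
  obtain ⟨φ, hφ⟩ := TC.exists_hom_of_card_le h2 (by
    rw [MonoidHom.map_closure, ← ht]
    simp only [Set.image_insert_eq, Set.image_singleton, MonoidHom.coe_snd])
  refine ⟨φ, ?_⟩
  rw [MonoidHom.range_eq_map, ← ht, MonoidHom.map_closure]
  simp only [Set.image_insert_eq, Set.image_singleton]
  rw [hφ x x' (Subgroup.subset_closure (by simp)), hφ y y' (Subgroup.subset_closure (by simp)),
    hφ u u' (Subgroup.subset_closure (by simp)), hφ v v' (Subgroup.subset_closure (by simp))]

end Cfsg.Agent.H4.M12P
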