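import Cfsg.Agent.H4.M12Cnt
import Cfsg.Agent.H4.Nse4

/-!
# Groups of order `95040` with the element order statistics of `M₁₂`: simplicity
-/

set_option autoImplicit false
set_option linter.unusedSectionVars false

namespace Cfsg.Agent.H4.M12R

open Subgroup Nse

variable {G : Type*} [Group G] [Finite G]

/-- The element orders are among those of `M₁₂`. -/
def Ord (G : Type*) [Group G] : Prop := ∀ g : G, orderOf g ∈ [1, 2, 3, 4, 5, 6, 8, 10, 11]

namespace Ord

variable (h : Ord G)
include h

theorem sub (H : Subgroup G) : Ord H := fun g => orderOf_coe g ▸ h g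

theorem comm {x y : G} (hc : Commute x y) (hco : (orderOf x).Coprime (orderOf y)) :
    orderOf x * orderOf y ∈ [1, 2, 3, 4, 5, 6, 8, 10, 11] := by
  rw [← hc.orderOf_mul_eq_mul_orderOf_of_coprime hco]
  exact h _

theorem not_dvd_cent {y : G} {n p : ℕ} (hy : orderOf y = n) (hp : p.Prime) (hco : n.Coprime p)
    (hn : n * p ∉ [1, 2, 3, 4, 5, 6, 8, 10, 11]) :
    ¬ p ∣ Nat.card (centralizer ({y} : Set G)) := by
  intro hd
  obtain ⟨x, hx, hxp⟩ := exists_mem_orderOf hp hd
  have := h.comm (x := y) (y := x) (mem_centralizer_singleton_iff.mp hx).symm (by rwa [hy, hxp])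
  rw [hy, hxp] at this
  exact hn this

theorem cube {P : Subgroup G} (hP : IsPGroup 3 P) {g : G} (hg : g ∈ P) : g ^ 3 = 1 := by
  have := Fact.mk Nat.prime_three
  obtain ⟨k, hk⟩ := hP.exists_orderOf_eq_pow ⟨g, hg⟩
  have h1 := h g
  rw [← orderOf_coe] at hk
  rw [← orderOf_dvd_iff_pow_eq_one]
  rcases k with _ | k
  · exact hk.dvd.trans (one_dvd 3)
  have h2 : ¬ 2 ∣ orderOf g := fun e => by
    have := Nat.prime_two.dvd_of_dvd_pow (hk ▸ e)
    omega
  have h3 : 3 ∣ orderOf g := hk ▸ dvd_pow_self 3 k.succ_ne_zero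
  revert h1 h2 h3
  generalize orderOf g = n
  revert n
  decide

theorem sq_of_odd {E : Subgroup G} (hE : IsPGroup 2 E) {e x : G} (he : e ∈ E)
    (hx : orderOf x = 3 ∨ orderOf x = 5) (hc : Commute e x) : e * e = 1 := by
  have := Fact.mk Nat.prime_two
  obtain ⟨k, hk⟩ := hE.exists_orderOf_eq_pow ⟨e, he⟩
  rw [← orderOf_coe] at hk
  have h1 := h.comm hc (by
    rw [hk]
    rcases hx with hx | hx <;> rw [hx] <;> exact Nat.Coprime.pow_left _ (by norm_num))
  rw [← pow_two, ← orderOf_dvd_iff_pow_eq_one]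
  rcases k with _ | _ | k
  · exact hk.dvd.trans (one_dvd 2)
  · exact hk.dvd
  have h2 : 4 ∣ orderOf e := hk ▸ ⟨2 ^ k, by ring⟩
  simp only [List.mem_cons, List.not_mem_nil, or_false] at h1
  rcases hx with hx | hx <;> rw [hx] at h1 <;> omega

end Ord

/-- An element of order five and the involution centralizing it. -/
structure GT (g t : G) : Prop where
  og : orderOf g = 5
  ot : orderOf t = 2
  comm : Commute t g
  uniq : ∀ s, Commute s g → s * s = 1 → s = 1 ∨ s = t
  cardC : Nat.card (centralizer ({g} : Set G)) = 10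
  cardN : Nat.card (normalizer (zpowers g : Set G)) = 40

theorem cent_le_norm (g : G) : centralizer {g} ≤ normalizer (zpowers g : Set G) := fun c hc => by
  rw [mem_normalizer_zpowers, mem_centralizer_singleton_iff.mp hc, mul_inv_cancel_right]
  exact mem_zpowers g

theorem GT.tt {g t : G} (h : GT g t) : t * t = 1 := by rw [← pow_two, ← h.ot, pow_orderOf_eq_one]

theorem GT.ne_one {g t : G} (h : GT g t) : t ≠ 1 := fun e => by
  have := h.ot
  rw [e, orderOf_one] at this
  omega

theorem GT.le {g t : G} (h : GT g t) : normalizer (zpowers g : Set G) ≤ centralizer {t} := by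
  intro n hn
  obtain ⟨k, -, hk⟩ := exists_pow rfl (mem_normalizer_zpowers.mp hn)
  rcases h.uniq (n⁻¹ * t * n⁻¹⁻¹) (by
      have := (h.comm.pow_right k).conj n⁻¹
      rwa [← hk, show n⁻¹ * (n * g * n⁻¹) * n⁻¹⁻¹ = g by group] at this)
    (by rw [conj_mul, h.tt, mul_one, mul_inv_cancel]) with e | e
  · exact absurd (conj_eq_one_iff.mp e) h.ne_one
  · rw [mem_centralizer_singleton_iff]
    calc _ = n * (n⁻¹ * t * n⁻¹⁻¹) := by rw [e]
      _ = _ := by group

theorem GT.card_inf {g t : G} (h : GT g t) {K : Subgroup G} (h5 : ¬ 5 ∣ Nat.card K) (ht : t ∈ K) :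
    Nat.card (K ⊓ centralizer {g} : Subgroup G) = 2 := by
  have h1 := h.cardC ▸ card_dvd_of_le (inf_le_right (a := K) (b := centralizer {g}))
  have h2 : ¬ 5 ∣ Nat.card (K ⊓ centralizer {g} : Subgroup G) :=
    fun e => h5 (e.trans (card_dvd_of_le inf_le_left))
  have h3 := h.ot ▸ (K ⊓ centralizer {g}).orderOf_dvd_natCard
    ⟨ht, mem_centralizer_singleton_iff.mpr h.comm⟩
  have h4 := Nat.le_of_dvd (by norm_num) h1
  generalize Nat.card (K ⊓ centralizer {g} : Subgroup G) = n at h1 h2 h3 h4
  interval_cases n <;> omega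

namespace Hyp

variable (h : Hyp G)
include h

theorem o : Ord G := h.ord

theorem mem_D (H : Subgroup G) : Nat.card H ∈ D :=
  mem_of_dvd_mul (a := 288) (b := 330) (by norm_num) (by norm_num) (by decide +kernel)
    (by have := H.card_subgroup_dvd_card; rwa [h.card] at this)

theorem idx (H : Subgroup G) : H.index * Nat.card H = 95040 := index_mul_card' H h.card

theorem simple : IsSimpleGroup G := by
  have : Nontrivial G := Finite.one_lt_card_iff_nontrivial.mp (by rw [h.card]; norm_num)
  have := Fact.mk (show Nat.Prime 11 by norm_num)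
  obtain ⟨a, ha⟩ := mo_pos_iff.mp (show 0 < mo G 11 by rw [h.m11]; norm_num)
  refine ⟨fun K hK => ?_⟩
  have h1 := h.idx K
  have h0 : Nat.card K ∣ 95040 := Dvd.intro_left _ h1
  by_cases h11 : 11 ∣ Nat.card K
  · have h2 := index_dvd_frattini (by norm_num) ha (by rw [h.card]; norm_num) h11
    have h3 := mo_prime ha (by rw [h.card]; norm_num)
    rw [h.m11, h.card] at h3
    rw [show Nat.card (normalizer (zpowers a : Set G)) = 55 by omega] at h2
    have h4 : K.index = 1 ∨ K.index = 5 := by
      have := Nat.le_of_dvd (by norm_num) h2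
      generalize K.index = n at *
      interval_cases n <;> omega
    rcases h4 with h4 | h4
    · exact Or.inr (index_eq_one.mp h4)
    · have := mo_le_card (K := K) (n := 6) fun g hg => mem_of_coprime_index (by rw [hg, h4]; norm_num)
      rw [h.m6] at this
      rw [h4] at h1
      omega
  · have key : ∀ p e, p.Prime → (11 : ℕ).Coprime p → 11 * p ∉ [1, 2, 3, 4, 5, 6, 8, 10, 11] →
        ¬ p ^ (e + 1) ∣ 95040 → (∀ k ≤ e, p ^ k % 11 = 1 % 11 → k = 0) → ¬ p ∣ Nat.card K :=
      fun p e hp h2 h3 h4 h5 => not_dvd_of_fpf (by norm_num) hp ha (fun x hx => hK.conj_mem x hx a)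
        h11 (h.o.not_dvd_cent ha hp h2 h3) (fun e => h4 (e.trans h0)) h5
    have : ∀ n ∈ D, ¬ 2 ∣ n → ¬ 3 ∣ n → ¬ 5 ∣ n → ¬ 11 ∣ n → n = 1 := by decide +kernel
    exact Or.inl (card_eq_one.mp (this _ (h.mem_D K)
      (key 2 6 (by norm_num) (by norm_num) (by decide) (by norm_num) (by decide))
      (key 3 3 (by norm_num) (by norm_num) (by decide) (by norm_num) (by decide))
      (key 5 1 (by norm_num) (by norm_num) (by decide) (by norm_num) (by decide)) h11))

theorem fix {r : G} (hr : r * r = 1) (H : Subgroup G) :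
    ∃ n k, n + 4 * k = H.index ∧ n * Nat.card H =
      {x | x ∈ H ∧ IsConj r x}.ncard * Nat.card (centralizer ({r} : Set G)) :=
  have := h.simple
  fix_count (fun f => hom_trivial (by rw [h.card]; norm_num) f r) hr H

theorem exists_GT : ∃ g t : G, GT g t := by
  classical
  have := Fintype.ofFinite G
  have := Fact.mk Nat.prime_five
  have h1 : ∀ g : G, orderOf g = 5 → Nat.card (normalizer (zpowers g : Set G)) = 40 := fun g hg => by
    have h3 := mo_prime hg (by rw [h.card]; norm_num)
    rw [h.m5, h.card] at h3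
    omega
  have h2 : ∀ g : G, orderOf g = 5 → Nat.card (centralizer ({g} : Set G)) = 10 ∨
      4 ∣ Nat.card (centralizer ({g} : Set G)) := fun g hg => by
    have h3 := h1 g hg ▸ card_dvd_of_le (cent_le_norm g)
    have h4 := index_le_mo g
    have h5 := h.idx (centralizer {g})
    rw [hg, h.m5] at h4
    have h6 := Nat.mul_le_mul_right (Nat.card (centralizer ({g} : Set G))) h4
    have h7 := Nat.le_of_dvd (by norm_num) h3
    rw [h5] at h6
    generalize Nat.card (centralizer ({g} : Set G)) = n at *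
    interval_cases n <;> omega
  have h3 := mo_mul_sum (G := G) (a := 5) (b := 2) (by norm_num)
  rw [h.m10, ← h.m5, mo_eq, Finset.card_eq_sum_ones, Finset.sum_eq_sum_iff_of_le fun g hg =>
    mo_pos_prime Nat.prime_two (by
      rcases h2 g (Finset.mem_filter.mp hg).2 with e | e <;> omega)] at h3
  obtain ⟨g, hg⟩ := mo_pos_iff.mp (show 0 < mo G 5 by rw [h.m5]; norm_num)
  obtain ⟨⟨⟨t, ht⟩, ht2⟩, h4⟩ := Nat.card_eq_one_iff_exists.mp
    (h3 g (Finset.mem_filter.mpr ⟨Finset.mem_univ g, hg⟩)).symm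
  have h5 : ∀ s, Commute s g → s * s = 1 → s = 1 ∨ s = t := fun s hs hss => by
    refine or_iff_not_imp_left.mpr fun h1 => ?_
    exact congrArg (fun x => x.1.1) (h4 ⟨⟨s, mem_centralizer_singleton_iff.mpr hs⟩,
      (orderOf_coe _).symm.trans (orderOf_eq_prime (by rwa [pow_two]) h1)⟩)
  refine ⟨g, t, hg, (orderOf_coe _).trans ht2, mem_centralizer_singleton_iff.mp ht, h5,
    (h2 g hg).resolve_right fun h6 => ?_, h1 g hg⟩
  obtain ⟨R, hR, hR'⟩ := exists_le_card (n := 2) Nat.prime_two h6
  have := card_le_of_subset (H := R) (s := {1, t}) fun x hx => by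
    have h7 := mem_centralizer_singleton_iff.mp (hR hx)
    simpa using h5 x h7 (h.o.sq_of_odd (IsPGroup.of_card hR') hx (Or.inr hg) h7)
  have := this.trans Finset.card_le_two
  omega

end Hyp

end Cfsg.Agent.H4.M12R
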