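import Cfsg.Agent.H4.M12Amal

/-!
# Generators and relations for an amalgam of two groups `3² : GL₂(3)`
-/

set_option autoImplicit false
set_option linter.unusedSectionVars false

namespace Cfsg.Agent.H4.M12P

open Subgroup L0.SC3 Nse Matrix.SpecialLinearGroup
open scoped MatrixGroups

variable {G : Type*} [Group G] [Finite G]

theorem ncard_conj (H : Subgroup G) (x : G) :
    {y | ∃ h ∈ H, h * x * h⁻¹ = y}.ncard = (centralizer {x}).relIndex H := by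
  let f : H → G := fun h => h * x * (h : G)⁻¹
  have e : H ⧸ (centralizer {x}).subgroupOf H ≃ Set.range f := by
    refine (Quotient.congrRight fun a b => ?_).trans (Setoid.quotientKerEquivRange f)
    rw [QuotientGroup.leftRel_apply, mem_subgroupOf, mem_centralizer_singleton_iff, Setoid.ker_def]
    simp only [f, Subgroup.coe_mul, Subgroup.coe_inv]
    constructor
    · intro h
      calc _ = a * x * ((a : G)⁻¹ * b) * (b : G)⁻¹ := by group
        _ = _ := by rw [mul_assoc _ x, ← h]; group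
    · intro h
      calc _ = (a : G)⁻¹ * (b * x * (b : G)⁻¹) * b := by group
        _ = _ := by rw [← h]; group
  rw [relIndex, index, Nat.card_congr e, Nat.card_coe_set_eq]
  congr 1
  ext y
  simp [f]

theorem exists_pow_mul_pow {V : Subgroup G} (hV : Nat.card V = 9) (h3 : ∀ p ∈ V, p ^ 3 = 1)
    {x y : G} (hx : x ∈ V) (hy : y ∈ V) (hx1 : x ≠ 1) (hxy : y ∉ zpowers x) {p : G} (hp : p ∈ V) :
    ∃ i < 3, ∃ j < 3, p = x ^ i * y ^ j := by
  have hx3 : orderOf x = 3 := orderOf_eq_prime (h3 x hx) hx1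
  have hy3 : orderOf y = 3 := orderOf_eq_prime (h3 y hy) (fun e => hxy (e ▸ one_mem _))
  let f : Fin 3 × Fin 3 → V := fun q =>
    ⟨x ^ q.1.val * y ^ q.2.val, mul_mem (pow_mem hx _) (pow_mem hy _)⟩
  have key : ∀ i j i' j' : ℕ, j ≤ j' → j' < 3 → x ^ i * y ^ j = x ^ i' * y ^ j' → j = j' := by
    intro i j i' j' h1 h2 h3
    obtain ⟨d, rfl⟩ := Nat.exists_eq_add_of_le h1
    rw [add_comm, pow_add, ← mul_assoc, mul_left_inj] at h3
    have h4 : y ^ d ∈ zpowers x := by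
      rw [eq_inv_mul_of_mul_eq h3.symm]
      exact mul_mem (inv_mem (npow_mem_zpowers x _)) (npow_mem_zpowers x _)
    by_contra h5
    have h6 : y = (y ^ d) ^ d := by
      rw [← pow_mul]
      conv_lhs => rw [← pow_one y]
      rw [pow_eq_iff hy3]
      have : d = 1 ∨ d = 2 := by omega
      rcases this with rfl | rfl <;> rfl
    exact hxy (h6 ▸ pow_mem h4 d)
  have hf : Function.Injective f := by
    rintro ⟨i, j⟩ ⟨i', j'⟩ e
    have e' : x ^ i.val * y ^ j.val = x ^ i'.val * y ^ j'.val := congrArg Subtype.val e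
    obtain rfl : j = j' := by
      rcases le_total j.val j'.val with h1 | h1
      · exact Fin.ext (key _ _ _ _ h1 j'.2 e')
      · exact Fin.ext (key _ _ _ _ h1 j.2 e'.symm).symm
    rw [mul_left_inj, pow_eq_iff hx3, Nat.mod_eq_of_lt i.2, Nat.mod_eq_of_lt i'.2] at e'
    rw [Fin.ext e']
  obtain ⟨q, hq⟩ := (hf.bijective_of_nat_card_le (by rw [hV]; simp)).2 ⟨p, hp⟩
  exact ⟨_, q.1.2, _, q.2.2, (congrArg Subtype.val hq).symm⟩

/-- `A` has shape `3² : GL₂(3)` over `V`. -/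
structure Side (A V : Subgroup G) : Prop where
  le : V ≤ A
  norm : ∀ a ∈ A, ∀ p ∈ V, a * p * a⁻¹ ∈ V
  card : Nat.card V = 9
  cube : ∀ p ∈ V, p ^ 3 = 1
  comm : ∀ p ∈ V, ∀ q ∈ V, Commute p q
  cent : ∀ a ∈ A, (∀ p ∈ V, Commute a p) → a ∈ V
  cardA : Nat.card A = 432

namespace Side

variable {A V : Subgroup G} (h : Side A V) {x z : G} (hx : x ∈ V) (hz : z ∈ V) (hz1 : z ≠ 1)
  (hxz : x ∉ zpowers z)
include h hx hz hz1 hxz

theorem le_of_mem {K : Subgroup G} (h1 : z ∈ K) (h2 : x ∈ K) : V ≤ K := fun p hp => by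
  obtain ⟨i, -, j, -, rfl⟩ := exists_pow_mul_pow h.card h.cube hz hx hz1 hxz hp
  exact mul_mem (pow_mem h1 i) (pow_mem h2 j)

theorem mem_of_comm {a : G} (ha : a ∈ A) (h1 : a * z * a⁻¹ = z) (h2 : a * x * a⁻¹ = x) : a ∈ V :=
  h.cent a ha fun _ hp => (mem_centralizer_singleton_iff.mp (h.le_of_mem hx hz hz1 hxz
    (K := centralizer {a})
    (mem_centralizer_singleton_iff.mpr (mul_inv_eq_iff_eq_mul.mp h1).symm)
    (mem_centralizer_singleton_iff.mpr (mul_inv_eq_iff_eq_mul.mp h2).symm) hp)).symm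

theorem inverts {a : G} (h1 : a * z * a⁻¹ = z⁻¹) (h2 : a * x * a⁻¹ = x⁻¹) {p : G} (hp : p ∈ V) :
    a * p * a⁻¹ = p⁻¹ := by
  obtain ⟨i, -, j, -, rfl⟩ := exists_pow_mul_pow h.card h.cube hz hx hz1 hxz hp
  rw [← conj_mul, ← conj_pow, ← conj_pow, h1, h2, inv_pow, inv_pow, ← mul_inv_rev,
    ((h.comm z hz x hx).pow_pow i j).eq]

theorem trans {p q : G} (hp : p ∈ V) (hq : q ∈ V) (hp1 : p ≠ 1) (hpq : q ∉ zpowers p) :
    ∃ a ∈ A, a * z * a⁻¹ = p ∧ a * x * a⁻¹ = q := by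
  have hV : (V : Set G).ncard = 9 := h.card
  have hZ : (zpowers z : Set G).ncard = 3 :=
    (Nat.card_zpowers z).trans (orderOf_eq_prime (h.cube z hz) hz1)
  have s1 : {y | ∃ a ∈ A, a * z * a⁻¹ = y} ⊆ (V : Set G) \ {1} := by
    rintro _ ⟨a, ha, rfl⟩
    exact ⟨h.norm a ha z hz, by simpa using hz1⟩
  have s2 : {y | ∃ a ∈ centralizer {z} ⊓ A, a * x * a⁻¹ = y} ⊆ (V : Set G) \ zpowers z := by
    rintro _ ⟨a, ha, rfl⟩
    refine ⟨h.norm a ha.2 x hx, fun e => hxz ?_⟩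
    obtain ⟨k, hk⟩ := mem_zpowers_iff.mp e
    refine ⟨k, ?_⟩
    have : Commute a z := mem_centralizer_singleton_iff.mp ha.1
    calc z ^ k = a⁻¹ * (a * z ^ k) := by group
      _ = _ := by rw [(this.zpow_right k).eq, hk]; group
  have c1 := Set.ncard_sdiff_singleton_of_mem (s := (V : Set G)) V.one_mem
  have c2 := Set.ncard_sdiff (s := (zpowers z : Set G)) (t := V) (zpowers_le_of_mem hz)
  have l1 := Set.ncard_le_ncard s1
  have l2 := Set.ncard_le_ncard s2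
  have e1 := ncard_conj A z
  have e2 := ncard_conj (centralizer {z} ⊓ A) x
  have e3 : centralizer {x} ⊓ (centralizer {z} ⊓ A) = V := le_antisymm
    (fun a ha => h.mem_of_comm hx hz hz1 hxz ha.2.2
      (mul_inv_eq_iff_eq_mul.mpr (mem_centralizer_singleton_iff.mp ha.2.1))
      (mul_inv_eq_iff_eq_mul.mpr (mem_centralizer_singleton_iff.mp ha.1)))
    fun a ha => ⟨mem_centralizer_singleton_iff.mpr (h.comm a ha x hx),
      mem_centralizer_singleton_iff.mpr (h.comm a ha z hz), h.le ha⟩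
  have m1 := relIndex_mul_card (inf_le_right : centralizer {z} ⊓ A ≤ A)
  have m2 := relIndex_mul_card
    (inf_le_right : centralizer {x} ⊓ (centralizer {z} ⊓ A) ≤ centralizer {z} ⊓ A)
  rw [inf_relIndex_right, ← e2, e3, h.card] at m2
  rw [inf_relIndex_right, ← e1, ← m2, h.cardA] at m1
  rw [hV] at c1
  rw [hV, hZ] at c2
  obtain ⟨a, ha, rfl⟩ := (Set.eq_of_subset_of_ncard_le s1 (by nlinarith)).ge ⟨hp, hp1⟩
  obtain ⟨c, hc, hc'⟩ := (Set.eq_of_subset_of_ncard_le s2 (by nlinarith)).ge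
    (show a⁻¹ * q * a⁻¹⁻¹ ∈ _ from ⟨h.norm _ (inv_mem ha) q hq, fun e => hpq (by
      obtain ⟨k, hk⟩ := mem_zpowers_iff.mp e
      exact ⟨k, by simp only [conj_zpow, hk]; group⟩)⟩)
  refine ⟨a * c, mul_mem ha hc.2, ?_, ?_⟩
  · calc _ = a * (c * z * c⁻¹) * a⁻¹ := by group
      _ = _ := by rw [mem_centralizer_singleton_iff.mp hc.1, mul_inv_cancel_right]
  · calc _ = a * (c * x * c⁻¹) * a⁻¹ := by group
      _ = _ := by rw [hc']; group

theorem exists_inverts : ∃ s ∈ A, s * s = 1 ∧ ∀ p ∈ V, s * p * s⁻¹ = p⁻¹ := by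
  obtain ⟨a, ha, h1, h2⟩ := h.trans hx hz hz1 hxz (inv_mem hz) (inv_mem hx) (inv_ne_one.mpr hz1)
    (by rwa [zpowers_inv, inv_mem_iff])
  have h3 : ∀ p ∈ V, a * a * p * (a * a)⁻¹ = p := fun p hp => by
    calc _ = a * (a * p * a⁻¹) * a⁻¹ := by group
      _ = _ := by rw [h.inverts hx hz hz1 hxz h1 h2 hp,
        h.inverts hx hz hz1 hxz h1 h2 (inv_mem hp), inv_inv]
  refine ⟨a * (a * a), mul_mem ha (mul_mem ha ha), ?_, fun p hp => ?_⟩
  · rw [← h.cube _ (h.mem_of_comm hx hz hz1 hxz (mul_mem ha ha) (h3 z hz) (h3 x hx))]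
    simp only [pow_succ, pow_zero, one_mul, mul_assoc]
  · calc _ = a * (a * a * p * (a * a)⁻¹) * a⁻¹ := by group
      _ = _ := by rw [h3 p hp, h.inverts hx hz hz1 hxz h1 h2 hp]

omit hx hz hz1 hxz in
theorem comm_mem {s : G} (hs : s ∈ A) (hsV : ∀ p ∈ V, s * p * s⁻¹ = p⁻¹) {a : G} (ha : a ∈ A) :
    a * s * a⁻¹ * s⁻¹ ∈ V := by
  refine h.cent _ (mul_mem (mul_mem (mul_mem ha hs) (inv_mem ha)) (inv_mem hs)) fun p hp =>
    mul_inv_eq_iff_eq_mul.mp ?_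
  have h1 : s⁻¹ * p * s = p⁻¹ := by
    calc _ = s⁻¹ * p⁻¹⁻¹ * s := by rw [inv_inv]
      _ = _ := by rw [← hsV _ (inv_mem hp)]; group
  calc _ = a * (s * (a⁻¹ * (s⁻¹ * p * s) * a⁻¹⁻¹) * s⁻¹) * a⁻¹ := by group
    _ = _ := by rw [h1, hsV _ (h.norm _ (inv_mem ha) _ (inv_mem hp))]; group

omit hx hz hz1 hxz in
theorem comm_cent {s : G} (hs : s ∈ A) (hsV : ∀ p ∈ V, s * p * s⁻¹ = p⁻¹) {a : G} (ha : a ∈ A) :
    Commute (a * s * a⁻¹ * s⁻¹ * a) s := by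
  have h1 := h.comm_mem hs hsV ha
  obtain ⟨c, hc⟩ : ∃ c, c = a * s * a⁻¹ * s⁻¹ := ⟨_, rfl⟩
  rw [← hc] at h1 ⊢
  refine mul_inv_eq_iff_eq_mul.mp ?_
  calc _ = c * (a * s * a⁻¹ * s⁻¹) * (s * c⁻¹ * s⁻¹) * s := by group
    _ = c ^ 3 * s := by rw [← hc, hsV _ (inv_mem h1), inv_inv, pow_succ, pow_two]
    _ = s := by rw [h.cube c h1, one_mul]

theorem exists_u {y s r : G} (hy : y ∈ A) (hs : s ∈ A) (hr : r ∈ A)
    (hsV : ∀ p ∈ V, s * p * s⁻¹ = p⁻¹) (hsy : Commute s y) (hsr : Commute s r)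
    (hrx : r * x * r⁻¹ = x) (hrz : r * z * r⁻¹ = z⁻¹) (hxy : x * y = z * y * x)
    (hzy : Commute z y) :
    ∃ u ∈ A, u * u = s ∧ (u * y) ^ 3 = 1 ∧ u * x * u⁻¹ = z⁻¹ ∧ u * z * u⁻¹ = x ∧
      r * u * r = u⁻¹ ∧ ∀ K : Subgroup G, x ∈ K → y ∈ K → z ∈ K → u ∈ K → r ∈ K → A ≤ K := by
  have hx1 : x ≠ 1 := fun e => hxz (e ▸ one_mem _)
  obtain ⟨a, ha, h1, h2⟩ := h.trans hx hz hz1 hxz hx (inv_mem hz) hx1 (fun e => hxz (by
    rwa [zpowers_eq_of_mem (inv_mem_iff.mp e) ((orderOf_eq_prime (h.cube z hz) hz1).trans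
      (orderOf_eq_prime (h.cube x hx) hx1).symm), mem_zpowers_iff, ← mem_zpowers_iff, iff_true_intro
      (mem_zpowers x), ← iff_true_intro e]))
  have h3 := h.comm_mem hs hsV ha
  have h4 := h.comm_cent hs hsV ha
  generalize a * s * a⁻¹ * s⁻¹ = c at h3 h4
  have hu : c * a ∈ A := mul_mem (h.le h3) ha
  have huz : c * a * z * (c * a)⁻¹ = x := by
    calc _ = c * (a * z * a⁻¹) * c⁻¹ := by group
      _ = _ := by rw [h1, (h.comm c h3 x hx).eq, mul_inv_cancel_right]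
  have hux : c * a * x * (c * a)⁻¹ = z⁻¹ := by
    calc _ = c * (a * x * a⁻¹) * c⁻¹ := by group
      _ = _ := by rw [h2, (h.comm c h3 _ (inv_mem hz)).eq, mul_inv_cancel_right]
  generalize c * a = u at h4 hu huz hux
  have key : ∀ g ∈ A, Commute g s → g * z * g⁻¹ = z → g * x * g⁻¹ = x → g = 1 := by
    intro g hg h5 h6 h7
    have h8 := h.mem_of_comm hx hz hz1 hxz hg h6 h7
    have h9 := hsV g h8
    rw [← h5.eq, mul_inv_cancel_right, eq_inv_iff_mul_eq_one] at h9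
    exact two_ne_three (h.cube g h8) h9
  have hyz : y * z * y⁻¹ = z := by rw [← hzy.eq, mul_inv_cancel_right]
  have hyx : y * x * y⁻¹ = z⁻¹ * x := by rw [eq_inv_mul_iff_mul_eq, ← mul_assoc, ← mul_assoc, ← hxy,
    mul_inv_cancel_right]
  have hc := h.comm x hx z hz
  have huu : u * u = s := by
    rw [eq_comm, ← inv_mul_eq_one]
    refine key _ (mul_mem (inv_mem hs) (mul_mem hu hu))
      ((Commute.refl s).inv_left.mul_left (h4.mul_left h4)) ?_ ?_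
    · calc _ = s⁻¹ * (u * (u * z * u⁻¹) * u⁻¹) * s := by group
        _ = _ := by rw [huz, hux, ← hsV z hz]; group
    · calc _ = s⁻¹ * (u * (u * x * u⁻¹) * u⁻¹) * s := by group
        _ = s⁻¹ * (u * z * u⁻¹)⁻¹ * s := by rw [hux]; group
        _ = _ := by rw [huz, ← hsV x hx]; group
  refine ⟨u, hu, huu, ?_, hux, huz, ?_, fun K kx ky kz ku kr => ?_⟩
  · have e1 : u * y * z * (u * y)⁻¹ = x := by
      calc _ = u * (y * z * y⁻¹) * u⁻¹ := by group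
        _ = _ := by rw [hyz, huz]
    have e2 : u * y * x * (u * y)⁻¹ = (z * x)⁻¹ := by
      calc _ = u * (y * x * y⁻¹) * u⁻¹ := by group
        _ = (u * z * u⁻¹)⁻¹ * (u * x * u⁻¹) := by rw [hyx]; group
        _ = _ := by rw [huz, hux, mul_inv_rev]
    have hm := mul_mem hu hy
    have hcm := h4.mul_left hsy.symm
    generalize u * y = c at e1 e2 hm hcm
    have e3 : c * (z * x)⁻¹ * c⁻¹ = z := by
      calc _ = (c * x * c⁻¹)⁻¹ * (c * z * c⁻¹)⁻¹ := by group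
        _ = _ := by rw [e1, e2]; group
    refine key _ (pow_mem hm 3) (hcm.pow_left 3) ?_ ?_
    · calc _ = c * (c * (c * z * c⁻¹) * c⁻¹) * c⁻¹ := by rw [pow_succ, pow_two]; group
        _ = _ := by rw [e1, e2, e3]
    · calc _ = c * (c * (c * x * c⁻¹) * c⁻¹) * c⁻¹ := by rw [pow_succ, pow_two]; group
        _ = _ := by rw [e2, e3, e1]
  · rw [eq_inv_iff_mul_eq_one]
    refine key _ (mul_mem (mul_mem (mul_mem hr hu) hr) hu)
      (((hsr.symm.mul_left h4).mul_left hsr.symm).mul_left h4) ?_ ?_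
    · calc _ = r * (u * (r * (u * z * u⁻¹) * r⁻¹) * u⁻¹) * r⁻¹ := by group
        _ = (r * z * r⁻¹)⁻¹ := by rw [huz, hrx, hux]; group
        _ = _ := by rw [hrz, inv_inv]
    · calc _ = r * (u * (r * (u * x * u⁻¹)⁻¹ * r⁻¹)⁻¹ * u⁻¹) * r⁻¹ := by group
        _ = _ := by rw [hux, inv_inv, hrz, inv_inv, huz, hrx]
  have ks : s ∈ K := huu ▸ mul_mem ku ku
  have step : ∀ i j : ℕ, j < 3 → j ≠ 0 →
      ∃ k ∈ K ⊓ A, k * z * k⁻¹ = z ∧ k * x * k⁻¹ = z ^ i * x ^ j := by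
    have h5 : ∀ i : ℕ, y⁻¹ ^ i * x * (y⁻¹ ^ i)⁻¹ = z ^ i * x := by
      intro i
      induction i with
      | zero => simp
      | succ i ih =>
        calc _ = y⁻¹ * (y⁻¹ ^ i * x * (y⁻¹ ^ i)⁻¹) * y := by rw [pow_succ']; group
          _ = y⁻¹ * (z ^ i * z * y) * x := by rw [ih, mul_assoc, mul_assoc, hxy]; group
          _ = _ := by rw [← pow_succ, (hzy.pow_left _).eq]; group
    have h6 : ∀ i : ℕ, y⁻¹ ^ i * z * (y⁻¹ ^ i)⁻¹ = z := fun i => by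
      rw [← (hzy.inv_right.pow_right i).eq, mul_inv_cancel_right]
    intro i j hj hj0
    have hm : y⁻¹ ^ i ∈ K ⊓ A := pow_mem (inv_mem (mem_inf.mpr ⟨ky, hy⟩)) i
    obtain rfl | rfl : j = 1 ∨ j = 2 := by omega
    · exact ⟨_, hm, h6 i, by rw [h5, pow_one]⟩
    · have h7 : s * r * z * (s * r)⁻¹ = z := by
        calc _ = s * (r * z * r⁻¹) * s⁻¹ := by group
          _ = _ := by rw [hrz, hsV _ (inv_mem hz), inv_inv]
      refine ⟨s * r * y⁻¹ ^ i, mul_mem (mul_mem ⟨ks, hs⟩ ⟨kr, hr⟩) hm, ?_, ?_⟩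
      · calc _ = s * r * (y⁻¹ ^ i * z * (y⁻¹ ^ i)⁻¹) * (s * r)⁻¹ := by group
          _ = _ := by rw [h6, h7]
      · calc _ = s * r * (y⁻¹ ^ i * x * (y⁻¹ ^ i)⁻¹) * (s * r)⁻¹ := by group
          _ = (s * r * z * (s * r)⁻¹) ^ i * (s * (r * x * r⁻¹) * s⁻¹) := by rw [h5, conj_pow]; group
          _ = _ := by rw [h7, hrx, hsV x hx, pow_two, mul_self_of_cube (h.cube x hx)]
  intro a ha
  obtain ⟨k, hk, hk'⟩ : ∃ k ∈ K ⊓ A, k * z * k⁻¹ = a * z * a⁻¹ := by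
    obtain ⟨i, hi, j, hj, e⟩ := exists_pow_mul_pow h.card h.cube hz hx hz1 hxz (h.norm a ha z hz)
    rw [e]
    by_cases hj0 : j = 0
    · subst hj0
      interval_cases i
      · exact absurd (by simpa using e) hz1
      · exact ⟨1, one_mem _, by simp⟩
      · exact ⟨s, ⟨ks, hs⟩, by
          rw [hsV z hz, pow_zero, mul_one, pow_two, mul_self_of_cube (h.cube z hz)]⟩
    · obtain ⟨k, hk, -, e'⟩ := step i j hj hj0
      refine ⟨k * u, mul_mem hk ⟨ku, hu⟩, ?_⟩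
      rw [← e', ← huz]
      group
  have hb : k⁻¹ * a ∈ A := mul_mem (inv_mem hk.2) ha
  have hbz : k⁻¹ * a * z * (k⁻¹ * a)⁻¹ = z := by
    calc _ = k⁻¹ * (a * z * a⁻¹) * k := by group
      _ = _ := by rw [← hk']; group
  suffices k⁻¹ * a ∈ K from (K.mul_mem_cancel_left (K.inv_mem hk.1)).mp this
  generalize k⁻¹ * a = b at hb hbz
  obtain ⟨i, -, j, hj, e⟩ := exists_pow_mul_pow h.card h.cube hz hx hz1 hxz (h.norm b hb x hx)
  obtain ⟨l, hl, l1, l2⟩ := step i j hj (by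
    rintro rfl
    rw [pow_zero, mul_one, ← hbz, conj_pow, mul_left_inj, mul_right_inj] at e
    exact hxz (e ▸ npow_mem_zpowers z i))
  refine (K.mul_mem_cancel_left (K.inv_mem hl.1)).mp (h.le_of_mem hx hz hz1 hxz kz kx
    (h.mem_of_comm hx hz hz1 hxz (mul_mem (inv_mem hl.2) hb) ?_ ?_))
  · calc _ = l⁻¹ * (b * z * b⁻¹) * l := by group
      _ = l⁻¹ * (l * z * l⁻¹) * l := by rw [hbz, l1]
      _ = _ := by group
  · calc _ = l⁻¹ * (b * x * b⁻¹) * l := by group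
      _ = _ := by rw [e, ← l2]; group

omit hx hz hz1 hxz in
theorem exists_x {B W : Subgroup G} (h' : Side B W) (hVB : V ≤ B) (hWA : W ≤ A) (hVW : ¬ V ≤ W)
    (hWV : ¬ W ≤ V) {z r : G} (hz : z ∈ V) (hz' : z ∈ W) (hz1 : z ≠ 1) (hr : r ∈ A)
    (hrW : ∀ p ∈ W, r * p * r⁻¹ = p⁻¹) (hrr : r * r = 1) : ∃ x ∈ V, x ∉ W ∧ r * x * r⁻¹ = x := by
  obtain ⟨x, hx, hxW⟩ := SetLike.not_le_iff_exists.mp hVW
  have hxz : x ∉ zpowers z := fun e => hxW (zpowers_le_of_mem hz' e)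
  have h1 : r * (x * (r * x * r⁻¹)) * r⁻¹ = x * (r * x * r⁻¹) := by
    calc _ = (r * x * r⁻¹) * ((r * r) * x * (r * r)⁻¹) := by group
      _ = _ := by rw [hrr, one_mul, inv_one, mul_one, (h.comm x hx _ (h.norm r hr x hx)).eq]
  refine ⟨_, mul_mem hx (h.norm r hr x hx), fun e => hWV fun q hq => ?_, h1⟩
  rw [hrW _ e, inv_eq_iff_mul_eq_one] at h1
  have h2 := fun p => h.inverts hx hz hz1 hxz (hrW z hz')
    (eq_inv_of_mul_eq_one_right (two_ne_three (h'.cube _ e) h1)) (p := p)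
  refine h.cent q (hWA hq) fun p hp => ?_
  have h3 : q * p * q⁻¹ * p⁻¹ ∈ V := mul_mem (h.norm q (hWA hq) p hp) (inv_mem hp)
  have h4 : q * p * q⁻¹ * p⁻¹ ∈ W := by
    simpa only [mul_assoc] using mul_mem hq (h'.norm p (hVB hp) _ (inv_mem hq))
  have h5 := (h.comm _ h3 p hp).eq
  have h6 := (h'.comm _ h4 q hq).eq
  have h7 := h2 _ h3
  obtain ⟨c, hc⟩ : ∃ c, c = q * p * q⁻¹ * p⁻¹ := ⟨_, rfl⟩
  rw [← hc] at h3 h5 h6 h7
  have h8 : r * c * r⁻¹ = c := by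
    calc _ = (r * q * r⁻¹) * (r * p * r⁻¹) * (r * q * r⁻¹)⁻¹ * (r * p * r⁻¹)⁻¹ := by rw [hc]; group
      _ = q⁻¹ * p⁻¹ * (c * p) * q := by rw [hrW q hq, h2 p hp, hc]; group
      _ = q⁻¹ * (c * q) := by rw [h5]; group
      _ = c := by rw [h6]; group
  rw [h8, eq_inv_iff_mul_eq_one] at h7
  exact mul_inv_eq_iff_eq_mul.mp (mul_inv_eq_one.mp (hc ▸ two_ne_three (h.cube c h3) h7))

end Side

theorem side_of_pCore (A : Subgroup G) [(Cfsg.pCore 3 A).Normal]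
    (e : A ⧸ Cfsg.pCore 3 A ≃* GL (Fin 2) (ZMod 3))
    (h : IsMulCommutative (Cfsg.pCore 3 A) ∧ (∀ x ∈ Cfsg.pCore 3 A, x ^ 3 = 1) ∧
      Nat.card (Cfsg.pCore 3 A) = 9 ∧
      centralizer ((Cfsg.pCore 3 A : Subgroup A) : Set A) = Cfsg.pCore 3 A) :
    Side A ((Cfsg.pCore 3 A).map A.subtype) where
  le := map_subtype_le _
  norm := by
    rintro a ha _ ⟨p, hp, rfl⟩
    exact ⟨_, Normal.conj_mem inferInstance p hp ⟨a, ha⟩, rfl⟩
  card := by rw [card_map_of_injective A.subtype_injective, h.2.2.1]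
  cube := by
    rintro _ ⟨p, hp, rfl⟩
    exact congrArg Subtype.val (h.2.1 p hp)
  comm := by
    rintro _ ⟨p, hp, rfl⟩ _ ⟨q, hq, rfl⟩
    exact congrArg (fun t : Cfsg.pCore 3 A => ((t : A) : G)) (h.1.is_comm.comm ⟨p, hp⟩ ⟨q, hq⟩)
  cent := fun a ha hc => ⟨⟨a, ha⟩, h.2.2.2.le fun p hp => Subtype.ext (hc p ⟨p, hp, rfl⟩).symm, rfl⟩
  cardA := by
    rw [card_eq_card_quotient_mul_card_subgroup (Cfsg.pCore 3 A), Nat.card_congr e.toEquiv,
      H3.card_gl2, h.2.2.1, ZMod.card]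

theorem Side.le_of_index {A V T : Subgroup G} (h : Side A V) {H : Subgroup G} (hH : H ≤ A)
    (hV : V ≤ H) (hi : ¬ 3 ∣ T.relIndex H) : V ≤ T := by
  obtain ⟨c, hc, h1⟩ := exists_conj_le hV (IsPGroup.of_card (n := 2) h.card) hi
  intro p hp
  simpa only [mul_assoc, inv_inv, mul_inv_cancel_left, mul_inv_cancel, mul_one] using
    h1 _ (h.norm _ (inv_mem (hH hc)) p hp)

theorem iso_of_sides {A B V W : Subgroup G} (hA : Side A V) (hB : Side B W) (hgen : A ⊔ B = ⊤)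
    (hVB : V ≤ B) (hWA : W ≤ A) (hVW : ¬ V ≤ W) {z₀ : G} (hz : z₀ ∈ V) (hz' : z₀ ∈ W)
    (hz1 : z₀ ≠ 1) (hN : normalizer (zpowers z₀ : Set G) ≤ A ⊓ B) :
    Nonempty (G ≃* Spor.M12) ∨ Nonempty (G ≃* PSL(3, ZMod 3)) := by
  have hWV : ¬ W ≤ V := fun e => hVW (eq_of_le_of_card_ge e (by rw [hA.card, hB.card])).ge
  have hinv : ∀ {g}, g * z₀ * g⁻¹ = z₀⁻¹ → g ∈ A ⊓ B := fun e =>
    hN (mem_normalizer_zpowers.mpr (e ▸ inv_mem (mem_zpowers _)))
  obtain ⟨x₀, hx₀, hxW⟩ := SetLike.not_le_iff_exists.mp hVW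
  obtain ⟨y₀, hy₀, hyV⟩ := SetLike.not_le_iff_exists.mp hWV
  obtain ⟨s, hs, hss, hsV⟩ := hA.exists_inverts hx₀ hz hz1 fun e => hxW (zpowers_le_of_mem hz' e)
  obtain ⟨r₀, hr₀, hrr₀, hrW₀⟩ := hB.exists_inverts hy₀ hz' hz1 fun e => hyV (zpowers_le_of_mem hz e)
  have hsB := (hinv (hsV _ hz)).2
  have h1 := hA.comm_cent hs hsV (hinv (hrW₀ _ hz')).1
  have h2 : r₀ * s * r₀⁻¹ * s⁻¹ ∈ W := by
    simpa only [mul_inv_rev, inv_inv, mul_assoc] using inv_mem (hB.comm_mem hr₀ hrW₀ hsB)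
  generalize r₀ * s * r₀⁻¹ * s⁻¹ = c at h1 h2
  have hrW : ∀ p ∈ W, c * r₀ * p * (c * r₀)⁻¹ = p⁻¹ := fun p hp => by
    calc _ = c * (r₀ * p * r₀⁻¹) * c⁻¹ := by group
      _ = _ := by rw [hrW₀ p hp, (hB.comm c h2 _ (inv_mem hp)).eq, mul_inv_cancel_right]
  have hrr : c * r₀ * (c * r₀) = 1 := by
    calc _ = c * (r₀ * c * r₀⁻¹) * (r₀ * r₀) := by group
      _ = _ := by rw [hrW₀ c h2, hrr₀, mul_inv_cancel, mul_one]
  generalize c * r₀ = r at h1 hrW hrr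
  obtain ⟨hrA, hr⟩ := hinv (hrW _ hz')
  obtain ⟨x, hx, hxW, hrx⟩ := hA.exists_x hB hVB hWA hVW hWV hz hz' hz1 hrA hrW hrr
  obtain ⟨y, hy, hyV, hsy⟩ := hB.exists_x hA hWA hVB hWV hVW hz' hz hz1 hsB hsV hss
  obtain ⟨z, hzd⟩ : ∃ z, z = x * y * x⁻¹ * y⁻¹ := ⟨_, rfl⟩
  have hzW : z ∈ W := hzd ▸ mul_mem (hB.norm x (hVB hx) y hy) (inv_mem hy)
  have hzV : z ∈ V := by
    simpa only [hzd, mul_assoc] using mul_mem hx (hA.norm y (hWA hy) _ (inv_mem hx))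
  have hxy : x * y = z * y * x := by
    have := (hA.comm z hzV x hx).eq
    rw [hzd]
    group
  have hxz₀ : x ∉ zpowers z₀ := fun e => hxW (zpowers_le_of_mem hz' e)
  have hz2 : z ≠ 1 := fun e => hyV (hA.mem_of_comm hx hz hz1 hxz₀ (hWA hy)
    (mul_inv_eq_iff_eq_mul.mpr (hB.comm y hy _ hz'))
    (by rw [mul_inv_eq_iff_eq_mul, hxy, e, one_mul]))
  have h3 : zpowers z = zpowers z₀ := by
    refine zpowers_eq_of_mem (by_contra fun e => hVW (hA.le_of_mem hzV hz hz1 e hz' hzW)) ?_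
    rw [orderOf_eq_prime (hA.cube z hzV) hz2, orderOf_eq_prime (hA.cube _ hz) hz1]
  rw [← h3] at hN
  have hxz : x ∉ zpowers z := fun e => hxW (zpowers_le_of_mem hzW e)
  have hyz : y ∉ zpowers z⁻¹ := fun e => hyV (zpowers_le_of_mem (inv_mem hzV) e)
  have hs' : s⁻¹ = s := inv_eq_of_mul_eq_one_right hss
  have hr' : r⁻¹ = r := inv_eq_of_mul_eq_one_right hrr
  obtain ⟨u, hu, u1, u2, u3, u4, u5, u6⟩ := hA.exists_u hx hzV hz2 hxz (hWA hy) hs hrA hsV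
    (mul_inv_eq_iff_eq_mul.mp hsy) h1.symm hrx (hrW z hzW) hxy (hB.comm z hzW y hy)
  obtain ⟨v, hv, v1, v2, v3, v4, v5, v6⟩ := hB.exists_u hy (inv_mem hzW) (inv_ne_one.mpr hz2) hyz
    (hVB hx) hr hsB hrW (mul_inv_eq_iff_eq_mul.mp hrx) h1 hsy (hsV _ (inv_mem hzV))
    (by rw [mul_assoc, hxy]; group) (hA.comm _ (inv_mem hzV) x hx)
  have hR : Rel x y z u v r s := ⟨hA.cube x hx, hB.cube y hy, hA.cube z hzV, hxy,
    hA.comm z hzV x hx, hB.comm z hzW y hy, hss, hrr, h1.symm, u1, u2, u3, u4,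
    mul_inv_eq_iff_eq_mul.mp hsy, u5, mul_inv_eq_iff_eq_mul.mp hrx, by rw [← hrW y hy, hr'],
    by rw [← hrW z hzW, hr'], by rw [← hsV x hx, hs'], by rw [← hsV z hzV, hs'], v1, v2, by rw [v3, inv_inv],
    by rw [← v4]; group, v5⟩
  refine hR.iso hz2 (fun g h4 h5 => ?_) ?_ (hA.cardA ▸ card_subgroup_dvd_card A) fun h4 => ?_
  · have hg := (hN (mem_normalizer_zpowers.mpr (by
      rw [h4.eq, mul_inv_cancel_right]; exact mem_zpowers z))).1
    have tx : s * r * x * (s * r)⁻¹ = x⁻¹ := by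
      calc _ = s * (r * x * r⁻¹) * s⁻¹ := by group
        _ = _ := by rw [hrx, hsV x hx]
    have tz : s * r * z * (s * r)⁻¹ = z := by
      calc _ = s * (r * z * r⁻¹) * s⁻¹ := by group
        _ = _ := by rw [hrW z hzW, hsV _ (inv_mem hzV), inv_inv]
    have tt : s * r * (s * r) = 1 := by rw [h1.mul_mul_mul_comm, hss, hrr, mul_one]
    have htA := mul_mem hs hrA
    generalize s * r = t at h5 tx tz tt htA
    have hx3 : orderOf x = 3 := orderOf_eq_prime (hA.cube x hx) fun e => hxz (e ▸ one_mem _)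
    have key : ∀ p ∈ V, ∃ i : ℕ, ∃ j < 3, p = z ^ i * x ^ j ∧ t * p * t⁻¹ = z ^ i * (x ^ j)⁻¹ := by
      intro p hp
      obtain ⟨i, -, j, hj, rfl⟩ := exists_pow_mul_pow hA.card hA.cube hzV hx hz2 hxz hp
      exact ⟨i, j, hj, rfl, by rw [← conj_mul, ← conj_pow, ← conj_pow, tx, tz, inv_pow]⟩
    have key' : ∀ g ∈ A, Commute g z → Commute g t → g * x * g⁻¹ = x → ∃ i : ℕ, g = z ^ i := by
      intro g hg h4 h5 h6
      obtain ⟨i, j, -, e, e'⟩ := key g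
        (hA.mem_of_comm hx hzV hz2 hxz hg (mul_inv_eq_iff_eq_mul.mpr h4) h6)
      rw [← h5.eq, mul_inv_cancel_right, e, mul_right_inj, eq_inv_iff_mul_eq_one] at e'
      exact ⟨i, by rw [e, two_ne_three (hA.cube _ (pow_mem hx j)) e', mul_one]⟩
    obtain ⟨i, j, hj, e, e'⟩ := key _ (hA.norm g hg x hx)
    have h6 : t * (g * x * g⁻¹) * t⁻¹ = (g * x * g⁻¹)⁻¹ := by
      calc _ = (t * g) * x * (t * g)⁻¹ := by group
        _ = g * (t * x * t⁻¹) * g⁻¹ := by rw [← h5.eq]; group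
        _ = _ := by rw [tx]; group
    rw [h6, e, ((hA.comm z hzV x hx).pow_pow i j).eq, mul_inv_rev, mul_left_inj,
      inv_eq_iff_mul_eq_one] at e'
    rw [two_ne_three (hA.cube _ (pow_mem hzV i)) e', one_mul] at e
    interval_cases j
    · rw [pow_zero, conj_eq_one_iff] at e
      exact absurd (e ▸ one_mem _) hxz
    · exact (key' g hg h4 h5 (e.trans (pow_one x))).imp fun i => Or.inl
    · refine (key' (g * t) (mul_mem hg htA) (h4.mul_left (mul_inv_eq_iff_eq_mul.mp tz))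
        (h5.mul_left rfl) ?_).imp fun i e => Or.inr (by rw [← e, mul_assoc, tt, mul_one])
      calc _ = (g * (t * x * t⁻¹)⁻¹ * g⁻¹)⁻¹ := by group
        _ = _ := by rw [tx, inv_inv, e, pow_two, mul_self_of_cube (hA.cube x hx), inv_inv]
  · rw [eq_top_iff, ← hgen]
    have h4 : ∀ g ∈ [x, y, u, v], g ∈ closure {x, y, u, v} := fun g hg =>
      subset_closure (by simpa using hg)
    have h5 : z ∈ closure {x, y, u, v} := hzd ▸ mul_mem (mul_mem (mul_mem (h4 x (by simp))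
      (h4 y (by simp))) (inv_mem (h4 x (by simp)))) (inv_mem (h4 y (by simp)))
    exact sup_le (u6 _ (h4 x (by simp)) (h4 y (by simp)) h5 (h4 u (by simp))
      (v1 ▸ mul_mem (h4 v (by simp)) (h4 v (by simp))))
      (v6 _ (h4 y (by simp)) (h4 x (by simp)) (inv_mem h5) (h4 v (by simp))
      (u1 ▸ mul_mem (h4 u (by simp)) (h4 u (by simp))))
  · exact hxW (u4 ▸ hB.norm u ((eq_top_of_card_eq B (hB.cardA.trans h4.symm)).ge trivial) z hzW)

end Cfsg.Agent.H4.M12P
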