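import Cfsg.Agent.H4.M12R1
import Cfsg.Agent.H4.M12Side

/-!
# Groups of order `95040` with the element order statistics of `M₁₂`: a centralizer of order `240`
-/

set_option autoImplicit false
set_option linter.unusedSectionVars false

namespace Cfsg.Agent.H4.M12R

open Subgroup Nse MulAction

variable {G : Type*} [Group G] [Finite G]

theorem GT.sub {g t : G} (h : GT g t) {H : Subgroup G} (hg : g ∈ H) (ht : t ∈ H)
    (hH : normalizer (zpowers g : Set G) ≤ H) : GT (⟨g, hg⟩ : H) ⟨t, ht⟩ where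
  og := (orderOf_coe _).symm.trans h.og
  ot := (orderOf_coe _).symm.trans h.ot
  comm := Subtype.ext h.comm
  uniq s h1 h2 := (h.uniq s (congrArg Subtype.val h1) (congrArg Subtype.val h2)).imp
    Subtype.ext Subtype.ext
  cardC := by
    rw [← h.cardC, ← inf_of_le_left ((cent_le_norm g).trans hH), ← card_subgroupOf]
    congr 3
    ext x
    simp only [mem_subgroupOf, mem_centralizer_singleton_iff, Subtype.ext_iff, coe_mul]
  cardN := by
    rw [← h.cardN, ← inf_of_le_left hH, ← card_subgroupOf]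
    congr 3
    ext x
    rw [mem_subgroupOf, mem_normalizer_zpowers, mem_normalizer_zpowers]
    exact ⟨fun ⟨k, hk⟩ => ⟨k, congrArg Subtype.val hk⟩, fun ⟨k, hk⟩ => ⟨k, Subtype.ext hk⟩⟩

theorem comm_of_nine {V : Subgroup G} (h : Nat.card V = 9) {a b : G} (ha : a ∈ V) (hb : b ∈ V) :
    Commute a b :=
  have := Fact.mk Nat.prime_three
  congrArg Subtype.val ((IsPGroup.commGroupOfCardEqPrimeSq (p := 3) h).mul_comm ⟨a, ha⟩ ⟨b, hb⟩)

theorem le_cent_of_nine {V : Subgroup G} (h : Nat.card V = 9) : V ≤ centralizer (V : Set G) :=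
  fun _ ha _ hb => comm_of_nine h hb ha

theorem exists_invol {R : Subgroup G} (hR : Nat.card R = 2 ^ 2) (a b : G) :
    ∃ e ∈ R, e ≠ a ∧ e ≠ b ∧ e ≠ a * b := by
  classical
  obtain ⟨e, he, h⟩ := exists_notMem (H := R) (s := {a, b, a * b})
    (lt_of_le_of_lt Finset.card_le_three (by omega))
  exact ⟨e, he, by simpa [not_or] using h⟩

/-- The centralizer of order `1440`. -/
structure H14 (g t : G) : Prop where
  card : Nat.card G = 1440
  o : Ord G
  gt : GT g t
  cen : ∀ x, Commute x t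

namespace H14

variable {g t : G} (h : H14 g t)
include h

theorem n1 {K : Subgroup G} (hK : K.Normal) (h5 : 5 ∣ Nat.card K) : K.index ∣ 40 :=
  h.gt.cardN ▸ index_dvd_frattini Nat.prime_five h.gt.og (by rw [h.card]; norm_num) h5

theorem n2' {u : G} (hu : orderOf u = 5) {K : Subgroup G} (hK : ∀ x ∈ K, u * x * u⁻¹ ∈ K)
    (h5 : ¬ 5 ∣ Nat.card K) : ¬ 3 ∣ Nat.card K :=
  not_dvd_of_fpf (e := 2) Nat.prime_five Nat.prime_three hu hK h5
    (h.o.not_dvd_cent hu Nat.prime_three (by norm_num) (by decide))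
    (fun e => absurd (h.card ▸ e.trans K.card_subgroup_dvd_card) (by norm_num)) (by decide)

theorem n2 {K : Subgroup G} (hK : K.Normal) (h5 : ¬ 5 ∣ Nat.card K) : ¬ 3 ∣ Nat.card K :=
  h.n2' h.gt.og (fun x hx => hK.conj_mem x hx g) h5

variable [Fact (Nat.Prime 3)] (V : Sylow 3 G)

theorem cardV : Nat.card V.1 = 9 := by
  rw [V.card_eq_multiplicity, h.card, show Nat.factorization 1440 3 = 2 by decide +kernel]
  rfl

theorem t_mem : t ∈ centralizer (V.1 : Set G) := fun x _ => h.cen x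

theorem dvdC : 18 ∣ Nat.card (centralizer (V.1 : Set G)) :=
  Nat.Coprime.mul_dvd_of_dvd_of_dvd (m := 2) (n := 9) (by norm_num)
    (h.gt.ot ▸ orderOf_dvd_natCard _ (h.t_mem V))
    (h.cardV V ▸ card_dvd_of_le (le_cent_of_nine (h.cardV V)))

theorem cardN : Nat.card (normalizer (V.1 : Set G)) = 36 ∨
    Nat.card (normalizer (V.1 : Set G)) = 144 := by
  have h1 := index_mul_card' (normalizer (V.1 : Set G)) h.card
  have h2 := relIndex_normalizer_modEq V le_top
  have h3 := (h.dvdC V).trans (card_dvd_of_le (centralizer_le_normalizer (V.1 : Set G)))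
  have h4 : ¬ 5 ∣ Nat.card (normalizer (V.1 : Set G)) := fun e => by
    obtain ⟨u, hu, hu5⟩ := exists_mem_orderOf Nat.prime_five e
    exact h.n2' hu5 (fun x => (mem_normalizer_iff.mp hu x).mp) (by rw [h.cardV]; norm_num)
      (by rw [h.cardV]; norm_num)
  rw [relIndex_top_right, Nat.ModEq] at h2
  have : ∀ c ∈ Nat.divisors 1440, 18 ∣ c → ¬ 5 ∣ c → 1440 / c % 3 = 1 % 3 → c = 36 ∨ c = 144 := by
    decide +kernel
  exact this _ (Nat.mem_divisors.mpr ⟨Dvd.intro_left _ h1, by norm_num⟩) h3 h4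
    (by rwa [← h1, Nat.mul_div_cancel _ Nat.card_pos])

theorem not_fixed {a : G} (ha : a ∈ V.1) (hn : ∀ n ∈ normalizer (V.1 : Set G), Commute n a) :
    a = 1 := by
  by_contra ha1
  have : IsMulCommutative V := ⟨⟨fun x y => Subtype.ext (comm_of_nine (h.cardV V) x.2 y.2)⟩⟩
  obtain ⟨K, hK, h1, h2⟩ := exists_normal_of_fixed V ha ha1 hn
  have h3 := index_mul_card' K h.card
  rw [show Nat.card V = 9 from h.cardV V] at h2
  have h4 := h.n1 hK
  have := Nat.le_of_dvd (by norm_num) h2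
  generalize K.index = n at *
  interval_cases n <;> omega

theorem not_cyclic : ¬ IsCyclic V.1 := fun e => by
  obtain ⟨a, ha⟩ := e.exists_generator
  have h1 := orderOf_eq_card_of_forall_mem_zpowers ha
  have h2 := h.o a
  rw [orderOf_coe, h1, h.cardV] at h2
  exact absurd h2 (by decide)

theorem ne_36 : Nat.card (normalizer (V.1 : Set G)) ≠ 36 := by
  intro hN
  have hle := centralizer_le_normalizer (V.1 : Set G)
  obtain ⟨n, hn, hnC⟩ : ∃ n ∈ normalizer (V.1 : Set G), n ∉ centralizer (V.1 : Set G) := by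
    by_contra hc
    push Not at hc
    have : V.1 = ⊥ := eq_bot_iff.mpr fun a ha => h.not_fixed V ha fun n hn => (hc n hn a ha).symm
    have h2 := h.cardV V
    rw [this, card_bot] at h2
    omega
  have h1 : Nat.card (normalizer (V.1 : Set G)) = 2 * Nat.card (centralizer (V.1 : Set G)) := by
    have h2 := h.dvdC V
    have h3 := hN ▸ card_dvd_of_le hle
    have h4 : Nat.card (centralizer (V.1 : Set G)) ≠ 36 := fun e =>
      hnC ((eq_of_le_of_card_ge hle (by omega)).ge hn)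
    have := Nat.le_of_dvd (by norm_num) h3
    have := Nat.card_pos (α := centralizer (V.1 : Set G))
    omega
  have h2 : ∀ m ∈ normalizer (V.1 : Set G), m ∉ centralizer (V.1 : Set G) → ∀ a ∈ V.1,
      m * a * m⁻¹ = a⁻¹ := by
    intro m hm hmC a ha
    have h3 : ∀ b ∈ V.1, m * b * m⁻¹ ∈ V.1 := fun b => (mem_normalizer_iff.mp hm b).mp
    refine eq_inv_of_mul_eq_one_right (h.not_fixed V (mul_mem ha (h3 a ha)) fun k hk => ?_)
    by_cases hkC : k ∈ centralizer (V.1 : Set G)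
    · exact (hkC _ (mul_mem ha (h3 a ha))).symm
    have h4 := mul_mem_of_index_two hle h1 hk hm hkC hmC a ha
    have h5 := mul_mem_of_index_two hle h1 hk (inv_mem hm) hkC (by rwa [inv_mem_iff]) _ (h3 a ha)
    refine mul_inv_eq_iff_eq_mul.mp ?_
    calc _ = (k * m⁻¹ * (m * a * m⁻¹)) * (k * m⁻¹)⁻¹ * (k * m * a * (k * m)⁻¹) := by group
      _ = _ := by rw [← h4, ← h5, mul_inv_cancel_right, mul_inv_cancel_right,
        (comm_of_nine (h.cardV V) ha (h3 a ha)).eq]
  have : IsMulCommutative V := ⟨⟨fun x y => Subtype.ext (comm_of_nine (h.cardV V) x.2 y.2)⟩⟩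
  obtain ⟨O, K, hO, hK, h3, h4, h5⟩ := st_normal (P := V) ⟨by norm_num,
    fun x hx y hy => comm_of_nine (h.cardV V) hx hy, fun x hx k hk => by
      obtain ⟨m, hm, e⟩ := V.conj_eq_normalizer_conj_of_mem x k⁻¹ hx (by rwa [inv_inv])
      rw [inv_inv] at e
      rw [e]
      by_cases hmC : m ∈ centralizer (V.1 : Set G)
      · exact Or.inl (by rw [mul_assoc, hmC x hx, inv_mul_cancel_left])
      · have := h2 m⁻¹ (inv_mem hm) (by rwa [inv_mem_iff]) x hx
        rw [inv_inv] at this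
        exact Or.inr this, n, h2 n hn hnC⟩ (h.not_cyclic V)
  rw [h.cardV] at h5
  by_cases h6 : 5 ∣ Nat.card O
  · have h7 := h.n1 hO h6
    have h8 : 3 ∣ O.index := h3.symm.dvd_of_dvd_mul_right (by
      rw [index_mul_card' O h.card]; norm_num)
    exact absurd (h8.trans h7) (by norm_num)
  · refine h.n2 hK (fun e => h6 ((show Nat.Coprime 5 9 by norm_num).dvd_of_dvd_mul_left
      (e.trans h5))) (Dvd.dvd.trans ?_ (card_dvd_of_le h4))
    rw [h.cardV]
    norm_num

theorem mem_V {a : G} (ha : a ∈ normalizer (V.1 : Set G)) (h3 : a ^ 3 = 1) : a ∈ V.1 := by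
  have h1 : IsPGroup 3 (zpowers a) :=
    IsPGroup.of_card_dvd_pow (n := 1) (by
      rw [Nat.card_zpowers, pow_one]; exact orderOf_dvd_of_pow_eq_one h3)
  have := V.is_maximal' (h1.to_sup_of_normal_right' V.2 (zpowers_le_of_mem ha)) le_sup_right
  exact this ▸ mem_sup_left (mem_zpowers a)

theorem ti (hN : Nat.card (normalizer (V.1 : Set G)) = 144) {a k : G} (ha : a ∈ V.1) (ha1 : a ≠ 1)
    (hk : k⁻¹ * a * k ∈ V.1) : k ∈ normalizer (V.1 : Set G) := by
  have := Fact.mk Nat.prime_five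
  let F : (G ⧸ normalizer (V.1 : Set G)) × ↥((V.1 : Set G) \ {1}) → {x : G // orderOf x = 3} :=
    fun q => ⟨q.1.out * q.2 * q.1.out⁻¹, by
      rw [orderOf_conj']
      exact orderOf_eq_prime (h.o.cube V.2 q.2.2.1) q.2.2.2⟩
  have h1 : ∀ (c b : G) (hb : orderOf b = 3), c⁻¹ * b * c ∈ V.1 → ∃ v, F (c, v) = ⟨b, hb⟩ := by
    intro c b hb hc
    obtain ⟨n, hn⟩ := QuotientGroup.mk_out_eq_mul (normalizer (V.1 : Set G)) c
    refine ⟨⟨(n : G)⁻¹ * (c⁻¹ * b * c) * (n : G)⁻¹⁻¹, (mem_normalizer_iff.mp (inv_mem n.2) _).mp hc,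
      fun e => ?_⟩, Subtype.ext ?_⟩
    · have : b = 1 := conj_eq_one_iff.mp (by
        simpa only [inv_inv] using (conj_eq_one_iff.mp e : c⁻¹ * b * c = 1) : c⁻¹ * b * c⁻¹⁻¹ = 1)
      rw [this, orderOf_one] at hb
      omega
    · simp only [F, hn]
      group
  have h2 : Function.Surjective F := by
    rintro ⟨b, hb⟩
    obtain ⟨c, -, hc⟩ := exists_conj_le (H := ⊤) (T := V.1) (R := zpowers b) le_top
      (IsPGroup.of_card (n := 1) (by rw [Nat.card_zpowers, hb, pow_one]))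
      (by rw [relIndex_top_right]; exact V.not_dvd_index)
    obtain ⟨v, hv⟩ := h1 c⁻¹ b hb (by simpa using hc b (mem_zpowers b))
    exact ⟨_, hv⟩
  have h3 : Nat.card ((G ⧸ normalizer (V.1 : Set G)) × ↥((V.1 : Set G) \ {1})) = 80 := by
    have h4 := index_mul_card' (normalizer (V.1 : Set G)) h.card
    rw [hN] at h4
    rw [Nat.card_prod, Nat.card_coe_set_eq, Set.ncard_sdiff_singleton_of_mem (one_mem V.1),
      show (V.1 : Set G).ncard = 9 from h.cardV V, ← index]
    omega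
  have h4 : mo G 3 = 80 := by
    have h5 := h3 ▸ Nat.card_le_card_of_surjective F h2
    have h6 : 45 ∣ mo G 1 + (mo G 3 + (mo G 5 + (mo G 9 + (mo G 15 + mo G 45)))) :=
      frob (d := 45) (by rw [h.card]; norm_num)
    have h7 := mo_prime h.gt.og (by rw [h.card]; norm_num)
    have h8 : ∀ n, n ∉ [1, 2, 3, 4, 5, 6, 8, 10, 11] → mo G n = 0 := fun n hn =>
      mo_eq_zero fun x e => hn (e ▸ h.o x)
    have h9 : 2 ∣ mo G 3 := totient_dvd_mo 3
    rw [h.gt.cardN, h.card] at h7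
    rw [mo_one, h8 9 (by decide), h8 15 (by decide), h8 45 (by decide)] at h6
    change mo G 3 ≤ 80 at h5
    omega
  have h5 := ((Nat.bijective_iff_surjective_and_card F).mpr ⟨h2, h3.trans h4.symm⟩).1
  have h6 : orderOf a = 3 := orderOf_eq_prime (h.o.cube V.2 ha) ha1
  obtain ⟨v, hv⟩ := h1 1 a h6 (by simpa using ha)
  obtain ⟨w, hw⟩ := h1 k a h6 hk
  simpa using QuotientGroup.eq.mp (congrArg Prod.fst (h5 (hv.trans hw.symm)))

theorem cardC (hN : Nat.card (normalizer (V.1 : Set G)) = 144) :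
    Nat.card (centralizer (V.1 : Set G)) = 18 := by
  classical
  have hle := centralizer_le_normalizer (V.1 : Set G)
  by_contra hc
  have h1 : 2 ^ 2 ∣ Nat.card (centralizer (V.1 : Set G)) := by
    have h2 := h.dvdC V
    have h3 := hN ▸ card_dvd_of_le hle
    have := Nat.le_of_dvd (by norm_num) h3
    generalize Nat.card (centralizer (V.1 : Set G)) = n at *
    obtain ⟨k, rfl⟩ := h2
    have : k ≤ 8 := by omega
    interval_cases k <;> omega
  obtain ⟨R, hR, hR'⟩ := exists_le_card Nat.prime_two h1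
  obtain ⟨e, he, he1, het, -⟩ := exists_invol hR' 1 t
  obtain ⟨a, ha, ha3⟩ := exists_mem_orderOf (H := V.1) Nat.prime_three (by rw [h.cardV]; norm_num)
  have hee := h.o.sq_of_odd (IsPGroup.of_card hR') he (Or.inl ha3) (hR he a ha).symm
  set N := normalizer (V.1 : Set G)
  have h2 : Nat.card (G ⧸ N) = 10 := by
    have h4 := index_mul_card' N h.card
    rw [hN] at h4
    rw [← index]
    omega
  have h3 : ((1 : G) : G ⧸ N) ∈ fixedBy (G ⧸ N) e :=
    QuotientGroup.eq.mpr (by simpa using hle (hR he))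
  obtain ⟨q, hq, hq1⟩ : ∃ q ∈ fixedBy (G ⧸ N) e, q ≠ ((1 : G) : G ⧸ N) := by
    have := Fact.mk Nat.prime_two
    have h4 : IsPGroup 2 (zpowers e) := IsPGroup.of_card_dvd_pow (n := 1) (by
      rw [Nat.card_zpowers, pow_one]; exact orderOf_dvd_of_pow_eq_one (by rwa [pow_two]))
    obtain ⟨q, hq, hq1⟩ := h4.exists_fixed_point_of_prime_dvd_card_of_fixed_point (G ⧸ N)
      (by rw [h2]; norm_num) (a := ((1 : G) : G ⧸ N)) fun x =>
        (zpowers_le_of_mem (H := stabilizer G ((1 : G) : G ⧸ N)) h3) x.2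
    exact ⟨q, hq ⟨e, mem_zpowers e⟩, hq1.symm⟩
  obtain ⟨k, rfl⟩ := QuotientGroup.mk_surjective q
  have h4 : k ∉ N := fun e => hq1 (QuotientGroup.eq.mpr (by simpa using e))
  let f : V.1 → G ⧸ N := fun v => ((v * k : G) : G ⧸ N)
  have h5 : Function.Injective f := fun v w e => by
    by_contra hne
    refine h4 (h.ti V hN (mul_mem (inv_mem v.2) w.2) (fun e => hne (Subtype.ext (inv_mul_eq_one.mp e)))
      (h.mem_V V (show _ ∈ N by simpa [mul_assoc] using QuotientGroup.eq.mp e) ?_))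
    have := h.o.cube V.2 (mul_mem (inv_mem v.2) w.2)
    calc _ = k⁻¹ * ((v : G)⁻¹ * w) ^ 3 * k⁻¹⁻¹ := by rw [← conj_pow, inv_inv]
      _ = 1 := by rw [this]; group
  have h6 : fixedBy (G ⧸ N) e = Set.univ := by
    refine Set.eq_of_subset_of_ncard_le (Set.subset_univ _) ?_
    rw [Set.ncard_univ, h2]
    refine le_trans (le_of_eq ?_) (Set.ncard_le_ncard
      (s := insert ((1 : G) : G ⧸ N) (Set.range f)) (Set.insert_subset h3 ?_))
    · rw [Set.ncard_insert_of_notMem, ← Set.image_univ, Set.ncard_image_of_injective _ h5,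
        Set.ncard_univ, h.cardV]
      rintro ⟨v, hv⟩
      exact h4 ((mul_mem_cancel_left (le_normalizer v.2)).mp
        (show _ ∈ N by simpa using QuotientGroup.eq.mp hv.symm))
    · rintro _ ⟨v, rfl⟩
      have h7 : ((e * k : G) : G ⧸ N) = k := hq
      change ((e * (v * k) : G) : G ⧸ N) = (v * k : G)
      rw [← mul_assoc, ← hR he v v.2, mul_assoc]
      exact congrArg ((v : G) • ·) h7
  have h7 : e ∈ N.normalCore := by
    rw [normalCore_eq_ker]
    exact Equiv.ext fun q => (h6 ▸ Set.mem_univ q : q ∈ fixedBy (G ⧸ N) e)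
  have h8 : t ∈ N.normalCore := fun b => by
    rw [(h.cen b).eq, mul_inv_cancel_right]
    exact hle (h.t_mem V)
  have h9 := hN ▸ card_dvd_of_le N.normalCore_le
  have h10 : ¬ 5 ∣ Nat.card N.normalCore := fun e => absurd (e.trans h9) (by norm_num)
  have h11 := h.n2 inferInstance h10
  have h12 := card_modEq_conj Nat.prime_five (h.gt.og ▸ pow_orderOf_eq_one g)
    (K := N.normalCore) fun x hx => N.normalCore_normal.conj_mem x hx g
  rw [h.gt.card_inf h10 h8, Nat.ModEq] at h12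
  have h13 : 3 ≤ Nat.card N.normalCore := by
    rw [← Finset.card_eq_three.mpr ⟨1, t, e, h.gt.ne_one.symm, he1.symm, het.symm, rfl⟩,
      ← Set.ncard_coe_finset]
    refine Set.ncard_le_ncard (t := (N.normalCore : Set G)) fun x hx => ?_
    simp only [Finset.coe_insert, Finset.coe_singleton, Set.mem_insert_iff,
      Set.mem_singleton_iff] at hx
    rcases hx with rfl | rfl | rfl
    exacts [one_mem _, h8, h7]
  have : ∀ n ∈ Nat.divisors 144, ¬ 3 ∣ n → n % 5 = 2 % 5 → ¬ 3 ≤ n := by decide +kernel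
  exact this _ (Nat.mem_divisors.mpr ⟨h9, by norm_num⟩) h11 h12 h13

end H14

theorem le_card_of_three {K : Subgroup G} {a b : G} (ha : a ∈ K) (hb : b ∈ K) (ha1 : a ≠ 1)
    (hb1 : b ≠ 1) (hab : a ≠ b) : 3 ≤ Nat.card K := by
  classical
  rw [← Finset.card_eq_three.mpr ⟨1, a, b, ha1.symm, hb1.symm, hab, rfl⟩, ← Set.ncard_coe_finset]
  refine Set.ncard_le_ncard (t := (K : Set G)) fun x hx => ?_
  simp only [Finset.coe_insert, Finset.coe_singleton, Set.mem_insert_iff,
    Set.mem_singleton_iff] at hx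
  rcases hx with rfl | rfl | rfl
  exacts [one_mem _, ha, hb]

theorem pgroup_two {a : G} (ha : a * a = 1) : IsPGroup 2 (zpowers a) :=
  IsPGroup.of_card_dvd_pow (n := 1) (by
    rw [Nat.card_zpowers, pow_one]; exact orderOf_dvd_of_pow_eq_one (by rwa [pow_two]))

theorem four_dvd {K : Subgroup G} {a b : G} (ha : a ∈ K) (hb : b ∈ K) (haa : a * a = 1)
    (hbb : b * b = 1) (hc : Commute a b) (ha1 : a ≠ 1) (hb1 : b ≠ 1) (hab : a ≠ b) :
    4 ∣ Nat.card K := by
  have := Fact.mk Nat.prime_two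
  obtain ⟨k, hk⟩ := ((pgroup_two haa).to_sup_of_normal_right' (pgroup_two hbb)
    (zpowers_le_of_mem (cent_le_norm b (mem_centralizer_singleton_iff.mpr hc)))).exists_card_eq
  have h1 := le_card_of_three (K := zpowers a ⊔ zpowers b) (mem_sup_left (mem_zpowers a))
    (mem_sup_right (mem_zpowers b)) ha1 hb1 hab
  refine Dvd.dvd.trans ?_ (card_dvd_of_le (sup_le (zpowers_le_of_mem ha) (zpowers_le_of_mem hb)))
  rw [hk] at h1 ⊢
  rcases k with _ | _ | k
  · omega
  · omega
  · exact ⟨2 ^ k, by ring⟩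

theorem exists_two {R : Subgroup G} (hR : 3 ≤ Nat.card R) :
    ∃ a ∈ R, ∃ b ∈ R, a ≠ 1 ∧ b ≠ 1 ∧ a ≠ b := by
  classical
  obtain ⟨a, ha, h1⟩ := exists_notMem (H := R) (s := {1}) (by simp; omega)
  obtain ⟨b, hb, h2⟩ := exists_notMem (H := R) (s := {1, a})
    (lt_of_le_of_lt Finset.card_le_two (by omega))
  simp only [Finset.mem_insert, Finset.mem_singleton, not_or] at h1 h2
  exact ⟨a, ha, b, hb, h1, h2.1, Ne.symm h2.2⟩

theorem comm_of_sq {E : Subgroup G} (h : ∀ e ∈ E, e * e = 1) {a b : G} (ha : a ∈ E) (hb : b ∈ E) :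
    Commute a b := by
  have := h _ (mul_mem ha hb)
  rwa [mul_eq_one_iff_eq_inv, mul_inv_rev, inv_eq_of_mul_eq_one_right (h a ha),
    inv_eq_of_mul_eq_one_right (h b hb)] at this

theorem card_le_of_orbit {H : Subgroup G} {x : G} {s : Set G} (h : ∀ k ∈ H, k * x * k⁻¹ ∈ s) :
    Nat.card H ≤ s.ncard * Nat.card (centralizer {x} ⊓ H : Subgroup G) := by
  rw [← relIndex_mul_card_inf (centralizer {x}) H, ← M12P.ncard_conj]
  exact Nat.mul_le_mul_right _ (Set.ncard_le_ncard (by rintro _ ⟨k, hk, rfl⟩; exact h k hk))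

theorem mem_zp3 {a y : G} (ha : orderOf a = 3) (hy : y ∈ zpowers a) (hy1 : y ≠ 1) :
    y = a ∨ y = a⁻¹ := by
  obtain ⟨k, hk, rfl⟩ := exists_pow ha hy
  interval_cases k
  · exact absurd (pow_zero a) hy1
  · exact Or.inl (pow_one a)
  · exact Or.inr (eq_inv_of_mul_eq_one_left ((pow_succ a 2).symm.trans
      (orderOf_dvd_iff_pow_eq_one.mp ha.dvd)))

theorem conj_mem_of_27 {V P : Subgroup G} (h : V ≤ P) (hV : Nat.card V = 9) (hP : Nat.card P = 27)
    {s y : G} (hs : s ∈ P) (hy : y ∈ V) : s * y * s⁻¹ ∈ V :=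
  (normal_of_index_eq_minFac_card (H := V.subgroupOf P) (by
    rw [hP, ← relIndex, relIndex_eq h (n := 3) (by omega)]; norm_num)).conj_mem ⟨y, h hy⟩ hy ⟨s, hs⟩

theorem conj_mem_cent {V : Subgroup G} {n c : G} (hn : n ∈ normalizer (V : Set G))
    (hc : c ∈ centralizer (V : Set G)) : n * c * n⁻¹ ∈ centralizer (V : Set G) := fun v hv => by
  have := hc _ ((mem_normalizer_iff.mp (inv_mem hn) v).mp hv)
  calc _ = n * (n⁻¹ * v * n⁻¹⁻¹ * c) * n⁻¹ := by group
    _ = _ := by rw [this]; group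

theorem no_eight {V E : Subgroup G} (hV : Nat.card V = 9) (h3 : ∀ p ∈ V, p ^ 3 = 1)
    (hE : Nat.card E = 2 ^ 3) (hEE : ∀ e ∈ E, e * e = 1) (hn : ∀ e ∈ E, ∀ v ∈ V, e * v * e⁻¹ ∈ V)
    (hf : ∀ e ∈ E, e ∈ centralizer (V : Set G) → e = 1) : False := by
  have hp : IsPGroup 3 V := IsPGroup.of_card (n := 2) hV
  have key : ∀ R ≤ E, 3 ≤ Nat.card R → ∀ X : Subgroup G,
      (∀ e ∈ R, e ≠ 1 → ∀ v ∈ V, Commute v e → v ∈ X) → V ≤ X := by
    intro R hR h1 X hX
    obtain ⟨a, ha, b, hb, ha1, hb1, hab⟩ := exists_two h1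
    refine le_of_four (hEE a (hR ha)) (hEE b (hR hb)) (comm_of_sq hEE (hR ha) (hR hb)) ha1 hb1 hab
      Nat.prime_three (by norm_num) hp (hn a (hR ha)) (hn b (hR hb)) fun v hv hc => ?_
    rcases hc with hc | hc | hc
    · exact hX a ha ha1 v hv hc
    · exact hX b hb hb1 v hv hc
    · exact hX _ (mul_mem ha hb) (fun e => hab ((eq_inv_of_mul_eq_one_left e).trans
        (inv_eq_of_mul_eq_one_right (hEE b (hR hb))))) v hv hc
  obtain ⟨e, he, he1, a, ha, hae, ha1⟩ : ∃ e ∈ E, e ≠ 1 ∧ ∃ a ∈ V, Commute a e ∧ a ≠ 1 := by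
    by_contra hc
    push Not at hc
    have := card_le_of_le (key E le_rfl (by omega) ⊥ hc)
    rw [card_bot] at this
    omega
  have ha3 : orderOf a = 3 := orderOf_eq_prime (hp := ⟨Nat.prime_three⟩) (h3 a ha) ha1
  have h1 : ∀ e ∈ E, e ≠ 1 → Commute a e → ∀ v ∈ V, Commute v e → v ∈ zpowers a := by
    intro e he he1 hae v hv hve
    by_contra hc
    refine he1 (hf e he fun w hw => ?_)
    obtain ⟨i, -, j, -, rfl⟩ := M12P.exists_pow_mul_pow hV h3 ha hv ha1 hc hw
    exact (hae.pow_left i).mul_left (hve.pow_left j)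
  have h2 := card_le_of_orbit (H := E) (x := a) (s := {a, a⁻¹}) fun k hk =>
    mem_zp3 ha3 (h1 e he he1 hae _ (hn k hk a ha) (by
      have := hae.conj k
      rwa [(comm_of_sq hEE hk he).eq, mul_inv_cancel_right] at this)) (by simpa using ha1)
  have h4 := Nat.mul_le_mul_right (Nat.card (centralizer {a} ⊓ E : Subgroup G))
    (show ({a, a⁻¹} : Set G).ncard ≤ 2 from (Set.ncard_insert_le _ _).trans (by simp))
  have h5 := card_le_of_le (key (centralizer {a} ⊓ E) inf_le_right (by omega) (zpowers a)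
    fun e he he1 => h1 e he.2 he1 (mem_centralizer_singleton_iff.mp he.1).symm)
  rw [Nat.card_zpowers] at h5
  omega

namespace Hyp

variable (h : Hyp G) {g t : G} (ht : GT g t)
include h ht

theorem ne_1440 : Nat.card (centralizer ({t} : Set G)) ≠ 1440 := by
  intro hH
  have := Fact.mk Nat.prime_three
  set H := centralizer ({t} : Set G) with hHd
  have hc : ∀ {x}, x ∈ H ↔ Commute x t := mem_centralizer_singleton_iff
  have h14 : H14 (⟨g, hc.mpr ht.comm.symm⟩ : H) ⟨t, hc.mpr rfl⟩ :=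
    ⟨hH, h.o.sub H, ht.sub _ _ ht.le, fun x => Subtype.ext (hc.mp x.2)⟩
  obtain ⟨V₀⟩ : Nonempty (Sylow 3 H) := inferInstance
  have hN₀ := (h14.cardN V₀).resolve_left (h14.ne_36 V₀)
  have hC₀ := h14.cardC V₀ hN₀
  have hV₀ := h14.cardV V₀
  obtain ⟨V, hVH, hV⟩ : ∃ V ≤ H, V₀.1 = V.subgroupOf H :=
    ⟨_, map_subtype_le _, (comap_map_eq_self_of_injective H.subtype_injective _).symm⟩
  rw [hV] at hN₀ hC₀ hV₀
  rw [← subgroupOf_normalizer_eq hVH, card_subgroupOf] at hN₀
  rw [card_subgroupOf, inf_of_le_left hVH] at hV₀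
  rw [show centralizer (V.subgroupOf H : Set H) = (centralizer (V : Set G)).subgroupOf H from
    ext fun x => ⟨fun e v hv => congrArg Subtype.val (e ⟨v, hVH hv⟩ hv),
      fun e v hv => Subtype.ext (e v hv)⟩, card_subgroupOf] at hC₀
  clear hV h14 V₀
  set C := centralizer (V : Set G)
  have hp : IsPGroup 3 V := IsPGroup.of_card (n := 2) hV₀
  have htC : t ∈ C := fun v hv => hc.mp (hVH hv)
  obtain ⟨a, ha, ha3⟩ := exists_mem_orderOf (H := V) Nat.prime_three (by rw [hV₀]; norm_num)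
  have hCa : C ≤ centralizer {a} := fun x hx => mem_centralizer_singleton_iff.mpr (hx a ha).symm
  have h1 : ∀ e ∈ C, e ∈ H → e * e = 1 → e ≠ 1 → e = t := fun e he heH hee he1 => by
    by_contra hne
    have := four_dvd (K := C ⊓ H) ⟨he, heH⟩ ⟨htC, hc.mpr rfl⟩ hee ht.tt (hc.mp heH) he1 ht.ne_one hne
    omega
  have h2 : Nat.card C = 18 ∨ Nat.card C = 54 := by
    have : ∀ n ∈ D, 18 ∣ n → ¬ 2 ^ 2 ∣ n → ¬ 5 ∣ n → ¬ 11 ∣ n → n = 18 ∨ n = 54 := by decide +kernel
    refine this _ (h.mem_D C) (hC₀ ▸ card_dvd_of_le inf_le_left) (fun e => ?_)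
      (fun e => h.o.not_dvd_cent ha3 Nat.prime_five (by norm_num) (by decide)
        (e.trans (card_dvd_of_le hCa)))
      (fun e => h.o.not_dvd_cent ha3 (p := 11) (by norm_num) (by norm_num) (by decide)
        (e.trans (card_dvd_of_le hCa)))
    obtain ⟨R, h3, h4, h5⟩ := exists_between (n := 1) Nat.prime_two (zpowers_le_of_mem htC)
      (by rw [Nat.card_zpowers, ht.ot, pow_one]) (by norm_num) e
    have h6 : ∀ e ∈ R, e * e = 1 := fun e he => h.o.sq_of_odd (IsPGroup.of_card h5) he (Or.inl ha3)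
      (mem_centralizer_singleton_iff.mp (hCa (h4 he)))
    have := card_dvd_of_le (le_inf h4 fun e he => hc.mpr (comm_of_sq h6 he (h3 (mem_zpowers t))))
    rw [h5, hC₀] at this
    omega
  have h27 : ∀ P ≤ H, Nat.card P ≠ 3 ^ 3 := fun P hP e => by
    have := card_dvd_of_le hP
    rw [e, hH] at this
    omega
  rcases h2 with h2 | h2
  · obtain ⟨P, h3, -, h4⟩ := exists_between (n := 2) (m := 3) Nat.prime_three (le_top (a := V)) hV₀
      (by norm_num) (by rw [card_top, h.card]; norm_num)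
    refine h27 P (fun p hp => ?_) h4
    have h5 := conj_mem_cent (mem_normalizer_fintype fun v => conj_mem_of_27 h3 hV₀ h4 hp) htC
    exact hc.mpr (mul_inv_eq_iff_eq_mul.mp (h1 _ h5
      (((eq_of_le_of_card_ge inf_le_left (by omega)).ge h5 : _ ∈ C ⊓ H).2)
      (by rw [conj_mul, ht.tt, mul_one, mul_inv_cancel]) (by simpa using ht.ne_one)))
  obtain ⟨P, h3, h4⟩ := exists_le_card (n := 3) (H := C) Nat.prime_three (by rw [h2]; norm_num)
  obtain ⟨c, hcP, hcH⟩ := SetLike.not_le_iff_exists.mp fun e => h27 P e h4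
  have h5 : c * t * c⁻¹ ≠ t := fun e => hcH (hc.mpr (mul_inv_eq_iff_eq_mul.mp e))
  have h6 : t * (c * t * c⁻¹) ∈ P := by
    have := mul_mem (conj_mem_of_index_two h3 (by omega) htC hcP) (inv_mem hcP)
    rwa [inv_eq_of_mul_eq_one_right ht.tt, mul_assoc t, mul_assoc t] at this
  have h7 : c * t * c⁻¹ * (c * t * c⁻¹) = 1 := by rw [conj_mul, ht.tt, mul_one, mul_inv_cancel]
  have h8 : orderOf (t * (c * t * c⁻¹)) = 3 :=
    orderOf_eq_prime (h.o.cube (IsPGroup.of_card h4) h6) fun e =>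
      h5 ((eq_inv_of_mul_eq_one_right e).trans (inv_eq_of_mul_eq_one_right ht.tt))
  have h9 := card_le_of_orbit (H := normalizer (V : Set G) ⊓ H) (x := c * t * c⁻¹)
    (s := {y | ∃ k ∈ C, k * t * k⁻¹ = y} \ {t}) fun k hk => by
      have e : k * t * k⁻¹ = t := mul_inv_eq_iff_eq_mul.mpr (hc.mp hk.2)
      refine ⟨⟨_, conj_mem_cent hk.1 (h3 hcP), ?_⟩, fun e' => h5 ?_⟩
      · conv_lhs => rw [← e]
        group
      · simpa using e'.trans e.symm
  rw [Set.ncard_sdiff_singleton_of_mem (show t ∈ {y | ∃ k ∈ C, k * t * k⁻¹ = y} from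
    ⟨1, one_mem _, by simp⟩), M12P.ncard_conj, hN₀] at h9
  have h10 := relIndex_mul_card_inf H C
  rw [inf_comm, hC₀, h2] at h10
  have h11 := hN₀ ▸ card_dvd_of_le (inf_le_right (a := centralizer {c * t * c⁻¹})
    (b := normalizer (V : Set G) ⊓ H))
  obtain ⟨E, h12, h13⟩ := exists_le_card (n := 3) (H := centralizer {c * t * c⁻¹} ⊓
      (normalizer (V : Set G) ⊓ H)) Nat.prime_two (by
    rw [← hHd, show H.relIndex C = 3 by omega] at h9
    obtain ⟨k, hk⟩ := h11
    have : k ≤ 2 := by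
      by_contra h0
      have := Nat.mul_le_mul_left (Nat.card (centralizer {c * t * c⁻¹} ⊓
        (normalizer (V : Set G) ⊓ H) : Subgroup G)) (not_le.mp h0)
      omega
    interval_cases k <;> omega)
  have h14 : ∀ e ∈ E, Commute e (t * (c * t * c⁻¹)) := fun e he =>
    (hc.mp (h12 he).2.2).mul_right (mem_centralizer_singleton_iff.mp (h12 he).1)
  have h15 : ∀ e ∈ E, e * e = 1 := fun e he =>
    h.o.sq_of_odd (IsPGroup.of_card h13) he (Or.inl h8) (h14 e he)
  refine no_eight hV₀ (fun p => h.o.cube hp) h13 h15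
    (fun e he v => (mem_normalizer_iff.mp (h12 he).2.1 v).mp) fun e he heC => ?_
  by_contra he1
  have h16 := mem_centralizer_singleton_iff.mp (h12 he).1
  rw [h1 e heC (h12 he).2.2 (h15 e he) he1] at h16
  have h17 : (t * (c * t * c⁻¹)) ^ 2 = 1 := by
    rw [Commute.mul_pow h16, pow_two, pow_two, ht.tt, h7, one_mul]
  have := orderOf_dvd_of_pow_eq_one h17
  rw [h8] at this
  omega

theorem card_240 : Nat.card (centralizer ({t} : Set G)) = 240 := by
  have h1 := h.idx (centralizer {t})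
  have h2 := index_le_mo t
  have h3 := relIndex_modEq Nat.prime_five (P := zpowers g) (H := centralizer {t})
    (IsPGroup.of_card (n := 1) (by rw [Nat.card_zpowers, ht.og, pow_one])) (fun e => by
      have h4 := relIndex_mul_card (le_normalizer.trans ht.le)
      have h5 := h.card ▸ (centralizer {t}).card_subgroup_dvd_card
      rw [Nat.card_zpowers, ht.og] at h4
      rw [← h4] at h5
      exact absurd ((Nat.mul_dvd_mul_right e 5).trans h5) (by norm_num)) (le_normalizer.trans ht.le)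
  have h4 := relIndex_mul_card ht.le
  have h5 := h.o.not_dvd_cent ht.ot (p := 11) (by norm_num) (by norm_num) (by decide)
  rw [ht.ot, h.m2] at h2
  rw [ht.cardN] at h4
  have : ∀ n ∈ D, ¬ 11 ∣ n → 95040 ≤ 891 * n → n % 200 = 40 → n = 240 ∨ n = 1440 ∨ n = 8640 := by
    decide +kernel
  rcases this _ (h.mem_D _) h5 (h1 ▸ Nat.mul_le_mul_right _ h2) (by
    rw [Nat.ModEq] at h3; omega) with h6 | h6 | h6
  · exact h6
  · exact absurd h6 (h.ne_1440 ht)
  obtain ⟨n, k, h7, h8⟩ := h.fix ht.tt (centralizer {t})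
  have h9 := ncard_modEq_conj Nat.prime_five (ht.og ▸ pow_orderOf_eq_one g)
    (S := {x | x ∈ centralizer {t} ∧ IsConj t x}) fun x hx =>
      ⟨mul_mem (mul_mem (ht.le (le_normalizer (mem_zpowers g))) hx.1)
        (inv_mem (ht.le (le_normalizer (mem_zpowers g)))), hx.2.trans (isConj_iff.mpr ⟨g, rfl⟩)⟩
  rw [show {x | x ∈ {x | x ∈ centralizer {t} ∧ IsConj t x} ∧ Commute g x} = {t} from ?_,
    Set.ncard_singleton, ← Nat.eq_of_mul_eq_mul_right Nat.card_pos h8, Nat.ModEq] at h9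
  · have h10 : {x | x ∈ centralizer {t} ∧ IsConj t x} = {y | ∃ k ∈ (⊤ : Subgroup G), k * t * k⁻¹ = y} := by
      refine Set.eq_of_subset_of_ncard_le (fun x hx => ?_) ?_
      · obtain ⟨k, hk⟩ := isConj_iff.mp hx.2
        exact ⟨k, mem_top k, hk⟩
      · rw [M12P.ncard_conj, relIndex_top_right, ← Nat.eq_of_mul_eq_mul_right Nat.card_pos h8]
        rw [h6] at h1
        omega
    rcases h.simple.eq_bot_or_eq_top_of_normal (centralizer {t}).normalCore inferInstance with e | e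
    · refine absurd (mem_bot.mp (e ▸ fun b => ?_)) ht.ne_one
      exact (h10.ge ⟨b, mem_top b, rfl⟩).1
    · rw [top_le_iff.mp (e.ge.trans (normalCore_le _)), card_top, h.card] at h6
      omega
  · ext x
    refine ⟨fun ⟨⟨_, hx⟩, hc⟩ => ?_, ?_⟩
    · obtain ⟨k, rfl⟩ := isConj_iff.mp hx
      exact (ht.uniq _ hc.symm (by rw [conj_mul, ht.tt, mul_one, mul_inv_cancel])).resolve_left
        (by simpa using ht.ne_one)
    · rintro rfl
      exact ⟨⟨mem_centralizer_singleton_iff.mpr rfl, IsConj.refl _⟩, ht.comm.symm⟩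

end Hyp

end Cfsg.Agent.H4.M12R
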