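import Cfsg.Agent.H4.M12R2
import Cfsg.Agent.H4.CoxA

/-!
# Groups of order `95040` with the element order statistics of `M₁₂`: the centralizer `2 × S₅`
-/

set_option autoImplicit false
set_option linter.unusedSectionVars false

namespace Cfsg.Agent.H4.M12R

open Subgroup Nse MulAction Equiv

variable {G : Type*} [Group G] [Finite G]

theorem exists_pi {g t : G} (hc : Nat.card G = 240) (ht : GT g t) (hz : ∀ x, Commute x t) :
    ∃ π : G →* Perm (Fin 5), Function.Surjective π ∧ ∀ x, π x = 1 ↔ x = 1 ∨ x = t := by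
  classical
  set N := normalizer (zpowers g : Set G)
  have h1 : N.index = 6 := by
    have := index_mul_card' N hc
    rw [ht.cardN] at this
    omega
  have h2 : t ∈ N.normalCore := fun b => by
    rw [(hz b).eq, mul_inv_cancel_right]
    exact cent_le_norm g (mem_centralizer_singleton_iff.mpr ht.comm)
  have h3 := ht.cardN ▸ card_dvd_of_le N.normalCore_le
  have h4 : ¬ 5 ∣ Nat.card N.normalCore := fun e => by
    have h5 := index_dvd_frattini Nat.prime_five ht.og (by rw [hc]; norm_num) e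
    have := (h1 ▸ index_dvd_of_le N.normalCore_le).trans (ht.cardN ▸ h5)
    omega
  have h5 := card_modEq_conj Nat.prime_five (ht.og ▸ pow_orderOf_eq_one g)
    (K := N.normalCore) fun x hx => N.normalCore_normal.conj_mem x hx g
  rw [ht.card_inf h4 h2, Nat.ModEq] at h5
  have h6 : Nat.card N.normalCore = 2 := by
    have := Nat.le_of_dvd (by norm_num) h3
    generalize Nat.card N.normalCore = n at *
    interval_cases n <;> omega
  have h7 : Nat.card (toPermHom G (G ⧸ N)).range = 120 := by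
    have := index_mul_card' N.normalCore hc
    rw [h6, normalCore_eq_ker, index_ker] at this
    omega
  obtain ⟨e⟩ := exists_perm_of_index (n := 5) (X := G ⧸ N) (by norm_num) h1
    (toPermHom G (G ⧸ N)).range (by
      have := (toPermHom G (G ⧸ N)).range.index_mul_card
      rw [h7, Nat.card_perm, ← index, h1, show Nat.factorial 6 = 720 from rfl] at this
      omega)
  refine ⟨e.toMonoidHom.comp (toPermHom G (G ⧸ N)).rangeRestrict,
    e.surjective.comp (MonoidHom.rangeRestrict_surjective _), fun x => ?_⟩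
  have h8 : e.toMonoidHom.comp (toPermHom G (G ⧸ N)).rangeRestrict x = 1 ↔ x ∈ N.normalCore := by
    rw [normalCore_eq_ker, ← MonoidHom.ker_rangeRestrict]
    exact e.map_eq_one_iff
  rw [h8]
  refine ⟨fun hx => ?_, by rintro (rfl | rfl); exacts [one_mem _, h2]⟩
  by_contra h9
  rw [not_or] at h9
  have := le_card_of_three hx h2 h9.1 ht.ne_one h9.2
  omega

theorem exists_sec {t : G} (ht : t * t = 1) (hz : ∀ x, Commute x t) {π : G →* Perm (Fin 5)}
    (hs : Function.Surjective π) (hk : ∀ x, π x = 1 ↔ x = 1 ∨ x = t)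
    (h1 : ∀ u, π u = swap 0 1 → u * u = 1) (h2 : ∀ u, π u = swap 0 1 * swap 2 3 → u * u = 1) :
    ∃ ψ : Perm (Fin 5) →* G, ∀ σ, π (ψ σ) = σ := by
  have h3 : ∀ {σ : Perm (Fin 5)}, (∀ u, π u = σ → u * u = 1) → ∀ τ u, π u = τ * σ * τ⁻¹ →
      u * u = 1 := by
    intro σ hσ τ u hu
    obtain ⟨k, rfl⟩ := hs τ
    have := hσ (k⁻¹ * u * k⁻¹⁻¹) (by simp [hu, mul_assoc])
    rwa [conj_mul, conj_eq_one_iff] at this
  have h4 : ∀ (u : G) (σ : Perm (Fin 5)), (π u * σ) ^ 3 = 1 → ∃ w, π w = σ ∧ (u * w) ^ 3 = 1 := by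
    intro u σ h
    obtain ⟨w, rfl⟩ := hs σ
    rcases (hk _).mp (show π ((u * w) ^ 3) = 1 by rwa [map_pow, map_mul]) with e | e
    · exact ⟨w, rfl, e⟩
    · refine ⟨w * t, by rw [map_mul, (hk t).mpr (Or.inr rfl), mul_one], ?_⟩
      rw [← mul_assoc, (hz _).mul_pow, e, pow_succ', ← mul_assoc, ht, one_mul, pow_two, ht]
  obtain ⟨u0, e0⟩ := hs (swap 0 1)
  obtain ⟨u1, e1, b1⟩ := h4 u0 (swap 1 2) (by rw [e0]; decide)
  obtain ⟨u2, e2, b2⟩ := h4 u1 (swap 2 3) (by rw [e1]; decide)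
  obtain ⟨u3, e3, b3⟩ := h4 u2 (swap 3 4) (by rw [e2]; decide)
  have s0 := h1 u0 e0
  have s1 := h3 h1 (swap 0 2) u1 (by rw [e1]; decide)
  have s2 := h3 h1 (swap 0 2 * swap 1 3) u2 (by rw [e2]; decide)
  have s3 := h3 h1 (swap 0 3 * swap 1 4) u3 (by rw [e3]; decide)
  have c02 := h2 (u0 * u2) (by rw [map_mul, e0, e2])
  have c03 := h3 h2 (swap 2 4) (u0 * u3) (by rw [map_mul, e0, e3]; decide)
  have c13 := h3 h2 (swap 0 2 * swap 2 4) (u1 * u3) (by rw [map_mul, e1, e3]; decide)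
  obtain ⟨ψ, hψ⟩ := CoxA.exists_hom (s := fun i => [u0, u1, u2, u3].getD i 1) (n := 4)
    ⟨fun i hi => by interval_cases i <;> assumption, fun i hi => by
      obtain rfl | rfl | rfl : i = 0 ∨ i = 1 ∨ i = 2 := by omega
      exacts [braid_of_pow s0 s1 b1, braid_of_pow s1 s2 b2, braid_of_pow s2 s3 b3],
    fun i j h5 h6 => by
      obtain ⟨rfl, rfl⟩ | ⟨rfl, rfl⟩ | ⟨rfl, rfl⟩ : i = 0 ∧ j = 2 ∨ i = 0 ∧ j = 3 ∨ i = 1 ∧ j = 3 := by
        omega
      exacts [comm_of_pow s0 s2 (by rwa [pow_two]), comm_of_pow s0 s3 (by rwa [pow_two]),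
        comm_of_pow s1 s3 (by rwa [pow_two])]⟩
  refine ⟨ψ, fun σ => DFunLike.congr_fun (MonoidHom.eq_of_eqOn_dense (f := π.comp ψ)
    (g := MonoidHom.id _) (closure_adjSwap 4) ?_) σ⟩
  rintro _ ⟨i, hi, rfl⟩
  rw [MonoidHom.comp_apply, hψ i hi]
  obtain rfl | rfl | rfl | rfl : i = 0 ∨ i = 1 ∨ i = 2 ∨ i = 3 := by
    have : i < 4 := hi
    omega
  exacts [e0, e1, e2, e3]

theorem Ord.lift_swap (h : Ord G) {t : G} (ht : t * t = 1) {π : G →* Perm (Fin 5)}
    (hs : Function.Surjective π) (hk : ∀ x, π x = 1 ↔ x = 1 ∨ x = t) (u : G)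
    (hu : π u = swap 0 1) : u * u = 1 := by
  refine ((hk _).mp (by rw [map_mul, hu, swap_mul_self])).elim id fun e => ?_
  obtain ⟨x, hx⟩ := hs (swap 2 3 * swap 3 4)
  have h1 : (x ^ 4) ^ 3 = 1 := by
    rw [show (x ^ 4) ^ 3 = (x ^ 3 * x ^ 3) ^ 2 by group]
    rcases (hk (x ^ 3)).mp (by rw [map_pow, hx]; decide) with e | e <;> simp [e, ht]
  have h2 : π (x ^ 4) = swap 2 3 * swap 3 4 := by rw [map_pow, hx]; decide
  generalize x ^ 4 = x at h1 h2
  have h3 : orderOf x = 3 := orderOf_eq_prime (hp := ⟨Nat.prime_three⟩) h1 fun e => by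
    rw [e, map_one] at h2
    exact absurd h2 (by decide)
  have h4 : u ^ 4 = 1 := by rw [show u ^ 4 = u * u * (u * u) by simp [pow_succ, mul_assoc], e, ht]
  have h5 := commute_of_conj_mem (u := x) (y := u) (by rw [h3]; decide)
    ((orderOf_dvd_of_pow_eq_one h4).trans (by norm_num)) (by
      rw [← mul_mem_cancel_right (inv_mem (mem_zpowers u))]
      rcases (hk (x * u * x⁻¹ * u⁻¹)).mp (by
        simp only [map_mul, map_inv, hu, h2]; decide) with e' | e' <;> rw [e']
      exacts [one_mem _, e ▸ mul_mem (mem_zpowers u) (mem_zpowers u)])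
  exact h.sq_of_odd (E := zpowers u) (IsPGroup.of_card_dvd_pow (n := 2) (by
    rw [Nat.card_zpowers]; exact orderOf_dvd_of_pow_eq_one h4)) (mem_zpowers u) (Or.inl h3) h5.symm

theorem card_filter {X : Type*} [Fintype X] {S : Set X} (p : X → Prop) [DecidablePred p]
    (h : ∀ x, x ∈ S ↔ p x) : Nat.card S = (Finset.univ.filter p).card := by
  rw [← Fintype.card_subtype, ← Nat.card_eq_fintype_card]
  exact Nat.card_congr (Equiv.subtypeEquivRight h)

/-- The model `2 × S₅`. -/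
abbrev Γ : Type := ℤˣ × Perm (Fin 5)

/-- The centralizer of `t` is `2 × S₅`. -/
structure Mod (t : G) (Ψ : Γ →* G) : Prop where
  inj : Function.Injective Ψ
  t_eq : Ψ (-1, 1) = t
  mem : ∀ x, Commute x t → ∃ γ, Ψ γ = x
  card : Nat.card (centralizer ({t} : Set G)) = 240

namespace Hyp

variable (h : Hyp G)
include h

theorem exists_norm {t : G} (hc : Nat.card (centralizer ({t} : Set G)) = 240) {T : Subgroup G}
    (hT : Nat.card T = 2 ^ 4) : ∃ s, (∀ x ∈ T, s * x * s⁻¹ ∈ T) ∧ (∀ x ∈ T, s⁻¹ * x * s ∈ T) ∧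
      ¬ Commute s t := by
  obtain ⟨R, h1, -, h2⟩ := exists_between (m := 5) Nat.prime_two (le_top (a := T)) hT (by norm_num)
    (by rw [card_top, h.card]; norm_num)
  obtain ⟨s, hs, h3⟩ := SetLike.not_le_iff_exists.mp fun e : R ≤ centralizer {t} => by
    have := card_dvd_of_le e
    rw [h2, hc] at this
    omega
  refine ⟨s, fun x => conj_mem_of_index_two h1 (by omega) hs, fun x hx => ?_,
    fun e => h3 (mem_centralizer_singleton_iff.mpr e)⟩
  simpa using conj_mem_of_index_two h1 (by omega) (inv_mem hs) hx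

theorem exists_mod : ∃ (t : G) (Ψ : Γ →* G), Mod t Ψ := by
  obtain ⟨g, t, ht⟩ := h.exists_GT
  have hH := h.card_240 ht
  set H := centralizer ({t} : Set G) with hHd
  have hc : ∀ {x}, x ∈ H ↔ Commute x t := mem_centralizer_singleton_iff
  have hz : ∀ x : H, Commute x ⟨t, hc.mpr rfl⟩ := fun x => Subtype.ext (hc.mp x.2)
  have htt : (⟨t, hc.mpr rfl⟩ : H) * ⟨t, hc.mpr rfl⟩ = 1 := Subtype.ext ht.tt
  obtain ⟨π, hs, hk⟩ := exists_pi hH (ht.sub (hc.mpr ht.comm.symm) (hc.mpr rfl) ht.le) hz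
  have hπ : ∀ K : Subgroup (Perm (Fin 5)), Nat.card (K.comap π) * K.index = 240 := fun K => by
    rw [← index_comap_of_surjective K hs, card_mul_index, hH]
  obtain ⟨ψ, hψ⟩ := exists_sec htt hz hs hk ((h.o.sub H).lift_swap htt hs hk) (by
    obtain ⟨s, h1, h2, h3⟩ := h.exists_norm hH
      (T := ((centralizer {swap 0 1 * swap 2 3}).comap π).map H.subtype) (by
        have h1 := hπ (centralizer {swap 0 1 * swap 2 3})
        have h2 := (centralizer {(swap 0 1 * swap 2 3 : Perm (Fin 5))}).index_mul_card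
        rw [show Nat.card (centralizer {(swap 0 1 * swap 2 3 : Perm (Fin 5))}) = 8 from
          (card_filter _ fun _ => mem_centralizer_singleton_iff).trans (by decide +kernel),
          Nat.card_perm, Nat.card_fin, show Nat.factorial 5 = 120 from rfl] at h2
        rw [show (centralizer {(swap 0 1 * swap 2 3 : Perm (Fin 5))}).index = 15 by omega] at h1
        rw [card_map_of_injective H.subtype_injective]
        omega)
    have h4 := h1 t ⟨⟨t, hc.mpr rfl⟩, by
      rw [SetLike.mem_coe, mem_comap, (hk _).mpr (Or.inr rfl)]; exact one_mem _, rfl⟩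
    obtain ⟨w, hw, e⟩ := h4
    have h5 : ∀ σ ∈ centralizer {swap 0 1 * swap 2 3}, Commute σ (π w) := fun σ hσ => by
      obtain ⟨x, rfl⟩ := hs σ
      obtain ⟨y, -, hy⟩ := h2 x ⟨x, hσ, rfl⟩
      refine Commute.map (Subtype.ext ?_) π
      have := (hc.mp y.2).conj s
      rw [show (y : G) = _ from hy, ← show (w : G) = _ from e] at this
      exact (by simpa [mul_assoc] using this : Commute (x : G) w)
    have h6 : ∀ σ : Perm (Fin 5), swap 0 1 * σ = σ * swap 0 1 → swap 2 3 * σ = σ * swap 2 3 →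
        swap 0 2 * swap 1 3 * σ = σ * (swap 0 2 * swap 1 3) → σ = 1 ∨ σ = swap 0 1 * swap 2 3 := by
      decide +kernel
    have h7 : w * w = 1 := Subtype.ext (by
      rw [coe_mul, show (w : G) = _ from e, conj_mul, ht.tt, mul_one, mul_inv_cancel, coe_one])
    rcases h6 (π w) (h5 _ (mem_centralizer_singleton_iff.mpr (by decide)))
      (h5 _ (mem_centralizer_singleton_iff.mpr (by decide)))
      (h5 _ (mem_centralizer_singleton_iff.mpr (by decide))) with e' | e'
    · rcases (hk w).mp e' with rfl | rfl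
      · exact absurd (conj_eq_one_iff.mp e.symm) ht.ne_one
      · exact absurd (mul_inv_eq_iff_eq_mul.mp e.symm) h3
    · intro u hu
      rcases (hk (w⁻¹ * u)).mp (by rw [map_mul, map_inv, hu, e', inv_mul_cancel]) with e | e
      · rwa [← inv_mul_eq_one.mp e]
      · rw [eq_mul_of_inv_mul_eq e, (hz w).symm.mul_mul_mul_comm, h7, htt, one_mul])
  let τ : ℤˣ →* H := MonoidHom.mk' (fun ε => if ε = 1 then 1 else ⟨t, hc.mpr rfl⟩) fun a b => by
    rcases Int.units_eq_one_or a with rfl | rfl <;> rcases Int.units_eq_one_or b with rfl | rfl <;>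
      simp [htt]
  have hτ : τ (-1) = ⟨t, hc.mpr rfl⟩ := rfl
  let Ψ : Γ →* H := τ.noncommCoprod ψ fun a σ => by
    rcases Int.units_eq_one_or a with rfl | rfl
    · simp
    · exact (hz _).symm
  have h1 : Function.Surjective Ψ := fun x => by
    rcases (hk (x * (ψ (π x))⁻¹)).mp (by simp [hψ]) with e | e
    · exact ⟨(1, π x), (eq_mul_of_mul_inv_eq e).symm⟩
    · exact ⟨(-1, π x), (eq_mul_of_mul_inv_eq e).symm⟩
  refine ⟨t, H.subtype.comp Ψ, H.subtype_injective.comp
    ((Nat.bijective_iff_surjective_and_card Ψ).mpr ⟨h1, ?_⟩).1, by simp [Ψ, hτ], fun x hx => ?_, hH⟩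
  · rw [hH, Nat.card_prod, Nat.card_perm, Nat.card_fin, Nat.card_eq_fintype_card]
    rfl
  · obtain ⟨γ, hγ⟩ := h1 ⟨x, hc.mpr hx⟩
    exact ⟨γ, congrArg Subtype.val hγ⟩

end Hyp

end Cfsg.Agent.H4.M12R
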