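import Cfsg.Agent.H4.M12R3

/-!
# Groups of order `95040` with the element order statistics of `M₁₂`: fusion of involutions
-/

set_option autoImplicit false
set_option linter.unusedSectionVars false

namespace Cfsg.Agent.H4.M12R

open Subgroup Nse MulAction Equiv

variable {G : Type*} [Group G] [Finite G]

/-- A double transposition. -/
def d1 : Perm (Fin 5) := swap 0 1 * swap 2 3

/-- The four-group. -/
def V4 : List (Perm (Fin 5)) := [1, d1, swap 0 2 * swap 1 3, swap 0 3 * swap 1 2]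

/-- Three fixed points. -/
def sw (σ : Perm (Fin 5)) : Bool := (Finset.univ.filter fun i => σ i = i).card == 3

theorem cls : ∀ σ : Perm (Fin 5), σ * σ = 1 → if sw σ then ∃ τ, σ = τ * swap 0 1 * τ⁻¹ else
    σ = 1 ∨ ∃ τ, σ = τ * d1 * τ⁻¹ := by decide +kernel

theorem v4_spec : ∀ σ ∈ V4, σ * σ = 1 ∧ sw σ = false ∧ σ * d1 = d1 * σ ∧
    (∀ ρ ∈ V4, σ * ρ ∈ V4 ∧ σ * ρ = ρ * σ) ∧
    (σ = 1 ∨ ∃ τ ∈ [1, swap 1 2, swap 1 3], τ 4 = 4 ∧ τ * τ = 1 ∧ τ * d1 * τ⁻¹ = σ) := by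
  decide +kernel

set_option synthInstance.maxSize 1000 in
theorem perm_spec : ∀ σ : Perm (Fin 5),
    (σ * d1 = d1 * σ → σ * σ = 1 → if sw σ then σ = swap 0 1 ∨ σ = swap 2 3 else σ ∈ V4) ∧
    (σ 4 = 4 → (∀ ρ ∈ V4, σ * ρ * σ⁻¹ ∈ V4) ∧ (σ * σ = 1 → sw σ = false → σ ∈ V4)) ∧
    (σ * d1 * σ⁻¹ ∈ V4 → σ 4 = 4) ∧ ((∀ ρ ∈ V4, σ * ρ = ρ * σ) → σ ∈ V4) := by decide +kernel

set_option synthInstance.maxSize 1000 in
theorem v4_key : ∀ α ∈ V4, ∀ β ∈ V4, ∀ σ ∈ V4, α ≠ 1 → α * β ≠ σ → (β = α → σ = α) →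
    (σ = α → β = α) → (β = 1 → σ = 1) → (σ = 1 → β = 1) → β = σ := by decide +kernel

theorem v4_cent : ∀ ρ ∈ V4, swap 0 1 * swap 1 2 * ρ = ρ * (swap 0 1 * swap 1 2) → ρ = 1 := by
  decide +kernel

/-- The elementary abelian group of order eight. -/
def A0 : Subgroup Γ where
  carrier := {γ | γ.2 ∈ V4}
  one_mem' := List.mem_cons_self
  mul_mem' ha hb := ((v4_spec _ ha).2.2.2.1 _ hb).1
  inv_mem' {a} ha := by
    change a.2⁻¹ ∈ V4
    rwa [inv_eq_of_mul_eq_one_right (v4_spec _ ha).1]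

theorem ncard_image {Ψ : Γ →* G} (hi : Function.Injective Ψ) {S : Set G} (p : Γ → Prop)
    [DecidablePred p] (h : ∀ x ∈ S, ∃ γ, Ψ γ = x) (h' : ∀ γ, Ψ γ ∈ S ↔ p γ) :
    S.ncard = (Finset.univ.filter p).card := by
  rw [← card_filter (S := Ψ ⁻¹' S) p h', Nat.card_coe_set_eq,
    Set.ncard_preimage_of_injective_subset_range hi h]

namespace Mod

variable {t : G} {Ψ : Γ →* G} (m : Mod t Ψ)
include m

theorem comm (γ : Γ) : Commute (Ψ γ) t :=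
  m.t_eq ▸ Commute.map (Prod.ext (mul_comm _ _) (by simp)) Ψ

theorem tt : t * t = 1 := by rw [← m.t_eq, ← map_mul, ← map_one Ψ]; rfl

theorem ne_one : t ≠ 1 := fun e =>
  absurd (m.inj (m.t_eq.trans (e.trans (map_one Ψ).symm))) (by decide)

theorem sq {x : G} (h : IsConj t x) : x * x = 1 := by
  obtain ⟨k, rfl⟩ := isConj_iff.mp h
  rw [conj_mul, m.tt, mul_one, mul_inv_cancel]

theorem not_sq (a : G) : ¬ IsConj t (a * a) := fun h => by
  obtain ⟨k, hk⟩ := isConj_iff.mp h.symm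
  rw [← conj_mul] at hk
  obtain ⟨γ, hγ⟩ := m.mem (k * a * k⁻¹) (hk ▸ (Commute.refl _).mul_right (Commute.refl _))
  rw [← hγ, ← map_mul, ← m.t_eq] at hk
  exact absurd ((Int.units_mul_self γ.1).symm.trans (congrArg Prod.fst (m.inj hk))) (by decide)

omit m in
theorem conj_iff (x : G) (ε : ℤˣ) (σ τ : Perm (Fin 5)) :
    IsConj x (Ψ (ε, τ * σ * τ⁻¹)) ↔ IsConj x (Ψ (ε, σ)) := by
  have : IsConj (Ψ (ε, σ)) (Ψ (ε, τ * σ * τ⁻¹)) :=
    isConj_iff.mpr ⟨Ψ (1, τ), by rw [← map_inv, ← map_mul, ← map_mul]; simp⟩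
  exact ⟨fun h => h.trans this.symm, fun h => h.trans this⟩

theorem not_v : ¬ IsConj t (Ψ (1, d1)) := by
  have := m.not_sq (Ψ (1, swap 0 2 * swap 1 3 * swap 0 1))
  rwa [← map_mul, show _ * _ = ((1, d1) : Γ) by decide] at this

theorem conj (k : G) : Mod (k * t * k⁻¹) ((MulAut.conj k).toMonoidHom.comp Ψ) where
  inj := (MulAut.conj k).injective.comp m.inj
  t_eq := by simp [m.t_eq]
  mem x hx := by
    obtain ⟨γ, hγ⟩ := m.mem (k⁻¹ * x * k) (by simpa [mul_assoc] using hx.conj k⁻¹)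
    exact ⟨γ, by simp [hγ, mul_assoc]⟩
  card := (card_centralizer_conj k t).trans m.card

end Mod

namespace Hyp

variable (h : Hyp G) {t : G} {Ψ : Γ →* G} (m : Mod t Ψ)
include h m

theorem exists_s : ∃ s, s * t * s⁻¹ = Ψ (-1, d1) ∧
    ∀ γ : Γ, γ.2 * d1 = d1 * γ.2 → ∃ δ : Γ, δ.2 * d1 = d1 * δ.2 ∧ Ψ δ = s * Ψ γ * s⁻¹ := by
  have h0 : ∀ γ : Γ, γ ∈ centralizer {((1, d1) : Γ)} ↔ γ.2 * d1 = d1 * γ.2 := fun γ => by
    simp [mem_centralizer_singleton_iff, Prod.ext_iff]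
  obtain ⟨s, h1, h2, h3⟩ := h.exists_norm m.card (T := (centralizer {((1, d1) : Γ)}).map Ψ) (by
    rw [card_map_of_injective m.inj]
    exact (card_filter _ h0).trans (by decide +kernel))
  refine ⟨s, ?_, fun γ hγ => ?_⟩
  · obtain ⟨γ, -, e⟩ := h1 t ⟨_, (h0 _).mpr (by simp), m.t_eq⟩
    have h5 : ∀ σ, σ * d1 = d1 * σ → σ * γ.2 = γ.2 * σ := fun σ hσ => by
      obtain ⟨δ, -, hδ⟩ := h2 _ ⟨(1, σ), (h0 _).mpr hσ, rfl⟩
      have := (m.comm δ).conj s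
      rw [hδ, ← e] at this
      exact congrArg Prod.snd (m.inj (show Ψ (_ * γ) = Ψ (γ * (1, σ)) by
        simpa [mul_assoc] using this.eq))
    have h6 : ∀ σ : Perm (Fin 5), swap 0 1 * σ = σ * swap 0 1 → swap 2 3 * σ = σ * swap 2 3 →
        swap 0 2 * swap 1 3 * σ = σ * (swap 0 2 * swap 1 3) → σ = 1 ∨ σ = d1 := by
      decide +kernel
    have h7 : IsConj t (Ψ γ) := isConj_iff.mpr ⟨s, e.symm⟩
    obtain ⟨ε, σ⟩ := γ
    rcases h6 σ (h5 _ (by decide)) (h5 _ (by decide)) (h5 _ (by decide)) with rfl | rfl <;>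
      rcases Int.units_eq_one_or ε with rfl | rfl
    · exact absurd (conj_eq_one_iff.mp (e.symm.trans (map_one Ψ))) m.ne_one
    · exact absurd (mul_inv_eq_iff_eq_mul.mp (e.symm.trans m.t_eq)) h3
    · exact absurd h7 m.not_v
    · exact e.symm
  · obtain ⟨δ, hδ, e⟩ := h1 _ ⟨γ, (h0 _).mpr hγ, rfl⟩
    exact ⟨δ, (h0 _).mp hδ, e⟩

theorem conj_iff (γ : Γ) : IsConj t (Ψ γ) ↔ γ.2 * γ.2 = 1 ∧
    if sw γ.2 then IsConj t (Ψ (γ.1, swap 0 1)) else γ.1 = -1 := by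
  obtain ⟨ε, σ⟩ := γ
  by_cases h1 : σ * σ = 1
  swap
  · refine iff_of_false (fun e => h1 ?_) fun e => h1 e.1
    exact congrArg Prod.snd (m.inj ((map_mul Ψ _ _).trans ((m.sq e).trans (map_one Ψ).symm)))
  have h2 := cls σ h1
  simp only [h1, true_and]
  split_ifs at h2 ⊢ with h3
  · obtain ⟨τ, rfl⟩ := h2
    exact Mod.conj_iff _ _ _ _
  obtain ⟨s, hs, -⟩ := h.exists_s m
  rcases h2 with rfl | ⟨τ, rfl⟩ <;> rcases Int.units_eq_one_or ε with rfl | rfl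
  · exact iff_of_false (fun e => m.ne_one (isConj_one_left.mp (map_one Ψ ▸ e))) (by decide)
  · exact iff_of_true (m.t_eq ▸ IsConj.refl _) rfl
  · exact iff_of_false (fun e => m.not_v ((Mod.conj_iff _ _ _ _).mp e)) (by decide)
  · exact iff_of_true ((Mod.conj_iff _ _ _ _).mpr (isConj_iff.mpr ⟨s, hs⟩)) rfl

theorem index_t : (centralizer ({t} : Set G)).index = 396 := by
  have := h.idx (centralizer {t})
  rw [m.card] at this
  omega

theorem both (ε : ℤˣ) : IsConj t (Ψ (ε, swap 0 1)) ↔ IsConj t (Ψ (1, swap 0 1)) := by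
  rcases Int.units_eq_one_or ε with rfl | rfl
  · rfl
  by_contra hc
  obtain ⟨n, k, h1, h2⟩ := h.fix m.tt (centralizer {t})
  have h3 : ∀ η : ℤˣ, (∀ ε, IsConj t (Ψ (ε, swap 0 1)) ↔ ε = η) → n =
      (Finset.univ.filter fun γ : Γ => γ.2 * γ.2 = 1 ∧ if sw γ.2 then γ.1 = η else γ.1 = -1).card :=
    fun η hη => (Nat.eq_of_mul_eq_mul_right Nat.card_pos h2).trans
      (ncard_image m.inj _ (fun x hx => m.mem x (mem_centralizer_singleton_iff.mp hx.1)) fun γ => by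
        rw [← hη, ← h.conj_iff m]
        exact and_iff_right (mem_centralizer_singleton_iff.mpr (m.comm γ)))
  have h4 : ∀ η : ℤˣ, (Finset.univ.filter fun γ : Γ => γ.2 * γ.2 = 1 ∧
      if sw γ.2 then γ.1 = η else γ.1 = -1).card = 26 := by decide +kernel
  rw [h.index_t m] at h1
  by_cases h5 : IsConj t (Ψ (1, swap 0 1))
  · have := (h3 1 fun ε => by
      rcases Int.units_eq_one_or ε with rfl | rfl <;> simp_all).trans (h4 _)
    omega
  · have := (h3 (-1) fun ε => by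
      rcases Int.units_eq_one_or ε with rfl | rfl <;> simp_all).trans (h4 _)
    omega

theorem conj_v4 {γ : Γ} (hγ : γ.2 ∈ V4) : IsConj t (Ψ γ) ↔ γ.1 = -1 := by
  rw [h.conj_iff m, (v4_spec _ hγ).2.1]
  exact and_iff_right (v4_spec _ hγ).1

omit h in
theorem mem_M {γ : Γ} : Ψ γ ∈ normalizer (A0.map Ψ : Set G) ↔ γ.2 4 = 4 := by
  refine ⟨fun e => ?_, fun e => mem_normalizer_fintype ?_⟩
  · obtain ⟨δ, hδ, e⟩ := (mem_normalizer_iff.mp e _).mp ⟨(1, d1), show d1 ∈ V4 by decide, rfl⟩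
    rw [← map_inv, ← map_mul, ← map_mul] at e
    exact (perm_spec _).2.2.1 (by have : δ.2 ∈ V4 := hδ; rwa [m.inj e] at this)
  · rintro _ ⟨δ, hδ, rfl⟩
    exact ⟨γ * δ * γ⁻¹, ((perm_spec _).2.1 e).1 _ hδ, by simp⟩

theorem conj_A {k : G} (hk : k ∈ normalizer (A0.map Ψ : Set G)) (ε : ℤˣ) {σ : Perm (Fin 5)}
    (hσ : σ ∈ V4) : ∃ ρ ∈ V4, k * Ψ (ε, σ) * k⁻¹ = Ψ (ε, ρ) := by
  obtain ⟨δ, hδ, e⟩ := (mem_normalizer_iff.mp hk _).mp ⟨(ε, σ), hσ, rfl⟩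
  have h1 : IsConj (Ψ (ε, σ)) (Ψ δ) := isConj_iff.mpr ⟨k, e.symm⟩
  have h2 : ε = -1 ↔ δ.1 = -1 := by
    rw [← h.conj_v4 m hδ, ← h.conj_v4 m (γ := (ε, σ)) hσ]
    exact ⟨fun a => a.trans h1, fun a => a.trans h1.symm⟩
  refine ⟨δ.2, hδ, e.symm.trans (congrArg Ψ (Prod.ext ?_ rfl))⟩
  rcases Int.units_eq_one_or ε with rfl | rfl <;> rcases Int.units_eq_one_or δ.1 with e | e <;>
    simp_all

theorem conj_t {k : G} (hk : k ∈ normalizer (A0.map Ψ : Set G)) :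
    ∃ ρ ∈ V4, k * t * k⁻¹ = Ψ (-1, ρ) := m.t_eq ▸ h.conj_A m hk _ List.mem_cons_self

theorem exists_conj_M {σ : Perm (Fin 5)} (hσ : σ ∈ V4) :
    ∃ k ∈ normalizer (A0.map Ψ : Set G), k * t * k⁻¹ = Ψ (-1, σ) := by
  obtain ⟨s, h1, h2⟩ := h.exists_s m
  have hs : s ∈ normalizer (A0.map Ψ : Set G) := by
    refine mem_normalizer_fintype ?_
    rintro _ ⟨γ, hγ, rfl⟩
    obtain ⟨δ, h3, e⟩ := h2 γ (v4_spec _ hγ).2.2.1
    have h4 : δ.2 * δ.2 = 1 := congrArg Prod.snd (m.inj (show Ψ (δ * δ) = Ψ 1 by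
      rw [map_mul, e, conj_mul, ← map_mul, show γ * γ = 1 from
        Prod.ext (Int.units_mul_self _) (v4_spec _ hγ).1]; simp))
    refine ⟨δ, ?_, e⟩
    have h5 := (perm_spec _).1 h3 h4
    split_ifs at h5 with h6
    swap
    · exact h5
    have h7 : IsConj (Ψ γ) (Ψ δ) := isConj_iff.mpr ⟨s, e.symm⟩
    have h8 : IsConj (Ψ ((-1, 1) * γ)) (Ψ ((-1, d1) * δ)) :=
      isConj_iff.mpr ⟨s, by rw [map_mul, map_mul, e, ← h1, m.t_eq, conj_mul]⟩
    have h9 : IsConj t (Ψ δ) ↔ IsConj t (Ψ ((-1, d1) * δ)) := by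
      have : d1 * δ.2 * (d1 * δ.2) = 1 ∧ sw (d1 * δ.2) = true := by
        rcases h5 with e | e <;> rw [e] <;> decide
      rw [h.conj_iff m δ, h.conj_iff m ((-1, d1) * δ), if_pos h6,
        if_pos (show sw (((-1, d1) : Γ) * δ).2 = true from this.2), h.both m,
        h.both m (((-1, d1) : Γ) * δ).1]
      exact and_congr_left' (iff_of_true h4 this.1)
    have h10 : γ.1 = -1 ↔ ((-1, 1) * γ).1 = -1 := by
      rw [← h.conj_v4 m hγ, ← h.conj_v4 m (γ := (-1, 1) * γ) (show 1 * γ.2 ∈ V4 by rwa [one_mul])]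
      exact ⟨fun a => (h9.mp (a.trans h7)).trans h8.symm, fun a => (h9.mpr (a.trans h8)).trans h7.symm⟩
    rcases Int.units_eq_one_or γ.1 with e | e <;> simp [e] at h10
  rcases (v4_spec _ hσ).2.2.2.2 with rfl | ⟨τ, -, h3, -, rfl⟩
  · exact ⟨1, one_mem _, by simp [m.t_eq]⟩
  · refine ⟨Ψ (1, τ) * s, mul_mem ((mem_M m).mpr h3) hs, ?_⟩
    calc _ = Ψ (1, τ) * (s * t * s⁻¹) * (Ψ (1, τ))⁻¹ := by group
      _ = _ := by rw [h1, ← map_inv, ← map_mul, ← map_mul]; simp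

theorem card_M : Nat.card (normalizer (A0.map Ψ : Set G)) = 192 := by
  have h1 := relIndex_mul_card_inf (centralizer {t}) (normalizer (A0.map Ψ : Set G))
  have h2 : Nat.card (centralizer {t} ⊓ normalizer (A0.map Ψ : Set G) : Subgroup G) = 48 :=
    (ncard_image m.inj (fun γ => γ.2 4 = 4)
      (fun x hx => m.mem x (mem_centralizer_singleton_iff.mp hx.1)) fun γ => (and_iff_right
        (mem_centralizer_singleton_iff.mpr (m.comm γ))).trans (mem_M m)).trans (by decide +kernel)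
  rw [h2, ← M12P.ncard_conj, ncard_image m.inj (fun γ => γ.1 = -1 ∧ γ.2 ∈ V4), 
    show Finset.card _ = 4 by decide +kernel] at h1
  · exact h1.symm
  · rintro _ ⟨k, hk, rfl⟩
    obtain ⟨ρ, -, e⟩ := h.conj_t m hk
    exact ⟨_, e.symm⟩
  · rintro ⟨ε, σ⟩
    refine ⟨fun ⟨k, hk, e⟩ => ?_, ?_⟩
    · obtain ⟨ρ, hρ, e'⟩ := h.conj_t m hk
      rw [← m.inj (e'.symm.trans e)]
      exact ⟨rfl, hρ⟩
    · rintro ⟨rfl, hσ⟩
      exact h.exists_conj_M m hσ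

theorem conj_u : IsConj t (Ψ (1, swap 0 1)) := by
  classical
  by_contra hu
  set M := normalizer (A0.map Ψ : Set G)
  have h1 : ∀ x ∈ M, IsConj t x → Commute x t → ∃ ρ ∈ V4, x = Ψ (-1, ρ) := by
    intro x hx h1 h2
    obtain ⟨γ, rfl⟩ := m.mem x h2
    obtain ⟨h3, h4⟩ := (h.conj_iff m γ).mp h1
    split_ifs at h4 with h5
    · exact absurd ((h.both m _).mp h4) hu
    · exact ⟨γ.2, ((perm_spec _).2.1 ((mem_M m).mp hx)).2 h3 (by simpa using h5), by rw [← h4]⟩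
  have h2 : ∀ x ∈ M, IsConj t x → ∀ σ ∈ V4, Commute x (Ψ (-1, σ)) → ∃ ρ ∈ V4, x = Ψ (-1, ρ) := by
    intro x hx h2 σ hσ h3
    obtain ⟨k, hk, e⟩ := h.exists_conj_M m hσ
    obtain ⟨ρ, hρ, e'⟩ := h1 (k⁻¹ * x * k⁻¹⁻¹) (mul_mem (mul_mem (inv_mem hk) hx) (inv_mem (inv_mem hk)))
      (h2.trans (isConj_iff.mpr ⟨_, rfl⟩)) (by simpa [← e, mul_assoc] using h3.conj k⁻¹)
    obtain ⟨ρ', hρ', e''⟩ := h.conj_A m hk (-1) hρ
    exact ⟨ρ', hρ', by rw [← e'', ← e']; group⟩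
  have h3 : ∀ x ∈ M, IsConj t x → ∀ σ ∈ V4, Commute x (Ψ (1, σ)) := by
    intro x hx h3 σ hσ
    by_cases h4 : ∃ ρ ∈ V4, x = Ψ (-1, ρ)
    · obtain ⟨ρ, hρ, rfl⟩ := h4
      exact Commute.map (show ((-1, ρ) : Γ) * (1, σ) = (1, σ) * (-1, ρ) from
        Prod.ext rfl ((v4_spec _ hρ).2.2.2.1 _ hσ).2) Ψ
    obtain ⟨α, hα, e1⟩ := h.conj_t m hx
    obtain ⟨β, hβ, e2⟩ := h.conj_A m hx 1 hσ
    have e3 : ∀ ρ, Ψ (-1, ρ) = t * Ψ (1, ρ) := fun ρ => by rw [← m.t_eq, ← map_mul]; simp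
    have e4 : x * Ψ (1, α) * x⁻¹ = Ψ (1, α) := by
      have : x * (x * t * x⁻¹) * x⁻¹ = t := by
        calc _ = x * x * t * (x * x)⁻¹ := by group
          _ = _ := by simp [m.sq h3]
      rw [e1, e3, ← conj_mul, e1, e3, mul_assoc, mul_eq_left, mul_eq_one_iff_inv_eq,
        ← map_inv] at this
      rw [← this]
      exact congrArg Ψ (Prod.ext rfl (inv_eq_of_mul_eq_one_right (v4_spec _ hα).1))
    refine mul_inv_eq_iff_eq_mul.mp (e2.trans (congrArg (fun ρ => Ψ (1, ρ))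
      (v4_key α hα β hβ σ hσ ?_ (fun e => ?_) ?_ ?_ ?_ ?_)))
    · rintro rfl
      exact h4 (h1 x hx h3 (mul_inv_eq_iff_eq_mul.mp (e1.trans m.t_eq)))
    · refine h4 (h2 x hx h3 σ hσ (mul_inv_eq_iff_eq_mul.mp ?_))
      rw [e3, ← conj_mul, e1, e2, ← e3, ← map_mul, ← e]
      simp
    · rintro rfl
      exact congrArg Prod.snd (m.inj (by simpa using e2.trans e4.symm))
    · rintro rfl
      exact congrArg Prod.snd (m.inj (e2.symm.trans e4))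
    · rintro rfl
      exact congrArg Prod.snd (m.inj ((conj_eq_one_iff.mp (e2.trans (map_one Ψ))).trans
        (map_one Ψ).symm))
    · rintro rfl
      exact congrArg Prod.snd (m.inj (e2.symm.trans ((conj_eq_one_iff.mpr (map_one Ψ)).trans
        (map_one Ψ).symm)))
  have h4 : {x | x ∈ M ∧ IsConj t x}.ncard ≤ 4 * 4 := by
    rw [Set.ncard_eq_toFinset_card _ (Set.toFinite _)]
    refine (Finset.card_le_mul_card_image_of_maps_to (f := fun x => x * t * x⁻¹)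
      (t := (V4.map fun ρ => Ψ (-1, ρ)).toFinset) (fun x hx => ?_) 4 fun b _ => ?_).trans
      (Nat.mul_le_mul_left 4 (List.toFinset_card_le _))
    · obtain ⟨ρ, hρ, e⟩ := h.conj_t m ((Set.Finite.mem_toFinset _).mp hx).1
      exact List.mem_toFinset.mpr (List.mem_map.mpr ⟨ρ, hρ, e.symm⟩)
    refine le_of_not_gt fun hlt => ?_
    obtain ⟨x, hx⟩ := Finset.card_pos.mp (lt_trans (by norm_num) hlt)
    refine hlt.not_ge <| (Finset.card_le_card (t := (V4.map fun ρ => x * Ψ (1, ρ)).toFinset) fun y hy => ?_).trans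
      (List.toFinset_card_le _)
    simp only [Finset.mem_filter, Set.Finite.mem_toFinset, Set.mem_ofPred_eq] at hx hy
    obtain ⟨γ, hγ⟩ := m.mem (x⁻¹ * y) (mul_inv_eq_iff_eq_mul.mp (by
      calc _ = x⁻¹ * (y * t * y⁻¹) * x := by group
        _ = _ := by rw [hy.2, ← hx.2]; group))
    have h5 : γ.2 ∈ V4 := (perm_spec _).2.2.2 fun ρ hρ => congrArg Prod.snd (m.inj
      (show Ψ (γ * (1, ρ)) = Ψ ((1, ρ) * γ) by
        rw [map_mul, map_mul, hγ]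
        exact (h3 x hx.1.1 hx.1.2 ρ hρ).inv_left.mul_left (h3 y hy.1.1 hy.1.2 ρ hρ)))
    obtain ⟨ε, σ⟩ := γ
    obtain rfl : y = x * Ψ (ε, σ) := by rw [hγ]; group
    rcases Int.units_eq_one_or ε with rfl | rfl
    · exact List.mem_toFinset.mpr (List.mem_map.mpr ⟨σ, h5, rfl⟩)
    obtain ⟨ρ, hρ, rfl⟩ := h2 x hx.1.1 hx.1.2 σ h5 (comm_of_pow (m.sq hx.1.2)
      (m.sq ((h.conj_v4 m h5).mpr rfl)) (by rw [pow_two, m.sq hy.1.2]))
    rw [← map_mul, h.conj_v4 m (((v4_spec _ hρ).2.2.2.1 _ h5).1)] at hy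
    exact absurd hy.1.2 (by simp)
  have hy : Ψ (1, swap 0 1 * swap 1 2) ∈ M := (mem_M m).mpr rfl
  have h5 := ncard_modEq_conj Nat.prime_three (y := Ψ (1, swap 0 1 * swap 1 2))
    (by rw [← map_pow, ← map_one Ψ]; exact congrArg Ψ (by decide))
    (S := {x | x ∈ M ∧ IsConj t x}) fun x hx => ⟨mul_mem (mul_mem hy hx.1) (inv_mem hy),
      hx.2.trans (isConj_iff.mpr ⟨_, rfl⟩)⟩
  rw [show {x | x ∈ {x | x ∈ M ∧ IsConj t x} ∧ Commute _ x} = {t} from ?_, Set.ncard_singleton,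
    Nat.ModEq] at h5
  · obtain ⟨n, k, h6, h7⟩ := h.fix m.tt M
    have h8 := h.idx M
    rw [h.card_M m] at h7 h8
    rw [m.card] at h7
    omega
  have h6 : ∀ ρ ∈ V4, Commute (Ψ (1, swap 0 1 * swap 1 2)) (Ψ (-1, ρ)) → ρ = 1 := fun ρ hρ e =>
    v4_cent ρ hρ
      (congrArg Prod.snd (m.inj ((map_mul Ψ _ _).trans (e.eq.trans (map_mul Ψ _ _).symm))))
  ext x
  refine ⟨fun ⟨⟨hx, h7⟩, h8⟩ => ?_, ?_⟩
  · obtain ⟨α, hα, e⟩ := h.conj_t m hx
    rw [h6 α hα (e ▸ (h8.mul_right (m.comm _)).mul_right h8.inv_right), m.t_eq] at e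
    obtain ⟨ρ, hρ, rfl⟩ := h1 x hx h7 (mul_inv_eq_iff_eq_mul.mp e)
    rw [h6 ρ hρ h8]
    exact m.t_eq
  · rintro rfl
    exact ⟨⟨m.t_eq ▸ (mem_M m).mpr rfl, IsConj.refl _⟩, m.comm _⟩

theorem of_comm {r x : G} (hr : r * r = 1) (hr1 : r ≠ 1) (hx : IsConj t x) (hc : Commute r x) :
    IsConj t r ∨ IsConj (Ψ (1, d1)) r := by
  obtain ⟨k, rfl⟩ := isConj_iff.mp hx
  obtain ⟨⟨ε, σ⟩, e⟩ := m.mem (k⁻¹ * r * k) (by simpa [mul_assoc] using hc.conj k⁻¹)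
  have h1 : IsConj (Ψ (ε, σ)) r := isConj_iff.mpr ⟨k, by rw [e]; group⟩
  have h2 : σ * σ = 1 := congrArg Prod.snd (m.inj (show Ψ ((ε, σ) * (ε, σ)) = Ψ 1 by
    rw [map_mul, e, map_one, mul_assoc, mul_assoc, mul_assoc, mul_inv_cancel_left, ← mul_assoc r, hr,
      one_mul, inv_mul_cancel]))
  refine or_iff_not_imp_left.mpr fun h3 => ?_
  have h4 := mt (h.conj_iff m (ε, σ)).mpr fun e => h3 (e.trans h1)
  have h5 := cls σ h2
  simp only [h2, true_and] at h4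
  split_ifs at h4 h5
  · exact absurd ((h.both m _).mpr (h.conj_u m)) h4
  obtain rfl := (Int.units_eq_one_or ε).resolve_right h4
  rcases h5 with rfl | ⟨τ, rfl⟩
  · exact absurd (isConj_one_right.mp (map_one Ψ ▸ h1)) hr1
  · exact ((Mod.conj_iff _ _ _ _).mpr (IsConj.refl _)).trans h1

theorem two_classes {r : G} (hr : r * r = 1) (hr1 : r ≠ 1) :
    IsConj t r ∨ IsConj (Ψ (1, d1)) r := by
  have := Fact.mk Nat.prime_two
  have key : ∀ r ∈ normalizer (A0.map Ψ : Set G), r * r = 1 → r ≠ 1 → r * t * r⁻¹ = Ψ (-1, d1) →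
      IsConj t r ∨ IsConj (Ψ (1, d1)) r := by
    intro r hM hr hr1 e1
    have e0 : ∀ x, r * (r * x * r⁻¹) * r⁻¹ = x := fun x => by
      calc _ = r * r * x * (r * r)⁻¹ := by group
        _ = _ := by simp [hr]
    have e2 := e0 t
    rw [e1] at e2
    have hu : Commute (Ψ (1, swap 0 1)) (Ψ (-1, d1)) := Commute.map (by decide : _ = _) Ψ
    obtain ⟨⟨ε, σ⟩, e3⟩ := m.mem _ (e2 ▸ hu.conj r)
    have e4 := e0 (Ψ (1, swap 0 1))
    have h1 := (perm_spec σ).1 (congrArg Prod.snd (m.inj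
      (show Ψ ((ε, σ) * (-1, d1)) = Ψ ((-1, d1) * (ε, σ)) by
        rw [map_mul, map_mul, e3, ← e1]; exact (m.comm _).conj r)))
      (congrArg Prod.snd (m.inj (show Ψ ((ε, σ) * (ε, σ)) = Ψ 1 by
        rw [map_mul, e3, conj_mul, ← map_mul, show _ * _ = (1 : Γ) by decide]; simp)))
    rw [← e3] at e4
    split_ifs at h1
    swap
    · obtain ⟨ρ, hρ, e⟩ := h.conj_A m hM ε h1
      rw [← show swap 0 1 = ρ from congrArg Prod.snd (m.inj (e4.symm.trans e))] at hρ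
      exact absurd hρ (by decide)
    have e5 : r * Ψ (-1, swap 0 1) * r⁻¹ = Ψ ((-1, d1) * (ε, σ)) := by
      rw [map_mul, ← e1, e3, conj_mul, ← m.t_eq, ← map_mul]
      rfl
    have e6 : r * Ψ (-1, swap 2 3) * r⁻¹ = Ψ ((-1, 1) * (ε, σ)) := by
      rw [map_mul, m.t_eq, ← e2, e3, conj_mul, ← map_mul, show _ * _ = ((-1, swap 2 3) : Γ) by decide]
    rcases h1 with rfl | rfl <;> rcases Int.units_eq_one_or ε with rfl | rfl
    · exact h.of_comm m hr hr1 (h.conj_u m) (mul_inv_eq_iff_eq_mul.mp e3.symm)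
    · exact absurd (m.inj (e4.symm.trans e5)) (by decide)
    · exact h.of_comm m hr hr1 ((h.both m (-1)).mpr (h.conj_u m))
        (mul_inv_eq_iff_eq_mul.mp (e5.trans (congrArg Ψ (by decide))))
    · exact absurd (m.inj (e4.symm.trans e6)) (by decide)
  obtain ⟨c, -, hc⟩ := exists_conj_le (H := ⊤) (T := normalizer (A0.map Ψ : Set G)) le_top
    (pgroup_two hr) (by
      have h8 := h.idx (normalizer (A0.map Ψ : Set G))
      rw [h.card_M m] at h8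
      rw [relIndex_top_right]
      omega)
  have h1 := hc r (mem_zpowers r)
  have h2 : ∀ c, c * r * c⁻¹ * (c * r * c⁻¹) = 1 := fun c => by
    rw [conj_mul, hr, mul_one, mul_inv_cancel]
  have h3 : ∀ c, IsConj (c * r * c⁻¹) r := fun c => (isConj_iff.mpr ⟨c, rfl⟩).symm
  obtain ⟨α, hα, e⟩ := h.conj_t m h1
  rcases (v4_spec _ hα).2.2.2.2 with rfl | ⟨τ, -, h4, h5, rfl⟩
  · exact (h.of_comm m (h2 c) (by simpa using hr1) (IsConj.refl t)
      (mul_inv_eq_iff_eq_mul.mp (e.trans m.t_eq))).imp (·.trans (h3 c)) (·.trans (h3 c))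
  · have h6 : Ψ (1, τ) ∈ normalizer (A0.map Ψ : Set G) := (mem_M m).mpr h4
    refine (key (((Ψ (1, τ))⁻¹ * c) * r * ((Ψ (1, τ))⁻¹ * c)⁻¹) ?_ (h2 _) (mt conj_eq_one_iff.mp hr1)
      ?_).imp (·.trans (h3 _)) (·.trans (h3 _))
    · simpa [mul_assoc] using mul_mem (mul_mem (inv_mem h6) h1) h6
    · calc _ = (Ψ (1, τ))⁻¹ * (c * r * c⁻¹ * (Ψ (1, τ) * t * (Ψ (1, τ))⁻¹) * (c * r * c⁻¹)⁻¹) *
            Ψ (1, τ) := by group
        _ = _ := by
          rw [(m.comm _).eq, mul_inv_cancel_right, e, ← map_inv, ← map_mul, ← map_mul]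
          simp [mul_assoc]

end Hyp

end Cfsg.Agent.H4.M12R
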