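import Cfsg.Agent.H4.M12R4

/-!
# Groups of order `95040` with the element order statistics of `M₁₂`: elements of order three
-/

set_option autoImplicit false
set_option linter.unusedSectionVars false

namespace Cfsg.Agent.H4.M12R

open Subgroup Nse MulAction Equiv

variable {G : Type*} [Group G] [Finite G]

theorem mo_cent_conj (k r : G) (n : ℕ) :
    mo (centralizer ({k * r * k⁻¹} : Set G)) n = mo (centralizer ({r} : Set G)) n := by
  refine (mo_congr (((MulAut.conj k).subgroupMap _).trans (MulEquiv.subgroupCongr ?_)) n).symm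
  ext x
  refine ⟨?_, fun hx => ⟨k⁻¹ * x * k, (H2.conj_mem_centralizer_iff k _ r).mp ?_, by simp [mul_assoc]⟩⟩
  · rintro ⟨y, hy, rfl⟩
    exact (H2.conj_mem_centralizer_iff k y r).mpr hy
  · simpa [mul_assoc] using hx

open Classical in
theorem sum_two [Fintype G] {a b : G} {n : ℕ} (ha : orderOf a = n) (hb : orderOf b = n)
    (hab : ¬ IsConj a b) (F : G → ℕ) (hF : ∀ k r, F (k * r * k⁻¹) = F r) :
    ∑ x with IsConj a x ∨ IsConj b x, F x =
      (centralizer {a}).index * F a + (centralizer {b}).index * F b := by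
  have key : ∀ a, ∑ x with IsConj a x, F x = (centralizer {a}).index * F a := fun a => by
    rw [← H3.card_filter_isConj, ← smul_eq_mul, ← Finset.sum_const]
    refine Finset.sum_congr rfl fun x hx => ?_
    obtain ⟨k, rfl⟩ := isConj_iff.mp (Finset.mem_filter.mp hx).2
    exact hF k a
  rw [Finset.filter_or, Finset.sum_union (Finset.disjoint_filter.mpr fun x _ h1 h2 =>
    hab (h1.trans h2.symm)), key, key]

theorem two_index {a b : G} {n : ℕ} (ha : orderOf a = n) (hb : orderOf b = n) (hab : ¬ IsConj a b) :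
    (centralizer {a}).index + (centralizer {b}).index ≤ mo G n ∧
      (mo G n ≤ (centralizer {a}).index + (centralizer {b}).index →
        ∀ y, orderOf y = n → IsConj a y ∨ IsConj b y) := by
  classical
  have := Fintype.ofFinite G
  have h1 := sum_two ha hb hab (fun _ => 1) fun _ _ => rfl
  rw [mul_one, mul_one, ← Finset.card_eq_sum_ones] at h1
  have h2 : (Finset.univ.filter fun x => IsConj a x ∨ IsConj b x) ⊆
      Finset.univ.filter fun x => orderOf x = n := fun x hx => by
    simp only [Finset.mem_filter, Finset.mem_univ, true_and, isConj_iff] at hx ⊢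
    rcases hx with ⟨k, rfl⟩ | ⟨k, rfl⟩ <;> rwa [orderOf_conj']
  rw [← h1, mo_eq]
  refine ⟨Finset.card_le_card h2, fun h y hy => ?_⟩
  exact (Finset.mem_filter.mp ((Finset.eq_of_subset_of_card_le h2 h).ge
    (Finset.mem_filter.mpr ⟨Finset.mem_univ y, hy⟩))).2

theorem ord_two {r : G} (hr : r * r = 1) (h1 : r ≠ 1) : orderOf r = 2 :=
  orderOf_eq_prime (by rwa [pow_two]) h1

theorem sq_of_ord {r : G} (hr : orderOf r = 2) : r * r = 1 ∧ r ≠ 1 :=
  ⟨by rw [← pow_two, ← hr, pow_orderOf_eq_one], fun e => by rw [e, orderOf_one] at hr; omega⟩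

/-- The local information needed for the identification. -/
structure Loc (G : Type*) [Group G] : Prop extends Hyp G where
  o1 : ∀ r : G, orderOf r = 2 → ¬ 9 ∣ Nat.card (centralizer ({r} : Set G))
  o2 : ∀ y : G, orderOf y = 3 → ¬ 2 ^ 3 ∣ Nat.card (centralizer ({y} : Set G))
  o3 : ∃ x : G, orderOf x = 3 ∧ 4 ∣ Nat.card (centralizer ({x} : Set G))

theorem perm3 : ∀ σ : Perm (Fin 5), σ ^ 3 = 1 → σ ≠ 1 →
    (Finset.univ.filter fun ρ => ρ * ρ = 1 ∧ ρ * σ = σ * ρ).card ≤ 2 := by decide +kernel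

theorem Hyp.loc (h : Hyp G) : Loc G := by
  classical
  have := Fintype.ofFinite G
  have := Fact.mk Nat.prime_three
  obtain ⟨t, Ψ, m⟩ := h.exists_mod
  have ot := ord_two m.tt m.ne_one
  have ov : orderOf (Ψ (1, d1)) = 2 :=
    (orderOf_injective Ψ m.inj _).trans (ord_two (by decide) (by decide))
  have h0 : ∀ r, orderOf r = 2 → IsConj t r ∨ IsConj (Ψ (1, d1)) r := fun r hr =>
    h.two_classes m (sq_of_ord hr).1 (sq_of_ord hr).2
  have h1 : ∀ F : G → ℕ, (∀ k r, F (k * r * k⁻¹) = F r) → ∑ x with orderOf x = 2, F x =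
      396 * F t + (centralizer {Ψ (1, d1)}).index * F (Ψ (1, d1)) := fun F hF => by
    rw [← h.index_t m, ← sum_two ot ov m.not_v F hF]
    refine Finset.sum_congr (Finset.filter_congr fun x _ => ⟨h0 x, fun hx => ?_⟩) fun _ _ => rfl
    simp only [isConj_iff] at hx
    rcases hx with ⟨k, rfl⟩ | ⟨k, rfl⟩ <;> rwa [orderOf_conj']
  have h2 := h1 (fun _ => 1) fun _ _ => rfl
  rw [← Finset.card_eq_sum_ones, ← mo_eq, h.m2] at h2
  have h3 : (centralizer {Ψ (1, d1)}).index = 495 := by omega
  have h4 : Nat.card (centralizer {Ψ (1, d1)}) = 192 := by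
    have := h.idx (centralizer {Ψ (1, d1)})
    rw [h3] at this
    omega
  have h5 : mo (centralizer {t}) 3 = 20 := by
    have e : Ψ.range = centralizer {t} := ext fun x => by
      rw [mem_centralizer_singleton_iff]
      exact ⟨by rintro ⟨γ, rfl⟩; exact m.comm γ, m.mem x⟩
    have h6 : mo Γ 1 + mo Γ 3 = _ := sum_divisors (G := Γ) (d := 3) (by norm_num)
    rw [mo_one, Nat.card_eq_fintype_card, show Fintype.card {x : Γ // x ^ 3 = 1} = 21 by
      decide +kernel] at h6
    rw [← mo_congr ((MonoidHom.ofInjective m.inj).trans (MulEquiv.subgroupCongr e))]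
    omega
  have h6 := h1 (fun r => mo (centralizer {r}) 3) fun k r => mo_cent_conj k r 3
  rw [← mo_mul_sum (by norm_num), h.m6, h3, h5] at h6
  refine ⟨h, fun r hr => ?_, fun y hy e => ?_, Ψ (1, swap 2 3 * swap 3 4),
    (orderOf_injective Ψ m.inj _).trans (orderOf_eq_prime (by decide) (by decide)), ?_⟩
  · rcases h0 r hr with e | e <;> obtain ⟨k, rfl⟩ := isConj_iff.mp e <;> rw [card_centralizer_conj]
    · rw [m.card]; norm_num
    · rw [h4]; norm_num
  · obtain ⟨E, hE, hE'⟩ := exists_le_card Nat.prime_two e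
    have h7 : ∀ e ∈ E, Commute e y := fun e he => mem_centralizer_singleton_iff.mp (hE he)
    have h8 : ∀ e ∈ E, e * e = 1 := fun e he =>
      h.o.sq_of_odd (IsPGroup.of_card hE') he (Or.inl hy) (h7 e he)
    obtain ⟨r, hr, -, -, hr1, -⟩ := exists_two (R := E) (by omega)
    rcases h.two_classes m (h8 r hr) hr1 with e | e <;> obtain ⟨k, rfl⟩ := isConj_iff.mp e
    · have m' := m.conj k
      generalize (MulAut.conj k).toMonoidHom.comp Ψ = Φ at m'
      obtain ⟨γ, rfl⟩ := m'.mem y (h7 _ hr).symm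
      rw [orderOf_injective Φ m'.inj] at hy
      have h9 : γ ^ 3 = 1 := hy ▸ pow_orderOf_eq_one γ
      have h10 := perm3 γ.2 (congrArg Prod.snd h9) fun e => by
        have : γ ^ 2 = 1 := Prod.ext (Int.units_sq _) (by simp [e])
        exact absurd (hy ▸ orderOf_dvd_of_pow_eq_one this) (by norm_num)
      have h11 := card_le_of_subset (H := E) (s := (Finset.univ ×ˢ
        Finset.univ.filter fun ρ => ρ * ρ = 1 ∧ ρ * γ.2 = γ.2 * ρ).image Φ) fun x hx => by
          obtain ⟨δ, rfl⟩ := m'.mem x (comm_of_sq h8 hx hr)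
          refine Finset.mem_image_of_mem _ (Finset.mem_product.mpr ⟨Finset.mem_univ _,
            Finset.mem_filter.mpr ⟨Finset.mem_univ _, ?_, ?_⟩⟩)
          · exact congrArg Prod.snd (m'.inj ((map_mul Φ _ _).trans ((h8 _ hx).trans (map_one Φ).symm)))
          · exact congrArg Prod.snd (m'.inj ((map_mul Φ _ _).trans
              ((h7 _ hx).eq.trans (map_mul Φ _ _).symm)))
      have h12 := h11.trans Finset.card_image_le
      rw [Finset.card_product, Finset.card_univ, Fintype.card_units_int] at h12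
      omega
    · have h9 := mo_cent_conj k (Ψ (1, d1)) 3
      have h10 := card_centralizer_conj k (Ψ (1, d1))
      generalize k * Ψ (1, d1) * k⁻¹ = r at hr h9 h10
      have hy' : y ∈ centralizer {r} := mem_centralizer_singleton_iff.mpr (h7 r hr).symm
      have h11 := mo_prime (G := centralizer {r}) (x := ⟨y, hy'⟩) ((orderOf_coe _).symm.trans hy)
        (by rw [h10, h4]; norm_num)
      have h12 := card_dvd_of_le (H := E.subgroupOf (centralizer {r})) (le_trans (fun x hx =>
        mem_centralizer_singleton_iff.mpr (Subtype.ext (h7 x hx).eq)) (cent_le_norm ⟨y, hy'⟩))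
      rw [card_subgroupOf, inf_of_le_left fun x hx => mem_centralizer_singleton_iff.mpr
        (comm_of_sq h8 hx hr), hE'] at h12
      rw [h9, h10, h4, show mo (centralizer {Ψ (1, d1)}) 3 = 32 by omega] at h11
      omega
  · refine four_dvd (a := t) (b := Ψ (1, swap 0 1)) (mem_centralizer_singleton_iff.mpr (m.comm _).symm)
      (mem_centralizer_singleton_iff.mpr (Commute.map (by decide : _ = _) Ψ)) m.tt
      (by rw [← map_mul, ← map_one Ψ]; exact congrArg Ψ (by decide)) (m.comm _).symm m.ne_one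
      (fun e => absurd (m.inj (e.trans (map_one Ψ).symm)) (by decide))
      fun e => absurd (m.inj (m.t_eq.trans e)) (by decide)

theorem pgroup_three {a : G} (ha : a ^ 3 = 1) : IsPGroup 3 (zpowers a) :=
  IsPGroup.of_card_dvd_pow (n := 1) (by
    rw [Nat.card_zpowers, pow_one]; exact orderOf_dvd_of_pow_eq_one ha)

theorem nine_dvd {K L : Subgroup G} (hK : IsPGroup 3 K) (hL : K ≤ L) {y w : G} (hy : y ∈ K)
    (hy3 : orderOf y = 3) (hw : w ∈ K) (hwy : w ∉ zpowers y) : 9 ∣ Nat.card L := by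
  have := Fact.mk Nat.prime_three
  obtain ⟨k, hk⟩ := hK.exists_card_eq
  have h1 : ¬ Nat.card K ≤ Nat.card (zpowers y) := fun e =>
    hwy ((eq_of_le_of_card_ge (zpowers_le_of_mem hy) e).ge hw)
  refine Dvd.dvd.trans ?_ (card_dvd_of_le hL)
  rw [Nat.card_zpowers, hy3, hk] at h1
  rw [hk]
  rcases k with _ | _ | k
  · omega
  · omega
  · exact ⟨3 ^ k, by ring⟩

theorem cube_of_ord {y : G} (hy : orderOf y = 3) : y ^ 3 = 1 ∧ y ≠ 1 :=
  ⟨by rw [← hy, pow_orderOf_eq_one], fun e => by rw [e, orderOf_one] at hy; omega⟩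

namespace Loc

variable (h : Loc G)
include h

theorem le_zp {r y : G} (hr : r * r = 1) (hr1 : r ≠ 1) (hy : orderOf y = 3) {K : Subgroup G}
    (hK : IsPGroup 3 K) (hyK : y ∈ K) (hc : ∀ k ∈ K, Commute k r) : K ≤ zpowers y := fun w hw => by
  by_contra hwy
  exact h.o1 r (ord_two hr hr1) (nine_dvd hK
    (fun k hk => mem_centralizer_singleton_iff.mpr (hc k hk)) hyK hy hw hwy)

theorem mem_zp {r y w : G} (hr : r * r = 1) (hr1 : r ≠ 1) (hy : orderOf y = 3) (hw : w ^ 3 = 1)
    (h1 : Commute y r) (h2 : Commute w r) (h3 : Commute w y) : w ∈ zpowers y :=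
  h.le_zp hr hr1 hy ((pgroup_three hw).to_sup_of_normal_right' (pgroup_three (cube_of_ord hy).1)
    (zpowers_le_of_mem (cent_le_norm y (mem_centralizer_singleton_iff.mpr h3))))
    (mem_sup_right (mem_zpowers y)) (fun _ hk => mem_centralizer_singleton_iff.mp
      (sup_le (zpowers_le_of_mem (mem_centralizer_singleton_iff.mpr h2))
        (zpowers_le_of_mem (mem_centralizer_singleton_iff.mpr h1)) hk))
    (mem_sup_left (mem_zpowers w))

theorem le_of_norm {y : G} (hy : orderOf y = 3) (h4 : 2 ^ 2 ∣ Nat.card (centralizer ({y} : Set G)))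
    {K : Subgroup G} (hK : IsPGroup 3 K) (h1 : K ≤ centralizer {y})
    (h2 : ∀ g ∈ centralizer {y}, ∀ k ∈ K, g * k * g⁻¹ ∈ K) : K ≤ zpowers y := by
  obtain ⟨R, hR, hR'⟩ := exists_le_card Nat.prime_two h4
  have h7 : ∀ e ∈ R, Commute e y := fun e he => mem_centralizer_singleton_iff.mp (hR he)
  have h8 : ∀ e ∈ R, e * e = 1 := fun e he =>
    h.o.sq_of_odd (IsPGroup.of_card hR') he (Or.inl hy) (h7 e he)
  obtain ⟨a, ha, b, hb, ha1, hb1, hab⟩ := exists_two (R := R) (by omega)
  have key : ∀ e ∈ R, e ≠ 1 → ∀ g ∈ K, Commute g e → g ∈ zpowers y := fun e he he1 g hg hc =>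
    h.mem_zp (h8 e he) he1 hy (h.o.cube hK hg) (h7 e he).symm hc
      (mem_centralizer_singleton_iff.mp (h1 hg))
  refine le_of_four (h8 a ha) (h8 b hb) (comm_of_sq h8 ha hb) ha1 hb1 hab Nat.prime_three
    (by norm_num) hK (h2 a (hR ha)) (h2 b (hR hb)) fun g hg hc => ?_
  rcases hc with hc | hc | hc
  · exact key a ha ha1 g hg hc
  · exact key b hb hb1 g hg hc
  · exact key _ (mul_mem ha hb) (fun e => hab ((eq_inv_of_mul_eq_one_left e).trans
      (inv_eq_of_mul_eq_one_right (h8 b hb)))) g hg hc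

theorem card3 {y : G} (hy : orderOf y = 3) : Nat.card (centralizer ({y} : Set G)) = 27 ∨
    Nat.card (centralizer ({y} : Set G)) = 36 ∨ Nat.card (centralizer ({y} : Set G)) = 54 := by
  have h1 := h.idx (centralizer {y})
  have h2 := index_le_mo y
  rw [hy, h.m3] at h2
  have : ∀ n ∈ D, ¬ 5 ∣ n → ¬ 11 ∣ n → ¬ 2 ^ 3 ∣ n → 95040 ≤ 4400 * n → n ≠ 108 →
    n = 27 ∨ n = 36 ∨ n = 54 := by decide +kernel
  refine this _ (h.mem_D _) (h.o.not_dvd_cent hy Nat.prime_five (by norm_num) (by decide))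
    (h.o.not_dvd_cent hy (p := 11) (by norm_num) (by norm_num) (by decide)) (h.o2 y hy)
    (h1 ▸ Nat.mul_le_mul_right _ h2) fun hc => ?_
  set Y := centralizer ({y} : Set G)
  obtain ⟨P, hP, hP'⟩ := exists_le_card (n := 3) (H := Y) Nat.prime_three (by rw [hc]; norm_num)
  have h3 : (P.subgroupOf Y).normalCore.index ∣ 24 := by
    rw [normalCore_eq_ker, index_ker]
    have := card_subgroup_dvd_card (toPermHom Y (Y ⧸ P.subgroupOf Y)).range
    rwa [Nat.card_perm, ← index, ← relIndex, relIndex_eq hP (n := 4) (by omega)] at this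
  have h4 := index_mul_card' (P.subgroupOf Y).normalCore hc
  have h5 := card_le_of_le (h.le_of_norm hy (by rw [hc]; norm_num)
    (K := (P.subgroupOf Y).normalCore.map Y.subtype)
    ((IsPGroup.of_card hP').to_le (by
      rintro _ ⟨x, hx, rfl⟩
      exact (P.subgroupOf Y).normalCore_le hx)) (map_subtype_le _) (by
      rintro g hg _ ⟨x, hx, rfl⟩
      exact ⟨_, (normalCore_normal _).conj_mem x hx ⟨g, hg⟩, rfl⟩))
  rw [card_map_of_injective Y.subtype_injective, Nat.card_zpowers, hy] at h5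
  have := Nat.mul_le_mul (Nat.le_of_dvd (by norm_num) h3) h5
  omega

end Loc

end Cfsg.Agent.H4.M12R
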