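import Cfsg.Agent.H2.D1Non2
import Cfsg.Agent.H4.Nse4
import Cfsg.Agent.H6.DegChar

/-!
# Groups with the order and the degree graph of a Mathieu group, general lemmas
-/

set_option autoImplicit false
set_option linter.unusedSectionVars false

namespace Cfsg.Agent.H4.MwG

open Cfsg Cfsg.Agent.H3 Finset Subgroup Cfsg.Agent.H2.D1 Cfsg.Agent.H4.Nse
open Cfsg.Agent.H9.FT (irr deg Ker dot)
open scoped ComplexConjugate

universe u

section Prod

variable {A B : Type*} [Group A] [Group B] [Finite A] [Finite B]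

theorem deg_prod {d : ℕ} (h : d ∈ charDegrees (A × B)) :
    ∃ a ∈ charDegrees A, ∃ b ∈ charDegrees B, d = a * b := by
  classical
  have := Fintype.ofFinite A
  have := Fintype.ofFinite B
  obtain ⟨θ, hθ, hd⟩ := H6.mem_charDegrees.1 h
  have hA : (Nat.card A : ℂ) ≠ 0 := by exact_mod_cast Nat.card_pos.ne'
  have hB : (Nat.card B : ℂ) ≠ 0 := by exact_mod_cast Nat.card_pos.ne'
  have hc := char_isClassFunction (irr_isCharacter hθ)
  obtain ⟨ρ, hρ, h1⟩ := exists_irr_classInner_ne_zero (G := B) (f := fun b => θ (1, b))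
    (fun g k => by simpa using hc (1, g) (1, k)) fun e => irr_one_ne_zero hθ (congrFun e 1)
  obtain ⟨ψ, hψ, h2⟩ := exists_irr_classInner_ne_zero (G := A)
    (f := fun a => classInner (fun b => θ (a, b)) ρ)
    (fun g k => congrArg (classInner · ρ) (funext fun b => by simpa using hc (g, b) (k, 1)))
    fun e => h1 (congrFun e 1)
  have key : ∀ F : A × B → ℂ, classInner F (fun z => ψ z.1 * ρ z.2) =
      classInner (fun a => classInner (fun b => F (a, b)) ρ) ψ := fun F => by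
    simp only [classInner, Nat.card_prod, Nat.cast_mul, mul_inv, Fintype.sum_prod_type, map_mul,
      mul_sum, sum_mul]
    exact sum_congr rfl fun a _ => sum_congr rfl fun b _ => by ring
  have h3 : IsIrrCharacter (A × B) fun z => ψ z.1 * ρ z.2 := by
    have h4 : IsCharacter (A × B) fun z => ψ z.1 * ρ z.2 :=
      isCharacter_mul (isCharacter_comp (MonoidHom.fst A B) (irr_isCharacter hψ))
        (isCharacter_comp (MonoidHom.snd A B) (irr_isCharacter hρ))
    rw [irr_iff_norm_one h4, key, ← classInner_irr_self hψ]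
    congr 1
    funext a
    exact (classInner_smul_left (ψ a) ρ ρ).trans (by rw [classInner_irr_self hρ, mul_one])
  have h5 : θ = fun z => ψ z.1 * ρ z.2 := by_contra fun e =>
    h2 (key θ ▸ classInner_irr_ne hθ h3 e)
  obtain ⟨a, -, ha⟩ := irr_one_pos hψ
  obtain ⟨b, -, hb⟩ := irr_one_pos hρ
  refine ⟨a, H6.mem_charDegrees.2 ⟨ψ, hψ, ha⟩, b, H6.mem_charDegrees.2 ⟨ρ, hρ, hb⟩, ?_⟩
  rw [h5] at hd
  simp only [Prod.fst_one, Prod.snd_one, ha, hb] at hd
  exact_mod_cast hd.symm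

end Prod

variable {G : Type u} [Group G] [Finite G]

theorem not_dvd_index {N : Subgroup G} {r : ℕ} (h : ¬ r ^ 2 ∣ Nat.card G) (h1 : r ∣ Nat.card N) :
    ¬ r ∣ N.index := fun e => h (by rw [← N.index_mul_card, sq]; exact mul_dvd_mul e h1)

/-- Defect zero passes to the constituents in a normal subgroup. -/
theorem lemA (N : Subgroup G) [N.Normal] (χ : IrrCharacter G) : ∃ ψ ∈ irr N, ∀ r : ℕ, r.Prime →
    ¬ r ^ 2 ∣ Nat.card G → r ∣ Nat.card N → r ∣ dg χ → r ∣ deg ψ := by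
  have hχ := irr_top.2 χ.2
  obtain ⟨θ, hθ, e⟩ := H9.FT.exists_irr_under (le_top (a := N)) (H9.FT.irr_Ch hχ)
    (H9.FT.irr_ne_zero hχ)
  refine ⟨θ, hθ, fun r hr h1 h2 ⟨d, hd⟩ => ?_⟩
  have h3 := H9.FT.res_eq_smul_sum_orb (normalIn_top N) hχ hθ e
  have h4 : ∑ ψ ∈ H9.FT.orb ⊤ θ, ψ ∈ H9.FT.Ch N := AddSubmonoid.sum_mem _ fun ψ hψ =>
    H9.FT.irr_Ch (H9.FT.orb_subset_irr (normalIn_top N) hθ hψ)
  obtain ⟨y, hy, hy'⟩ := exists_mem_orderOf hr h2
  have h5 := card_dvd_of_vanish (genChar_of_char (isCharacter_comp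
    (inclusion (zpowers_le.2 hy)) h4.2)) (n := ((H9.FT.orb ⊤ θ).card * deg θ : ℕ)) (by
      simp only [map_one, OneMemClass.coe_one, Finset.sum_apply]
      rw [sum_congr rfl fun ψ hψ => H9.FT.apply_one_of_mem_orb hψ, sum_const,
        H9.FT.deg_eq (H9.FT.irr_Ch hθ)]
      simp) fun u u1 => by
      have h6 := congrFun h3 u
      rw [H9.FT.res_of_mem _ (zpowers_le.2 hy u.2), irr_eq_zero_of_defect_zero hr χ.2 (dg_eq χ)
        (fun k hk e => h1 (by rw [hk, hd, sq, mul_assoc]; exact mul_dvd_mul_left r (e.mul_left d)))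
        (((Nat.dvd_prime hr).1 (hy' ▸ orderOf_dvd_of_mem_zpowers u.2)).resolve_left (by
          simpa using u1)).symm.dvd, Pi.smul_apply, smul_eq_mul, eq_comm, mul_eq_zero] at h6
      exact h6.resolve_left e
  rw [Nat.card_zpowers, hy', Int.natCast_dvd_natCast, H9.FT.card_orb, hr.dvd_mul] at h5
  refine h5.resolve_left fun e => not_dvd_index h1 h2 (e.trans ?_)
  rw [relIndex_top_right]
  exact index_dvd_of_le (H9.FT.le_inertia le_top (H9.FT.irr_CF hθ))

theorem mem_of_irr {N : Subgroup G} {ψ : G → ℂ} (h : ψ ∈ irr N) : deg ψ ∈ charDegrees N :=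
  H6.mem_charDegrees.2 ⟨_, (H9.FT.mem_irr.1 h).2, H9.FT.deg_eq (H9.FT.irr_Ch h)⟩

theorem mo_sub (H : Subgroup G) (n : ℕ) : mo H n = {g | g ∈ H ∧ orderOf g = n}.ncard := by
  refine Nat.card_congr ⟨fun g => ⟨g.1, g.1.2, (orderOf_coe _).trans g.2⟩,
    fun g => ⟨⟨g.1, g.2.1⟩, (orderOf_coe _).symm.trans g.2.2⟩, fun _ => rfl, fun _ => rfl⟩

variable {p : ℕ} [hp : Fact p.Prime]

theorem mo_syl (h : ¬ p ^ 2 ∣ Nat.card G) (h1 : p ∣ Nat.card G) :
    mo G p = Nat.card (Sylow p G) * (p - 1) := by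
  obtain ⟨x, hx⟩ := exists_prime_orderOf_dvd_card' p h1
  have h2 : Nat.card (zpowers x) = p := by rw [Nat.card_zpowers, hx]
  have h3 := mo_prime hx h
  rw [Sylow.card_eq_index_normalizer ((IsPGroup.of_card (n := 1) (by rw [h2, pow_one])).toSylow
    (not_dvd_index h h2.symm.dvd))]
  refine Nat.eq_of_mul_eq_mul_right (Nat.card_pos (α := normalizer (zpowers x : Set G))) ?_
  rw [h3, mul_right_comm]
  exact congrArg (· * (p - 1)) (index_mul_card _).symm

theorem mo_normal {x : G} (h : Ctx p x) {N : Subgroup G} (hN : N.Normal) (h1 : p ∣ Nat.card N) :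
    mo N p = mo G p := by
  rw [mo_sub]
  refine congrArg Set.ncard (Set.ext fun g => and_iff_right_of_imp fun hg => ?_)
  exact (⟨h.odd, hg, h.nsq⟩ : Ctx p g).mem_of_normal hN h1

theorem mo_surj {B : Type*} [Group B] (f : G →* B) (hf : Function.Surjective f)
    (hk : ∀ z, f z = 1 → z ∈ center G) (hc : ¬ p ∣ Nat.card f.ker) : mo G p = mo B p := by
  have h1 : ∀ z, f z = 1 → z ^ p = 1 → z = 1 := fun z hz e => orderOf_eq_one_iff.1
    (((Nat.dvd_prime hp.out).1 (orderOf_dvd_of_pow_eq_one e)).resolve_right fun e' =>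
      hc (e' ▸ orderOf_dvd_natCard f.ker hz))
  have h2 : ∀ g, orderOf g = p → orderOf (f g) = p := fun g hg => orderOf_eq_prime
    (by rw [← map_pow, ← hg, pow_orderOf_eq_one, map_one]) fun e => hp.out.ne_one (by
      rw [← hg, h1 g e (hg ▸ pow_orderOf_eq_one g), orderOf_one])
  refine Nat.card_congr (Equiv.ofBijective (fun g => ⟨f g.1, h2 _ g.2⟩) ⟨?_, ?_⟩)
  · rintro ⟨a, ha⟩ ⟨b, hb⟩ e
    have e1 : f (a⁻¹ * b) = 1 := by
      rw [map_mul, map_inv, show f a = f b from congrArg Subtype.val e, inv_mul_cancel]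
    have e2 : Commute a (a⁻¹ * b) := mem_center_iff.1 (hk _ e1) a
    have e3 := e2.mul_pow p
    rw [mul_inv_cancel_left, ← hb, pow_orderOf_eq_one, hb, ← ha, pow_orderOf_eq_one, ha,
      one_mul] at e3
    exact Subtype.ext (inv_mul_eq_one.1 (h1 _ e1 e3.symm))
  · rintro ⟨b, hb⟩
    obtain ⟨a, rfl⟩ := hf b
    obtain ⟨k, -, hk'⟩ := Nat.exists_mul_mod_eq_one_of_coprime
      (hp.out.coprime_iff_not_dvd.2 hc).symm hp.out.one_lt
    have e1 : f (a ^ (Nat.card f.ker * k)) = f a := by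
      rw [map_pow, ← pow_mod_orderOf, hb, hk', pow_one]
    refine ⟨⟨a ^ (Nat.card f.ker * k), orderOf_eq_prime ?_ fun e => hp.out.ne_one ?_⟩,
      Subtype.ext e1⟩
    · have e2 : a ^ p ∈ f.ker := by rw [MonoidHom.mem_ker, map_pow, ← hb, pow_orderOf_eq_one]
      rw [← pow_mul, mul_comm, pow_mul, pow_mul, orderOf_dvd_iff_pow_eq_one.1
        (orderOf_dvd_natCard _ e2), one_pow]
    · rw [← hb, ← e1, e, map_one, orderOf_one]

/-- A Sylow subgroup of prime order inside a normal subgroup. -/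
theorem syl_in {w : G} (h : Ctx p w) (hd : HasDeg G p) {R : Subgroup G} (hR : R.Normal)
    (hw : w ∈ R) : ∃ n, n ≠ 1 ∧ n % p = 1 ∧
      n * Nat.card (R ⊓ centralizer {w} : Subgroup G) ∣ Nat.card R := by
  have h1 : p ∣ Nat.card R := h.ord ▸ orderOf_dvd_natCard _ hw
  have h2 : ¬ p ^ 2 ∣ Nat.card R := fun e => h.nsq (e.trans (card_subgroup_dvd_card R))
  have h3 := mo_syl h2 h1
  have h4 := mo_prime ((orderOf_coe (⟨w, hw⟩ : R)).symm.trans h.ord) h2
  have h0 : 0 < p - 1 := Nat.sub_pos_of_lt hp.out.one_lt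
  refine ⟨Nat.card (Sylow p R), fun e => h.not_normal hd ?_,
    Eq.trans (card_sylow_modEq_one p R) (Nat.mod_eq_of_lt hp.out.one_lt), ?_⟩
  · have h5 := mo_prime h.ord h.nsq
    rw [← mo_normal h hR h1, h3, e, one_mul, mul_comm] at h5
    exact normalizer_eq_top_iff.1 (eq_top_of_card_eq _ (Nat.eq_of_mul_eq_mul_right h0 h5))
  · rw [h3, mul_right_comm] at h4
    rw [← Nat.eq_of_mul_eq_mul_right h0 h4]
    refine mul_dvd_mul_left _ ?_
    rw [← card_map_of_injective (K := normalizer _) R.subtype_injective]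
    refine card_dvd_of_le fun g hg => ⟨⟨g, hg.1⟩, mem_normalizer_zpowers.2 ?_, rfl⟩
    have : (⟨g, hg.1⟩ : R) * ⟨w, hw⟩ * ⟨g, hg.1⟩⁻¹ = ⟨w, hw⟩ :=
      Subtype.ext (mul_inv_eq_iff_eq_mul.2 (mem_centralizer_singleton_iff.1 hg.2))
    rw [this]
    exact mem_zpowers _

/-- The structure of the normal closure of a Sylow subgroup. -/
structure St (p : ℕ) (x : G) (L M : Subgroup G) (S : Type u) [Group S] (π : L →* S) : Prop where
  ctx : Ctx p x
  lm : LM p x L M S
  surj : Function.Surjective π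
  ker : ∀ z, π z = 1 ↔ (z : G) ∈ M
  cent : M ≤ centralizer L

theorem exists_st {x : G} (h : Ctx p x) (hd : HasDeg G p)
    (hj : ∀ d, IsPrimePow d → d ∣ Nat.card G → d % p ≠ 1) : ∃ (L M : Subgroup G) (S : Type u)
    (_ : Group S) (_ : Finite S) (_ : NS S) (π : L →* S), St p x L M S π := by
  obtain ⟨L, M, S, _, _, h1⟩ := h.exists_LM
  obtain ⟨π, hπ⟩ := h1.hom
  have := h1.nM
  have := h1.simple
  have h2 := h.le_cent h1.cop fun d hd e => hj d hd (e.trans (card_subgroup_dvd_card M))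
  have h3 : NS S := ⟨by_contra fun e => h1.not_le h hd (by simpa using e) h2⟩
  have h4 : Nat.card (M.subgroupOf L) = Nat.card M :=
    Nat.card_congr (subgroupOfEquivOfLe h1.le).toEquiv
  have h5 : M.subgroupOf L ≤ π.ker := by
    rw [← Subgroup.map_eq_bot_iff]
    refine (Normal.map inferInstance π hπ).eq_bot_or_eq_top.resolve_right fun e => h1.cop ?_
    rw [← h4]
    exact (h1.dvd h).trans (card_top (G := S) ▸ e ▸ card_map_dvd _ _)
  have h6 : M.subgroupOf L = π.ker := eq_of_le_of_card_ge h5 (by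
    have a1 := π.ker.index_mul_card
    rw [index_ker, MonoidHom.range_eq_top.2 hπ, card_top, ← h1.card, mul_comm] at a1
    rw [h4, Nat.eq_of_mul_eq_mul_right Nat.card_pos a1])
  refine ⟨L, M, S, inferInstance, inferInstance, h3, π, h, h1, hπ,
    fun z => by rw [← MonoidHom.mem_ker, ← h6, mem_subgroupOf], ?_⟩
  rw [← le_centralizer_iff]
  exact h1.min _ inferInstance (h.ord ▸ orderOf_dvd_natCard _ fun m hm =>
    mem_centralizer_singleton_iff.1 (h2 hm))

namespace St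

variable {x : G} {L M : Subgroup G} {S : Type u} [Group S] [Finite S] [NS S] {π : L →* S}
  (h : St p x L M S π)
include h

theorem center {z : L} (hz : π z = 1) : z ∈ center L :=
  mem_center_iff.2 fun g => Subtype.ext (h.cent ((h.ker z).1 hz) g g.2)

theorem card_ker : Nat.card π.ker = Nat.card M := by
  rw [show π.ker = M.subgroupOf L from Subgroup.ext h.ker]
  exact Nat.card_congr (subgroupOfEquivOfLe h.lm.le).toEquiv

theorem rel : M.relIndex L = Nat.card S :=
  relIndex_eq h.lm.le (by rw [← h.lm.card, mul_comm])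

theorem dvdL : p ∣ Nat.card L := h.ctx.ord ▸ orderOf_dvd_natCard _ h.lm.mem

theorem nsqS : ¬ p ^ 2 ∣ Nat.card S := fun e =>
  h.ctx.nsq (e.trans ((Dvd.intro_left _ rfl).trans h.lm.card_dvd))

theorem under {r : ℕ} (hr : r.Prime) (hrp : r ≠ p) (h1 : ¬ r ^ 2 ∣ Nat.card G)
    (h2 : r ∣ Nat.card S) (hd : HasDeg G (r * p)) : ∃ ψ ∈ irr L, r * p ∣ deg ψ := by
  have := h.lm.nL
  obtain ⟨χ, hχ⟩ := hd
  obtain ⟨ψ, h3, h4⟩ := lemA L χ
  exact ⟨ψ, h3, ((Nat.coprime_primes hr hp.out).2 hrp).mul_dvd_of_dvd_of_dvd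
    (h4 r hr h1 (h.lm.card ▸ h2.mul_left _) ((Dvd.intro _ rfl).trans hχ))
    (h4 p hp.out h.ctx.nsq h.dvdL ((Dvd.intro_left _ rfl).trans hχ))⟩

theorem sq_le {r : ℕ} (hr : r.Prime) (hrp : r ≠ p) (h1 : ¬ r ^ 2 ∣ Nat.card G)
    (h2 : r ∣ Nat.card S) (hd : HasDeg G (r * p)) : (r * p) ^ 2 ≤ Nat.card S := by
  obtain ⟨ψ, h3, h4⟩ := h.under hr hrp h1 h2 hd
  have h5 := H9.FT.deg_sq_le_relIndex h3 h.lm.le (by
    rw [commutator_eq_bot_iff_le_centralizer.2 (le_centralizer_iff.1 h.cent)]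
    exact H9.FT.Ker_bot _)
  rw [h.rel] at h5
  exact (Nat.pow_le_pow_left (Nat.le_of_dvd (H9.FT.deg_irr_pos h3) h4) 2).trans h5

theorem perfect : commutator L = ⊤ := by
  have := h.lm.nL
  have h1 : (commutator L).map π = ⊤ := by
    rw [commutator_def, map_commutator, map_top_of_surjective π h.surj]
    refine (inferInstance : (commutator S).Normal).eq_bot_or_eq_top.resolve_left fun e => ?_
    obtain ⟨a, b, hab⟩ := NS.nc (G := S)
    exact hab (((commutator_eq_bot_iff _).1 e).is_comm.comm a b)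
  have h2 : L ≤ (commutator L).map L.subtype := by
    rw [map_subtype_commutator]
    refine h.lm.min _ inferInstance ?_
    rw [← map_subtype_commutator, card_map_of_injective L.subtype_injective]
    exact (h.lm.dvd h.ctx).trans (card_top (G := S) ▸ h1 ▸ card_map_dvd _ _)
  exact eq_top_iff.2 fun g _ => (mem_map_iff_mem L.subtype_injective).1 (h2 g.2)

theorem inf_eq : centralizer L ⊓ L = M := le_antisymm (fun z hz => (h.ker ⟨z, hz.2⟩).1
  (eq_one_of_comm fun g => by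
    obtain ⟨g, rfl⟩ := h.surj g
    rw [← map_mul, ← map_mul]
    exact congrArg π (Subtype.ext (hz.1 g g.2).symm))) (le_inf h.cent h.lm.le)

theorem relR : (centralizer (L : Set G)).relIndex L = Nat.card S := by
  rw [← inf_relIndex_right, h.inf_eq, h.rel]

theorem dvdR : Nat.card S * Nat.card (centralizer (L : Set G)) ∣ Nat.card G := by
  have := h.lm.nL
  rw [← (centralizer (L : Set G)).index_mul_card, ← h.relR]
  exact mul_dvd_mul_right (relIndex_dvd_index_of_normal _ _) _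

theorem mem_cent {w : G} {r : ℕ} (hr : r.Prime) (hw : w ^ r = 1)
    (h0 : Nat.card (Sylow p S) * (p - 1) % r ≠ 0)
    (h1 : ∀ n, n ∣ Nat.card S → n % p = 1 → n ≤ Nat.card (Sylow p S) →
      n * (p - 1) % r = Nat.card (Sylow p S) * (p - 1) % r → n = Nat.card (Sylow p S)) :
    w ∈ centralizer (L : Set G) := by
  have := h.lm.nL
  have hp0 : 0 < p - 1 := Nat.sub_pos_of_lt hp.out.one_lt
  have a1 : {g | g ∈ L ∧ orderOf g = p}.ncard = Nat.card (Sylow p S) * (p - 1) := by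
    rw [← mo_sub, mo_surj π h.surj (fun _ => h.center) (h.card_ker ▸ h.lm.cop),
      mo_syl h.nsqS (h.lm.dvd h.ctx)]
  have a2 := ncard_modEq_conj hr hw (S := {g | g ∈ L ∧ orderOf g = p}) fun g hg =>
    ⟨this.conj_mem g hg.1 w, (Nse.orderOf_conj' w g).trans hg.2⟩
  set H : Subgroup G := L ⊓ centralizer {w}
  have a3 : {g | g ∈ {g | g ∈ L ∧ orderOf g = p} ∧ Commute w g} = {g | g ∈ H ∧ orderOf g = p} :=
    Set.ext fun g => ⟨fun e => ⟨⟨e.1.1, mem_centralizer_singleton_iff.2 e.2.symm⟩, e.1.2⟩,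
      fun e => ⟨⟨e.1.1, e.2⟩, (mem_centralizer_singleton_iff.1 e.1.2).symm⟩⟩
  rw [a1, a3] at a2
  have a4 : {g | g ∈ H ∧ orderOf g = p} ⊆ {g | g ∈ L ∧ orderOf g = p} := fun g e => ⟨e.1.1, e.2⟩
  let f := (π.comp (inclusion (inf_le_left : H ≤ L))).rangeRestrict
  have a5 : ∀ z, f z = 1 → π (inclusion (inf_le_left : H ≤ L) z) = 1 := fun z hz =>
    congrArg Subtype.val hz
  have a6 : {g | g ∈ H ∧ orderOf g = p}.ncard =
      mo (π.comp (inclusion (inf_le_left : H ≤ L))).range p := by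
    rw [← mo_sub]
    refine mo_surj f (MonoidHom.rangeRestrict_surjective _) (fun z hz => mem_center_iff.2 fun g =>
      Subtype.ext (h.cent ((h.ker _).1 (a5 z hz)) g g.2.1)) fun e => h.lm.cop (e.trans ?_)
    rw [← card_map_of_injective H.subtype_injective]
    refine card_dvd_of_le ?_
    rintro _ ⟨z, hz, rfl⟩
    exact (h.ker _).1 (a5 z hz)
  generalize (π.comp (inclusion (inf_le_left : H ≤ L))).range = T at a6
  have a7 : p ∣ Nat.card T := by
    by_contra e
    rw [a6, mo_eq_zero fun g (hg : orderOf g = p) => e (hg ▸ orderOf_dvd_natCard g)] at a2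
    exact h0 a2
  rw [mo_syl (fun e => h.nsqS (e.trans (card_subgroup_dvd_card T))) a7] at a6
  obtain ⟨P⟩ : Nonempty (Sylow p T) := inferInstance
  have a8 := Set.ncard_le_ncard a4
  rw [a1, a6] at a8
  rw [a6] at a2
  rw [h1 _ (P.card_dvd_index.trans ((index_dvd_card _).trans (card_subgroup_dvd_card T)))
    (Eq.trans (card_sylow_modEq_one p T) (Nat.mod_eq_of_lt hp.out.one_lt))
    (Nat.le_of_mul_le_mul_right a8 hp0) a2.symm, ← a1] at a6
  have a9 := Set.eq_of_subset_of_ncard_le a4 a6.ge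
  have a10 : L ≤ (centralizer {w}).normalCore := h.lm.min _ inferInstance
    (h.ctx.ord ▸ orderOf_dvd_natCard _ fun g => (a9.ge ⟨this.conj_mem x h.lm.mem g,
      (Nse.orderOf_conj' g x).trans h.ctx.ord⟩).1.2)
  exact fun l hl => mem_centralizer_singleton_iff.1 (normalCore_le _ (a10 hl))

end St

end Cfsg.Agent.H4.MwG
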