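import Cfsg.Agent.H4.MwG1
import Cfsg.Agent.H5.MtO
import Cfsg.Agent.H5.MtL

/-!
# Groups with the order and the degree graph of a Mathieu group, reduction to simple groups
-/

set_option autoImplicit false
set_option linter.unusedSectionVars false

namespace Cfsg.Agent.H4.MwG

open Cfsg Cfsg.Agent.H3 Finset Subgroup Cfsg.Agent.H2.D1 Cfsg.Agent.H4.Nse
open Cfsg.Agent.H9.FT (irr deg Ker dot)

universe u

/-- The orders of the simple groups whose order divides that of `M₂₂`. -/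
def O11 : Prop := ∀ (S : Type u) [Group S] [Finite S] [NS S], Nat.card S ∣ 443520 →
  11 ∣ Nat.card S → Nat.card S = 660 ∨ Nat.card (Sylow 11 S) = 144 ∨ Nat.card S = 443520

/-- The orders of the simple groups whose order divides that of `M₂₄`. -/
def O23 : Prop := ∀ (S : Type u) [Group S] [Finite S] [NS S], Nat.card S ∣ 244823040 →
  23 ∣ Nat.card S → Nat.card S ∈ [6072, 45540, 3497472, 10200960, 244823040]

variable {G : Type u} [Group G] [Finite G]

instance fact11 : Fact (Nat.Prime 11) := ⟨by norm_num⟩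

instance fact23 : Fact (Nat.Prime 23) := ⟨by norm_num⟩

instance fact7 : Fact (Nat.Prime 7) := ⟨by norm_num⟩

theorem hasDeg_of_dvd {m n : ℕ} (h : HasDeg G n) (e : m ∣ n) : HasDeg G m :=
  let ⟨χ, hχ⟩ := h
  ⟨χ, e.trans hχ⟩

theorem pp {p n : ℕ} (h : ∀ q ∈ [2, 3, 5, 7, 11, 23], ¬ q ^ 11 ∣ n ∧ ∀ k < 11, q ^ k ∣ n →
    k = 0 ∨ q ^ k % p ≠ 1) (hn : n ∣ 244823040) : ∀ d, IsPrimePow d → d ∣ n → d % p ≠ 1 := by
  intro d hd e
  obtain ⟨q, k, hq, hk, rfl⟩ := (isPrimePow_nat_iff _).1 hd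
  have h1 : q ∈ Nat.primeFactors 244823040 :=
    Nat.mem_primeFactors.2 ⟨hq, (dvd_pow_self q hk.ne').trans (e.trans hn), by norm_num⟩
  rw [show Nat.primeFactors 244823040 = {2, 3, 5, 7, 11, 23} by decide +kernel] at h1
  obtain ⟨h2, h3⟩ := h q (by simpa using h1)
  exact (h3 k (not_le.1 fun e' => h2 ((pow_dvd_pow q e').trans e)) e).resolve_left hk.ne'

theorem exists_ctx {p n : ℕ} [Fact p.Prime] (hn : Nat.card G = n)
    (h : p ≠ 2 ∧ p ∣ n ∧ ¬ p ^ 2 ∣ n) : ∃ x : G, Ctx p x := by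
  obtain ⟨x, hx⟩ := exists_prime_orderOf_dvd_card' (G := G) p (hn ▸ h.2.1)
  exact ⟨x, h.1, hx, hn ▸ h.2.2⟩

theorem ns_of_equiv {S : Type*} [Group S] [NS S] (e : G ≃* S) : NS G := by
  have := e.isSimpleGroup
  obtain ⟨a, b, hab⟩ := NS.nc (G := S)
  exact ⟨e.symm a, e.symm b, fun h => hab (e.symm.injective (by rwa [map_mul, map_mul]))⟩

namespace St

variable {x : G} {L M : Subgroup G} {S : Type u} [Group S] [Finite S] [NS S] {π : L →* S}

theorem eleven (h : St 11 x L M S π) (h1 : Nat.card (Sylow 11 S) = 144) :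
    ∃ k, Nat.card S = 1584 * k := by
  obtain ⟨P⟩ : Nonempty (Sylow 11 S) := inferInstance
  exact Nat.Coprime.mul_dvd_of_dvd_of_dvd (m := 144) (n := 11) (by norm_num)
    (h1 ▸ P.card_dvd_index.trans (index_dvd_card _)) (h.lm.dvd h.ctx)

theorem m11 (h : St 11 x L M S π) (h1 : Nat.card (Sylow 11 S) = 144) (h2 : Nat.card S ∣ 7920) :
    Nat.card S = 7920 ∧ M11R.Hyp S ∧ ∀ d ∈ charDegrees S, ¬ 33 ∣ d := by
  obtain ⟨k, hk⟩ := h.eleven h1
  have h0 := Nat.card_pos (α := S)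
  obtain ⟨y, hy⟩ := exists_prime_orderOf_dvd_card' (G := S) 11 (h.lm.dvd h.ctx)
  have h3 : H5.MT.Red y := ⟨h2.trans (by norm_num), hy,
    fun N hN e => hN.eq_bot_or_eq_top.resolve_left e ▸ mem_top y, by omega⟩
  obtain ⟨h4, h5⟩ := h3.main (by omega)
  have h6 := h5.resolve_right fun e => by rw [e] at h2; omega
  exact ⟨h6, h4.hyp11 h6⟩

end St

theorem g11 (o11 : O11.{u}) (hn : Nat.card G = 7920) (h55 : HasDeg G 55) :
    Nonempty (G ≃* Spor.M11) := by
  obtain ⟨x, hx⟩ := exists_ctx (p := 11) hn (by norm_num)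
  obtain ⟨L, M, S, _, _, _, π, h⟩ := exists_st hx (hasDeg_of_dvd h55 (by norm_num))
    (hn ▸ pp (by decide +kernel) (by norm_num))
  have h1 : Nat.card S ∣ 7920 := hn ▸ (Dvd.intro_left _ rfl).trans h.lm.card_dvd
  rcases o11 S (h1.trans (by norm_num)) (h.lm.dvd hx) with e | e | e
  · have := h.sq_le Nat.prime_five (by norm_num) (by rw [hn]; norm_num) (by rw [e]; norm_num) h55
    omega
  · obtain ⟨h2, h3, -⟩ := h.m11 e h1
    obtain ⟨α⟩ := h.lm.ns_of_card (h2.trans hn.symm)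
    obtain ⟨β⟩ := h3.nonempty_mulEquiv M11R.hyp_M11
    exact ⟨α.trans β⟩
  · rw [e] at h1
    omega

theorem g22 (o11 : O11.{u}) (hn : Nat.card G = 443520) (h55 : HasDeg G 55) (h77 : HasDeg G 7)
    (h33 : HasDeg G 33) : NS G := by
  obtain ⟨x, hx⟩ := exists_ctx (p := 11) hn (by norm_num)
  obtain ⟨w, hw⟩ := exists_ctx (p := 7) hn (by norm_num)
  obtain ⟨L, M, S, _, _, _, π, h⟩ := exists_st hx (hasDeg_of_dvd h55 (by norm_num))
    (hn ▸ pp (by decide +kernel) (by norm_num))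
  have h1 : Nat.card S ∣ 443520 := hn ▸ (Dvd.intro_left _ rfl).trans h.lm.card_dvd
  rcases o11 S h1 (h.lm.dvd hx) with e | e | e
  · have := h.sq_le Nat.prime_five (by norm_num) (by rw [hn]; norm_num) (by rw [e]; norm_num) h55
    omega
  swap
  · obtain ⟨α⟩ := h.lm.ns_of_card (e.trans hn.symm)
    exact ns_of_equiv α
  exfalso
  have := h.lm.nL
  have h2 := h.mem_cent (r := 7) (by norm_num) hw.pow_p (by rw [e]; norm_num) fun n a1 a2 a3 a4 => by
    rw [e] at a3 a4 ⊢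
    exact (by decide +kernel : ∀ n ≤ 144, n % 11 = 1 → n * (11 - 1) % 7 = 144 * (11 - 1) % 7 →
      n ∣ 443520 → n = 144) n a3 a2 a4 (a1.trans h1)
  have h3 : M ≤ centralizer {w} := fun m hm =>
    mem_centralizer_singleton_iff.2 (h2 m (h.lm.le hm))
  have h4 : ¬ 7 ∣ Nat.card M := fun e' => by
    obtain ⟨n, a1, -, a2⟩ := syl_in hw h77 h.lm.nM (hw.mem_of_normal h.lm.nM e')
    rw [inf_eq_left.2 h3] at a2
    exact a1 (Nat.dvd_one.1 (Nat.dvd_of_mul_dvd_mul_right Nat.card_pos (by rwa [one_mul])))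
  obtain ⟨n, a1, a2, a3⟩ := syl_in hw h77 inferInstance h2
  have a4 : Nat.card M * 7 ∣ Nat.card (centralizer (L : Set G) ⊓ centralizer {w} : Subgroup G) :=
    ((Nat.Prime.coprime_iff_not_dvd (by norm_num)).2 h4).symm.mul_dvd_of_dvd_of_dvd
      (card_dvd_of_le (le_inf h.cent h3))
      (hw.ord ▸ orderOf_dvd_natCard _ ⟨h2, mem_centralizer_singleton_iff.2 rfl⟩)
  have a5 := (mul_dvd_mul_left n a4).trans a3
  have a6 := hn ▸ h.dvdR
  obtain ⟨k, hk⟩ := h.eleven e
  have a7 : n * (Nat.card M * k) ∣ 40 := Nat.dvd_of_mul_dvd_mul_left (k := 11088) (by norm_num)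
    (Dvd.dvd.trans (Eq.dvd (by rw [hk]; ring)) ((mul_dvd_mul_left _ a5).trans a6))
  obtain rfl : n = 8 := by
    have b1 := (Dvd.intro _ rfl).trans a7
    have := Nat.le_of_dvd (by norm_num) b1
    interval_cases n <;> omega
  have a8 : Nat.card M * k ∣ 5 := Nat.dvd_of_mul_dvd_mul_left (k := 8) (by norm_num) a7
  obtain ⟨b1, -, b2⟩ := h.m11 e
    (hk ▸ mul_dvd_mul_left 1584 ((Dvd.intro_left _ rfl).trans a8))
  obtain rfl : k = 5 := by omega
  have b3 : Nat.card M = 1 := by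
    have := Nat.le_of_dvd (by norm_num) a8
    have := Nat.card_pos (α := M)
    omega
  have b4 : Nat.card (centralizer (L : Set G)) = 56 := by
    rw [b1] at a6
    rw [b3] at a5
    exact Nat.dvd_antisymm (Nat.dvd_of_mul_dvd_mul_left (k := 7920) (by norm_num) a6) a5
  have b5 : Nat.card L = 7920 := by rw [← h.lm.card, b1, b3]
  obtain ⟨γ⟩ := H7.nonempty_mulEquiv_prod (X := ⊤) (M := L) (Z := centralizer (L : Set G))
    (fun l hl z hz => hz l hl) (eq_top_of_card_eq _ (by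
      rw [← relIndex_mul_card (le_sup_right : centralizer (L : Set G) ≤ L ⊔ _), relIndex_sup_right,
        h.relR, b1, b4, hn])) (by rw [b4, b5, card_top, hn])
  obtain ⟨χ, hχ⟩ := h33
  let δ := γ.symm.trans topEquiv
  obtain ⟨a, c1, b, c2, c3⟩ := deg_prod (H6.charDegrees_subset δ.toMonoidHom δ.surjective
    (H6.mem_charDegrees.2 ⟨_, χ.2, dg_eq χ⟩))
  let ε := (MulEquiv.ofBijective π (h.surj.bijective_of_nat_card_le (by omega))).symm
  refine b2 a (H6.charDegrees_subset ε.toMonoidHom ε.surjective c1)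
    (Nat.Coprime.dvd_of_dvd_mul_right (Nat.Coprime.coprime_dvd_right
      (b4 ▸ H6.dvd_card_of_mem_charDegrees c2) (by norm_num)) (c3 ▸ hχ))

theorem g23 (o23 : O23.{u}) (hn : Nat.card G = 10200960) (h253 : HasDeg G 253) : NS G := by
  obtain ⟨x, hx⟩ := exists_ctx (p := 23) hn (by norm_num)
  obtain ⟨L, M, S, _, _, _, π, h⟩ := exists_st hx (hasDeg_of_dvd h253 (by norm_num))
    (hn ▸ pp (by decide +kernel) (by norm_num))
  have h1 : Nat.card S ∣ 10200960 := hn ▸ (Dvd.intro_left _ rfl).trans h.lm.card_dvd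
  have h2 := h.sq_le (r := 11) (by norm_num) (by norm_num) (by rw [hn]; norm_num)
  have h3 := o23 S (h1.trans (by norm_num)) (h.lm.dvd hx)
  simp only [List.mem_cons, List.not_mem_nil, or_false] at h3
  obtain ⟨α⟩ := h.lm.ns_of_card (show Nat.card S = Nat.card G by
    rcases h3 with e | e | e | e | e <;> rw [e] at h1 h2 ⊢
    · exact absurd (h2 (by norm_num) h253) (by norm_num)
    · exact absurd (h2 (by norm_num) h253) (by norm_num)
    · omega
    · exact hn.symm
    · omega)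
  exact ns_of_equiv α

theorem g24 (o23 : O23.{u}) (hn : Nat.card G = 244823040) (h253 : HasDeg G 253)
    (h161 : HasDeg G 161)
    (b23 : ∀ (S : Type u) [Group S] [Finite S] [NS S], Nat.card S = 10200960 →
      Nonempty (S ≃* Spor.M23))
    (x161 : ∀ (L : Type u) [Group L] [Finite L] (π : L →* Spor.M23), Function.Surjective π →
      π.ker ≤ center L → Nat.card π.ker ∣ 24 → commutator L = ⊤ →
      ∀ d ∈ charDegrees L, ¬ 161 ∣ d) : NS G := by
  obtain ⟨x, hx⟩ := exists_ctx (p := 23) hn (by norm_num)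
  obtain ⟨L, M, S, _, _, _, π, h⟩ := exists_st hx (hasDeg_of_dvd h253 (by norm_num))
    (hn ▸ pp (by decide +kernel) (by norm_num))
  have h0 := hn ▸ h.lm.card_dvd
  have h1 : Nat.card S ∣ 244823040 := (Dvd.intro_left _ rfl).trans h0
  have h2 := h.sq_le (r := 11) (by norm_num) (by norm_num) (by rw [hn]; norm_num)
  have h3 := o23 S h1 (h.lm.dvd hx)
  simp only [List.mem_cons, List.not_mem_nil, or_false] at h3
  rcases h3 with e | e | e | e | e
  · rw [e] at h2
    exact absurd (h2 (by norm_num) h253) (by norm_num)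
  · rw [e] at h2
    exact absurd (h2 (by norm_num) h253) (by norm_num)
  · exfalso
    have := h.lm.nL
    obtain ⟨w, hw⟩ := exists_ctx (p := 7) hn (by norm_num)
    have key : ∀ n, n ∣ 3497472 → n % 23 = 1 → n = 1 ∨ n = 24 ∨ n = 576 ∨ n = 13824 :=
      fun n a1 a2 => by
        have a3 : n ∣ 2 ^ 9 * (3 ^ 3 * 11) := Nat.Coprime.dvd_of_dvd_mul_right
          ((Nat.Prime.coprime_iff_not_dvd fact23.out).2 (by omega)).symm a1
        obtain ⟨a, b, a4, a5, rfl⟩ := (Nat.dvd_mul).1 a3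
        obtain ⟨i, hi, rfl⟩ := (Nat.dvd_prime_pow Nat.prime_two).1 a4
        simpa using (by decide +kernel : ∀ i ∈ range 10, ∀ b ∈ Nat.divisors (3 ^ 3 * 11),
          2 ^ i * b % 23 = 1 → 2 ^ i * b ∈ ({1, 24, 576, 13824} : Finset ℕ)) i
          (Finset.mem_range.2 (by omega)) b (Nat.mem_divisors.2 ⟨a5, by norm_num⟩) a2
    obtain ⟨P⟩ : Nonempty (Sylow 23 S) := inferInstance
    have a1 := key _ (e ▸ P.card_dvd_index.trans (index_dvd_card _)) (card_sylow_modEq_one 23 S)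
    have a2 := h.mem_cent (r := 7) (by norm_num) hw.pow_p (by omega) fun n b1 b2 _ b4 => by
      have := key n (e ▸ b1) b2
      omega
    obtain ⟨n, a3, a4, a5⟩ := syl_in hw (hasDeg_of_dvd h161 (by norm_num)) inferInstance a2
    have a6 := hn ▸ h.dvdR
    rw [e] at a6
    have a7 : n * 7 ∣ 70 := ((mul_dvd_mul_left n (hw.ord ▸ orderOf_dvd_natCard _
      ⟨a2, mem_centralizer_singleton_iff.2 rfl⟩)).trans a5).trans
      (Nat.dvd_of_mul_dvd_mul_left (k := 3497472) (by norm_num) a6)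
    have := Nat.le_of_dvd (by norm_num) a7
    have : n ≤ 10 := by omega
    interval_cases n <;> omega
  · exfalso
    obtain ⟨α⟩ := b23 S e
    obtain ⟨ψ, a1, a2⟩ := h.under (r := 7) (by norm_num) (by norm_num) (by rw [hn]; norm_num)
      (by rw [e]; norm_num) h161
    have a3 : (α.toMonoidHom.comp π).ker = π.ker := by ext; simp
    rw [e] at h0
    exact x161 L (α.toMonoidHom.comp π) (α.surjective.comp h.surj) (a3 ▸ fun _ => h.center)
      (by rw [a3, h.card_ker]; exact Nat.dvd_of_mul_dvd_mul_right (k := 10200960) (by norm_num) h0)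
      h.perfect _ (mem_of_irr a1) a2
  · obtain ⟨α⟩ := h.lm.ns_of_card (e.trans hn.symm)
    exact ns_of_equiv α

end Cfsg.Agent.H4.MwG
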