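import Cfsg.Agent.H4.MwG2
import Cfsg.Agent.H4.EdC
import Cfsg.Agent.H9.MaCnt
import Cfsg.Agent.H2.D1Non5

/-!
# Groups with the order and the degree graph of a Mathieu group, assembly
-/

set_option autoImplicit false

namespace Cfsg.Agent.H4.MwG

open Cfsg Subgroup Cfsg.Agent.H2.D1 Cfsg.Spor

universe u

/-- The edges of the degree graph of `M` are edges of the degree graph of `G`. -/
def Edges (G M : Type*) [Group G] [Group M] : Prop :=
  ∀ p r d : ℕ, p.Prime → r.Prime → p ≠ r → d ∈ charDegrees M → p * r ∣ d → HasDeg G (p * r)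

theorem final (o11 : O11.{u}) (o23 : O23.{u})
    (b22 : ∀ (S : Type u) [Group S] [Finite S] [NS S], Nat.card S = 443520 → Edges S M22 →
      Nonempty (S ≃* M22))
    (b23 : ∀ (S : Type u) [Group S] [Finite S] [NS S], Nat.card S = 10200960 →
      Nonempty (S ≃* M23))
    (b24 : ∀ (S : Type u) [Group S] [Finite S] [NS S], Nat.card S = 244823040 → Edges S M24 →
      Nonempty (S ≃* M24))
    (x161 : ∀ (L : Type u) [Group L] [Finite L] (π : L →* M23), Function.Surjective π →
      π.ker ≤ center L → Nat.card π.ker ∣ 24 → commutator L = ⊤ →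
      ∀ d ∈ charDegrees L, ¬ 161 ∣ d)
    {M : Type*} [Group M] [Finite M] (hM : IsoM11 M ∨ IsoM22 M ∨ IsoM23 M ∨ IsoM24 M)
    {G : Type u} [Group G] [Finite G] (hcard : Nat.card G = Nat.card M)
    (hΔ : degreeGraph G = degreeGraph M) : Nonempty (G ≃* M) := by
  have key : Edges G M := fun p r d hp hr h1 h2 h3 => hasDeg_iff_mem.1
    (hΔ ▸ (⟨h1, hp, hr, d, h2, h3⟩ : (degreeGraph M).Adj p r) : (degreeGraph G).Adj p r).2.2.2
  have tr : ∀ {X : Type} [Group X] (e : M ≃* X), Edges G X := fun e p r d hp hr h1 h2 =>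
    key p r d hp hr h1 (H6.charDegrees_subset e.toMonoidHom e.surjective h2)
  rcases hM with h | h | h | h
  · obtain ⟨e⟩ := id h
    obtain ⟨α⟩ := g11 o11 (hcard.trans ((Nat.card_congr e.toEquiv).trans Golay.card_M11))
      (key 5 11 _ (by norm_num) (by norm_num) (by norm_num) (Ed.deg11 h).2.1 (by norm_num))
    exact ⟨α.trans e.symm⟩
  · obtain ⟨e⟩ := id h
    have hn := hcard.trans ((Nat.card_congr e.toEquiv).trans Ma.Md.card_M22)
    have := g22 o11 hn
      (key 5 11 _ (by norm_num) (by norm_num) (by norm_num) (Ed.deg22 h).2.1 (by norm_num))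
      (hasDeg_of_dvd (key 7 11 _ (by norm_num) (by norm_num) (by norm_num) (Ed.deg22 h).2.2.1
        (by norm_num)) (by norm_num))
      (key 3 11 _ (by norm_num) (by norm_num) (by norm_num) (Ed.deg22 h).2.2.2.2 (by norm_num))
    obtain ⟨α⟩ := b22 G hn (tr e)
    exact ⟨α.trans e.symm⟩
  · obtain ⟨e⟩ := id h
    have hn := hcard.trans ((Nat.card_congr e.toEquiv).trans Ma.Md.card_M23)
    have := g23 o23 hn
      (key 11 23 _ (by norm_num) (by norm_num) (by norm_num) (Ed.deg23 h).2.2.2 (by norm_num))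
    obtain ⟨α⟩ := b23 G hn
    exact ⟨α.trans e.symm⟩
  · obtain ⟨e⟩ := id h
    have hn := hcard.trans ((Nat.card_congr e.toEquiv).trans Ma.Md.card_M24)
    have := g24 o23 hn
      (key 11 23 _ (by norm_num) (by norm_num) (by norm_num) (Ed.deg24 h).2.2.1 (by norm_num))
      (key 7 23 _ (by norm_num) (by norm_num) (by norm_num) (Ed.deg24 h).2.2.2 (by norm_num))
      b23 x161
    obtain ⟨α⟩ := b24 G hn (tr e)
    exact ⟨α.trans e.symm⟩

end Cfsg.Agent.H4.MwG
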