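import Cfsg.Agent.H4.Nse3

/-!
# A verified search for the numbers of elements of given order

The search uses the theorem of Frobenius and the divisibility by the totient only.
-/

set_option autoImplicit false
set_option linter.unusedSectionVars false

namespace Cfsg.Agent.H4.Nse

/-- The divisors of `d`, in increasing order. -/
def dvs (d : ℕ) : List ℕ := (List.range' 1 d).filter fun e => d % e == 0

/-- The totient. -/
def phi (d : ℕ) : ℕ := ((List.range d).filter fun k => Nat.gcd d k == 1).length

theorem phi_eq (d : ℕ) : phi d = d.totient := by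
  rw [phi, Nat.totient, ← List.toFinset_card_of_nodup (List.nodup_range.filter _)]
  congr 1
  ext k
  simp [Nat.Coprime]

/-- Admissibility of the value `v` at `d`, given the values `sub` at the proper divisors. -/
def okv (B d tot : ℕ) (sub : List (ℕ × ℕ)) (v : ℕ) : Bool :=
  ((sub.map Prod.snd).sum + v) % d == 0 && tot + v ≤ B &&
    if v = 0 then 2 ≤ sub.length else
      sub.all (fun p => p.2 != 0) && (d != 1 || v == 1) && v % phi d == 0

/-- All admissible completions of the partial assignment `acc`. -/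
def go (S : List ℕ) (B : ℕ) : List ℕ → List (ℕ × ℕ) → ℕ → List (List (ℕ × ℕ))
  | [], acc, _ => [acc]
  | d :: ds, acc, tot =>
    ((0 :: S).filter (okv B d tot (acc.filter fun p => d % p.1 == 0))).flatMap fun v =>
      go S B ds ((d, v) :: acc) (tot + v)

variable {G : Type*} [Group G] [Finite G]

theorem totient_dvd_mo (n : ℕ) : n.totient ∣ mo G n := H3.totient_dvd_card_orderOf n

theorem sum_list_le {l : List ℕ} (hl : l.Nodup) : (l.map (mo G)).sum ≤ Nat.card G := by
  rw [← List.sum_toFinset _ hl]
  exact sum_le _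

theorem mem_go {S : List ℕ} (hS : ∀ n, mo G n ∈ 0 :: S) {B : ℕ} :
    ∀ (ds pre : List ℕ), (pre.reverse ++ ds).Pairwise (· < ·) →
      (∀ d ∈ ds, d ∣ Nat.card G ∧ ∀ e, e ∣ d → e ∈ pre.reverse ++ ds) →
      ((pre.reverse ++ ds).map (mo G)).sum ≤ B →
      (ds.reverse ++ pre).map (fun d => (d, mo G d)) ∈
        go S B ds (pre.map fun d => (d, mo G d)) (pre.map (mo G)).sum
  | [], pre, _, _, _ => by simp [go]
  | d :: ds, pre, hs, hd, hB => by
    rw [go, List.mem_flatMap]
    have hd0 : d ≠ 0 := ne_zero_of_dvd_ne_zero Nat.card_pos.ne' (hd d List.mem_cons_self).1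
    have hlt : ∀ e ∈ pre, e < d := fun e he =>
      (List.pairwise_append.mp hs).2.2 e (List.mem_reverse.mpr he) d List.mem_cons_self
    have hpn : pre.Nodup := List.nodup_reverse.mp ((List.pairwise_append.mp hs).1.imp ne_of_lt)
    have hsub : (pre.filter fun e => d % e == 0).toFinset = d.properDivisors := by
      ext e
      simp only [List.toFinset_filter, Finset.mem_filter, List.mem_toFinset, beq_iff_eq,
        Nat.mem_properDivisors]
      refine ⟨fun h => ⟨Nat.dvd_of_mod_eq_zero h.2, hlt e h.1⟩, fun h => ⟨?_, Nat.mod_eq_zero_of_dvd h.1⟩⟩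
      rcases List.mem_append.mp ((hd d List.mem_cons_self).2 e h.1) with h1 | h1
      · exact List.mem_reverse.mp h1
      · rcases List.mem_cons.mp h1 with h1 | h1
        · exact absurd h.2 (by omega)
        · have := (List.pairwise_cons.mp (List.pairwise_append.mp hs).2.1).1 e h1
          exact absurd h.2 (by omega)
    have hfil : ((pre.map fun d => (d, mo G d)).filter fun p => d % p.1 == 0) =
        (pre.filter fun e => d % e == 0).map fun d => (d, mo G d) := by
      rw [List.filter_map]
      rfl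
    refine ⟨mo G d, List.mem_filter.mpr ⟨hS d, ?_⟩, ?_⟩
    · rw [hfil, okv, List.map_map, List.length_map]
      have h1 : ((pre.filter fun e => d % e == 0).map (Prod.snd ∘ fun d => (d, mo G d))).sum =
          ∑ e ∈ d.properDivisors, mo G e := by
        rw [← hsub, List.sum_toFinset _ (hpn.filter _)]
        rfl
      have h2 := frob (hd d List.mem_cons_self).1
      rw [← Nat.cons_self_properDivisors hd0, Finset.sum_cons, add_comm] at h2
      have h3 : (pre.map (mo G)).sum + mo G d ≤ B := by
        simp only [List.map_append, List.map_reverse, List.map_cons, List.sum_append,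
          List.sum_reverse, List.sum_cons] at hB
        omega
      rw [h1, Nat.mod_eq_zero_of_dvd h2]
      simp only [BEq.rfl, h3, decide_true, Bool.and_self, Bool.true_and]
      split_ifs with h0
      · rw [← List.toFinset_card_of_nodup (hpn.filter _), hsub, decide_eq_true_eq]
        by_contra h4
        by_cases h5 : d = 1
        · rw [h5, mo_one] at h0
          exact one_ne_zero h0
        have h6 : d.Prime := by
          rw [Nat.prime_def_lt]
          refine ⟨by omega, fun m hm hmd => ?_⟩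
          exact Finset.card_le_one.mp (by omega) m (Nat.mem_properDivisors.mpr ⟨hmd, hm⟩) 1
            (Nat.one_mem_properDivisors_iff_one_lt.mpr (by omega))
        exact (mo_pos_prime h6 (hd d List.mem_cons_self).1).ne' h0
      · simp only [List.all_map, Bool.and_eq_true, List.all_eq_true, List.mem_filter, beq_iff_eq,
          Function.comp_apply, bne_iff_ne, ne_eq, Bool.or_eq_true, and_imp]
        refine ⟨⟨fun e _ he => (mo_pos_of_dvd' (Nat.pos_of_ne_zero h0)
          (Nat.dvd_of_mod_eq_zero he)).ne', ?_⟩, ?_⟩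
        · by_cases h5 : d = 1
          · rw [h5, mo_one]
            exact Or.inr rfl
          · exact Or.inl h5
        · rw [phi_eq]
          exact Nat.mod_eq_zero_of_dvd (totient_dvd_mo d)
    · have := mem_go hS (B := B) ds (d :: pre) (by simpa using hs)
        (fun e he => by simpa using hd e (List.mem_cons_of_mem _ he)) (by simpa using hB)
      simpa [add_comm] using this

theorem mem_dvs {d e : ℕ} (hd : d ≠ 0) : e ∈ dvs d ↔ e ∣ d := by
  simp only [dvs, List.mem_filter, List.mem_range'_1, beq_iff_eq]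
  refine ⟨fun h => Nat.dvd_of_mod_eq_zero h.2, fun h => ⟨⟨?_, ?_⟩, Nat.mod_eq_zero_of_dvd h⟩⟩
  · exact Nat.pos_of_dvd_of_pos h (Nat.pos_of_ne_zero hd)
  · have := Nat.le_of_dvd (Nat.pos_of_ne_zero hd) h
    omega

theorem sorted_dvs (d : ℕ) : (dvs d).Pairwise (· < ·) :=
  (List.pairwise_lt_range' (s := 1) (n := d)).filter _

theorem mem_of_dvd_mul {L : List ℕ} {a b : ℕ} (ha : a ≠ 0) (hb : b ≠ 0)
    (hL : (dvs a).all (fun x => (dvs b).all fun y => L.contains (x * y)) = true) {e : ℕ}
    (he : e ∣ a * b) : e ∈ L := by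
  obtain ⟨x, y, hx, hy, rfl⟩ := exists_dvd_and_dvd_of_dvd_mul he
  simpa using List.all_eq_true.mp (List.all_eq_true.mp hL x ((mem_dvs ha).mpr hx)) y
    ((mem_dvs hb).mpr hy)

/-- No admissible assignment on the divisors of `d`. -/
theorem not_dvd_of_go {S : List ℕ} (hS : ∀ n, mo G n ∈ 0 :: S) {d : ℕ}
    (h : go S ((dvs d).length * S.sum) (dvs d) [] 0 = []) : ¬ d ∣ Nat.card G := by
  intro hd
  have hd0 : d ≠ 0 := ne_zero_of_dvd_ne_zero Nat.card_pos.ne' hd
  have := mem_go hS (B := (dvs d).length * S.sum) (dvs d) [] (by simpa using sorted_dvs d)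
    (fun e he => ⟨((mem_dvs hd0).mp he).trans hd, fun f hf => by
      simpa using (mem_dvs hd0).mpr (hf.trans ((mem_dvs hd0).mp he))⟩) (by
      have := List.sum_le_card_nsmul ((dvs d).map (mo G)) S.sum (by
        intro x hx
        obtain ⟨n, -, rfl⟩ := List.mem_map.mp hx
        rcases List.mem_cons.mp (hS n) with h1 | h1
        · omega
        · exact List.le_sum_of_mem h1)
      simpa using this)
  simp only [List.map_nil, List.sum_nil] at this
  rw [h] at this
  exact List.not_mem_nil this

/-- The complete solutions for the order `N`, a divisor of the number with divisors `L`. -/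
def sols (S L : List ℕ) (N : ℕ) : List (List (ℕ × ℕ)) :=
  ((go S N (L.filter fun e => N % e == 0) [] 0).filter fun s =>
    (s.map Prod.snd).sum == N && S.all fun c => s.any fun p => p.2 == c).map fun s =>
      s.filter fun p => p.2 != 0

theorem exists_mem_sols {S : List ℕ} (hS : ∀ n, mo G n ∈ 0 :: S) (hS' : ∀ c ∈ S, ∃ n, mo G n = c)
    (hS0 : 0 ∉ S) {D : List ℕ} (hD : D.Pairwise (· < ·)) (hd : ∀ e, e ∣ Nat.card G → e ∈ D) :
    ∃ s ∈ sols S D (Nat.card G), (∀ p ∈ s, mo G p.1 = p.2) ∧
      ∀ g : G, orderOf g ∈ s.map Prod.fst := by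
  set L := D.filter fun e => Nat.card G % e == 0 with hL
  have hs : L.Pairwise (· < ·) := hD.filter _
  have hn : L.Nodup := hs.imp ne_of_lt
  have hm : ∀ e, e ∈ L ↔ e ∣ Nat.card G := fun e => by
    simp only [hL, List.mem_filter, beq_iff_eq]
    exact ⟨fun h => Nat.dvd_of_mod_eq_zero h.2, fun h => ⟨hd e h, Nat.mod_eq_zero_of_dvd h⟩⟩
  have h1 := mem_go hS (B := Nat.card G) L [] (by simpa using hs)
    (fun e he => ⟨(hm e).mp he, fun f hf => by simpa using (hm f).mpr (hf.trans ((hm e).mp he))⟩)
    (by simpa using sum_list_le hn)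
  simp only [List.map_nil, List.sum_nil, List.append_nil] at h1
  refine ⟨_, List.mem_map.mpr ⟨_, List.mem_filter.mpr ⟨h1, ?_⟩, rfl⟩, fun p hp => ?_, fun g => ?_⟩
  · simp only [List.map_map, Bool.and_eq_true, beq_iff_eq, List.all_eq_true, List.any_eq_true]
    refine ⟨?_, fun c hc => ?_⟩
    · rw [List.map_reverse, List.sum_reverse, ← List.sum_toFinset _ hn]
      exact sum_eq fun g => List.mem_toFinset.mpr ((hm _).mpr (orderOf_dvd_natCard g))
    · obtain ⟨n, hn⟩ := hS' c hc
      refine ⟨(n, c), List.mem_map.mpr ⟨n, List.mem_reverse.mpr ((hm n).mpr (dvd_of_mo_pos ?_)),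
        by rw [hn]⟩, rfl⟩
      rw [hn]
      exact Nat.pos_of_ne_zero fun h => hS0 (h ▸ hc)
  · obtain ⟨n, -, rfl⟩ := List.mem_map.mp (List.mem_filter.mp hp).1
    rfl
  · refine List.mem_map.mpr ⟨(orderOf g, mo G (orderOf g)), List.mem_filter.mpr ⟨List.mem_map.mpr
      ⟨_, List.mem_reverse.mpr ((hm _).mpr (orderOf_dvd_natCard g)), rfl⟩, ?_⟩, rfl⟩
    simpa using (mo_pos g).ne'

/-- A bound for the order from bounds for the prime powers: `P` lists the exponents. -/
theorem card_dvd_of_go {S : List ℕ} (hS : ∀ n, mo G n ∈ 0 :: S) {M : ℕ} (P : List (ℕ × ℕ))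
    (hc : (List.range (S.sum + 2)).all (fun p => p < 2 || (List.range p).any (fun q => 2 ≤ q &&
      p % q == 0) || (M % p ^ (P.lookup p).getD 0 == 0 &&
        (go S ((dvs (p ^ ((P.lookup p).getD 0 + 1))).length * S.sum)
          (dvs (p ^ ((P.lookup p).getD 0 + 1))) [] 0).isEmpty)) = true) : Nat.card G ∣ M := by
  rw [Nat.dvd_iff_prime_pow_dvd_dvd]
  intro p k hp hk
  rcases k with _ | k
  · simp
  have h1 : p ∣ Nat.card G := (dvd_pow_self p k.succ_ne_zero).trans hk
  have h2 := frob h1
  rw [hp.sum_divisors, mo_one] at h2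
  have h3 : mo G p ≤ S.sum := by
    rcases List.mem_cons.mp (hS p) with h1 | h1
    · omega
    · exact List.le_sum_of_mem h1
  have h4 := Nat.le_of_dvd (by omega) h2
  have h5 := List.all_eq_true.mp hc p (List.mem_range.mpr (by omega))
  simp only [Bool.or_eq_true, decide_eq_true_eq, List.any_eq_true, List.mem_range, Bool.and_eq_true,
    beq_iff_eq] at h5
  rcases h5 with (h5 | ⟨q, hq, hq2, hq3⟩) | ⟨hj2, hj⟩
  · exact absurd hp.two_le (by omega)
  · rcases hp.eq_one_or_self_of_dvd q (Nat.dvd_of_mod_eq_zero hq3) with h | h <;> omega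
  · have h6 := not_dvd_of_go hS (List.isEmpty_iff.mp hj)
    refine (pow_dvd_pow p ?_).trans (Nat.dvd_of_mod_eq_zero hj2)
    by_contra h7
    exact h6 ((pow_dvd_pow p (by omega)).trans hk)

/-- The combined search: the order divides `a * b`, and there is a unique solution `s`. -/
theorem solve {S : List ℕ} (hS : ∀ n, mo G n ∈ 0 :: S) (hS' : ∀ c ∈ S, ∃ n, mo G n = c)
    (hS0 : 0 ∉ S) {a b : ℕ} (ha : a ≠ 0) (hb : b ≠ 0) (hd : Nat.card G ∣ a * b) {D : List ℕ}
    (hD : D.Pairwise (· < ·))
    (hL : (dvs a).all (fun x => (dvs b).all fun y => D.contains (x * y)) = true)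
    {N : ℕ} {s : List (ℕ × ℕ)}
    (h : D.all (fun n => (sols S D n).all fun t => n == N && t == s) = true) :
    Nat.card G = N ∧ (∀ p ∈ s, mo G p.1 = p.2) ∧ ∀ g : G, orderOf g ∈ s.map Prod.fst := by
  obtain ⟨t, ht, h1⟩ := exists_mem_sols hS hS' hS0 hD fun e he =>
    mem_of_dvd_mul ha hb hL (he.trans hd)
  have h2 := List.all_eq_true.mp (List.all_eq_true.mp h _ (mem_of_dvd_mul ha hb hL hd)) t ht
  simp only [Bool.and_eq_true, beq_iff_eq] at h2
  exact ⟨h2.1, h2.2 ▸ h1⟩

end Cfsg.Agent.H4.Nse
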