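import Cfsg.Agent.H2.D1Sound
import Cfsg.Agent.H3.DegZass
import Cfsg.Agent.H7.BG.Core

/-! Piece `J` of S3403: the character theoretic part. -/

set_option autoImplicit false

namespace Cfsg.Agent.H4.O11J

open Cfsg Cfsg.Agent.H3 Cfsg.Agent.H2.D1 Finset Subgroup
open scoped ComplexConjugate

variable {G : Type*} [Group G] [Finite G] {p : ℕ} [hp : Fact p.Prime] {x : G}

open Classical in
theorem card_pairs' [Fintype G] (h : Ctx p x) {t : G} (ht : t * t = 1) : ∃ I : ℕ,
    #({v | IsConj t v ∧ v * x * v⁻¹ = x⁻¹} : Finset G) = p * I ∧ ∀ u ∈ zpowers x, u ≠ 1 →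
      ∑ v with IsConj t v, ∑ w with IsConj t w, (if pPart p (v * w) = u then (1 : ℂ) else 0) =
        p * I ^ 2 := by
  set J : Finset G := {v | IsConj t v ∧ v * x * v⁻¹ = x⁻¹} with hJ
  have hs : ∀ u ∈ zpowers x, u ≠ 1 →
      ∑ v with IsConj t v, ∑ w with IsConj t w, (if pPart p (v * w) = u then (1 : ℂ) else 0) =
        ∑ v ∈ J, (#{w ∈ J | u⁻¹ * v * w ∈ h.K} : ℂ) := fun u hu h1 => by
    have sq : ∀ v, IsConj t v → v * v = 1 := fun v hv => by
      obtain ⟨c, rfl⟩ := isConj_iff.1 hv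
      rw [conj_mul, ht]; simp
    have iv : ∀ v g : G, v * g * v⁻¹ = g⁻¹ → pPart p g = u → v * x * v⁻¹ = x⁻¹ := fun v g e1 e2 => by
      obtain ⟨k, hk⟩ := h.mem_zp hu h1
      rw [← hk, ← e2, ← conj_zpow, ← pPart_conj, e1, pPart_inv, inv_zpow]
    have key : ∀ v w, IsConj t v → IsConj t w → (pPart p (v * w) = u ↔
        v * x * v⁻¹ = x⁻¹ ∧ w * x * w⁻¹ = x⁻¹ ∧ u⁻¹ * v * w ∈ h.K) := fun v w hv hw => by
      have e1 := inv_eq_of_mul_eq_one_right (sq v hv)
      have e2 := inv_eq_of_mul_eq_one_right (sq w hw)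
      refine ⟨fun e => ⟨iv v _ (by rw [← mul_assoc, sq v hv, mul_inv_rev, e2, one_mul]) e,
        iv w _ (by rw [mul_inv_rev, e1, e2, mul_assoc, mul_assoc, sq w hw, mul_one]) e, mul_assoc _ v w ▸ h.mem_K_of hu h1 e⟩,
        fun e => ?_⟩
      simpa [mul_assoc] using h.pPart_mul' hu e.2.2
    rw [hJ, ← filter_filter, sum_filter (fun v => v * x * v⁻¹ = x⁻¹)]
    refine sum_congr rfl fun v hv => ?_
    rw [sum_congr rfl fun w hw => if_congr (key v w (mem_filter.1 hv).2 (mem_filter.1 hw).2) rfl rfl]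
    split_ifs with e
    · simp only [e, true_and, sum_boole, filter_filter, and_assoc]
    · simp [e]
  rcases J.eq_empty_or_nonempty with e | ⟨g, hg⟩
  · exact ⟨0, by simp [e], fun u hu h1 => by rw [hs u hu h1, e]; simp⟩
  have hg' := (mem_filter.1 hg).2
  have hz : #({y | y ∈ zpowers x} : Finset G) = p := by
    rw [← Fintype.card_subtype, ← Nat.card_eq_fintype_card]; exact h.card_zp
  have hc : #J = p * #{w ∈ J | g * w ∈ h.K} := by
    rw [card_eq_sum_card_fiberwise (f := fun w => pPart p (g * w)) (t := {y | y ∈ zpowers x})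
      fun w hw => by simpa using h.pPart_mem_zp (Ctx.comm_of_inv hg'.2 (mem_filter.1 hw).2.2),
      sum_congr rfl (g := fun _ => #{w ∈ J | g * w ∈ h.K}) fun y hy => ?_, sum_const, smul_eq_mul,
      hz]
    have hy' : y ∈ zpowers x := by simpa using hy
    obtain ⟨k, hk⟩ := id hy'
    rw [← h.card_fib t hg'.2 (Ctx.inv_of_comm (c := y⁻¹) hg'.2
      (hk ▸ ((Commute.refl x).zpow_right k).inv_right))]
    congr 1
    refine filter_congr fun w hw => ?_
    rw [h.pPart_eq_iff (Ctx.comm_of_inv hg'.2 (mem_filter.1 hw).2.2) hy', mul_assoc]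
  refine ⟨#{w ∈ J | g * w ∈ h.K}, hc, fun u hu h1 => ?_⟩
  · obtain ⟨k, hk⟩ := id hu
    rw [hs u hu h1, sum_congr rfl (g := fun _ => (#{w ∈ J | g * w ∈ h.K} : ℂ)) fun v hv => by
      rw [h.card_fib t hg'.2 (Ctx.inv_of_comm (c := u⁻¹) (mem_filter.1 hv).2.2
        (hk ▸ ((Commute.refl x).zpow_right k).inv_right))], sum_const, hc]
    simp [sq, mul_assoc]

/-- Brauer's formula for the products of two involutions lying in the `p`-section. -/
theorem inv_formula' (h : Ctx p x) {t : G} (ht : t * t = 1) : ∃ I : ℕ,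
    {v | IsConj t v ∧ v * x * v⁻¹ = x⁻¹}.ncard = p * I ∧ ∀ u ∈ zpowers x, u ≠ 1 →
      (Nat.card G : ℂ) * Nat.card h.K * ∑ χ ∈ B0 p G, conj ((χ : G → ℂ) u) *
        ((χ : G → ℂ) t * (χ : G → ℂ) t / (χ : G → ℂ) 1) =
        p * (Nat.card (centralizer ({t} : Set G)) * I) ^ 2 := by
  classical
  have := Fintype.ofFinite G
  obtain ⟨I, h1, h3⟩ := card_pairs' h ht
  refine ⟨I, by rw [← h1, ← Set.ncard_coe_finset]; simp, fun u hu u1 => ?_⟩
  have n0 : (Nat.card G : ℂ) ≠ 0 := by exact_mod_cast Nat.card_pos.ne'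
  have p0 : (p : ℂ) ≠ 0 := by exact_mod_cast hp.out.ne_zero
  have e1 : ∀ g : G, ∑ c : G, (if pPart p (c * g * c⁻¹) = u then (p : ℂ) else 0) =
      (p * Nat.card h.K) * ∑ χ ∈ B0 p G, conj ((χ : G → ℂ) u) * (χ : G → ℂ) g := fun g => by
    simp only [pPart_conj]
    rw [h.theta hu u1, ← Nat.cast_mul, ← h.card_C, ← h.cent_eq hu u1, ← Equiv.sum_comp (Equiv.inv G)]
    simp only [Equiv.inv_apply, inv_inv]
    split_ifs with e
    · rw [← card_conj_fiber e, ← sum_filter, sum_const, nsmul_eq_mul]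
      congr 3
      ext c
      simp only [mem_filter, mem_univ, true_and]
      constructor <;> intro e' <;> [rw [← e']; rw [← e']] <;> group
    · rw [mul_zero]
      exact sum_eq_zero fun c _ => if_neg fun e' => e (isConj_iff.2 ⟨c, by rw [← e']; group⟩)
  have e2 : ∑ a : G, ∑ b : G, (if pPart p (a * t * a⁻¹ * (b * t * b⁻¹)) = u then (p : ℂ) else 0) =
      p * (p * (Nat.card (centralizer ({t} : Set G)) * I) ^ 2) := by
    rw [sum_conj_eq t fun v => ∑ b : G, if pPart p (v * (b * t * b⁻¹)) = u then (p : ℂ) else 0,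
      sum_congr rfl fun v _ => sum_conj_eq t fun w => if pPart p (v * w) = u then (p : ℂ) else 0]
    have := h3 u hu u1
    simp only [nsmul_eq_mul, ← mul_sum]
    rw [sum_congr rfl fun v _ => sum_congr rfl fun w _ =>
      (show (if pPart p (v * w) = u then (p : ℂ) else 0) = p * if pPart p (v * w) = u then 1 else 0
        by simp)]
    simp only [← mul_sum, this]
    ring
  have e3 : ∑ a : G, ∑ b : G, ∑ c : G,
      (if pPart p (c * (a * t * a⁻¹ * (b * t * b⁻¹)) * c⁻¹) = u then (p : ℂ) else 0) =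
      Nat.card G * (p * (p * (Nat.card (centralizer ({t} : Set G)) * I) ^ 2)) := by
    rw [sum_congr rfl fun a _ => sum_comm, sum_comm, Nat.card_eq_fintype_card, ← nsmul_eq_mul,
      ← card_univ, ← sum_const]
    refine sum_congr rfl fun c _ => ?_
    rw [← e2]
    refine Fintype.sum_equiv (Equiv.mulLeft c) _ _ fun a =>
      Fintype.sum_equiv (Equiv.mulLeft c) _ _ fun b => ?_
    simp only [Equiv.coe_mulLeft]
    exact if_congr (by rw [show c * (a * t * a⁻¹ * (b * t * b⁻¹)) * c⁻¹ =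
      c * a * t * (c * a)⁻¹ * (c * b * t * (c * b)⁻¹) by group]) rfl rfl
  simp only [e1, ← mul_sum] at e3
  rw [sum_congr rfl fun a _ => sum_comm, sum_comm] at e3
  simp only [← mul_sum] at e3
  rw [sum_congr rfl fun χ _ => by rw [sum_sum_conj_mul (Or.inl χ.2)]] at e3
  refine mul_left_cancel₀ (mul_ne_zero n0 p0) ?_
  rw [mul_assoc _ (p : ℂ) (p * _), ← e3]
  simp only [mul_sum]
  exact sum_congr rfl fun _ _ => by ring

end Cfsg.Agent.H4.O11J
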