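import Cfsg.Agent.H4.O8W162
import Cfsg.Agent.H1.T3Quot

/-!
# The centralizer of a vector of weight one
-/

set_option autoImplicit false
set_option maxRecDepth 100000
set_option synthInstance.maxSize 100000

namespace Cfsg.Agent.H4.O8

open Subgroup Cfsg.Agent.H3.L43 Cfsg.Agent.H1.T3 Cfsg.Agent.H9 Cfsg.Agent.H3.O8

variable {G : Type*} [Group G]

theorem w162_mod [Finite G] {L Z : Subgroup G} (hZL : Z ≤ L) (hn : L ≤ normalizer (Z : Set G))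
    {x0 x1 x2 τ w : G} (m0 : x0 ∈ L) (m1 : x1 ∈ L) (m2 : x2 ∈ L) (mτ : τ ∈ L) (mw : w ∈ L)
    (h0 : x0 ^ 3 = 1) (c01 : Commute x0 x1) (e0 : cj τ x0 = x1) (e1 : cj τ x1 = x2)
    (τ3 : τ ^ 3 = 1) (w2 : w * w = 1) (w0 : cj w x0 = x1) (wx2 : cj w x2 = x2) (wτ : cj w τ = τ⁻¹)
    (hC : ∀ g ∈ L, cj g (x0 * x1 * x2) * (x0 * x1 * x2)⁻¹ ∈ Z →
      g ∈ closure {x0, x1, x2, τ, w} ⊔ Z) (n1 : x0 * x1 * x2 ∉ Z)
    (nc : List.Pairwise (fun a b => ∀ g ∈ L, cj g b * a⁻¹ ∉ Z) [x0, x0 * x1⁻¹, x0 * x1 * x2, τ])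
    (sig : ∀ K m, Z ≤ K → K ≤ L → m.Coprime 3 → Nat.card K = Nat.card Z * m →
      x0 ∈ normalizer (K : Set G) → x1 ∈ normalizer (K : Set G) → x2 ∈ normalizer (K : Set G) →
      K ≤ Z) :
    ∀ g ∈ L, ∀ x ∈ closure {x0, x1, x2}, ∃ y ∈ closure {x0, x1, x2}, cj g x * y⁻¹ ∈ Z := by
  have := normal_subgroupOf hn
  let π := QuotientGroup.mk' (Z.subgroupOf L)
  have hπ : Function.Surjective π := QuotientGroup.mk'_surjective _
  have hk : ∀ g : L, π g = 1 ↔ (g : G) ∈ Z := fun g => QuotientGroup.eq_one_iff g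
  have hZ : ∀ Y, Z ≤ pre π Y := fun Y g hg => (mem_pre π (hZL hg)).mpr (by
    rw [(hk ⟨g, hZL hg⟩).mpr hg]; exact one_mem _)
  have kc : ∀ {g a b : L}, cj g.1 a.1 = b.1 → cj (π g) (π a) = π b := fun e => by
    rw [cj, ← map_inv, ← map_mul, ← map_mul]; exact congrArg π (Subtype.ext e)
  have kn : ∀ {a b : L}, (∀ g ∈ L, cj g b.1 * a.1⁻¹ ∉ Z) → ¬ IsConj (π a) (π b) := by
    intro a b h k
    obtain ⟨g, e⟩ := isConj_iff.mp k.symm
    obtain ⟨g, rfl⟩ := hπ g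
    rw [← mul_inv_eq_one, ← map_inv, ← map_inv, ← map_mul, ← map_mul, ← map_mul, hk] at e
    exact h g g.2 e
  have hN := w162 (x0 := π ⟨x0, m0⟩) (x1 := π ⟨x1, m1⟩) (x2 := π ⟨x2, m2⟩) (τ := π ⟨τ, mτ⟩)
    (w := π ⟨w, mw⟩) (by rw [← map_pow, ← map_one π]; exact congrArg π (Subtype.ext h0))
    (Commute.map (show Commute (⟨x0, m0⟩ : L) ⟨x1, m1⟩ from Subtype.ext c01) π) (kc e0) (kc e1)
    (by rw [← map_pow, ← map_one π]; exact congrArg π (Subtype.ext τ3))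
    (by rw [← map_mul, ← map_one π]; exact congrArg π (Subtype.ext w2)) (kc w0) (kc wx2)
    (by rw [← map_inv]; exact kc wτ) (fun g hg => ?_) (by rwa [← map_mul, ← map_mul, Ne, hk])
    (by
      simp only [List.pairwise_cons, List.forall_mem_cons, ← map_inv, ← map_mul] at nc ⊢
      exact ⟨⟨kn nc.1.1, kn nc.1.2.1, kn nc.1.2.2.1, by simp⟩,
        ⟨kn nc.2.1.1, kn nc.2.1.2.1, by simp⟩, ⟨kn nc.2.2.1.1, by simp⟩, by simp⟩)
    fun K hK k0 k1 k2 => ?_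
  · have h1 : closure {x0, x1, x2} ≤ pre π (closure {π ⟨x0, m0⟩, π ⟨x1, m1⟩, π ⟨x2, m2⟩}) :=
      (closure_le _).mpr (by
        rintro _ (rfl | rfl | rfl) <;> exact (mem_pre π ‹_›).mpr (subset_closure (by simp)))
    intro g hg x hx
    have h2 := conj_mem_of_mem_normalizer (le_normalizer_pre π _ (hY := hN) hg) (h1 hx)
    have h3 : closure {π ⟨x0, m0⟩, π ⟨x1, m1⟩, π ⟨x2, m2⟩} ≤
        ((closure {x0, x1, x2}).subgroupOf L).map π := (closure_le _).mpr (by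
      rintro _ (rfl | rfl | rfl) <;> exact mem_map_of_mem π (subset_closure (by simp)))
    obtain ⟨y, hy, e⟩ := h3 ((mem_pre π (pre_le π _ h2)).mp h2)
    rw [eq_comm, ← mul_inv_eq_one, ← map_inv, ← map_mul, hk] at e
    exact ⟨y, hy, e⟩
  · obtain ⟨g, rfl⟩ := hπ g
    refine (mem_pre π g.2).mp (sup_le ((closure_le _).mpr ?_) (hZ _) (hC g g.2 ?_))
    · rintro _ (rfl | rfl | rfl | rfl | rfl) <;>
        exact (mem_pre π ‹_›).mpr (subset_closure (by simp))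
    · have := mul_inv_eq_one.mpr (cj_fix.mpr hg)
      rwa [cj, ← map_mul, ← map_mul, ← map_inv, ← map_inv, ← map_mul, ← map_mul, ← map_mul,
        hk] at this
  · have k : ∀ {x} (hx : x ∈ L), π ⟨x, hx⟩ ∈ normalizer (K : Set _) →
        x ∈ normalizer (pre π K : Set G) := fun {x} hx h => mem_normalizer_of_conj_mem fun y hy => by
      have hy' := pre_le π K hy
      rw [mem_pre π (L.mul_mem (L.mul_mem hx hy') (L.inv_mem hx))]
      have := conj_mem_of_mem_normalizer h ((mem_pre π hy').mp hy)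
      rwa [← map_inv, ← map_mul, ← map_mul] at this
    have := sig _ _ (hZ K) (pre_le π K) hK (card_pre π hπ hZL hk K) (k m0 k0) (k m1 k1) (k m2 k2)
    refine eq_bot_iff.mpr fun y hy => ?_
    obtain ⟨y, rfl⟩ := hπ y
    exact (hk y).mpr (this ((mem_pre π y.2).mpr hy))

variable {b : Bool} {ξ : V → G} {μ : SP → G} {i : G}

theorem nJ4' (c : Cfg b ξ μ i) {g : G} {u : V} (h : cj g (ξ vz) = ξ u)
    (h3 : Commute g (ξ (ee 3))) : ∃ v a, ok b a ∧ g = ξ v * μ a := by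
  have k : ∀ u : V, u ≠ 0 → F vz = F u → F (vz + ee 3) = F (u + ee 3) →
      F (vz - ee 3) = F (u - ee 3) → ∃ a : SP, a.p = 1 ∧ a.act vz = u ∧ a.act (ee 3) = ee 3 := by
    decide +kernel
  obtain ⟨a, a1, a2, a3⟩ := k u (fun e => c.ne_one (v := vz) (by decide)
      (cj_inj (g := g) (by rw [h, e, c.zero, cj_one]))) (c.fJ g _ _ h)
    (c.fJ g _ _ (by rw [c.add, c.add, cj_mul, h, cj_fix.mpr h3]))
    (c.fJ g _ _ (by rw [c.sub, c.sub, cj_mul, cj_inv, h, cj_fix.mpr h3]))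
  have ha : ok b a := ok_p a1
  obtain ⟨v, a', h1, h2⟩ := c.cz4 ((μ a)⁻¹ * g)
    (cj_fix.mp (by rw [mul_cj, h, ← a2, ← c.act a _ ha, inv_cj_cj]))
    ((c.mxcomm ha a3).inv_left.mul_left h3)
  exact ⟨a.act v, a * a', ok_mul ha h1, by
    rw [c.mul _ _ ha h1, ← mul_assoc, ← c.mx ha, mul_assoc, ← h2, mul_inv_cancel_left]⟩

theorem nJ4 (c : Cfg b ξ μ i) {g : G} (h : ∀ v, ∃ u, cj g (ξ v) = ξ u)
    (h3 : Commute g (ξ (ee 3))) : ∃ v a, ok b a ∧ g = ξ v * μ a :=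
  let ⟨_, e⟩ := h vz
  nJ4' c e h3

theorem mem_of_basis (c : Cfg b ξ μ i) {H : Subgroup G} (h0 : ξ (ee 0) ∈ H) (h1 : ξ (ee 1) ∈ H)
    (h2 : ξ (ee 2) ∈ H) {v : V} (h3 : v 3 = 0 ∨ ξ (ee 3) ∈ H) : ξ v ∈ H := by
  have k : ∀ v : V, v = (v 0).val • ee 0 + (v 1).val • ee 1 + (v 2).val • ee 2 +
      (v 3).val • ee 3 := by decide +kernel
  rw [k v, c.add, c.add, c.add, c.nsmul, c.nsmul, c.nsmul, c.nsmul]
  refine mul_mem (mul_mem (mul_mem (pow_mem h0 _) (pow_mem h1 _)) (pow_mem h2 _)) ?_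
  rcases h3 with h | h
  · rw [h, ZMod.val_zero, pow_zero]; exact one_mem _
  · exact pow_mem h _

theorem mem_of_fix (c : Cfg true ξ μ i) {H : Subgroup G} (h1 : μ st ∈ H) (h2 : μ sw ∈ H) {a : SP}
    (h : a.act vz = vz) (h3 : a.p 3 = 3) (h4 : a.e 3 = false ∨ μ (sg 3) ∈ H) : μ a ∈ H := by
  have k : ∀ a : SP, a.act vz = vz → a.p 3 = 3 → ∃ m < 3, ∃ n < 2,
      a = st ^ m * sw ^ n * (if a.e 3 then sg 3 else 1) := by decide +kernel
  obtain ⟨m, -, n, -, e⟩ := k a h h3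
  rw [e, c.mul _ _ (ok_true _) (ok_true _), c.mul _ _ (ok_true _) (ok_true _), c.pow (ok_true _),
    c.pow (ok_true _)]
  refine mul_mem (mul_mem (pow_mem h1 _) (pow_mem h2 _)) ?_
  split_ifs with h5
  · exact h4.resolve_left (by simp [h5])
  · rw [c.one]; exact one_mem _

theorem J0_ex (c : Cfg b ξ μ i) {x : G} (hx : x ∈ closure {ξ (ee 0), ξ (ee 1), ξ (ee 2)}) :
    ∃ v : V, v 3 = 0 ∧ x = ξ v := by
  induction hx using closure_induction with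
  | mem x hx => rcases hx with rfl | rfl | rfl <;> exact ⟨_, rfl, rfl⟩
  | one => exact ⟨0, rfl, c.zero.symm⟩
  | mul x y _ _ hx hy =>
    obtain ⟨u, h, rfl⟩ := hx
    obtain ⟨v, h', rfl⟩ := hy
    exact ⟨u + v, by simp [h, h'], (c.add u v).symm⟩
  | inv x _ hx =>
    obtain ⟨u, h, rfl⟩ := hx
    exact ⟨-u, by simp [h], (c.neg u).symm⟩

theorem z_eq (c : Cfg b ξ μ i) : ξ (ee 0) * ξ (ee 1) * ξ (ee 2) = ξ vz := by
  rw [← c.add, ← c.add]; congr 1; decide +kernel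

theorem v_eq (c : Cfg b ξ μ i) : ξ (ee 0) * (ξ (ee 1))⁻¹ = ξ vv := by
  rw [← c.sub]; congr 1; decide +kernel

/-- The application of `w162` to a section. -/
theorem sec [Finite G] (c : Cfg true ξ μ i) {L Z : Subgroup G} (hZL : Z ≤ L)
    (hn : L ≤ normalizer (Z : Set G)) (hJ : ∀ v : V, v 3 = 0 → ξ v ∈ L) (mτ : μ st ∈ L)
    (mw : μ sw ∈ L)
    (hC : ∀ g ∈ L, cj g (ξ vz) * (ξ vz)⁻¹ ∈ Z →
      g ∈ closure {ξ (ee 0), ξ (ee 1), ξ (ee 2), μ st, μ sw} ⊔ Z) (n1 : ξ vz ∉ Z)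
    (nc : List.Pairwise (fun a b => ∀ g ∈ L, cj g b * a⁻¹ ∉ Z) [ξ (ee 0), ξ vv, ξ vz, μ st])
    (sig : ∀ K m, Z ≤ K → K ≤ L → m.Coprime 3 → Nat.card K = Nat.card Z * m →
      (∀ v : V, v 3 = 0 → ξ v ∈ normalizer (K : Set G)) → K ≤ Z) :
    ∀ g ∈ L, ∀ v : V, v 3 = 0 → ∃ u : V, u 3 = 0 ∧ cj g (ξ v) * (ξ u)⁻¹ ∈ Z := by
  have o := ok_true
  intro g hg v hv
  suffices h : ∃ y ∈ closure {ξ (ee 0), ξ (ee 1), ξ (ee 2)}, cj g (ξ v) * y⁻¹ ∈ Z by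
    obtain ⟨y, hy, h⟩ := h
    obtain ⟨u, hu, rfl⟩ := J0_ex c hy
    exact ⟨u, hu, h⟩
  refine w162_mod hZL hn (hJ _ rfl) (hJ _ rfl) (hJ _ rfl) mτ mw (c.cube _) (c.comm _ _)
    (by rw [c.act _ _ (o _), st_act.1]) (by rw [c.act _ _ (o _), st_act.2.1])
    (by rw [← c.pow (o _), ← c.one]; congr 1; decide +kernel) (c.msq (o _) (by decide +kernel))
    (by rw [c.act _ _ (o _)]; congr 1; decide +kernel)
    (by rw [c.act _ _ (o _)]; congr 1; decide +kernel)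
    (by rw [c.mcj (o _) (o _), ← c.inv (o _)]; congr 1; decide +kernel)
    (by rwa [z_eq c]) (by rwa [z_eq c]) (by rwa [z_eq c, v_eq c])
    (fun K m h1 h2 h3 h4 k0 k1 k2 => sig K m h1 h2 h3 h4 fun v hv =>
      mem_of_basis c k0 k1 k2 (.inl hv)) g hg _
    (mem_of_basis c ?_ ?_ ?_ (.inl hv)) <;> exact subset_closure (by simp)

theorem F1true [Finite G] (c : Cfg true ξ μ i) :
    ∀ g, Commute g (ξ (ee 3)) → ∃ v a, g = ξ v * μ a := by
  have o := ok_true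
  have hZ : ∀ {x}, x ∈ zpowers (ξ (ee 3)) → ∃ k : ZMod 3, x = ξ (k • ee 3) := fun h => by
    rcases (mem_zpowers_three (c.cube _)).mp h with rfl | rfl | rfl
    exacts [⟨0, by rw [zero_smul, c.zero]⟩, ⟨1, by rw [one_smul]⟩,
      ⟨-1, by rw [neg_smul, one_smul, c.neg]⟩]
  have hc : ∀ g ∈ centralizer {ξ (ee 3)}, ∀ ζ ∈ zpowers (ξ (ee 3)), g * ζ = ζ * g := by
    rintro g hg _ ⟨n, rfl⟩
    exact Commute.zpow_right (mem_cent.mp hg) n
  have hZL : zpowers (ξ (ee 3)) ≤ centralizer {ξ (ee 3)} := zpowers_le_of_mem (mem_cent.mpr rfl)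
  have k1 : ∀ u v : V, ∀ g ∈ centralizer {ξ (ee 3)}, cj g (ξ v) * (ξ u)⁻¹ ∈ zpowers (ξ (ee 3)) →
      ∃ k : ZMod 3, cj g (ξ v) = ξ (k • ee 3 + u) ∧ F v = F (k • ee 3 + u) ∧
        F (v + ee 3) = F (k • ee 3 + u + ee 3) := fun u v g hg h => by
    obtain ⟨k, e⟩ := hZ h
    rw [mul_inv_eq_iff_eq_mul, ← c.add] at e
    exact ⟨k, e, c.fJ g _ _ e, c.fJ g _ _ (by
      rw [c.add, c.add _ (ee 3), cj_mul, e, cj_fix.mpr (mem_cent.mp hg)])⟩
  have k2 : ∀ u : V, ∀ g ∈ centralizer {ξ (ee 3)}, cj g (μ st) * (ξ u)⁻¹ ∉ zpowers (ξ (ee 3)) :=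
    fun u g _ h => by
      obtain ⟨k, e⟩ := hZ h
      rw [mul_inv_eq_iff_eq_mul, ← c.add] at e
      exact c.tauJ g 0 (k • ee 3 + u) (by rwa [c.zero, one_mul])
  have k3 : ∀ u v : V, (∀ k : ZMod 3, F v = F (k • ee 3 + u) →
      F (v + ee 3) ≠ F (k • ee 3 + u + ee 3)) → ∀ g ∈ centralizer {ξ (ee 3)},
      cj g (ξ v) * (ξ u)⁻¹ ∉ zpowers (ξ (ee 3)) := fun u v h g hg e =>
    let ⟨k, _, h1, h2⟩ := k1 u v g hg e
    h k h1 h2
  intro g hg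
  have := sec c hZL (le_normalizer_of_cent hc) (fun v _ => mem_cent.mpr (c.comm _ _))
    (mem_cent.mpr (c.mxcomm (o _) (by decide +kernel)))
    (mem_cent.mpr (c.mxcomm (o _) (by decide +kernel))) (fun g hg h => ?_) (fun h => ?_)
    (by
      simp only [List.pairwise_cons, List.forall_mem_cons]
      exact ⟨⟨k3 _ _ (by decide +kernel), k3 _ _ (by decide +kernel), k2 _, by simp⟩,
        ⟨k3 _ _ (by decide +kernel), k2 _, by simp⟩, ⟨k2 _, by simp⟩, by simp⟩)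
    (fun K m h1 h2 h3 h4 h5 => ?_) g (mem_cent.mpr hg) vz rfl
  · obtain ⟨u, -, h⟩ := this
    obtain ⟨k, e, -⟩ := k1 _ _ g (mem_cent.mpr hg) h
    exact (nJ4' c e hg).imp fun _ => Exists.imp fun _ => And.right
  · obtain ⟨k, e, h1, -⟩ := k1 _ _ g hg h
    obtain rfl : k = 0 := by clear e; revert h1; revert k; decide +kernel
    rw [zero_smul, zero_add, cj_fix] at e
    obtain ⟨v, a, -, rfl⟩ := c.cz4 g e (mem_cent.mp hg)
    have a3 := c.fix_of_comm (o _) (mem_cent.mp hg)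
    have k : ∀ a : SP, a.act (ee 3) = ee 3 → a.p 3 = 3 ∧ a.e 3 = false := by decide +kernel
    refine mul_mem (mem_of_basis c ?_ ?_ ?_ (.inr (mem_sup_right (mem_zpowers _))))
      (mem_of_fix c ?_ ?_ (c.fix_of_comm (o _) e) (k a a3).1 (.inl (k a a3).2)) <;>
      exact mem_sup_left (subset_closure (by simp))
  · obtain ⟨k, e⟩ := hZ h
    exact absurd (c.injective e) (by clear e; revert k; decide +kernel)
  · have := Fact.mk Nat.prime_three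
    obtain ⟨O, -, o1, o2, o3⟩ := exists_compl_of_central h1
      (IsPGroup.of_card (p := 3) (n := 1) (by
        rw [Nat.card_zpowers, orderOf_three (c.cube _) (c.ne_one (by decide)), pow_one]))
      (fun g hg => hc g (h2 hg)) h3 h4 le_rfl
    obtain rfl := c.sig O (o2 ▸ h3) fun v => o1 (mem_of_basis c (h5 _ rfl) (h5 _ rfl) (h5 _ rfl)
      (.inr (le_normalizer (h1 (mem_zpowers _)))))
    intro g hg
    obtain ⟨ζ, h6, h7⟩ := o3 g hg
    rwa [← inv_mul_eq_one.mp h7]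

end Cfsg.Agent.H4.O8
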