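import Cfsg.Agent.H3.O8Def
import Cfsg.Agent.H1.S9Set
import Cfsg.Agent.H9.PrimePerm
import Cfsg.Agent.S3376

/-!
# Centralizers of type `3 ≀ S₃`
-/

set_option autoImplicit false

namespace Cfsg.Agent.H4.O8

open Subgroup Cfsg.Agent.H3.L43 Cfsg.Agent.H1.T3 Cfsg.Agent.H9 Cfsg.Agent.H1.S9 Equiv
open Cfsg.Agent.H1.PC Cfsg.Agent.L0.Code
open Cfsg.Agent.H1.A9K (h9 J0 hJ0)

theorem not_four {a b c d : Perm (Fin 9)} (h : ∀ x ∈ [a, b, c, d], x ^ 3 = 1 ∧ x ≠ 1) :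
    ¬ List.Pairwise (fun a b => ¬ IsConj a b) [a, b, c, d] := by
  have := Fact.mk Nat.prime_three
  have k : ∀ x ∈ [a, b, c, d], x.support.card = 3 ∨ x.support.card = 6 ∨ x.support.card = 9 :=
    fun x hx => by
      have h1 := (perm_cycleType_eq_replicate (h x hx).1).2
      have h2 := x.support.card_le_univ
      have h3 := mt Perm.card_support_eq_zero.mp (h x hx).2
      simp only [Fintype.card_fin] at h2
      omega
  simp only [List.forall_mem_cons] at h k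
  simp only [List.pairwise_cons, List.forall_mem_cons]
  rintro ⟨⟨h1, h2, h3, -⟩, ⟨h4, h5, -⟩, ⟨h6, -⟩, -⟩
  replace h1 := mt (perm_isConj_of_pow_prime h.1.1 h.2.1.1) h1
  replace h2 := mt (perm_isConj_of_pow_prime h.1.1 h.2.2.1.1) h2
  replace h3 := mt (perm_isConj_of_pow_prime h.1.1 h.2.2.2.1.1) h3
  replace h4 := mt (perm_isConj_of_pow_prime h.2.1.1 h.2.2.1.1) h4
  replace h5 := mt (perm_isConj_of_pow_prime h.2.1.1 h.2.2.2.1.1) h5
  replace h6 := mt (perm_isConj_of_pow_prime h.2.2.1.1 h.2.2.2.1.1) h6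
  omega

theorem rels9 : e3 * e3 * e3 = 1 ∧ u * u * u = 1 ∧ ta * ta = 1 ∧ ta * u * ta * u = 1 ∧
    ta * e3 * ta * e3⁻¹ = 1 ∧ e3 * u * e3 * u⁻¹ * e3⁻¹ * u * e3⁻¹ * u⁻¹ = 1 := by
  simp only [eq_iff_enc h9, enc_mul h9, enc_inv h9, enc_one', enc_e3,
    enc_u, enc_ta]
  decide +kernel

theorem gen9 : closure {e3, u, ta} = C9 := by
  refine le_antisymm ((closure_le _).mpr ?_) (H1.PC.cl_le ?_)
  · rintro _ (rfl | rfl | rfl)
    exacts [JC s_m.2.2.1, d_m.1, d_m.2.1]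
  · have h : u ∈ closure {e3, u, ta} := subset_closure (by simp)
    simp only [gC9, List.forall_mem_cons]
    exact ⟨show e1 ∈ _ from d_U.2.2.1 ▸ mul_mem (mul_mem h (subset_closure (by simp))) (inv_mem h), h,
      subset_closure (by simp [ta]), by simp⟩

theorem x3_mem {N : Subgroup (Perm (Fin 9))} (hn : ∀ g ∈ C9, ∀ a ∈ N, g * a * g⁻¹ ∈ N)
    {k : Perm (Fin 9)} (hk : k ∈ C9) (h : k ∈ N) (h1 : k ≠ 1) : x3 ∈ N := by
  have k1 : ∀ j ∈ J0, j ∈ N → j ≠ 1 → x3 ∈ N := fun j hj h h1 => by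
    obtain ⟨a, h2, h3⟩ := (d_J j hj).2.2.2.2.2.2.2.resolve_left h1
    have : a ∈ N := by
      rcases h2 with rfl | rfl | rfl
      exacts [h, mul_mem (inv_mem h) (hn _ d_m.1 _ h),
        mul_mem (mul_mem h (hn _ d_m.1 _ h)) (hn _ (inv_mem d_m.1) _ h)]
    rcases h3 with rfl | rfl
    exacts [this, inv_mem_iff.mp this]
  have k2 : ∀ e ∈ J0, k * e ≠ e * k → x3 ∈ N := fun e he h2 =>
    k1 (k * e * k⁻¹ * e⁻¹) (mul_mem ((d_M k (CM hk)).2.2 e he) (inv_mem he))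
      (by simpa [mul_assoc] using mul_mem h (hn e (JC he) _ (inv_mem h)))
      (by rwa [Ne, mul_inv_eq_one, conj_eq_iff])
  by_contra h2
  exact h2 (k1 k ((s_C k hk).2 (by_contra fun e => h2 (k2 _ s_m.1 e))
    (by_contra fun e => h2 (k2 _ s_m.2.1 e))) h h1)

theorem w162 {X : Type*} [Group X] [Finite X] {x0 x1 x2 τ w : X} (h0 : x0 ^ 3 = 1)
    (c01 : Commute x0 x1) (e0 : cj τ x0 = x1) (e1 : cj τ x1 = x2) (τ3 : τ ^ 3 = 1)
    (w2 : w * w = 1) (w0 : cj w x0 = x1) (wx2 : cj w x2 = x2) (wτ : cj w τ = τ⁻¹)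
    (hC : ∀ g, Commute g (x0 * x1 * x2) → g ∈ closure {x0, x1, x2, τ, w}) (n1 : x0 * x1 * x2 ≠ 1)
    (nc : List.Pairwise (fun a b => ¬ IsConj a b) [x0, x0 * x1⁻¹, x0 * x1 * x2, τ])
    (sig : ∀ K : Subgroup X, (Nat.card K).Coprime 3 → x0 ∈ normalizer (K : Set X) →
      x1 ∈ normalizer (K : Set X) → x2 ∈ normalizer (K : Set X) → K = ⊥) :
    (closure {x0, x1, x2}).Normal := by
  have e2 : cj τ x2 = x0 := by
    rw [← e1, ← e0, ← mul_cj, ← mul_cj, ← sq, ← pow_succ, τ3, one_cj]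
  have h1 : x1 ^ 3 = 1 := by rw [← e0, ← cj_pow, h0, cj_one]
  have h2 : x2 ^ 3 = 1 := by rw [← e1, ← cj_pow, h1, cj_one]
  have c12 : Commute x1 x2 := e1 ▸ e0 ▸ cj_comm (e0 ▸ c01)
  have c20 : Commute x2 x0 := e2 ▸ e1 ▸ cj_comm (e1 ▸ c12)
  have wi := inv_eq_of_mul_eq_one_right w2
  obtain ⟨q0, q1, q2, q3, q4, q5⟩ := rels9
  obtain ⟨hf, hcs⟩ := TC.finite_zpowers_of_pow (y := (τ, u)) (n := 3) (by norm_num)
    (Prod.ext τ3 (by simpa [pow_succ] using q1))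
  obtain ⟨-, hb⟩ := S3376.wr_bound (u := (x2, e3)) (s := (τ, u)) (t := (w, ta))
    (Prod.ext (by simpa [pow_succ] using h2) q0) (Prod.ext (by simpa [pow_succ] using τ3) q1)
    (Prod.ext w2 q2) (Prod.ext (by rw [cj, wi] at wτ; simp [wτ]) q3)
    (Prod.ext (by rw [cj, wi] at wx2; simp [wx2]) q4) (Prod.ext (by
      calc _ = x2 * cj τ x2 * x2⁻¹ * (cj τ x2)⁻¹ := by simp [cj, mul_assoc]
        _ = _ := by rw [e2, c20.eq]; simp) q5) _ (mem_zpowers _)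
  generalize hΓ : closure {(x2, e3), (τ, u), (w, ta)} = Γ at hb
  have m2 : (x2, e3) ∈ Γ := hΓ ▸ subset_closure (by simp)
  have mτ : (τ, u) ∈ Γ := hΓ ▸ subset_closure (by simp)
  have mw : (w, ta) ∈ Γ := hΓ ▸ subset_closure (by simp)
  have m0 : (x0, H1.S9.e1) ∈ Γ := e2 ▸ d_U.2.2.1 ▸ mul_mem (mul_mem mτ m2) (inv_mem mτ)
  have m1 : (x1, H1.S9.e2) ∈ Γ := e0 ▸ d_U.1 ▸ mul_mem (mul_mem mτ m0) (inv_mem mτ)
  have mz : (x0 * x1 * x2, x3) ∈ Γ := s_m.2.2.2.2.2.2.2.2.2.2.2.2.1 ▸ mul_mem (mul_mem m0 m1) m2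
  have hm : Γ.map (MonoidHom.snd _ _) = C9 := by
    rw [← hΓ, MonoidHom.map_closure, Set.image_insert_eq, Set.image_pair]; exact gen9
  have hi := (((MonoidHom.snd _ _).subgroupMap_surjective Γ).bijective_of_nat_card_le
    (by rw [hm, card_C9]; omega)).1
  have g1 : ∀ g, (g, 1) ∈ Γ → g = 1 := fun g h =>
    congrArg (fun x : Γ => x.1.1) (@hi ⟨_, h⟩ 1 rfl)
  obtain ⟨κ, hκ, hg⟩ := exists_emb_of_graph Γ g1 fun m h => by_contra fun h1 => n1 (g1 _ (by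
    have := x3_mem (N := Γ.comap (MonoidHom.inr _ _)) (fun g hg a ha => by
      obtain ⟨⟨y, _⟩, hy, rfl⟩ := hm.ge hg
      simpa using mul_mem (mul_mem hy ha) (inv_mem hy)) (hm.le ⟨_, h, rfl⟩) h h1
    simpa using mul_mem mz (inv_mem this)))
  rw [hm] at hκ
  have k0 := hg _ _ m0 ▸ mem_im κ s_m.1
  have k1 := hg _ _ m1 ▸ mem_im κ s_m.2.1
  have k2 := hg _ _ m2 ▸ mem_im κ s_m.2.2.1
  have hJ : im κ J0 = closure {x0, x1, x2} := by
    refine le_antisymm ((closure_le _).mpr ?_) ((closure_le _).mpr ?_)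
    · rintro _ ⟨j, hj, rfl⟩
      obtain ⟨v, -, rfl⟩ := (d_J j hj).2.2.2.2.1
      rw [E, (hκ.mono JC).tri s_m.1 s_m.2.1 s_m.2.2.1, hg _ _ m0, hg _ _ m1, hg _ _ m2]
      exact mul_mem (mul_mem (pow_mem (subset_closure (by simp)) _)
        (pow_mem (subset_closure (by simp)) _)) (pow_mem (subset_closure (by simp)) _)
    · rintro _ (rfl | rfl | rfl)
      exacts [k0, k1, k2]
  refine hJ ▸ (Pre.main ⟨hκ, fun g h => (closure_le _).mpr ?_ (hC g (hg _ _ mz ▸ h)),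
    fun O h1 h2 => sig O h1 (h2 k0) (h2 k1) (h2 k2)⟩).resolve_right fun ⟨e⟩ => ?_
  · rintro _ (rfl | rfl | rfl | rfl | rfl)
    exacts [im_mono κ JC k0, im_mono κ JC k1, im_mono κ JC k2, hg _ _ mτ ▸ mem_im κ d_m.1,
      hg _ _ mw ▸ mem_im κ d_m.2.1]
  · have n2 : x0 ≠ x1 := fun h => n1 (by
      rw [← e1, ← h, e0, ← h, ← sq, ← pow_succ, h0])
    refine not_four (a := e x0) (b := e (x0 * x1⁻¹)) (c := e (x0 * x1 * x2)) (d := e τ) ?_
      ((List.pairwise_map (f := e)).mpr (nc.imp fun h k => h (by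
        simpa using e.symm.toMonoidHom.map_isConj k)))
    simp only [List.forall_mem_cons, ← map_pow, Ne, map_eq_one_iff e e.injective]
    exact ⟨⟨h0, fun h => n2 (by rw [← e0, h, cj_one])⟩, ⟨by
      rw [c01.inv_right.mul_pow, inv_pow, h0, h1, inv_one, one_mul], mt mul_inv_eq_one.mp n2⟩,
      ⟨by rw [(c20.symm.mul_left c12).mul_pow, c01.mul_pow, h0, h1, h2]; simp, n1⟩,
      ⟨τ3, fun h => n2 (by rw [← e0, h, one_cj])⟩, by simp⟩

end Cfsg.Agent.H4.O8
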