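import Cfsg.Agent.H4.L43EndA1
import Cfsg.Agent.H8.P3Def

/-!
# Strongly `3`-embedded subgroups containing an involution centralizer
-/

set_option autoImplicit false

namespace Cfsg.Agent.H4.P3

open Subgroup Cfsg.Agent.H9 Cfsg.Agent.H1.T3 Cfsg.Agent.L0.L43 Cfsg.Agent.H4.L43 Cfsg.Agent.H8.P3

/-- The properties of the covering group used below. -/
structure Dat {A : Type*} [Group A] (m t i : A) (U : Subgroup A) : Prop where
  mc : ∀ a, m * a = a * m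
  mm : m * m = 1
  m1 : m ≠ 1
  tt : t * t = 1
  t1 : t ≠ 1
  tm : t ≠ m
  ii : i * i = m
  ti : t * i = i * t
  tU : ∀ a, a * t * a⁻¹ ∈ U
  iU : i ∈ U
  c3 : ∀ a, a * a = 1 ∨ a * a = m → ∃ x, x ^ 3 = 1 ∧ x ≠ 1 ∧ a * x = x * a
  ci : ∀ a ∈ U, a * a = m → ∃ g, g * a * g⁻¹ = i
  ct : ∀ a ∈ U, a * a = 1 → a ≠ 1 → a ≠ m → ∃ g, g * a * g⁻¹ = t
  cU : ∀ a ∈ U, a * t = t * a → a * a = 1 → a = 1 ∨ a = m ∨ a = t ∨ a = m * t
  c9 : ∀ a, a * t = t * a → a * i = i * a → a ^ 3 = 1 → a = 1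
  cS : ∀ V : Subgroup A, (∀ v ∈ V, v ^ 3 = 1 → v * t = t * v) → 3 ∣ V.index

variable {A G : Type*} [Group A] [Group G] {m t i : A} {U : Subgroup A} (d : Dat m t i U)
  {φ : A →* G} (hk : ∀ a, φ a = 1 ↔ a = 1 ∨ a = m)
include d

theorem Dat.m3 : m ^ 3 = m := by rw [pow_succ, sq, d.mm, one_mul]

theorem Dat.cm (g : A) : g * m * g⁻¹ = m := by rw [← d.mc, mul_inv_cancel_right]

include hk

omit d in
theorem eq_iff' {a b : A} : φ a = φ b ↔ a = b ∨ a = m * b := by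
  rw [← mul_inv_eq_one, ← map_inv, ← map_mul, hk, mul_inv_eq_one, mul_inv_eq_iff_eq_mul]

theorem Dat.comm3 {a x : A} (hx : x ^ 3 = 1) (h : φ a * φ x = φ x * φ a) : a * x = x * a := by
  rw [← map_mul, ← map_mul, eq_iff' hk, ← mul_assoc, ← conj_eq_iff, ← conj_eq_iff] at h
  refine conj_eq_iff.mp (h.resolve_right fun e => d.m1 ?_)
  have := congrArg (· ^ 3) e
  simpa [conj_pow, hx, (show Commute m x from d.mc x).mul_pow, d.m3] using this.symm

theorem Dat.lift3 {a : A} (h : φ a ^ 3 = 1) : ∃ b, b ^ 3 = 1 ∧ φ b = φ a := by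
  refine ⟨a ^ 4, ?_, by rw [map_pow, pow_succ, h, one_mul]⟩
  rw [← map_pow, hk] at h
  rw [← pow_mul, mul_comm, pow_mul]
  rcases h with h | h <;> rw [h]
  · exact one_pow _
  · rw [show 4 = 2 * 2 from rfl, pow_mul, sq m, d.mm, one_pow]

theorem Dat.t_ne : φ t ≠ 1 := mt (hk _).mp (not_or.mpr ⟨d.t1, d.tm⟩)

omit hk in
theorem Dat.t_two : φ t * φ t = 1 := by rw [← map_mul, d.tt, map_one]

/-- The product of two commuting conjugates of `t`. -/
theorem Dat.anti {a : A} {c : G} (c1 : c ≠ 1) (h1 : φ a * φ t * (φ a)⁻¹ = φ t * c)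
    (h2 : c * φ t = φ t * c) : ∃ b ∈ U, b = a * t * a⁻¹ ∧ b * b = 1 ∧ c = φ (t * b) ∧
      b * t = m * (t * b) ∧ t * b * (t * b) = m := by
  obtain ⟨B, hB⟩ : ∃ B, B = a * t * a⁻¹ := ⟨_, rfl⟩
  have b1 : B * B = 1 := by rw [hB, conj_mul, d.tt]; simp
  have b3 : φ B = φ t * c := by rw [hB, ← h1]; simp
  have hc : c = φ (t * B) := by rw [map_mul, b3, ← mul_assoc, d.t_two, one_mul]
  have b4 : B * t = m * (t * B) := by
    refine ((eq_iff' hk).mp (by rw [map_mul, map_mul, b3, mul_assoc, h2])).resolve_left fun k => ?_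
    rcases d.cU B (hB ▸ d.tU a) k b1 with k | k | k | k
    · exact d.t1 (by rwa [hB, conj_eq_one_iff] at k)
    · exact d.tm (by rwa [hB, conj_eq_iff, d.mc, mul_left_cancel_iff] at k)
    · exact c1 (by rw [hc, k, d.tt, map_one])
    · exact c1 (by rw [hc, k, d.mc, ← mul_assoc, d.tt, one_mul, (hk m).mpr (.inr rfl)])
  exact ⟨B, hB ▸ d.tU a, hB, b1, hc, b4, by
    rw [mul_assoc, ← mul_assoc B, b4, mul_assoc m, mul_assoc t B, b1, mul_one, d.mc,
      ← mul_assoc, d.tt, one_mul]⟩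

variable [Finite G] (hs : Str φ.range (φ t))
include hs

omit [Finite G] in
theorem Dat.ctl3 {x : A} (h : x ^ 3 = 1) (h1 : x ≠ 1) : Ctl φ.range (φ x) :=
  have h2 : φ x ^ 3 = 1 := by rw [← map_pow, h, map_one]
  ⟨⟨x, rfl⟩, h2, hs.three _ ⟨x, rfl⟩ (fun e => ((hk x).mp e).elim h1 fun e =>
    d.m1 (by rw [← d.m3, ← e, h])) h2⟩

theorem Dat.ctl2 {x : G} (hx : x ∈ φ.range) (h : x * x = 1) (hc : centralizer {x} ≤ φ.range)
    (g : G) (hg : g * x * g⁻¹ ∈ φ.range) : g ∈ φ.range := by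
  have k : ∀ x ∈ φ.range, x * x = 1 → ∃ k, Ctl φ.range k ∧ k * x = x * k := by
    rintro _ ⟨a, rfl⟩ h
    obtain ⟨x, x1, x2, x3⟩ := d.c3 a (by rwa [← map_mul, hk] at h)
    exact ⟨_, d.ctl3 hk hs x1 x2, by rw [← map_mul, ← x3, map_mul]⟩
  obtain ⟨k1, c1, e1⟩ := k x hx h
  obtain ⟨k2, c2, e2⟩ := k _ hg (by rw [conj_mul, h]; simp)
  obtain ⟨l, hl, e⟩ := fr2 (L := centralizer {x}) (g := g⁻¹) c1 c2 (mem_cent.mpr e1)
    (mem_cent.mpr (by
      calc _ = g⁻¹ * (k2 * (g * x * g⁻¹)) * g := by group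
        _ = _ := by rw [e2]; group))
  exact inv_mem_iff.mp ((φ.range.mul_mem_cancel_left (hc hl)).mp e)

omit d hk hs [Finite G] in
theorem ctl_conj {a b g : A} (e : g * a * g⁻¹ = b)
    (h : ∀ g, g * φ b * g⁻¹ ∈ φ.range → g ∈ φ.range) (x : G) (hx : x * φ a * x⁻¹ ∈ φ.range) :
    x ∈ φ.range := by
  have := h (x * (φ g)⁻¹) (by simpa [← e, mul_assoc] using hx)
  exact (φ.range.mul_mem_cancel_right (inv_mem ⟨g, rfl⟩)).mp this

theorem Dat.ctlT : ∀ g, g * φ t * g⁻¹ ∈ φ.range → g ∈ φ.range :=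
  d.ctl2 hk hs ⟨t, rfl⟩ d.t_two fun g hg => hs.two g (mem_cent.mp hg)

omit d hk [Finite G] in
theorem ord3 : ∀ k ∈ φ.range, orderOf k = 3 → ∀ g, g * k * g⁻¹ ∈ φ.range → g ∈ φ.range :=
  fun k hk ho => hs.three k hk (fun h => by simp [h] at ho) (ho ▸ pow_orderOf_eq_one k)

theorem Dat.centI : centralizer {φ i} ≤ φ.range := by
  have ti := d.ti
  refine le_of_pc (t := φ t) (mem_cent.mpr (by rw [← map_mul, ti, map_mul])) ⟨_, rfl⟩ d.t_two
    (d.ctlT hk hs) ?_ Nat.prime_three ?_ (ord3 hs)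
  · rintro _ hl ⟨A, rfl⟩ c c1 h1 h2 g hg h
    obtain ⟨B, hU, hB, b1, hc, b4, b5⟩ := d.anti hk c1 h1 h2
    have b2 : B * i = i * B := by
      have h4 := mem_cent.mp (inv_mem hl)
      rw [← map_inv, ← map_mul, ← map_mul, eq_iff' hk] at h4
      have h5 : t * (A⁻¹ * i * A) = A⁻¹ * i * A * t := by
        rcases h4 with h4 | h4 <;> rw [h4]
        · simpa using ti
        · rw [mul_assoc, inv_mul_cancel_right, ← mul_assoc, ← d.mc, mul_assoc, mul_assoc, ti]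
      calc _ = A * (t * (A⁻¹ * i * A)) * A⁻¹ := by rw [hB]; group
        _ = _ := by rw [h5, hB]; group
    have b6 : i * (t * B) = t * B * i := by rw [← mul_assoc, ← ti, mul_assoc, ← b2, mul_assoc]
    have b7 : t * B * i * t ≠ t * (t * B * i) := fun h5 => by
      rw [mul_assoc, ← ti, mul_assoc t, ← mul_assoc B, b4, mul_left_cancel_iff,
        mul_right_cancel_iff] at h5
      exact d.m1 (by simpa using h5)
    obtain ⟨k, e⟩ := d.ct (t * B * i) (mul_mem (mul_mem (by simpa using d.tU 1) hU) d.iU)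
      (by rw [mul_assoc, ← mul_assoc i, b6, mul_assoc (t * B) i, ← mul_assoc, b5, d.ii, d.mm])
      (fun k => b7 (by simp [k])) fun k => b7 (by rw [k, d.mc])
    refine ctl_conj e (d.ctlT hk hs) g ?_
    rw [map_mul, ← hc, ← conj_mul, conj_eq_iff.mpr (mem_cent.mp hg)]
    exact mul_mem h ⟨_, rfl⟩
  · have := Fact.mk Nat.prime_three
    have h1 := card_mul_relIndex_of_le (inf_le_right (a := centralizer {φ t})
      (b := centralizer {φ i} ⊓ φ.range))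
    rw [inf_relIndex_right] at h1
    obtain ⟨x, x1, x2, x3⟩ := d.c3 i (.inr d.ii)
    have c := d.ctl3 hk hs x1 x2
    have h2 : orderOf (φ x) = 3 := orderOf_three c.z3 fun e => ((hk x).mp e).elim x2 fun e =>
      d.m1 (by rw [← d.m3, ← e, x1])
    have h4 := orderOf_dvd_natCard (centralizer {φ i} ⊓ φ.range) (x := φ x)
      ⟨mem_cent.mpr (by rw [← map_mul, ← x3, map_mul]), _, rfl⟩
    rw [h2, ← h1] at h4
    refine (Nat.prime_three.dvd_mul.mp h4).resolve_left fun h5 => ?_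
    obtain ⟨k, hk', ho⟩ := exists_mem_orderOf_eq_prime h5
    obtain ⟨a, rfl⟩ := hk'.2.2
    obtain ⟨b, hb, e⟩ := d.lift3 hk (a := a) (by rw [← ho, pow_orderOf_eq_one])
    rw [← e] at hk' ho
    rw [d.c9 b (d.comm3 hk hb (mem_cent.mp hk'.1).symm).symm
      (d.comm3 hk hb (mem_cent.mp hk'.2.1).symm).symm hb] at ho
    simp at ho

theorem Dat.top : φ.range = ⊤ := by
  refine eq_top_iff.mpr (le_of_pc (t := φ t) (mem_top _) ⟨_, rfl⟩ d.t_two
    (d.ctlT hk hs) ?_ Nat.prime_three ?_ (ord3 hs))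
  · rintro _ - ⟨A, rfl⟩ c c1 h1 h2 g - h
    obtain ⟨B, hU, -, -, rfl, -, b5⟩ := d.anti hk c1 h1 h2
    obtain ⟨k, e⟩ := d.ci _ (mul_mem (by simpa using d.tU 1) hU) b5
    exact ctl_conj e (d.ctl2 hk hs ⟨_, rfl⟩ (by rw [← map_mul, d.ii, hk]; exact .inr rfl)
      (d.centI hk hs)) g h
  · rw [top_inf_eq, ← index_comap]
    exact d.cS _ fun v hv h => (d.comm3 hk h (mem_cent.mp hv).symm).symm

end Cfsg.Agent.H4.P3
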