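import Cfsg.Agent.H4.P3E1d
import Cfsg.Agent.H4.P3E1e

/-!
# `PSp₄(3)` and `W(E₆)` are not strongly `3`-embedded
-/

set_option autoImplicit false
set_option maxRecDepth 100000

namespace Cfsg.Agent.H4.P3

open Subgroup Cfsg.Agent.H9 Cfsg.Agent.H1.T3 Cfsg.Agent.L0.L43 Cfsg.Agent.H4.L43 Cfsg.Agent.H8.P3

def tabH : List (ℕ × ℕ) :=
  [(nat_lit 22835963085953814088502407256999553894870681600, nat_lit
  93581776715344377482497654681365849253327681882113), (nat_lit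
  93536104789177788063110043927549056419400784019458, nat_lit
  22835963088612270080072239002807185607617415168), (nat_lit
  46768052394588895978666343914334942951832043913217, nat_lit
  46768052394588894680592129280627999790410942644225), (nat_lit
  45683076541848437497625022878425411644681095168, nat_lit
  93558963053008939110381608173130907974178476918785), (nat_lit
  45671926171907628177004814513999107789741363200, nat_lit
  22306192376155423941416585053206801448697856), (nat_lit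
  22858263833810800703523410846628613274317361152, nat_lit
  93581787865722296254673143779902221698298045009921), (nat_lit
  45694226914447702808886154612012938928066660352, nat_lit
  93536127095370162921093596010688819089322140504064), (nat_lit
  22300745198530623451322959548897087528632320, nat_lit
  22835968530471685457343122858894967447127855104), (nat_lit
  22847113461211535392262279113041085990931795968, nat_lit
  93581799016094892925103935880575809187524351365121), (nat_lit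
  11150372599265312189888994506466146857779200, nat_lit
  93536127089922986593733495099392913893456688971777)]

/-- The check on the involutions of the symplectic group. -/
noncomputable def hChk (c g : ℕ) : Bool :=
  bor (!Nat.beq (mul c c) one) <| bor (Nat.beq c one) <| bor (Nat.beq c m1c) <|
  bor (!inK false c) (band (band (ok true g) (inK false g)) (Nat.beq (mul g c) (mul tc g)))

theorem hAll : allL (fun c => force (lkp tabH c) (hChk c)) L43.LT = true := by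
  decide +kernel

attribute [local irreducible] inPat L0.L43.mul pw ng memL lkp ok cd el inK π K S1 T0

theorem h_of {c : ℕ} (h : c ∈ L43.LT) : ∃ g, hChk c g = true :=
  ⟨_, by simpa only [force_eq] using allL_iff.mp hAll c h⟩

theorem conj_t {b : Bool} {A : M true} (hA : A ∈ K false) (h : A * A = 1) (h1 : A ≠ 1)
    (h2 : A ≠ m0) : ∃ g ∈ K b, g * A * g⁻¹ = t0 := by
  obtain ⟨l, hl, k⟩ := conj_into (sylT b) (K_le hA) (k := 1) (by rwa [pow_one, sq])
  obtain ⟨g, k1⟩ := h_of (lT.mem _ k.2)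
  rw [hChk, ← cd_mul, ← cd_one (b := true), ← cd_m] at k1
  simp only [bor_eq_true, band_eq_true, Bool.not_eq_true', ← Bool.not_eq_true, beq_cd,
    ← mem_K, conj_mul, conj_eq_one_iff, conj_eq_m, h, h1, h2, norm_K (K_le' hl) hA, not_true,
    false_or] at k1
  obtain ⟨X, rfl⟩ : ∃ B : M true, cd B = g := ⟨_, cd_el k1.1.1⟩
  rw [← cd_t, ← cd_mul, ← cd_mul, beq_cd, ← mem_K, ← conj_eq_iff] at k1
  exact ⟨X * l, mul_mem (K_le k1.1.2) hl, by rw [← k1.2]; group⟩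

theorem syl_le {A : Type*} [Group A] [Finite A] {p : ℕ} [Fact p.Prime] {S K : Subgroup A}
    (hS : IsSylowIn p S K) {V : Subgroup K} (h : ¬ p ∣ V.index) :
    ∃ l : K, ∀ s : K, s.1 ∈ S → l⁻¹ * s * l ∈ V := by
  obtain ⟨P, hP⟩ := exists_isSylowIn p V
  have h1 : IsSylowIn p P ⊤ := ⟨le_top, hP.isPGroup, fun k => by
    rw [relIndex_top_right, ← relIndex_mul_index hP.le] at k
    exact ((Fact.out : p.Prime).dvd_mul.mp k).elim hP.not_dvd h⟩
  obtain ⟨l, -, e⟩ := h1.exists_conj (Q := S.subgroupOf K) ⟨le_top, hS.isPGroup.comap_subtype, by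
    rw [relIndex_top_right]; exact hS.not_dvd⟩
  exact ⟨l, fun s hs => hP.le (mem_conj_smul_iff.mp (e.ge hs))⟩

theorem dat_of {A : Type*} [Group A] {m t i : A} {U V : Subgroup A} (hm : m ∈ V) (ht : t ∈ V)
    (hi : i ∈ V) (mc : ∀ a, m * a = a * m) (mm : m * m = 1) (m1 : m ≠ 1) (tt : t * t = 1)
    (t1 : t ≠ 1) (tm : t ≠ m) (ii : i * i = m) (ti : t * i = i * t)
    (tU : ∀ a ∈ V, a * t * a⁻¹ ∈ U) (iU : i ∈ U)
    (c3 : ∀ a ∈ V, a * a = 1 ∨ a * a = m → ∃ x ∈ V, x ^ 3 = 1 ∧ x ≠ 1 ∧ a * x = x * a)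
    (ci : ∀ a ∈ U, a * a = m → ∃ g ∈ V, g * a * g⁻¹ = i)
    (ct : ∀ a ∈ U, a * a = 1 → a ≠ 1 → a ≠ m → ∃ g ∈ V, g * a * g⁻¹ = t)
    (cU : ∀ a ∈ U, a * t = t * a → a * a = 1 → a = 1 ∨ a = m ∨ a = t ∨ a = m * t)
    (c9 : ∀ a, a * t = t * a → a * i = i * a → a ^ 3 = 1 → a = 1)
    (cS : ∀ W : Subgroup V, ¬ 3 ∣ W.index → ∃ v ∈ W, v.1 ^ 3 = 1 ∧ v.1 * t ≠ t * v.1) :
    Dat (⟨m, hm⟩ : V) ⟨t, ht⟩ ⟨i, hi⟩ (U.subgroupOf V) := by
  refine ⟨?_, ?_, ?_, ?_, ?_, ?_, ?_, ?_, fun a => tU a a.2, iU, ?_, ?_, ?_, ?_, ?_,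
    fun W h => by_contra fun k => ?_⟩
  rotate_right
  · obtain ⟨v, hv, v1, v2⟩ := cS W k
    exact v2 (congrArg Subtype.val (h v hv (Subtype.ext v1)))
  all_goals simp only [Ne, Subtype.ext_iff, Subtype.forall, Subtype.exists, coe_mul, coe_one,
    coe_inv, coe_pow, mem_subgroupOf, exists_prop]
  exacts [fun a _ => mc a, mm, m1, tt, t1, tm, ii, ti, c3, fun a _ => ci a, fun a _ => ct a,
    fun a _ => cU a, fun a _ => c9 a]

theorem t_mem : t0 ∈ K false := by (simp only [Ne, ← cd_eq, lS.mem_iff, mem_K, cd_mul, cd_pow, cd_one, cds, cds3, cds4]; decide +kernel)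

theorem i_mem : i0 ∈ K false := by (simp only [Ne, ← cd_eq, lS.mem_iff, mem_K, cd_mul, cd_pow, cd_one, cds, cds3, cds4]; decide +kernel)

theorem y_mem : y0 ∈ S1 ∧ y1 ∈ S1 ∧ (y0 : M true) ^ 3 = 1 ∧ y1 ^ 3 = 1 := by (simp only [Ne, ← cd_eq, lS.mem_iff, mem_K, cd_mul, cd_pow, cd_one, cds, cds3, cds4]; decide +kernel)

theorem t_ne' : (t0 : M true) ≠ 1 ∧ (t0 : M true) ≠ m0 ∧ t0 * i0 = i0 * t0 ∧ b1 ^ 2 = t0 := by (simp only [Ne, ← cd_eq, lS.mem_iff, mem_K, cd_mul, cd_pow, cd_one, cds, cds3, cds4]; decide +kernel)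

theorem cS_aux {A : Type*} [Group A] {V : Subgroup A} {W : Subgroup V} {l s : V} {t : A}
    (h : l⁻¹ * s * l ∈ W) (hs : s.1 ^ 3 = 1)
    (k : ¬ ∃ v ∈ W, v.1 ^ 3 = 1 ∧ v.1 * t ≠ t * v.1) : l * t * l.1⁻¹ * s = s * (l * t * l.1⁻¹) := by
  have h1 : (l⁻¹ * s * l).1 = l.1⁻¹ * s * l.1⁻¹⁻¹ := by simp
  have h2 : l.1⁻¹ * s * l.1⁻¹⁻¹ * t = t * (l.1⁻¹ * s * l.1⁻¹⁻¹) := by_contra fun e =>
    k ⟨_, h, by rw [h1, conj_pow, hs]; simp, by rwa [h1]⟩
  calc _ = l * (t * (l.1⁻¹ * s * l.1⁻¹⁻¹)) * l.1⁻¹ := by group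
    _ = _ := by rw [← h2]; group

theorem cS_of {A : Type*} [Group A] [Finite A] {S V : Subgroup A} (hS : IsSylowIn 3 S V)
    {t y y' : A} (hy : y ∈ S) (hy' : y' ∈ S) (h3 : y ^ 3 = 1) (h3' : y' ^ 3 = 1)
    (h : ∀ l, l * t * l⁻¹ * y = y * (l * t * l⁻¹) → l * t * l⁻¹ * y' ≠ y' * (l * t * l⁻¹))
    (W : Subgroup V) (hW : ¬ 3 ∣ W.index) : ∃ v ∈ W, v.1 ^ 3 = 1 ∧ v.1 * t ≠ t * v.1 :=
  by_contra fun k =>
    let ⟨l, hl⟩ := syl_le hS hW
    h l (cS_aux (hl ⟨_, hS.le hy⟩ hy) h3 k) (cS_aux (hl ⟨_, hS.le hy'⟩ hy') h3' k)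

theorem cS_t (l : M true) (h : l * t0 * l⁻¹ * y0 = y0 * (l * t0 * l⁻¹)) :
    l * t0 * l⁻¹ * y1 ≠ y1 * (l * t0 * l⁻¹) := fun h' => by
  have := (cent_S h h').2 (by rw [conj_mul, t_sq]; simp)
  rw [conj_eq_one_iff, conj_eq_m] at this
  exact this.elim t_ne'.1 t_ne'.2.1

theorem dat (b : Bool) : Dat (⟨m0, m_mem⟩ : K b) ⟨t0, K_le t_mem⟩ ⟨i0, K_le i_mem⟩
    ((K false).subgroupOf (K b)) :=
  dat_of _ _ _ m0_comm m0_sq m0_ne t_sq t_ne'.1 t_ne'.2.1 i_sq t_ne'.2.2.1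
    (fun _ ha => norm_K (K_le' ha) t_mem) i_mem
    (fun _ ha h => (inv_spec ha h).1.imp fun _ k => ⟨K_le k.1, k.2⟩)
    (fun _ ha h => (inv_spec (K_le ha) (.inr h)).2.2 h ha) (fun _ ha => conj_t ha)
    (fun _ ha h h' => cent_tU h h' ha) (fun _ h h' h3 => (cent_ti h h').2 (by
      rw [show 9 = 3 * 3 from rfl, pow_mul, h3, one_pow]))
    (cS_of (sylS b) y_mem.1 y_mem.2.1 y_mem.2.2.1 y_mem.2.2.2 cS_t)

variable {G : Type*} [Group G] [Finite G] {z c y s u w p : G}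

theorem top_of {b : Bool} {φ : K b →* G} {H : Subgroup G} (h1 : φ.range = H)
    (h2 : φ ⟨b1, b_mem⟩ = s) (h3 : ∀ A, φ A = 1 ↔ A.1 = 1 ∨ A.1 = m0) (hs : Str H (s ^ 2)) :
    H = ⊤ := by
  subst h1 h2
  refine (dat b).top (fun A => by simp only [h3, Subtype.ext_iff, coe_one]) ?_
  rwa [← map_pow, show (⟨b1, b_mem⟩ : K b) ^ 2 = ⟨t0, K_le t_mem⟩ from
    Subtype.ext ((coe_pow _ _ _).trans t_ne'.2.2.2)] at hs

/-- `PSp₄(3)` is not strongly `3`-embedded. -/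
theorem end1 (h : R1 z c y s u w) (hs : Str (closure {c, s, u, w}) (s ^ 2)) :
    closure ({c, s, u, w} : Set G) = ⊤ :=
  let ⟨_, h1, h2, h3⟩ := hom1 h
  top_of h1 h2 h3 hs

/-- `W(E₆)` is not strongly `3`-embedded. -/
theorem top2 (h : R2 z c y s u w p) (hs : Str (closure {c, s, u, w, p}) (s ^ 2)) :
    closure ({c, s, u, w, p} : Set G) = ⊤ :=
  let ⟨_, h1, h2, h3⟩ := hom2 h
  top_of h1 h2 h3 hs

end Cfsg.Agent.H4.P3
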