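import Cfsg.Agent.H4.L43EndA1

/-!
# Automorphisms of a central quotient as correspondences
-/

set_option autoImplicit false

namespace Cfsg.Agent.H4.P3

open Subgroup Cfsg.Agent.H9 Cfsg.Agent.H1.T3 Cfsg.Agent.L0.L43

variable {A : Type*} [Group A] {m : A} {U : Subgroup A} {Λ : Subgroup (A × A)}

/-- The graph of an automorphism of `U / ⟨m⟩`. -/
structure Cor (m : A) (U : Subgroup A) (Λ : Subgroup (A × A)) : Prop where
  mc : ∀ a, m * a = a * m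
  mm : m * m = 1
  mem : ∀ {a b}, (a, b) ∈ Λ → b ∈ U
  tot : ∀ a ∈ U, ∃ b, (a, b) ∈ Λ
  one : ∀ {b}, (1, b) ∈ Λ ↔ b = 1 ∨ b = m
  inj : ∀ {a}, (a, 1) ∈ Λ ↔ a = 1 ∨ a = m

/-- Twisting by a conjugation. -/
def tw (g : A) (Λ : Subgroup (A × A)) : Subgroup (A × A) :=
  Λ.comap ((MonoidHom.id A).prodMap (MulAut.conj g).toMonoidHom)

theorem mem_tw {g a b : A} : (a, b) ∈ tw g Λ ↔ (a, g * b * g⁻¹) ∈ Λ := Iff.rfl

theorem inn_of_gen {s : Set A} {g : A} (h : ∀ a ∈ s, (a, g * a * g⁻¹) ∈ Λ) :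
    ∀ a ∈ closure s, (a, g * a * g⁻¹) ∈ Λ :=
  (closure_le (Λ.comap ((MonoidHom.id A).prod (MulAut.conj g).toMonoidHom))).mpr h

theorem inn_tw {V : Subgroup A} {g : A} (hg : g ∈ V)
    (h : ∃ k ∈ V, ∀ a ∈ U, (a, k * a * k⁻¹) ∈ tw g Λ) :
    ∃ k ∈ V, ∀ a ∈ U, (a, k * a * k⁻¹) ∈ Λ := by
  obtain ⟨k, hk, h⟩ := h
  exact ⟨g * k, mul_mem hg hk, fun a ha => by simpa [mul_assoc] using mem_tw.mp (h a ha)⟩

namespace Cor

variable (c : Cor m U Λ)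
include c

theorem tw {g : A} (hg : ∀ a ∈ U, g⁻¹ * a * g⁻¹⁻¹ ∈ U) : Cor m U (tw g Λ) where
  mc := c.mc
  mm := c.mm
  mem h := by simpa [mul_assoc] using hg _ (c.mem (mem_tw.mp h))
  tot a ha := let ⟨b, h⟩ := c.tot a ha; ⟨g⁻¹ * b * g, by simpa [mem_tw, mul_assoc] using h⟩
  one {b} := by rw [mem_tw, c.one, conj_eq_one_iff, conj_eq_iff, c.mc, mul_left_cancel_iff]
  inj := by simp [mem_tw, c.inj]

theorem eq {a b b' : A} (h : (a, b) ∈ Λ) (h' : (a, b') ∈ Λ) : b = b' ∨ b = m * b' := by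
  have := mul_mem h (inv_mem h')
  rwa [Prod.inv_mk, Prod.mk_mul_mk, mul_inv_cancel, c.one, mul_inv_eq_one,
    mul_inv_eq_iff_eq_mul] at this

theorem of_eq {a b b' : A} (h : (a, b) ∈ Λ) (e : b = b' ∨ b = m * b') : (a, b') ∈ Λ := by
  rcases e with rfl | rfl
  · exact h
  · simpa [← mul_assoc, c.mm] using mul_mem (c.one.mpr (.inr rfl)) h

theorem pm {a b : A} (h : (a, b) ∈ Λ) (e : a = 1 ∨ a = m) : b = 1 ∨ b = m := by
  simpa using c.eq h (c.inj.mpr e)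

theorem m3 (a : A) : (m * a) ^ 3 = m * a ^ 3 := by
  rw [(show Commute m a from c.mc a).mul_pow, pow_succ m, sq, c.mm, one_mul]

theorem lift3 {a : A} (ha : a ∈ U) (h : a ^ 3 = 1) : ∃ b, (a, b) ∈ Λ ∧ b ^ 3 = 1 := by
  obtain ⟨b, hb⟩ := c.tot a ha
  rcases c.pm (pow_mem hb 3) (.inl h) with e | e
  · exact ⟨b, hb, e⟩
  · exact ⟨m * b, c.of_eq hb (.inr (by rw [← mul_assoc, c.mm, one_mul])), by
      rw [c.m3, show b ^ 3 = m from e, c.mm]⟩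

theorem conj {g g' a a' b b' : A} (hg : (g, g') ∈ Λ) (ha : (a, a') ∈ Λ) (hb : (b, b') ∈ Λ)
    (e : g * a = b * g) : g' * a' = b' * g' ∨ g' * a' = m * (b' * g') :=
  c.eq (mul_mem hg ha) (e ▸ mul_mem hb hg)

theorem conj3 {g g' a a' b b' : A} (hg : (g, g') ∈ Λ) (ha : (a, a') ∈ Λ) (hb : (b, b') ∈ Λ)
    (e : g * a = b * g) (h1 : a' ^ 3 = 1) (h2 : b' ^ 3 = 1) : g' * a' = b' * g' := by
  refine (c.conj hg ha hb e).elim id fun h => ?_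
  have := congrArg (· ^ 3) (conj_eq_iff.mpr (h.trans (mul_assoc _ _ _).symm))
  simp only [conj_pow, h1, c.m3, h2, mul_one, mul_inv_cancel] at this
  rwa [← this, one_mul] at h

theorem syl [Finite A] {X : Type*} [Group X] [Finite X] (π : A →* X)
    (hπ : ∀ {a b}, π a = π b ↔ a = b ∨ a = m * b) {S : Subgroup A} (hS : IsSylowIn 3 S U) :
    ∃ l ∈ U, ∀ a ∈ S, ∀ b, (a, b) ∈ P3.tw l Λ → b ^ 3 = 1 → b ∈ S := by
  have h1 : IsSylowIn 3 (S.map π) (U.map π) := ⟨map_mono hS.le, hS.isPGroup.map π, fun h =>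
    hS.not_dvd (h.trans (by
      rw [← relIndex_comap]; exact relIndex_dvd_of_le_left _ (le_comap_map π S)))⟩
  obtain ⟨P, hP, h2⟩ := exists_isSylowIn_ge (p := 3) (L := U.map π)
    (R := ((Λ ⊓ S.prod ⊤).map (MonoidHom.snd A A)).map π)
    (map_mono (by rintro _ ⟨x, hx, rfl⟩; exact c.mem hx.1)) (by
      rintro ⟨_, _, ⟨x, hx, rfl⟩, rfl⟩
      obtain ⟨k, hk⟩ := pel_of_mem hS.isPGroup hx.2.1
      refine ⟨k, Subtype.ext ?_⟩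
      change π x.2 ^ 3 ^ k = 1
      rw [← map_pow, ← map_one π, hπ, mul_one]
      exact c.pm (pow_mem hx.1 _) (.inl hk))
  obtain ⟨_, ⟨l, hl, rfl⟩, e⟩ := h1.exists_conj hP
  refine ⟨l, hl, fun a ha b h h3 => ?_⟩
  obtain ⟨s, hs, k⟩ := mem_conj_smul_iff.mp (e.ge (h2 ⟨_, ⟨_, ⟨mem_tw.mp h, ha, trivial⟩, rfl⟩, rfl⟩))
  have k1 : π b = π s := by rw [k]; simp [mul_assoc]
  rcases hπ.mp k1 with rfl | rfl
  · exact hs
  · rw [c.m3, mul_eq_one_iff_eq_inv] at h3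
    exact mul_mem (h3 ▸ inv_mem (pow_mem hs 3)) hs

end Cor

theorem aut_of {G : Type*} [Group G] {V : Subgroup A} (hUV : U ≤ V) (hm : m ∈ U)
    (mc : ∀ a, m * a = a * m) (mm : m * m = 1) (hn : ∀ g ∈ V, ∀ a ∈ U, g * a * g⁻¹ ∈ U)
    (φ : V →* G) (hs : Function.Surjective φ) (hk : ∀ a, φ a = 1 ↔ a.1 = 1 ∨ a.1 = m)
    (inj : ∀ g ∈ V, (∀ a ∈ U, g * a = a * g ∨ g * a = m * (a * g)) → g = 1 ∨ g = m)
    (sur : ∀ Λ, Cor m U Λ → ∃ g ∈ V, ∀ a ∈ U, (a, g * a * g⁻¹) ∈ Λ) :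
    ∃ (N : Subgroup G) (ψ : U →* N), Function.Surjective ψ ∧ (∀ a, ψ a = 1 ↔ a.1 = 1 ∨ a.1 = m) ∧
      Nonempty (G ≃* MulAut N) := by
  let ψ := (φ.comp (inclusion hUV)).rangeRestrict
  have h1 : Function.Surjective ψ := MonoidHom.rangeRestrict_surjective _
  have h2 : ∀ a, ψ a = 1 ↔ a.1 = 1 ∨ a.1 = m := fun a => Subtype.ext_iff.trans (hk _)
  have h3 : ∀ (g : V) (a : U), φ g * (ψ a).1 * (φ g)⁻¹ = (ψ ⟨_, hn g g.2 a a.2⟩).1 := fun g a => by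
    change φ g * φ _ * _ = φ _
    rw [← map_inv, ← map_mul, ← map_mul]
    rfl
  have hN : (φ.comp (inclusion hUV)).range.Normal := ⟨fun n hn g => by
    obtain ⟨g, rfl⟩ := hs g
    obtain ⟨a, e⟩ := h1 ⟨n, hn⟩
    rw [show n = (ψ a).1 from (congrArg Subtype.val e).symm, h3]
    exact Subtype.prop _⟩
  refine ⟨_, ψ, h1, h2, ⟨MulEquiv.ofBijective MulAut.conjNormal
    ⟨(injective_iff_map_eq_one _).mpr fun g hg => ?_, fun α => ?_⟩⟩⟩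
  · obtain ⟨g, rfl⟩ := hs g
    refine (hk g).mpr (inj g g.2 fun a ha => ?_)
    have := congrArg Subtype.val (DFunLike.congr_fun hg (ψ ⟨a, ha⟩))
    rw [MulAut.conjNormal_apply, h3, MulAut.one_apply, ← Subtype.ext_iff, ← mul_inv_eq_one,
      ← map_inv, ← map_mul, h2] at this
    simpa only [coe_mul, coe_inv, mul_inv_eq_iff_eq_mul, mul_assoc m, one_mul] using this
  · have k : ∀ {a b}, (a, b) ∈ (((α.toMonoidHom.comp ψ).comp (MonoidHom.fst U U)).eqLocus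
        (ψ.comp (MonoidHom.snd U U))).map (U.subtype.prodMap U.subtype) ↔
        ∃ (ha : a ∈ U) (hb : b ∈ U), α (ψ ⟨a, ha⟩) = ψ ⟨b, hb⟩ :=
      ⟨by rintro ⟨⟨x, y⟩, h, ⟨⟩⟩; exact ⟨x.2, y.2, h⟩, fun ⟨ha, hb, h⟩ =>
        ⟨(⟨_, ha⟩, ⟨_, hb⟩), h, rfl⟩⟩
    have k1 : ∀ h, ψ ⟨1, h⟩ = 1 := fun _ => map_one ψ
    have k2 : ∀ {b}, b = 1 ∨ b = m → b ∈ U := by rintro _ (rfl | rfl); exacts [one_mem _, hm]
    obtain ⟨g, hg, h⟩ := sur _ ⟨mc, mm, fun h => (k.mp h).2.1, fun a ha =>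
      let ⟨b, e⟩ := h1 (α (ψ ⟨a, ha⟩)); ⟨b, k.mpr ⟨ha, b.2, e.symm⟩⟩,
      k.trans ⟨fun ⟨_, _, h⟩ => (h2 _).mp (by rw [← h, k1, map_one]), fun h =>
        ⟨one_mem _, k2 h, by rw [k1, map_one, (h2 _).mpr h]⟩⟩,
      k.trans ⟨fun ⟨_, _, h⟩ => (h2 _).mp (by rwa [k1, map_eq_one_iff α α.injective] at h),
        fun h => ⟨k2 h, one_mem _, by rw [k1, (h2 _).mpr h, map_one]⟩⟩⟩
    refine ⟨φ ⟨g, hg⟩, MulEquiv.ext fun n => Subtype.ext ?_⟩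
    obtain ⟨a, rfl⟩ := h1 n
    rw [MulAut.conjNormal_apply, h3]
    exact congrArg Subtype.val (k.mp (h a a.2)).2.2.symm

end Cfsg.Agent.H4.P3
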