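import Mathlib.Algebra.BigOperators.Group.Finset.Basic
import Mathlib.Algebra.Order.BigOperators.Group.Finset
import Mathlib.Data.Nat.Bitwise

/-!
# Counting automorphisms of the triple systems on 13 points invariant under `13 : 3`
-/

set_option autoImplicit false

namespace Cfsg.Agent.H4.P4

open Finset

/-- table of the orbits of `13 : 3` on triples. -/
def CLS : ℕ := 0xfffffffffffffff03716543210f0f1544986653f31f260153047f752f36300141f1463f4850596f64064f591385f591385f64064f4850596f1463f36300141f752f260153047f31f1544986653f0f03716543210fff03716543210fffffffffffff0ff03716543213f0f1544986657f31f260153041f752f36300146f1463f4850595f64064f591384f591385f64063f4850596f1462f36300141f751f260153047f30f1544986653ff0f15449866530ff0371654321fffffffffffff10ff03716543253f0f1544986647f31f260153041f752f36300196f1463f4850585f64064f591364f591385f64063f4850596f1452f36300141f731f260153047ff31f2601530473f0f15449866510ff037165432fffffffffffff210ff03716543653f0f1544986047f31f260153141f752f36300596f1463f4850385f640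64f591064f591385f64463f4850596f1752f36300141ff752f363001417f31f2601530453f0f15449866210ff03716543fffffffffffff3210ff03716546653f0f1544983047f31f260150141f752f36300596f1463f4851385f64064f594064f591385f61463f4850596ff1463f48505961f752f363001447f31f2601530653f0f15449863210ff0371654fffffffffffff43210ff03716586653f0f1544953047f31f260100141f752f36350596f1463f4891385f64064f564064f591385ff64064f5913856f1463f48505941f752f363001047f31f2601536653f0f15449843210ff037165fffffffffffff543210ff03716986653f0f1544153047f31f260300141f752f36850596f1463f4591385f64064ff591385f640645f64064f5913896f1463f48505141f752f363003047f31f2601586653f0f15449543210ff03716fffffffffffff6543210ff03714986653f0f1540153047f31f266300141f752f34850596f1463ff4850596f14634f591385f640685f64064f5913596f1463f48500141f752f363053047f31f2601986653f0f15446543210ff0371fffffffffffff16543210ff03744986653f0f1560153047f31f236300141f752ff36300141f7523f4850596f14664f591385f640385f64064f5910596f1463f48500141f752f363153047f31f2604986653f0f15416543210ff037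fffffffffffff716543210ff03544986653f0f1260153047f31ff260153047f312f36300141f7563f4850596f14064f591385f641385f64064f5950596f1463f48300141f752f360153047f31f2644986653f0f15716543210ff03fffffffffffff3716543210ff01544986653f0ff1544986653f01f260153047f352f36300141f7463f4850596f14064f591385f691385f64064f5850596f1463f46300141f752f360153047f31f2544986653f0f13716543210ff0fffffffffffff03716543210fff03716543210f0f1544986653f31f260153047f752f36300141f1463f4850596f64064f591385f591385f64064f4850596f1463f36300141f752f260153047f31f1544986653f0f03716543210fffffffffffffff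

/-- the orbit of a triple. -/
def cl (x y z : ℕ) : ℕ :=
  Nat.mod (Nat.shiftRight CLS (Nat.mul 4 (Nat.add (Nat.add (Nat.mul 169 x) (Nat.mul 13 y)) z))) 16

/-- a bit. -/
def bit (b i : ℕ) : ℕ := Nat.mod (Nat.shiftRight b i) 2

/-- the triple system selected by `b`. -/
def dd (b x y z : ℕ) : ℕ := bit b (cl x y z)

/-- compatibility with one old point. -/
def ok1 (b k v : ℕ) (a : ℕ × ℕ) : List (ℕ × ℕ) → Bool
  | [] => true
  | c :: L => Nat.beq (dd b a.1 c.1 k) (dd b a.2 c.2 v) && ok1 b k v a L

/-- compatibility with all old points. -/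
def ok2 (b k v : ℕ) : List (ℕ × ℕ) → Bool
  | [] => true
  | a :: L => ok1 b k v a L && ok2 b k v L

/-- number of extensions of a partial map. -/
def cnt (b : ℕ) : ℕ → List (ℕ × ℕ) → ℕ
  | 0, _ => 1
  | n + 1, L => ∑ v ∈ range 13,
    bif L.all (fun a => !Nat.beq a.2 v) && ok2 b (12 - n) v L then cnt b n ((12 - n, v) :: L) else 0

/-- the number of blocks through two points. -/
def lam (b x y : ℕ) : ℕ := ∑ z ∈ range 13, dd b x y z

theorem cnt_le : ∀ c < 511, lam (2 * c + 1) 0 1 = lam (2 * c + 1) 0 2 →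
    lam (2 * c + 1) 0 1 = lam (2 * c + 1) 0 4 → lam (2 * c + 1) 0 1 = lam (2 * c + 1) 0 8 →
    cnt (2 * c + 1) 11 [(1, 1), (0, 0)] ≤ 36 := by decide +kernel

/-- orbit representatives. -/
def rep (i : ℕ) : List ℕ :=
  [[0, 1, 2], [0, 1, 3], [0, 1, 4], [0, 1, 5], [0, 1, 6], [0, 1, 7], [0, 1, 8], [0, 1, 10],
    [0, 2, 7], [0, 2, 8]].getD i []

theorem cl_deg : ∀ x < 13, ∀ y < 13, cl x x y = 15 ∧ cl x y x = 15 ∧ cl y x x = 15 := by
  decide +kernel

/-- a triple is in the orbit of its representative. -/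
def spec (x y z : ℕ) : Prop := cl x y z < 10 ∧ ∃ a ∈ [1, 3, 9], ∃ c < 13,
  [(a * x + c) % 13, (a * y + c) % 13, (a * z + c) % 13].Perm (rep (cl x y z))

instance instDecSpec (x y z : ℕ) : Decidable (spec x y z) := by unfold spec; infer_instance

theorem cl_spec : ∀ x < 13, ∀ y < 13, ∀ z < 13, x = y ∨ x = z ∨ y = z ∨ spec x y z := by
  decide +kernel

theorem cl_rep : cl 0 1 2 = 0 := by decide +kernel

section Sound

variable {G : Type*} {f : G → ℕ → ℕ} {b : ℕ}
  (hlt : ∀ g x, f g x < 13) (hinj : ∀ g, ∀ x < 13, ∀ y < 13, f g x = f g y → x = y)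
  (hd : ∀ g, ∀ x < 13, ∀ y < 13, ∀ z < 13, dd b x y z = dd b (f g x) (f g y) (f g z))
  (hf : ∀ g h, (∀ x < 13, f g x = f h x) → g = h)

include hd in
theorem ok1_of {g : G} {k : ℕ} (hk : k < 13) {a : ℕ × ℕ} (ha : a.1 < 13 ∧ f g a.1 = a.2) :
    ∀ L : List (ℕ × ℕ), (∀ c ∈ L, c.1 < 13 ∧ f g c.1 = c.2) → ok1 b k (f g k) a L = true
  | [], _ => rfl
  | c :: L, h => by
    have hc := h c (List.mem_cons_self ..)
    rw [ok1, ok1_of hk ha L fun c hc => h c (List.mem_cons_of_mem _ hc), hd g _ ha.1 _ hc.1 _ hk,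
      ha.2, hc.2]
    simp

include hd in
theorem ok2_of {g : G} {k : ℕ} (hk : k < 13) :
    ∀ L : List (ℕ × ℕ), (∀ c ∈ L, c.1 < 13 ∧ f g c.1 = c.2) → ok2 b k (f g k) L = true
  | [], _ => rfl
  | c :: L, h => by
    have h' := fun c hc => h c (List.mem_cons_of_mem _ hc)
    rw [ok2, ok1_of hd hk (h c (List.mem_cons_self ..)) L h', ok2_of hk L h']
    rfl

include hlt hinj hd hf in
theorem card_le_cnt : ∀ (n : ℕ) (L : List (ℕ × ℕ)) (S : Finset G), n ≤ 13 →
    (∀ c ∈ L, c.1 < 13 - n) → (∀ x < 13 - n, ∃ c ∈ L, c.1 = x) →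
    (∀ g ∈ S, ∀ c ∈ L, f g c.1 = c.2) → #S ≤ cnt b n L
  | 0, L, S, _, _, h2, h3 => card_le_one.2 fun g hg h hh => hf g h fun x hx => by
    obtain ⟨c, hc, rfl⟩ := h2 x hx
    rw [h3 g hg c hc, h3 h hh c hc]
  | n + 1, L, S, h0, h1, h2, h3 => by
    classical
    rw [cnt, card_eq_sum_card_fiberwise (f := fun g => f g (12 - n)) (t := range 13)
      fun g _ => by simpa using hlt g _]
    refine sum_le_sum fun v _ => ?_
    rcases (S.filter fun g => f g (12 - n) = v).eq_empty_or_nonempty with h | ⟨g, hg⟩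
    · rw [h]; exact Nat.zero_le _
    obtain ⟨hg', e⟩ := mem_filter.1 hg
    clear hg
    subst e
    have h4 : (L.all fun a => !Nat.beq a.2 (f g (12 - n))) = true := by
      refine List.all_eq_true.2 fun c hc => ?_
      have h5 := h1 c hc
      have h6 : c.2 ≠ f g (12 - n) := fun e => by
        have := hinj g c.1 (by omega) (12 - n) (by omega) ((h3 g hg' c hc).trans e)
        omega
      rw [Bool.not_eq_true', ← Bool.not_eq_true, Nat.beq_eq]
      exact h6
    rw [h4, ok2_of hd (by omega) L fun c hc => ⟨by have := h1 c hc; omega, h3 g hg' c hc⟩]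
    refine card_le_cnt n _ _ (by omega) (List.forall_mem_cons.2 ⟨by simp only; omega,
      fun c hc => by have := h1 c hc; omega⟩) (fun x hx => ?_) fun g' hg'' =>
      List.forall_mem_cons.2 ⟨(mem_filter.1 hg'').2, h3 g' (mem_filter.1 hg'').1⟩
    by_cases e : x = 12 - n
    · exact ⟨_, List.mem_cons_self .., e.symm⟩
    · obtain ⟨c, hc, e'⟩ := h2 x (by omega)
      exact ⟨c, List.mem_cons_of_mem _ hc, e'⟩

include hlt hinj hd in
theorem lam_eq (g : G) {x y : ℕ} (hx : x < 13) (hy : y < 13) :
    lam b x y = lam b (f g x) (f g y) := by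
  refine sum_bij (fun z _ => f g z) (fun z _ => mem_range.2 (hlt g z))
    (fun z hz w hw => hinj g z (mem_range.1 hz) w (mem_range.1 hw)) (fun w hw => ?_)
    fun z hz => hd g x hx y hy z (mem_range.1 hz)
  obtain ⟨z, hz, e⟩ := surj_on_of_inj_on_of_card_le (s := range 13) (t := range 13)
    (fun z _ => f g z) (fun z _ => mem_range.2 (hlt g z))
    (fun z w hz hw => hinj g z (mem_range.1 hz) w (mem_range.1 hw)) le_rfl w hw
  exact ⟨z, hz, e.symm⟩

include hlt hinj hd hf in
theorem card_le (hb : b < 1023) (hb0 : b % 2 = 1)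
    (h2 : ∀ y < 13, y ≠ 0 → ∃ g, f g 0 = 0 ∧ f g 1 = y) (S : Finset G)
    (hS : ∀ g ∈ S, f g 0 = 0 ∧ f g 1 = 1) : #S ≤ 36 := by
  have h1 : ∀ y < 13, y ≠ 0 → lam b 0 1 = lam b 0 y := fun y hy h0 => by
    obtain ⟨g, e0, e1⟩ := h2 y hy h0
    rw [lam_eq hlt hinj hd g (by omega) (by omega), e0, e1]
  obtain ⟨c, rfl⟩ : ∃ c, b = 2 * c + 1 := ⟨b / 2, by omega⟩
  refine (card_le_cnt hlt hinj hd hf 11 [(1, 1), (0, 0)] S (by omega) (by simp)
    (fun x hx => ?_) fun g hg => ?_).trans (cnt_le c (by omega) (h1 2 (by omega) (by omega))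
    (h1 4 (by omega) (by omega)) (h1 8 (by omega) (by omega)))
  · have : x = 0 ∨ x = 1 := by omega
    rcases this with rfl | rfl <;> simp
  · simpa [and_comm] using hS g hg

end Sound

end Cfsg.Agent.H4.P4
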