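import Cfsg.Agent.L0.PnA

/-! Bochert's bound for sixfold transitive groups. -/

set_option autoImplicit false
set_option linter.unusedSectionVars false

namespace Cfsg.Agent.L0.Pn

open Finset

variable {G : Type} [Group G] [Finite G] {Ω : Type} [Fintype Ω] [DecidableEq Ω] [MulAction G Ω]
  {H : Subgroup G} {O : Finset Ω}

namespace Bo

/-- the elements of a subgroup -/
noncomputable def els (L : Subgroup G) : Finset G := (Set.toFinite (L : Set G)).toFinset

theorem mem_els {L : Subgroup G} {g : G} : g ∈ els L ↔ g ∈ L := by simp [els]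

theorem fib {β : Type} [DecidableEq β] (L : Subgroup G) (ψ : G → β) (T : Finset β) (h1 : ∀ l ∈ L, ψ l ∈ T)
    (h2 : ∀ t ∈ T, ∀ t' ∈ T, ∃ h ∈ L, ∀ l, ψ l = t ↔ ψ (h * l) = t') {U : Finset β} (hU : U ⊆ T) :
    T.card * ((els L).filter fun l => ψ l ∈ U).card = U.card * (els L).card := by
  have key : ∀ t ∈ T, ∀ t' ∈ T,
      ((els L).filter fun l => ψ l = t).card = ((els L).filter fun l => ψ l = t').card := by
    intro t ht t' ht'
    obtain ⟨h, hh, e⟩ := h2 t ht t' ht'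
    refine card_bij (fun l _ => h * l) (fun l hl => ?_) (fun l _ l' _ e => mul_left_cancel e)
      (fun l hl => ⟨h⁻¹ * l, ?_, mul_inv_cancel_left _ _⟩)
    · rw [mem_filter, mem_els] at hl ⊢
      exact ⟨L.mul_mem hh hl.1, (e l).1 hl.2⟩
    · rw [mem_filter, mem_els] at hl ⊢
      exact ⟨L.mul_mem (L.inv_mem hh) hl.1, (e _).2 (by rw [mul_inv_cancel_left]; exact hl.2)⟩
  have t0 : ψ 1 ∈ T := h1 1 L.one_mem
  have gen : ∀ V ⊆ T, ((els L).filter fun l => ψ l ∈ V).card =
      V.card * ((els L).filter fun l => ψ l = ψ 1).card := by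
    intro V hV
    rw [card_eq_sum_card_fiberwise (f := ψ) (s := (els L).filter fun l => ψ l ∈ V) (t := V)
      (fun l hl => (mem_filter.1 (mem_coe.1 hl)).2), ← smul_eq_mul, ← sum_const]
    refine sum_congr rfl fun t ht => ?_
    rw [← key t (hV ht) _ t0, filter_filter]
    congr 1
    exact filter_congr fun l _ => ⟨fun h => h.2, fun h => ⟨h ▸ ht, h⟩⟩
  have e1 := gen T Subset.rfl
  rw [filter_true_of_mem fun l hl => h1 l (mem_els.1 hl)] at e1
  rw [gen U hU, e1]
  ring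

variable {L : Subgroup G} {P : Finset Ω}

/-- double transitivity in the form used below -/
def T2 (L : Subgroup G) (P : Finset Ω) : Prop :=
  ∀ y ∈ P, ∀ y' ∈ P, ∀ z ∈ P, ∀ z' ∈ P, y ≠ y' → z ≠ z' → ∃ h ∈ L, h • y = z ∧ h • y' = z'

theorem c1 (hI : Inv L P) (hT : T2 L P) (hP : 2 ≤ P.card) {x : Ω} (hx : x ∈ P) (S : Finset Ω) :
    P.card * ((els L).filter fun l => l • x ∈ S).card = (S ∩ P).card * (els L).card := by
  have := fib L (fun l => l • x) P (fun l hl => hI l hl x hx) (fun t ht t' ht' => by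
    obtain ⟨u, hu, hut⟩ := exists_mem_ne hP t
    obtain ⟨u', hu', hut'⟩ := exists_mem_ne hP t'
    obtain ⟨h, hh, e, -⟩ := hT t ht u hu t' ht' u' hu' hut.symm hut'.symm
    exact ⟨h, hh, fun l => by rw [mul_smul, ← e, smul_left_cancel_iff]⟩) (U := S ∩ P)
      inter_subset_right
  rw [← this]
  congr 2
  exact filter_congr fun l hl => ⟨fun h => mem_inter.2 ⟨h, hI l (mem_els.1 hl) x hx⟩,
    fun h => (mem_inter.1 h).1⟩

theorem c2 (hI : Inv L P) (hT : T2 L P) {x x' : Ω} (hx : x ∈ P) (hx' : x' ∈ P) (hne : x ≠ x')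
    (S : Finset Ω) :
    (P.card * P.card - P.card) * ((els L).filter fun l => l • x ∈ S ∧ l • x' ∉ S).card =
      (S ∩ P).card * (P \ S).card * (els L).card := by
  have := fib L (fun l => (l • x, l • x')) P.offDiag
    (fun l hl => mem_offDiag.2 ⟨hI l hl x hx, hI l hl x' hx', fun e => hne (smul_left_cancel l e)⟩)
    (fun t ht t' ht' => by
      rw [mem_offDiag] at ht ht'
      obtain ⟨h, hh, e, e'⟩ := hT _ ht.1 _ ht.2.1 _ ht'.1 _ ht'.2.1 ht.2.2 ht'.2.2
      refine ⟨h, hh, fun l => ?_⟩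
      rw [Prod.ext_iff, Prod.ext_iff, mul_smul, mul_smul, ← e, ← e', smul_left_cancel_iff,
        smul_left_cancel_iff]) (U := (S ∩ P) ×ˢ (P \ S)) (fun t ht => by
      rw [mem_product, mem_inter, mem_sdiff] at ht
      exact mem_offDiag.2 ⟨ht.1.2, ht.2.1, fun e => ht.2.2 (e ▸ ht.1.1)⟩)
  rw [offDiag_card, card_product] at this
  rw [← this]
  congr 2
  refine filter_congr fun l hl => ?_
  rw [mem_product, mem_inter, mem_sdiff]
  exact ⟨fun h => ⟨⟨h.1, hI l (mem_els.1 hl) x hx⟩, hI l (mem_els.1 hl) x' hx', h.2⟩,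
    fun h => ⟨h.1.1, h.2.2⟩⟩

omit [Fintype Ω] [DecidableEq Ω] [MulAction G Ω] in
theorem swap (X : Finset Ω) (R : G → Ω → Prop) [∀ l x, Decidable (R l x)] :
    ∑ l ∈ els L, (X.filter fun x => R l x).card = ∑ x ∈ X, ((els L).filter fun l => R l x).card := by
  simp only [card_filter]
  exact sum_comm

/-- counting points -/
theorem pts (hI : Inv L P) (hT : T2 L P) (hP : 2 ≤ P.card) {X : Finset Ω} (hX : X ⊆ P)
    (S : Finset Ω) :
    (P.card : ℤ) * (∑ l ∈ els L, (X.filter fun x => l • x ∈ S).card : ℕ) =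
      X.card * (S ∩ P).card * (els L).card := by
  rw [swap X fun l x => l • x ∈ S, ← Nat.cast_mul, mul_sum,
    sum_congr rfl fun x hx => c1 hI hT hP (hX hx) S, sum_const, smul_eq_mul]
  push_cast
  ring

/-- counting arcs -/
theorem arcs (hI : Inv L P) (hT : T2 L P) (hP : 2 ≤ P.card) {X : Finset Ω} (hX : X ⊆ P)
    (S : Finset Ω) (hS : (P \ S).card + 1 ≤ P.card) (σ : G) (z : Ω)
    (hσ : ∀ x ∈ X, σ • x ≠ x ∧ (σ • x ∈ P ∨ σ • x = z ∨ ∀ l ∈ L, l • σ • x ∈ S)) :
    ((P.card : ℤ) * P.card - P.card) *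
        (∑ l ∈ els L, (X.filter fun x => l • x ∈ S ∧ l • σ • x ∉ S).card : ℕ) ≤
      (X.card * ((S ∩ P).card * (P \ S).card) + (S ∩ P).card * (P.card - 1 - (P \ S).card)) *
        (els L).card := by
  have h0 : (0 : ℤ) ≤ (S ∩ P).card * (P.card - 1 - (P \ S).card) * (els L).card := by
    have : (0 : ℤ) ≤ P.card - 1 - (P \ S).card := by omega
    positivity
  have key : ∀ x ∈ X, ((P.card : ℤ) * P.card - P.card) *
      ((els L).filter fun l => l • x ∈ S ∧ l • σ • x ∉ S).card ≤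
      (S ∩ P).card * (P \ S).card * (els L).card + if σ • x = z then
        ((S ∩ P).card : ℤ) * (P.card - 1 - (P \ S).card) * (els L).card else 0 := by
    intro x hx
    obtain ⟨h1, h2 | h2 | h2⟩ := hσ x hx
    · have := congrArg (Nat.cast : ℕ → ℤ) (c2 hI hT (hX hx) h2 h1.symm S)
      rw [Nat.cast_mul, Nat.cast_sub (Nat.le_mul_self _)] at this
      push_cast at this
      rw [this]
      split_ifs <;> omega
    · rw [if_pos h2]
      have := congrArg (Nat.cast : ℕ → ℤ) (c1 hI hT hP (hX hx) S)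
      push_cast at this
      have h3 : (((els L).filter fun l => l • x ∈ S ∧ l • σ • x ∉ S).card : ℤ) ≤
          ((els L).filter fun l => l • x ∈ S).card := by
        refine Nat.cast_le.2 (card_le_card fun l hl => ?_)
        rw [mem_filter] at hl ⊢
        exact ⟨hl.1, hl.2.1⟩
      have h4 : (0 : ℤ) ≤ (P.card : ℤ) * P.card - P.card := by nlinarith
      calc _ ≤ ((P.card : ℤ) * P.card - P.card) * ((els L).filter fun l => l • x ∈ S).card :=
            mul_le_mul_of_nonneg_left h3 h4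
        _ = (P.card - 1) * (P.card * ((els L).filter fun l => l • x ∈ S).card) := by ring
        _ = _ := by rw [this]; ring
    · rw [filter_false_of_mem fun l hl h => h.2 (h2 l (mem_els.1 hl))]
      have : (0 : ℤ) ≤ (S ∩ P).card * (P \ S).card * (els L).card := by positivity
      split_ifs <;> simp only [card_empty, Nat.cast_zero, mul_zero] <;> omega
  rw [swap X fun l x => l • x ∈ S ∧ l • σ • x ∉ S, Nat.cast_sum, mul_sum]
  refine (sum_le_sum key).trans ?_
  rw [sum_add_distrib, sum_const, ← sum_filter, sum_const, nsmul_eq_mul, nsmul_eq_mul]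
  have h5 : ((X.filter fun x => σ • x = z).card : ℤ) ≤ 1 := by
    refine Nat.cast_le_one.2 (card_le_one.2 fun x hx y hy => ?_)
    rw [mem_filter] at hx hy
    exact smul_left_cancel σ (hx.2.trans hy.2.symm)
  nlinarith

/-- the support on `O` -/
def sup (O : Finset Ω) (a : G) : Finset Ω := O.filter fun x => a • x ≠ x

omit [Finite G] [Fintype Ω] in
theorem mem_sup {a : G} {x : Ω} : x ∈ sup O a ↔ x ∈ O ∧ a • x ≠ x := mem_filter

omit [Finite G] [Fintype Ω] in
theorem smul_mem_sup (hI : Inv H O) {a : G} (ha : a ∈ H) {x : Ω} (hx : x ∈ sup O a) :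
    a • x ∈ sup O a := by
  rw [mem_sup] at hx ⊢
  exact ⟨hI a ha x hx.1, fun e => hx.2 (smul_left_cancel a e)⟩

omit [Finite G] [Fintype Ω] in
theorem mem_sup_conj (hI : Inv H O) {l : G} (hl : l ∈ H) {b : G} {x : Ω} :
    l • x ∈ sup O (l * b * l⁻¹) ↔ x ∈ sup O b := by
  rw [mem_sup, mem_sup, mul_smul, mul_smul, inv_smul_smul, Ne, smul_left_cancel_iff]
  refine and_congr_left fun _ => ⟨fun h => ?_, hI l hl x⟩
  simpa using hI l⁻¹ (H.inv_mem hl) _ h

omit [Finite G] [Fintype Ω] in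
theorem card_conj (hI : Inv H O) {l : G} (hl : l ∈ H) (b : G) (R : Ω → Prop) [DecidablePred R] :
    ((sup O (l * b * l⁻¹)).filter R).card = ((sup O b).filter fun x => R (l • x)).card := by
  symm
  refine card_bij (fun x _ => l • x) (fun x hx => ?_) (fun x _ y _ e => smul_left_cancel l e)
    (fun y hy => ⟨l⁻¹ • y, ?_, smul_inv_smul _ _⟩)
  · rw [mem_filter] at hx ⊢
    exact ⟨(mem_sup_conj hI hl).2 hx.1, hx.2⟩
  · rw [mem_filter] at hy ⊢
    rw [← mem_sup_conj hI hl, smul_inv_smul]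
    exact hy

omit [Finite G] [Fintype Ω] in
/-- the support of a commutator -/
theorem comm (hI : Inv H O) {a b : G} (ha : a ∈ H) (hb : b ∈ H) :
    (sup O (b * a * b⁻¹ * a⁻¹)).card ≤ ((sup O b).filter fun x => x ∈ sup O a).card +
      ((sup O a).filter fun x => x ∈ sup O b ∧ a • x ∉ sup O b).card +
      ((sup O b).filter fun x => x ∉ sup O a ∧ b⁻¹ • x ∈ sup O a).card := by
  refine (card_le_card (t := ((sup O b).filter fun x => x ∈ sup O a) ∪
    ((sup O a).filter fun x => x ∈ sup O b ∧ a • x ∉ sup O b).image (a • ·) ∪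
    ((sup O b).filter fun x => x ∉ sup O a ∧ b⁻¹ • x ∈ sup O a)) fun x hx => ?_).trans
    ((card_union_le _ _).trans (add_le_add ((card_union_le _ _).trans
      (add_le_add le_rfl card_image_le)) le_rfl))
  rw [mem_sup, mul_smul, mul_smul, mul_smul] at hx
  obtain ⟨hx, hne⟩ := hx
  have hax := hI _ (H.inv_mem ha) x hx
  have hbx := hI _ (H.inv_mem hb) x hx
  simp only [mem_union, mem_image, mem_filter, mem_sup]
  by_cases h1 : a • x = x
  · have h1' : a⁻¹ • x = x := inv_smul_eq_iff.2 h1.symm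
    rw [h1'] at hne
    have h2 : a • b⁻¹ • x ≠ b⁻¹ • x := fun e => hne (by rw [e, smul_inv_smul])
    have h3 : b • x ≠ x := fun e => h2 (by rw [inv_smul_eq_iff.2 e.symm, h1])
    exact Or.inr ⟨⟨hx, h3⟩, fun h => h.2 h1, hbx, h2⟩
  by_cases h2 : b • x = x
  · have h3 : b • a⁻¹ • x ≠ a⁻¹ • x := fun e => hne (by
      rw [inv_smul_eq_iff.2 e.symm, smul_inv_smul, h2])
    have h4 : a • a⁻¹ • x ≠ a⁻¹ • x := fun e => h1 (by
      rw [smul_inv_smul] at e
      exact (eq_inv_smul_iff.1 e))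
    exact Or.inl (Or.inr ⟨a⁻¹ • x, ⟨⟨hax, h4⟩, ⟨hax, h3⟩,
      fun h => h.2 (by rw [smul_inv_smul, h2])⟩, smul_inv_smul _ _⟩)
  · exact Or.inl (Or.inl ⟨⟨hx, h2⟩, hx, h1⟩)

theorem sum_inv (f : G → ℕ) : ∑ l ∈ els L, f l⁻¹ = ∑ l ∈ els L, f l :=
  sum_bij (fun l _ => l⁻¹) (fun _ hl => mem_els.2 (L.inv_mem (mem_els.1 hl)))
    (fun _ _ _ _ e => inv_injective e)
    (fun l hl => ⟨l⁻¹, mem_els.2 (L.inv_mem (mem_els.1 hl)), inv_inv l⟩) fun _ _ => rfl

theorem t2_of (h : TrK L P 2) : T2 L P := by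
  intro y hy y' hy' z hz z' hz' h1 h2
  obtain ⟨g, hg, e⟩ := h {y, y'} (fun x => if x = y then z else z') (by
      intro x hx
      rcases mem_insert.1 hx with rfl | hx
      exacts [hy, mem_singleton.1 hx ▸ hy']) card_le_two (by
      intro u hu v hv e
      simp only [coe_insert, coe_singleton, Set.mem_insert_iff, Set.mem_singleton_iff] at hu hv
      rcases hu with rfl | rfl <;> rcases hv with rfl | rfl <;> simp_all [h1.symm])
    (fun d _ => by split_ifs <;> assumption)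
  refine ⟨g, hg, ?_, ?_⟩
  · rw [e y (mem_insert_self _ _), if_pos rfl]
  · rw [e y' (mem_insert_of_mem (mem_singleton_self _)), if_neg h1.symm]

/-- the averaging argument -/
theorem avg (hI : Inv H O) (hT : TrK H O 6) {a b : G} (ha : a ∈ H) (hb : b ∈ H) {μ : ℕ}
    (hmin : ∀ c ∈ H, (sup O c).Nonempty → μ ≤ (sup O c).card) (hA : (sup O a).card = μ)
    (hB : (sup O b).card = μ) (h2 : 2 * μ ≤ O.card) {w v : Ω} (hw : w ∈ sup O a) (hv : v ∈ sup O a)
    (h4 : ({w, a • w, v, a • v} : Finset Ω).card = 4) (hwB : w ∈ sup O b) (h0 : a • w ∉ sup O b)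
    (h2' : v ∉ sup O b) (h3 : a • v ∉ sup O b) : False := by
  set Z : Finset Ω := {w, a • w, v, a • v} with hZ
  have hmem : ∀ x, x ∈ Z ↔ x = w ∨ x = a • w ∨ x = v ∨ x = a • v := fun x => by simp [hZ]
  have hZA : Z ⊆ sup O a := fun x hx => by
    rcases (hmem x).1 hx with rfl | rfl | rfl | rfl
    exacts [hw, smul_mem_sup hI ha hw, hv, smul_mem_sup hI ha hv]
  have hAO : ∀ c : G, sup O c ⊆ O := fun c => filter_subset _ _
  have hZO : Z ⊆ O := hZA.trans (hAO a)
  have hwZ : w ∈ Z := (hmem w).2 (Or.inl rfl)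
  have hBZ : ∀ x ∈ sup O b, x ∈ Z → x = w := fun x hx hz => by
    rcases (hmem x).1 hz with rfl | rfl | rfl | rfl
    exacts [rfl, (h0 hx).elim, (h2' hx).elim, (h3 hx).elim]
  have hμ : 4 ≤ μ := hA ▸ h4 ▸ card_le_card hZA
  have hI' : Inv (fixS H Z) (O \ Z) := hI.fix Z
  have hT' : T2 (fixS H Z) (O \ Z) := t2_of (TrK.fix (j := 4) hT hZO h4)
  have hP : (O \ Z).card = O.card - 4 := by rw [card_sdiff_of_subset hZO, h4]
  have hP2 : 2 ≤ (O \ Z).card := by omega
  have hX : (sup O b).erase w ⊆ O \ Z := fun x hx => by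
    rw [mem_erase] at hx
    exact mem_sdiff.2 ⟨hAO b hx.2, fun h => hx.1 (hBZ x hx.2 h)⟩
  have hXc : ((sup O b).erase w).card = μ - 1 := by rw [card_erase_of_mem hwB, hB]
  have hY : sup O a \ Z ⊆ O \ Z := sdiff_subset_sdiff (hAO a) Subset.rfl
  have hYc : (sup O a \ Z).card = μ - 4 := by rw [card_sdiff_of_subset hZA, hA, h4]
  have s1 : sup O a ∩ (O \ Z) = sup O a \ Z := by
    ext x
    simp only [mem_inter, mem_sdiff]
    exact ⟨fun h => ⟨h.1, h.2.2⟩, fun h => ⟨h.1, hAO a h.1, h.2⟩⟩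
  have s2 : sup O b ∩ (O \ Z) = (sup O b).erase w := by
    ext x
    rw [mem_inter]
    exact ⟨fun h => mem_erase.2 ⟨fun e => (mem_sdiff.1 h.2).2 (e ▸ hwZ), h.1⟩,
      fun h => ⟨(mem_erase.1 h).2, hX h⟩⟩
  have s3 : ((O \ Z) \ sup O b).card + (μ - 1) = O.card - 4 := by
    rw [← hXc, ← s2, inter_comm, card_sdiff_add_card_inter, hP]
  have s4 : (O \ Z) \ (sup O a)ᶜ = sup O a \ Z := by
    rw [sdiff_compl, ← s1, inter_comm]
    rfl
  have s5 : ((sup O a)ᶜ ∩ (O \ Z)).card + (μ - 4) = O.card - 4 := by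
    rw [← hYc, ← s4, inter_comm, add_comm, card_sdiff_add_card_inter, hP]
  have e1 := pts hI' hT' hP2 hX (sup O a)
  have e2 := arcs hI' hT' hP2 hY (sup O b) (by omega) a v fun x hx => by
    rw [mem_sdiff] at hx
    refine ⟨(mem_sup.1 hx.1).2, ?_⟩
    by_cases hz : a • x ∈ Z
    · rcases (hmem _).1 hz with e | e | e | e
      · exact Or.inr (Or.inr fun l hl => by rw [e, hl.2 w hwZ]; exact hwB)
      · exact (hx.2 ((hmem x).2 (Or.inl (smul_left_cancel a e)))).elim
      · exact Or.inr (Or.inl e)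
      · exact (hx.2 ((hmem x).2 (Or.inr (Or.inr (Or.inl (smul_left_cancel a e)))))).elim
    · exact Or.inl (mem_sdiff.2 ⟨hAO a (smul_mem_sup hI ha hx.1), hz⟩)
  have e3 := arcs hI' hT' hP2 hX (sup O a)ᶜ (by rw [s4]; omega) b⁻¹ w fun x hx => by
    rw [mem_erase] at hx
    have h5 : b⁻¹ • x ≠ x := fun e => (mem_sup.1 hx.2).2 (inv_smul_eq_iff.1 e).symm
    have h6 : b⁻¹ • x ∈ sup O b := mem_sup.2 ⟨hI _ (H.inv_mem hb) x (hAO b hx.2), by
      rw [smul_inv_smul]; exact h5.symm⟩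
    refine ⟨h5, ?_⟩
    by_cases hz : b⁻¹ • x ∈ Z
    · exact Or.inr (Or.inl (hBZ _ h6 hz))
    · exact Or.inl (mem_sdiff.2 ⟨hAO b h6, hz⟩)
  rw [← sum_inv] at e2
  have main : ∀ l ∈ els (fixS H Z), μ ≤ 2 + (((sup O b).erase w).filter fun x => l • x ∈ sup O a).card +
      ((sup O a \ Z).filter fun x => l⁻¹ • x ∈ sup O b ∧ l⁻¹ • a • x ∉ sup O b).card +
      (((sup O b).erase w).filter fun x => l • x ∈ (sup O a)ᶜ ∧ l • b⁻¹ • x ∉ (sup O a)ᶜ).card := by
    intro l hl
    rw [mem_els] at hl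
    have hl' := (fixS H Z).inv_mem hl
    have hc : l * b * l⁻¹ ∈ H := H.mul_mem (H.mul_mem hl.1 hb) hl'.1
    have hm : ∀ x, x ∈ sup O (l * b * l⁻¹) ↔ l⁻¹ • x ∈ sup O b := fun x => by
      rw [← mem_sup_conj hI hl.1 (b := b), smul_inv_smul]
    have hZl : ∀ x ∈ Z, x ∈ sup O (l * b * l⁻¹) ↔ x ∈ sup O b := fun x hx => by
      rw [hm, hl'.2 x hx]
    have haw : a • w ∈ Z := (hmem _).2 (Or.inr (Or.inl rfl))
    have hne : (sup O (l * b * l⁻¹ * a * (l * b * l⁻¹)⁻¹ * a⁻¹)).Nonempty := by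
      refine ⟨a • w, mem_sup.2 ⟨hZO haw, fun e => ?_⟩⟩
      have h5 : (l * b * l⁻¹) • a • w = a • w := by
        by_contra h
        exact h0 ((hZl _ haw).1 (mem_sup.2 ⟨hZO haw, h⟩))
      rw [mul_smul, inv_smul_smul, mul_smul, mul_smul] at e
      have h6 := smul_left_cancel a (smul_left_cancel _ (e.trans h5.symm))
      exact (mem_sup.1 ((hZl w hwZ).2 hwB)).2 (inv_smul_eq_iff.1 h6).symm
    have h5 := (hmin _ (H.mul_mem (H.mul_mem (H.mul_mem hc ha) (H.inv_mem hc)) (H.inv_mem ha))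
      hne).trans (comm hI ha hc)
    rw [card_conj hI hl.1, card_conj hI hl.1] at h5
    have b1 : ((sup O b).filter fun x => l • x ∈ sup O a).card ≤
        (((sup O b).erase w).filter fun x => l • x ∈ sup O a).card + 1 := by
      refine (card_le_card fun x hx => ?_).trans (card_insert_le w _)
      rw [mem_filter] at hx
      rw [mem_insert, mem_filter, mem_erase]
      tauto
    have b2 : ((sup O a).filter fun x => x ∈ sup O (l * b * l⁻¹) ∧ a • x ∉ sup O (l * b * l⁻¹)).card ≤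
        ((sup O a \ Z).filter fun x => l⁻¹ • x ∈ sup O b ∧ l⁻¹ • a • x ∉ sup O b).card + 1 := by
      refine (card_le_card fun x hx => ?_).trans (card_insert_le w _)
      rw [mem_filter] at hx
      rw [mem_insert, mem_filter, mem_sdiff, ← hm, ← hm]
      by_cases hz : x ∈ Z
      · exact Or.inl (hBZ x ((hZl x hz).1 hx.2.1) hz)
      · exact Or.inr ⟨⟨hx.1, hz⟩, hx.2⟩
    have b3 : ((sup O b).filter fun x => l • x ∉ sup O a ∧ (l * b * l⁻¹)⁻¹ • l • x ∈ sup O a).card ≤
        (((sup O b).erase w).filter fun x => l • x ∈ (sup O a)ᶜ ∧ l • b⁻¹ • x ∉ (sup O a)ᶜ).card := by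
      refine card_le_card fun x hx => ?_
      rw [mem_filter] at hx
      rw [mem_filter, mem_erase, mem_compl, mem_compl, not_not]
      refine ⟨⟨fun e => hx.2.1 (by rw [e, hl.2 w hwZ]; exact hw), hx.1⟩, hx.2.1, ?_⟩
      simpa only [mul_inv_rev, inv_inv, mul_smul, inv_smul_smul] using hx.2.2
    omega
  have tot := sum_le_sum main
  rw [sum_add_distrib, sum_add_distrib, sum_add_distrib, sum_const, sum_const, smul_eq_mul,
    smul_eq_mul] at tot
  have hL : 0 < (els (fixS H Z)).card := card_pos.2 ⟨1, mem_els.2 (fixS H Z).one_mem⟩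
  rw [s1] at e1
  rw [s2] at e2
  rw [s4] at e3
  rw [hXc, hYc, hP] at e1 e2 e3
  obtain ⟨u, rfl⟩ := Nat.exists_eq_add_of_le hμ
  obtain ⟨s, hs⟩ := Nat.exists_eq_add_of_le h2
  have q1 : O.card - 4 = 4 + 2 * u + s := by omega
  have q2 : ((O \ Z) \ sup O b).card = 1 + u + s := by omega
  have q3 : ((sup O a)ᶜ ∩ (O \ Z)).card = 4 + u + s := by omega
  have q4 : 4 + u - 1 = 3 + u := by omega
  have q5 : 4 + u - 4 = u := by omega
  rw [q1, q4, q5] at e1 e2 e3
  rw [q2] at e2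
  rw [q3] at e3
  generalize (els (fixS H Z)).card = M at *
  generalize ∑ l ∈ els (fixS H Z), (((sup O b).erase w).filter fun x => l • x ∈ sup O a).card = x1 at *
  generalize ∑ l ∈ els (fixS H Z),
    ((sup O a \ Z).filter fun x => l⁻¹ • x ∈ sup O b ∧ l⁻¹ • a • x ∉ sup O b).card = x2 at *
  generalize ∑ l ∈ els (fixS H Z),
    (((sup O b).erase w).filter fun x => l • x ∈ (sup O a)ᶜ ∧ l • b⁻¹ • x ∉ (sup O a)ᶜ).card = x3 at *
  push_cast at e1 e2 e3
  have tot' : (M : ℤ) * (2 + u) ≤ x1 + x2 + x3 := by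
    have : M * (2 + u) ≤ x1 + x2 + x3 := by nlinarith
    exact_mod_cast this
  have hN : (0 : ℤ) ≤ (4 + 2 * u + s) * (3 + 2 * u + s) := by positivity
  have k1 := mul_le_mul_of_nonneg_left tot' hN
  have k2 : (0 : ℤ) < (6 + 7 * s + s ^ 2 + 4 * u + 4 * u * s + u * s ^ 2 + u ^ 2 * s) * M := by
    positivity
  have k3 := congrArg (((3 : ℤ) + 2 * u + s) * ·) e1
  linarith

/-- an element with support of size at most three -/
theorem small (hI : Inv H O) (hT : TrK H O 6) {a : G} (ha : a ∈ H) (h1 : (sup O a).Nonempty)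
    (h3 : (sup O a).card ≤ 3) (k : ℕ) (hk : k + 2 ≤ O.card) : TrK H O k := by
  have hAO : sup O a ⊆ O := filter_subset _ _
  induction k with
  | zero => exact hT.mono (Nat.zero_le _)
  | succ k ih =>
    obtain ⟨D, hD, hc⟩ := exists_subset_card_eq (show k ≤ O.card by omega)
    refine TrK.succ hI (ih (by omega)) hD hc ⟨hI.fix D, fun x hx y hy => ?_⟩
    by_cases hxy : x = y
    · exact ⟨1, one_mem _, by rw [one_smul, hxy]⟩
    obtain ⟨u, hu⟩ := h1
    have hu' := smul_mem_sup hI ha hu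
    have hne : u ≠ a • u := (mem_sup.1 hu).2.symm
    obtain ⟨E, hE1, hE2, hE3⟩ := exists_subsuperset_card_eq hAO h3 (by omega)
    obtain ⟨w, hw⟩ : ((E.erase u).erase (a • u)).Nonempty := by
      rw [← card_pos, card_erase_of_mem (mem_erase.2 ⟨hne.symm, hE1 hu'⟩),
        card_erase_of_mem (hE1 hu)]
      omega
    obtain ⟨z, hz⟩ : (((O \ D).erase x).erase y).Nonempty := by
      rw [← card_pos, card_erase_of_mem (mem_erase.2 ⟨Ne.symm hxy, hy⟩), card_erase_of_mem hx,
        card_sdiff_of_subset hD]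
      omega
    rw [mem_erase, mem_erase] at hw hz
    have hE : E = {u, a • u, w} := by
      refine (eq_of_subset_of_card_le (fun t ht => ?_) ?_).symm
      · simp only [mem_insert, mem_singleton] at ht
        rcases ht with rfl | rfl | rfl
        exacts [hE1 hu, hE1 hu', hw.2.2]
      · rw [hE3, card_eq_three.2 ⟨u, a • u, w, hne, hw.2.1.symm, hw.1.symm, rfl⟩]
    obtain ⟨g, hg, e⟩ := hT E (fun t => if t = u then x else if t = a • u then y else z) hE2
      (by omega) (by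
        intro s hs t ht e
        simp only [hE, coe_insert, coe_singleton, Set.mem_insert_iff, Set.mem_singleton_iff] at hs ht
        have p1 := hz.1
        have p2 := hz.2.1
        have p3 := hw.1
        have p4 := hw.2.1
        have p5 := hne.symm
        rcases hs with rfl | rfl | rfl <;> rcases ht with rfl | rfl | rfl <;> simp_all [eq_comm])
      (fun d _ => by
        split_ifs
        exacts [(mem_sdiff.1 hx).1, (mem_sdiff.1 hy).1, (mem_sdiff.1 hz.2.2).1])
    have e1 : g • u = x := by rw [e u (hE1 hu), if_pos rfl]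
    have e2 : g • a • u = y := by rw [e _ (hE1 hu'), if_neg hne.symm, if_pos rfl]
    refine ⟨g * a * g⁻¹, ⟨H.mul_mem (H.mul_mem hg ha) (H.inv_mem hg), fun d hd => ?_⟩, by
      rw [mul_smul, mul_smul, ← e1, inv_smul_smul, e2]⟩
    by_contra hn
    have h5 : g⁻¹ • d ∈ sup O a := by
      rw [← mem_sup_conj hI hg, smul_inv_smul]
      exact mem_sup.2 ⟨hD hd, hn⟩
    have h6 := e _ (hE1 h5)
    rw [smul_inv_smul] at h6
    split_ifs at h6
    exacts [(mem_sdiff.1 hx).2 (h6 ▸ hd), (mem_sdiff.1 hy).2 (h6 ▸ hd),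
      (mem_sdiff.1 hz.2.2).2 (h6 ▸ hd)]

end Bo

open Bo in
/-- BOCH -/
theorem boch (hI : Inv H O) (hT : TrK H O 6) {a : G} (ha : a ∈ H) (h1 : ∃ x ∈ O, a • x ≠ x)
    (h2 : 2 * (O.filter fun x => a • x ≠ x).card ≤ O.card) : TrK H O (O.card - 2) := by
  classical
  have hne : (sup O a).Nonempty := let ⟨x, hx, h⟩ := h1; ⟨x, mem_sup.2 ⟨hx, h⟩⟩
  obtain ⟨c, hc, hmin⟩ := exists_min_image ((els H).filter fun c => (sup O c).Nonempty)
    (fun c => (sup O c).card) ⟨a, mem_filter.2 ⟨mem_els.2 ha, hne⟩⟩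
  rw [mem_filter, mem_els] at hc
  have hm : ∀ d ∈ H, (sup O d).Nonempty → (sup O c).card ≤ (sup O d).card := fun d hd h =>
    hmin d (mem_filter.2 ⟨mem_els.2 hd, h⟩)
  have h3 : 2 * (sup O c).card ≤ O.card := le_trans (Nat.mul_le_mul_left 2 (hm a ha hne)) h2
  have hpos := card_pos.2 hc.2
  by_cases h4 : (sup O c).card ≤ 3
  · exact small hI hT hc.1 hc.2 h4 _ (by omega)
  exfalso
  have hAO : sup O c ⊆ O := filter_subset _ _
  obtain ⟨w, hw⟩ := hc.2
  obtain ⟨v, hv, hv'⟩ : ∃ v ∈ sup O c, v ∉ ({w, c • w, c⁻¹ • w} : Finset Ω) :=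
    exists_mem_notMem_of_card_lt_card (lt_of_le_of_lt card_le_three (by omega))
  simp only [mem_insert, mem_singleton, not_or] at hv'
  have p1 : c • w ≠ w := (mem_sup.1 hw).2
  have p2 : c • v ≠ v := (mem_sup.1 hv).2
  have p3 : c • v ≠ w := fun e => hv'.2.2 (eq_inv_smul_iff.2 e)
  have p4 : c • v ≠ c • w := fun e => hv'.1 (smul_left_cancel c e)
  have hc3 : ({c • w, v, c • v} : Finset Ω).card = 3 :=
    card_eq_three.2 ⟨_, _, _, Ne.symm hv'.2.1, p4.symm, p2.symm, rfl⟩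
  have hw3 : w ∉ ({c • w, v, c • v} : Finset Ω) := by
    simp only [mem_insert, mem_singleton, not_or]
    exact ⟨p1.symm, Ne.symm hv'.1, p3.symm⟩
  have hsub : ({c • w, v, c • v} : Finset Ω) ⊆ O := fun t ht => by
    simp only [mem_insert, mem_singleton] at ht
    rcases ht with rfl | rfl | rfl
    exacts [hAO (smul_mem_sup hI hc.1 hw), hAO hv, hAO (smul_mem_sup hI hc.1 hv)]
  obtain ⟨E, hE, hEc⟩ := exists_subset_card_eq (s := O \ sup O c) (n := 3) (by
    rw [card_sdiff_of_subset hAO]; omega)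
  obtain ⟨ψ, q1, q2, -⟩ := exists_bij (hc3.trans hEc.symm)
  obtain ⟨g, hg, e⟩ := hT (insert w {c • w, v, c • v}) (fun t => if t = w then w else ψ t)
    (insert_subset (hAO hw) hsub) (by rw [card_insert_of_notMem hw3]; omega) (by
      intro s hs t ht e
      rw [coe_insert, Set.mem_insert_iff] at hs ht
      by_cases a : s = w <;> by_cases b : t = w <;> simp only [a, b, if_true, if_false] at e
      · rw [a, b]
      · exact absurd (e ▸ hw) (mem_sdiff.1 (hE (q2 t (ht.resolve_left b)))).2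
      · exact absurd (e ▸ hw) (mem_sdiff.1 (hE (q2 s (hs.resolve_left a)))).2
      · exact q1 (hs.resolve_left a) (ht.resolve_left b) e)
    (fun d hd => by
      split_ifs with h
      exacts [hAO hw, (mem_sdiff.1 (hE (q2 d ((mem_insert.1 hd).resolve_left h)))).1])
  have hg' := H.inv_mem hg
  have hb : ∀ t, t ∈ sup O (g⁻¹ * c * g⁻¹⁻¹) ↔ g • t ∈ sup O c := fun t => by
    rw [← mem_sup_conj hI hg' (b := c), inv_smul_smul]
  have hout : ∀ t ∈ ({c • w, v, c • v} : Finset Ω), t ∉ sup O (g⁻¹ * c * g⁻¹⁻¹) := fun t ht h => by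
    rw [hb, e t (mem_insert_of_mem ht), if_neg fun e : t = w => hw3 (e ▸ ht)] at h
    exact (mem_sdiff.1 (hE (q2 t ht))).2 h
  refine avg hI hT hc.1 (H.mul_mem (H.mul_mem hg' hc.1) (H.inv_mem hg')) hm rfl ?_ h3 hw hv
    (by rw [card_insert_of_notMem hw3, hc3]) ?_ (hout _ (by simp)) (hout _ (by simp))
    (hout _ (by simp))
  · simpa using card_conj hI hg' c fun _ => True
  · rw [hb, e w (mem_insert_self _ _), if_pos rfl]
    exact hw

end Cfsg.Agent.L0.Pn
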