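import Cfsg.Agent.H4.SdW
import Cfsg.Agent.H3.PSL2Spec

/-!
# Groups with Sylow `3`-normalizer `3² : SD₁₆`: the case `PSL₂(7)`
-/

set_option autoImplicit false
set_option maxRecDepth 100000
set_option synthInstance.maxSize 4000

namespace Cfsg.Agent.H4.Sd9

open Subgroup Equiv L0.Code H7.Asch Nse H1.T3

instance instFactSeven16 : Fact (7 ≤ 16) := ⟨by decide⟩

/-- A generator. -/
def px : Perm (Fin 7) :=
  ⟨![1, 2, 3, 4, 5, 6, 0], ![6, 0, 1, 2, 3, 4, 5], by decide, by decide⟩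

theorem enc_px : enc px = 6636321 := by decide +kernel

/-- A generator. -/
def py : Perm (Fin 7) :=
  ⟨![0, 1, 4, 3, 2, 6, 5], ![0, 1, 4, 3, 2, 6, 5], by decide, by decide⟩

theorem enc_py : enc py = 90321936 := by decide +kernel

/-- The model. -/
def K7 : Subgroup (Perm (Fin 7)) := closure {px, py}

/-- Its elements. -/
def L7 : List ℕ :=
    [106181136, 6636321, 90321936, 17191986, 5645121, 100877601, 34628931, 17130036, 23082066,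
    1332786, 84092481, 52495956, 68179491, 34997061, 33637731, 22032996, 19226691, 1205556,
    101986386, 70389861, 54592866, 86073396, 52434006, 68485926, 51533316, 67184211, 39928581,
    37093716, 21385251, 19072581, 2441571, 85078116, 88285446, 36966486, 72488451, 103940421,
    104943666, 70329696, 54530661, 86381616, 69427221, 51668226, 50484246, 72426246, 70582626,
    38822196, 21169446, 20337156, 4596051, 102973701, 54862176, 90382356, 40113411, 4395606,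
    87294246, 5398851, 88225281, 36783696, 103818561, 105189936, 37965846, 69535251, 68379936,
    50618901, 88478211, 56689221, 73421106, 39065136, 37774101, 20276226, 3428886, 72757761,
    52838736, 100938021, 106119186, 50669076, 22291296, 2298981, 23265876, 6574371, 103036161,
    54677601, 4273746, 87049761, 55861536, 87429156, 38143251, 86246961, 34821696, 105915156,
    103093251, 67244886, 55641126, 83976771, 56959041, 73536816, 69227286, 21324576, 3302421,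
    90194706, 40186881, 70275681, 1393206, 84029766, 68562981, 50742546, 23216976, 20194566,
    33821541, 22217826, 3491346, 72573186, 52715601, 22167651, 2176356, 73728561, 56774976,
    104866101, 104140866, 55580196, 104990001, 6370341, 3548436, 85140576, 101843796, 100750371,
    67514706, 55984161, 87122976, 39191601, 19288896, 88171266, 36725841, 1451061, 101925456,
    85999926, 34943046, 33772641, 38090256, 20071941, 51717126, 90440211, 40063236, 23339091,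
    84284226, 67330641, 5321286, 73474101, 56628546, 5445186, 16926006, 20985381, 85197666,
    84951651, 33894756, 103895616, 106038291, 102847236, 18888006, 2380641, 69612816, 51790341,
    100995876, 101721171, 38879286, 6493476, 17049141, 4350801]

/-- Words for its elements. -/
def W7 : List (List ℕ) :=
    [[], [0], [1], [0, 0], [1, 0], [0, 1], [0, 0, 0], [1, 0, 0], [0, 1, 0], [0, 0, 1], [1, 0, 1],
    [0, 0, 0, 0], [1, 0, 0, 0], [0, 1, 0, 0], [0, 0, 1, 0], [1, 0, 1, 0], [0, 0, 0, 1], [1, 0, 0,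
    1], [0, 1, 0, 1], [0, 0, 0, 0, 0], [1, 0, 0, 0, 0], [0, 1, 0, 0, 0], [0, 0, 1, 0, 0], [1, 0,
    1, 0, 0], [0, 0, 0, 1, 0], [1, 0, 0, 1, 0], [0, 1, 0, 1, 0], [0, 0, 0, 0, 1], [1, 0, 0, 0, 1],
    [0, 1, 0, 0, 1], [0, 0, 1, 0, 1], [1, 0, 1, 0, 1], [0, 0, 0, 0, 0, 0], [1, 0, 0, 0, 0, 0], [0,
    1, 0, 0, 0, 0], [0, 0, 1, 0, 0, 0], [1, 0, 1, 0, 0, 0], [0, 0, 0, 1, 0, 0], [1, 0, 0, 1, 0,
    0], [0, 1, 0, 1, 0, 0], [0, 0, 0, 0, 1, 0], [1, 0, 0, 0, 1, 0], [0, 0, 1, 0, 1, 0], [1, 0, 1,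
    0, 1, 0], [1, 0, 0, 0, 0, 1], [0, 1, 0, 0, 0, 1], [1, 0, 1, 0, 0, 1], [0, 0, 0, 1, 0, 1], [1,
    0, 0, 1, 0, 1], [0, 1, 0, 1, 0, 1], [0, 1, 0, 0, 0, 0, 0], [0, 0, 1, 0, 0, 0, 0], [1, 0, 1, 0,
    0, 0, 0], [0, 0, 0, 1, 0, 0, 0], [1, 0, 0, 1, 0, 0, 0], [0, 1, 0, 1, 0, 0, 0], [0, 0, 0, 0, 1,
    0, 0], [1, 0, 0, 0, 1, 0, 0], [0, 0, 1, 0, 1, 0, 0], [1, 0, 1, 0, 1, 0, 0], [1, 0, 0, 0, 0, 1,
    0], [0, 1, 0, 0, 0, 1, 0], [0, 0, 0, 1, 0, 1, 0], [1, 0, 0, 1, 0, 1, 0], [0, 1, 0, 0, 0, 0,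
    1], [0, 0, 1, 0, 0, 0, 1], [1, 0, 1, 0, 0, 0, 1], [0, 1, 0, 1, 0, 0, 1], [0, 0, 0, 0, 1, 0,
    1], [1, 0, 0, 0, 1, 0, 1], [0, 0, 1, 0, 1, 0, 1], [0, 0, 1, 0, 0, 0, 0, 0], [1, 0, 1, 0, 0, 0,
    0, 0], [0, 0, 0, 1, 0, 0, 0, 0], [1, 0, 0, 1, 0, 0, 0, 0], [0, 1, 0, 1, 0, 0, 0, 0], [0, 0, 0,
    0, 1, 0, 0, 0], [1, 0, 0, 0, 1, 0, 0, 0], [0, 0, 1, 0, 1, 0, 0, 0], [1, 0, 1, 0, 1, 0, 0, 0],
    [1, 0, 0, 0, 0, 1, 0, 0], [0, 1, 0, 0, 0, 1, 0, 0], [0, 0, 0, 1, 0, 1, 0, 0], [1, 0, 0, 1, 0,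
    1, 0, 0], [0, 1, 0, 0, 0, 0, 1, 0], [0, 0, 1, 0, 0, 0, 1, 0], [1, 0, 1, 0, 0, 0, 1, 0], [0, 0,
    0, 0, 1, 0, 1, 0], [1, 0, 0, 0, 1, 0, 1, 0], [0, 0, 1, 0, 0, 0, 0, 1], [1, 0, 1, 0, 0, 0, 0,
    1], [0, 0, 0, 1, 0, 0, 0, 1], [1, 0, 0, 1, 0, 0, 0, 1], [0, 1, 0, 1, 0, 0, 0, 1], [0, 0, 1, 0,
    1, 0, 0, 1], [1, 0, 1, 0, 1, 0, 0, 1], [1, 0, 0, 0, 0, 1, 0, 1], [0, 0, 0, 1, 0, 1, 0, 1], [1,
    0, 0, 1, 0, 1, 0, 1], [0, 0, 0, 1, 0, 0, 0, 0, 0], [1, 0, 0, 1, 0, 0, 0, 0, 0], [0, 1, 0, 1,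
    0, 0, 0, 0, 0], [0, 0, 0, 0, 1, 0, 0, 0, 0], [1, 0, 0, 0, 1, 0, 0, 0, 0], [0, 0, 1, 0, 1, 0,
    0, 0, 0], [1, 0, 1, 0, 1, 0, 0, 0, 0], [1, 0, 0, 0, 0, 1, 0, 0, 0], [0, 1, 0, 0, 0, 1, 0, 0,
    0], [0, 0, 0, 1, 0, 1, 0, 0, 0], [1, 0, 0, 1, 0, 1, 0, 0, 0], [0, 1, 0, 0, 0, 0, 1, 0, 0], [0,
    0, 1, 0, 0, 0, 1, 0, 0], [1, 0, 1, 0, 0, 0, 1, 0, 0], [0, 0, 0, 0, 1, 0, 1, 0, 0], [1, 0, 0,
    0, 1, 0, 1, 0, 0], [0, 0, 1, 0, 0, 0, 0, 1, 0], [1, 0, 1, 0, 0, 0, 0, 1, 0], [0, 0, 0, 1, 0,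
    0, 0, 1, 0], [1, 0, 0, 1, 0, 0, 0, 1, 0], [0, 1, 0, 1, 0, 0, 0, 1, 0], [1, 0, 0, 0, 0, 1, 0,
    1, 0], [0, 0, 0, 1, 0, 0, 0, 0, 1], [0, 1, 0, 1, 0, 0, 0, 0, 1], [0, 0, 0, 0, 1, 0, 0, 0, 1],
    [0, 0, 1, 0, 1, 0, 0, 0, 1], [1, 0, 1, 0, 1, 0, 0, 0, 1], [0, 0, 0, 1, 0, 1, 0, 0, 1], [1, 0,
    0, 1, 0, 1, 0, 0, 1], [0, 1, 0, 0, 0, 0, 1, 0, 1], [0, 0, 0, 0, 1, 0, 1, 0, 1], [1, 0, 0, 0,
    1, 0, 1, 0, 1], [0, 0, 1, 0, 1, 0, 0, 0, 0, 0], [1, 0, 1, 0, 1, 0, 0, 0, 0, 0], [1, 0, 0, 0,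
    0, 1, 0, 0, 0, 0], [0, 1, 0, 0, 0, 1, 0, 0, 0, 0], [0, 0, 0, 1, 0, 1, 0, 0, 0, 0], [1, 0, 0,
    1, 0, 1, 0, 0, 0, 0], [0, 1, 0, 0, 0, 0, 1, 0, 0, 0], [0, 0, 1, 0, 0, 0, 1, 0, 0, 0], [1, 0,
    1, 0, 0, 0, 1, 0, 0, 0], [0, 0, 0, 0, 1, 0, 1, 0, 0, 0], [0, 0, 0, 1, 0, 0, 0, 1, 0, 0], [1,
    0, 0, 1, 0, 0, 0, 1, 0, 0], [1, 0, 0, 0, 0, 1, 0, 1, 0, 0], [0, 0, 0, 1, 0, 0, 0, 0, 1, 0],
    [0, 1, 0, 1, 0, 0, 0, 0, 1, 0], [0, 0, 0, 0, 1, 0, 0, 0, 1, 0], [0, 0, 1, 0, 1, 0, 0, 0, 1,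
    0], [1, 0, 1, 0, 1, 0, 0, 0, 1, 0], [0, 1, 0, 0, 0, 0, 1, 0, 1, 0], [0, 0, 0, 0, 1, 0, 0, 0,
    0, 1], [0, 0, 1, 0, 1, 0, 0, 0, 0, 1], [1, 0, 0, 1, 0, 1, 0, 0, 0, 1], [0, 0, 0, 0, 1, 0, 1,
    0, 0, 1], [1, 0, 0, 0, 1, 0, 1, 0, 0, 1], [1, 0, 1, 0, 0, 0, 0, 1, 0, 1], [0, 0, 0, 1, 0, 1,
    0, 0, 0, 0, 0], [1, 0, 0, 1, 0, 1, 0, 0, 0, 0, 0], [0, 1, 0, 0, 0, 0, 1, 0, 0, 0, 0], [0, 0,
    1, 0, 0, 0, 1, 0, 0, 0, 0], [1, 0, 0, 1, 0, 0, 0, 1, 0, 0, 0], [1, 0, 0, 0, 0, 1, 0, 1, 0, 0,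
    0], [0, 0, 0, 0, 1, 0, 0, 0, 1, 0, 0], [0, 0, 0, 0, 1, 0, 0, 0, 0, 1, 0], [1, 0, 0, 1, 0, 1,
    0, 0, 0, 1, 0], [1, 0, 1, 0, 0, 0, 0, 1, 0, 1, 0], [1, 0, 0, 0, 0, 1, 0, 0, 0, 0, 1], [0, 1,
    0, 1, 0, 0, 0, 0, 1, 0, 1]]

theorem lists7 : Lists K7 L7 :=
  lists_of_words (by decide) _ 106181136 [6636321, 90321936] L7 W7 (by decide +kernel)
    (by simp [enc_px, enc_py]) (by simp [← enc_px, ← enc_py])
    (by decide +kernel) (by decide +kernel) (by decide +kernel) (by decide +kernel)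

/-- The elements of the model. -/
def E7 : List (E K7) := E.lst L7 lists7.cd

/-- The involutions. -/
noncomputable def l21 : List (E K7) := E7.filter fun u => u * u = 1 ∧ u ≠ 1

theorem chk7 : (∀ u ∈ E7, u ^ 7 = 1 ∨ u ^ 3 = 1 ∨ u ^ 4 = 1) ∧ l21.Nodup ∧ l21.length = 21 ∧
    ∀ u ∈ l21, ∃ c ∈ E7, c * E.elt lists7 90321936 (by decide +kernel) * c⁻¹ = u := by
  decide +kernel

theorem iso7 : Nonempty (E K7 ≃* Matrix.ProjectiveSpecialLinearGroup (Fin 2) (ZMod 7)) := by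
  have : Fact (Nat.Prime 7) := ⟨by norm_num⟩
  have : Fact (Nat.Prime 3) := ⟨Nat.prime_three⟩
  refine H3.nonempty_mulEquiv_psl2_of_spec (p := 7) (q := 7) (a := 3) (b := 4) (d := 2)
    ⟨by norm_num, ⟨1, rfl⟩, rfl, rfl, Or.inr ⟨rfl, by norm_num⟩, by norm_num⟩
    ⟨by norm_num, dvd_rfl, by norm_num, by norm_num, by norm_num, Or.inr rfl,
      E.card_of_lists lists7, fun u => ?_,
      ⟨E.elt lists7 17130036 (by decide +kernel), orderOf_eq_prime (by decide +kernel)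
        (by decide +kernel)⟩,
      ⟨E.elt lists7 5645121 (by decide +kernel), orderOf_eq_prime_pow (p := 2) (n := 1)
        (by decide +kernel) (by decide +kernel)⟩⟩ (ZMod 7) (by simp)
  simpa only [orderOf_dvd_iff_pow_eq_one] using chk7.1 u (E.mem_lst_all lists7 u)

theorem mem_l21 {u : E K7} : u ∈ l21 ↔ u * u = 1 ∧ u ≠ 1 := by
  simp [l21, show u ∈ E7 from E.mem_lst_all lists7 u]

variable {G : Type*} [Group G] [Finite G] [IsSimpleGroup G]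

theorem Base.case3 {a s g : G} (h : Base a s g)
    (π : centralizer ({s} : Set G) →* Matrix.ProjectiveSpecialLinearGroup (Fin 2) (ZMod 7))
    (hπ : Function.Surjective π) (hk : ∀ u, π u = 1 ↔ (u : G) ∈ zpowers s) : False := by
  classical
  have hH := card_of_surj π hπ zp_le hk
  rw [card_psl27, h.card_zp] at hH
  obtain ⟨e⟩ := iso7
  obtain ⟨ρ, hρ, hk⟩ : ∃ ρ : centralizer ({s} : Set G) →* E K7, Function.Surjective ρ ∧
      ∀ u, ρ u = 1 ↔ (u : G) = 1 ∨ (u : G) = s := ⟨e.symm.toMonoidHom.comp π,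
    e.symm.surjective.comp hπ, fun u => by rw [← mem_zpowers_two h.e1, ← hk]; simp⟩
  let z : centralizer ({s} : Set G) := ⟨a ^ 4, mc h.sz.symm⟩
  let s' : centralizer ({s} : Set G) := ⟨s * a ^ 4, mc ((Commute.refl s).mul_left h.sz.symm)⟩
  have hs' : ρ s' = ρ z := by
    rw [show s' = ⟨s, mc (Commute.refl s)⟩ * z from rfl, map_mul, (hk _).mpr (Or.inr rfl), one_mul]
  have hz : ρ z ∈ l21 := mem_l21.mpr ⟨by
    rw [← map_mul, ← map_one ρ]; exact congrArg ρ (Subtype.ext h.zz), fun e => by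
      rcases (hk z).mp e with e | e
      exacts [h.z1 e, h.s_ne e.symm]⟩
  have k1 : ∀ j ∈ l21, ∃ c, ρ (c * z * c⁻¹) = j := fun j hj => by
    obtain ⟨c, -, rfl⟩ := chk7.2.2.2 j hj
    obtain ⟨d, -, e⟩ := chk7.2.2.2 _ hz
    obtain ⟨k, hk⟩ := hρ (c * d⁻¹)
    exact ⟨k, by rw [map_mul, map_mul, map_inv, hk, ← e]; group⟩
  have k2 : ∀ u v, ρ u = ρ v → (v : G) = u ∨ (v : G) = u * s := fun u v e => by
    rw [← inv_mul_eq_one, ← map_inv, ← map_mul, hk] at e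
    simpa only [coe_mul, coe_inv, inv_mul_eq_iff_eq_mul, mul_one] using e
  have k3 : ∀ u, ρ u ∈ l21 → (u : G) * u = 1 ∧
      (IsConj (a ^ 4) u ∨ IsConj (a ^ 4) (u * s)) := fun u hu => by
    obtain ⟨c, hc⟩ := k1 _ hu
    have e1 : IsConj (a ^ 4) (c * z * c⁻¹ : centralizer ({s} : Set G)) := cj _ _
    rcases k2 _ _ hc with e | e <;> rw [e]
    · exact ⟨sq_of_conj h.zz e1, Or.inl e1⟩
    · refine ⟨?_, Or.inr (by rwa [mul_assoc, h.e1, mul_one])⟩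
      rw [(cm' _).symm.mul_mul_mul_comm, h.e1, sq_of_conj h.zz e1, mul_one]
  have hzs := h.not_conj fun u hu e => by
    have e1 : u * u * (u * u) = 1 := by
      by_cases e2 : ρ (⟨u, mc hu⟩ * ⟨u, mc hu⟩) = 1
      · rcases (hk _).mp e2 with e3 | e3 <;> rw [show u * u = _ from e3]
        exacts [mul_one 1, h.e1]
      · refine (k3 _ (mem_l21.mpr ⟨?_, e2⟩)).1
        rw [← map_mul, hk]
        exact Or.inr (Eq.trans (by simp [pow_succ, mul_assoc]) e)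
    exact h.s1 (by rw [← e, ← e1]; simp [pow_succ, mul_assoc])
  have k4 : ∀ u : centralizer ({s} : Set G), IsConj s u → (u : G) ≠ s → ρ u ∈ l21 := fun u h1 h2 =>
    mem_l21.mpr ⟨by
      rw [← map_mul, ← map_one ρ]; exact congrArg ρ (Subtype.ext (sq_of_conj h.e1 h1)), fun e => by
      rcases (hk u).mp e with e | e
      · exact h.s1 (isConj_one_left.mp (e ▸ h1))
      · exact h2 e⟩
  have k5 : {x | (x ∈ centralizer ({s} : Set G) ∧ IsConj s x) ∧ x ≠ s}.ncard = 21 := by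
    rw [← chk7.2.2.1, ← List.toFinset_card_of_nodup chk7.2.1, ← Set.ncard_coe_finset]
    refine Set.ncard_congr (fun x hx => ρ ⟨x, hx.1.1⟩) (fun x hx => by
      simpa using k4 _ hx.1.2 hx.2) (fun x y hx hy e => ?_) (fun j hj => ?_)
    · rcases k2 _ _ e with e | e
      · exact e.symm
      · rcases (k3 _ (k4 ⟨x, hx.1.1⟩ hx.1.2 hx.2)).2 with e' | e'
        · exact absurd (hx.1.2.trans e'.symm) hzs
        · exact absurd (hy.1.2.trans ((show y = x * s from e) ▸ e'.symm)) hzs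
    · obtain ⟨c, rfl⟩ := k1 j (by simpa using hj)
      refine ⟨(c * s' * c⁻¹ : centralizer ({s} : Set G)), ⟨⟨(c * s' * c⁻¹).2,
        h.cs'.trans (cj _ _)⟩, fun e => h.z1 ?_⟩, by
        change ρ (c * s' * c⁻¹) = _
        simp only [map_mul, hs']⟩
      have e1 : (c : G) * (s * a ^ 4) * (c : G)⁻¹ = s := e
      rw [cmul, (cm' c).eq, mul_inv_cancel_right, mul_eq_left, conj_eq_one_iff] at e1
      exact e1
  obtain ⟨n, k, h1, h2⟩ := h.cnt (centralizer {s})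
  obtain ⟨n', k', h3, h4⟩ := h.cnt_S hzs
  rw [show {x | x ∈ centralizer ({s} : Set G) ∧ IsConj s x} =
      insert s {x | (x ∈ centralizer ({s} : Set G) ∧ IsConj s x) ∧ x ≠ s} by
    ext x
    by_cases e : x = s
    · simpa [e, mc (Commute.refl s)] using ⟨1, by simp⟩
    · simp [e], Set.ncard_insert_of_notMem (by simp), k5] at h2
  rw [hH] at h1 h2
  omega

end Cfsg.Agent.H4.Sd9
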