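import Cfsg.Agent.H4.SdC2
import Cfsg.Agent.H4.SdC3
import Cfsg.Agent.H4.SdM11
import Cfsg.Agent.H7.Asch.Final

/-!
# Groups with Sylow `3`-normalizer `3² : SD₁₆`: the soluble case
-/

set_option autoImplicit false
set_option linter.unusedSectionVars false
set_option synthInstance.maxSize 4000

namespace Cfsg.Agent.H4.Sd9

open Subgroup Nse L0.SC3 H1.T3 H9

theorem s3_facts : (∀ z u : Equiv.Perm (Fin 3), z * z = 1 → z ≠ 1 → u * z = z * u →
    u = 1 ∨ u * z = 1) ∧ ∀ u : Equiv.Perm (Fin 3), u ^ 6 = 1 ∧ (u * u * (u * u) = 1 → u * u = 1) := by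
  decide +kernel

variable {G : Type*} [Group G] [Finite G]

theorem exists_three {y z s : G} (h1 : y * z * y⁻¹ = s) (h2 : y * s * y⁻¹ = z * s)
    (h3 : y * (z * s) * y⁻¹ = z) (h4 : s ≠ z) : Commute (y ^ 3) z ∧ Commute (y ^ 3) s ∧
      ∃ k : ℕ, (y ^ k) ^ 3 = 1 ∧ y ^ k ≠ 1 := by
  have e : ∀ u, y ^ 3 * u * (y ^ 3)⁻¹ = y * (y * (y * u * y⁻¹) * y⁻¹) * y⁻¹ := fun u => by
    rw [pow_succ, sq]; group
  have c : Commute (y ^ 3) z := mul_inv_eq_iff_eq_mul.mp (by rw [e, h1, h2, h3])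
  refine ⟨c, mul_inv_eq_iff_eq_mul.mp (by rw [e, h2, h3, h1]), ?_⟩
  have h5 : 3 ∣ orderOf y := by
    by_contra h5
    obtain ⟨m, hm⟩ := exists_pow_eq_self_of_coprime
      ((Nat.Prime.coprime_iff_not_dvd Nat.prime_three).mpr h5)
    rw [← hm, (c.pow_left m).eq, mul_inv_cancel_right] at h1
    exact h4 h1.symm
  have h6 := orderOf_pow_orderOf_div (orderOf_pos y).ne' h5
  exact ⟨_, h6 ▸ pow_orderOf_eq_one _, fun e => by simp [e] at h6⟩

/-- The data in the soluble case. -/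
structure C1 (a s g : G) (Q O : Subgroup G)
    (π : centralizer ({s} : Set G) →* Equiv.Perm (Fin 3)) : Prop extends Base a s g where
  tq : ∀ y, Commute y s → TQ s y Q
  os : ∀ o ∈ O, Commute o s
  on : ∀ y, Commute y s → ∀ o ∈ O, y * o * y⁻¹ ∈ O
  oc : (Nat.card O).Coprime 6
  oq : ∀ o ∈ O, ∀ q ∈ Q, Commute o q
  card : Nat.card (centralizer ({s} : Set G)) = Nat.card Q * Nat.card O * 6
  ker : ∀ u, π u = 1 ↔ ∃ q ∈ Q, ∃ o ∈ O, (u : G) = q * o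

namespace C1

variable {a s g : G} {Q O : Subgroup G} {π : centralizer ({s} : Set G) →* Equiv.Perm (Fin 3)}
  (h : C1 a s g Q O π)
include h

theorem tg : TQ s g Q := h.tq g h.e4.symm

theorem cop {o : G} (ho : o ∈ O) : (orderOf o).Coprime 6 :=
  h.oc.coprime_dvd_left (O.orderOf_dvd_natCard ho)

theorem mem_Q {u : centralizer ({s} : Set G)} (h1 : π u = 1) (h2 : El2 (u : G)) : (u : G) ∈ Q := by
  obtain ⟨q, hq, o, ho, e⟩ := (h.ker u).mp h1
  obtain ⟨k, hk⟩ := h2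
  obtain ⟨l, hl⟩ := El2.of_mem h.tg.two hq
  have h3 : o ^ 2 ^ (k + l) = 1 := by
    have : (u : G) ^ 2 ^ (k + l) = 1 := by rw [pow_add, pow_mul, hk, one_pow]
    rwa [e, (h.oq o ho q hq).symm.mul_pow, add_comm, pow_add, pow_mul, hl, one_pow, one_mul,
      ← pow_add, add_comm] at this
  rw [e, orderOf_eq_one_iff.mp (Nat.eq_one_of_dvd_coprimes (((h.cop ho).coprime_dvd_right
    (show 2 ∣ 6 by norm_num)).pow_right _) dvd_rfl (orderOf_dvd_of_pow_eq_one h3)), mul_one]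
  exact hq

theorem mem_O {u : G} (h1 : Commute u s) (h2 : (orderOf u).Coprime 6) : u ∈ O := by
  obtain ⟨q, hq, o, ho, e⟩ := (h.ker ⟨u, mc h1⟩).mp (orderOf_eq_one_iff.mp
    (Nat.eq_one_of_dvd_coprimes h2 ((orderOf_map_dvd π _).trans (orderOf_mk ..).dvd)
      (orderOf_dvd_of_pow_eq_one (s3_facts.2 _).1)))
  replace e : u = q * o := e
  have h3 : q ^ (orderOf u * orderOf o) = 1 := by
    have : u ^ (orderOf u * orderOf o) = 1 := by rw [pow_mul, pow_orderOf_eq_one, one_pow]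
    rwa [e, (h.oq o ho q hq).symm.mul_pow, mul_comm _ (orderOf o), pow_mul o, pow_orderOf_eq_one,
      one_pow, mul_one, mul_comm, ← e] at this
  obtain ⟨l, hl⟩ := El2.of_mem h.tg.two hq
  rw [e, orderOf_eq_one_iff.mp (Nat.eq_one_of_dvd_coprimes (((h2.mul_left
    (h.cop ho)).coprime_dvd_right (show 2 ∣ 6 by norm_num)).pow_right l)
    (orderOf_dvd_of_pow_eq_one h3) (orderOf_dvd_of_pow_eq_one hl)), one_mul]
  exact ho

theorem two_D {u : G} (h1 : Commute u s) (h2 : Commute u (a ^ 4)) (h3 : El2 u) :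
    u ∈ Q ∨ u * a ^ 4 ∈ Q := by
  refine (s3_facts.1 (π ⟨a ^ 4, mc h.sz.symm⟩) (π ⟨u, mc h1⟩)
    (by rw [← map_mul, ← map_one π]; exact congrArg π (Subtype.ext h.zz))
    (fun e => h.z_not h.tg (h.mem_Q e (El2.of_sq h.zz)))
    (by rw [← map_mul, ← map_mul]; exact congrArg π (Subtype.ext h2))).imp
    (fun e => h.mem_Q e h3) (fun e => ?_)
  obtain ⟨k, hk⟩ := h3
  refine h.mem_Q (by rwa [← map_mul] at e) ⟨k + 1, ?_⟩
  change (u * a ^ 4) ^ 2 ^ (k + 1) = 1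
  rw [h2.mul_pow, pow_succ 2, pow_mul, hk, mul_comm _ 2, pow_mul, sq (a ^ 4), h.zz]
  simp

theorem not_conj' (H : ∀ q ∈ Q, q * q = 1) : ¬ IsConj s (a ^ 4) := h.not_conj fun u hu e => by
  have e1 : u * u * (u * u) = s := Eq.trans (by simp [pow_succ, mul_assoc]) e
  have e2 := (s3_facts.2 (π ⟨u, mc hu⟩)).2 (by
    rw [← map_mul, ← map_mul, h.ker]
    exact ⟨s, h.tg.sQ, 1, one_mem _, by rw [mul_one]; exact e1⟩)
  rw [← map_mul] at e2
  exact h.s1 (e1 ▸ H _ (h.mem_Q e2 ⟨2, by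
    change (u * u) ^ 2 ^ 2 = 1
    rw [show 2 ^ 2 = 2 * 2 from rfl, pow_mul, sq (u * u), e1, sq, h.e1]⟩))

section

variable {q : G} (hq : q ∈ Q) {k : ℕ}
  (h3 : ((q * (a ^ 2 * s * q * (a ^ 2 * s)⁻¹)) ^ k) ^ 3 = 1)
  (h1 : (q * (a ^ 2 * s * q * (a ^ 2 * s)⁻¹)) ^ k ≠ 1)
include hq h3 h1

theorem odd_D {o : G} (c1 : Commute o s) (c2 : Commute o (a ^ 4)) (hc : (orderOf o).Coprime 6) :
    o = 1 := by
  have e1 := h.oq _ (h.mem_O c1 hc) q hq
  have e2 := (h.oq _ (h.mem_O (h.comm_t c1 c2) (by rwa [orderOf_conj'])) q hq).conj (a ^ 2 * s)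
  rw [h.tconj] at e2
  exact h.eq_one_of_coprime h3 h1 ((e1.mul_right e2).pow_right k) hc

theorem cent_D {u : G} (c1 : Commute u s) (c2 : Commute u (a ^ 4)) : u ∈ Q ∨ u * a ^ 4 ∈ Q := by
  refine h.two_D c1 c2 ⟨_, orderOf_dvd_iff_pow_eq_one.mp
    (Nat.eq_prime_pow_of_unique_prime_dvd (orderOf_pos u).ne' fun {p} hp hd => ?_).dvd⟩
  by_contra p2
  have e := orderOf_pow_orderOf_div (orderOf_pos u).ne' hd
  have e1 : u ^ (orderOf u / p) ≠ 1 := fun e1 => hp.ne_one (by rw [← e, e1, orderOf_one])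
  by_cases p3 : p = 3
  · rcases h.eq_of_two (orderOf_dvd_iff_pow_eq_one.mp (e.trans p3).dvd) e1 (c1.pow_left _).symm h.e1 h.s1
      (c2.pow_left _).symm h.sz.symm (k := 1) (by rw [pow_one, sq, h.zz]) with e2 | e2
    exacts [h.z1 e2, h.s_ne e2.symm]
  · exact e1 (h.odd_D hq h3 h1 (c1.pow_left _) (c2.pow_left _) (by
      rw [e]
      exact ((Nat.coprime_primes hp Nat.prime_two).mpr p2).mul_right
        ((Nat.coprime_primes hp Nat.prime_three).mpr p3)))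

theorem O_eq : O = ⊥ := eq_bot_iff.mpr fun o ho => by
  have k1 : ∀ o ∈ O, a ^ 4 * o * (a ^ 4)⁻¹ = o⁻¹ := fun o ho =>
    H3.inverts_of_fpf_involution h.zz (h.on _ h.sz.symm)
      (fun o ho e => h.odd_D hq h3 h1 (h.os o ho) e.symm (h.cop ho)) ho
  refine h.eq_one_of_coprime h.e3 h.g1 (Commute.symm (mul_inv_eq_iff_eq_mul.mp ?_)) (h.cop ho)
  have k2 := k1 _ (h.on _ (Commute.inv_left h.e4.symm) o ho)
  have k3 : g = a ^ 4 * (g * a ^ 4 * g⁻¹) := by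
    rw [← mul_assoc, ← mul_assoc]
    nth_rewrite 2 [← h.zi]
    rw [h.e6, ← mul_inv_rev, eq_inv_iff_mul_eq_one, ← sq, ← pow_succ', h.e3]
  calc _ = a ^ 4 * (g * a ^ 4 * g⁻¹) * o * (a ^ 4 * (g * a ^ 4 * g⁻¹))⁻¹ := by rw [← k3]
    _ = a ^ 4 * (g * (a ^ 4 * (g⁻¹ * o * g⁻¹⁻¹) * (a ^ 4)⁻¹) * g⁻¹) * (a ^ 4)⁻¹ := by group
    _ = (a ^ 4 * o * (a ^ 4)⁻¹)⁻¹ := by rw [k2]; group
    _ = o := by rw [k1 o ho, inv_inv]

end

theorem mem_cap' {u : G} (hu : u ∈ Q) (c : Commute u (a ^ 4)) :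
    u ∈ cap Q (a ^ 2 * s) ∨ u * s ∈ cap Q (a ^ 2 * s) := by
  refine (h.two_D (h.comm_t (h.tg.cs u hu) c) (by
    have := c.conj (a ^ 2 * s)
    rwa [h.tz.eq, mul_inv_cancel_right] at this) ((El2.of_mem h.tg.two hu).conj _)).imp
    (fun e => ⟨hu, e⟩) fun e => mem_cap.mpr ⟨mul_mem hu h.tg.sQ, ?_⟩
  rw [cmul, h.ts, h.sz.eq, ← mul_assoc]
  exact mul_mem e h.tg.sQ

variable [IsSimpleGroup G]

theorem case_a (H : ∀ r ∈ cap Q (a ^ 2 * s), r = 1) : Cfsg.Spor.IsoM11 G := by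
  have hA : ∀ u ∈ Q, Commute u (a ^ 4) → u = 1 ∨ u = s := fun u hu c =>
    (h.mem_cap' hu c).imp (H u) fun e => by rw [eq_inv_of_mul_eq_one_left (H _ e), h.si]
  obtain ⟨A, mA, -, dec, -⟩ := h.star h.tg (h.tq _ h.sz.symm).nm
  by_cases h1 : ∀ c ∈ A, Commute c (a ^ 4)
  · exfalso
    have h2 : Q = zpowers s := le_antisymm (fun q hq => by
      obtain ⟨c, hc, d, hd, rfl⟩ := dec q hq
      have k : ∀ c ∈ A, c ∈ zpowers s := fun c hc =>
        (mem_zpowers_two h.e1).mpr (hA c ((mA c).mp hc).1 (h1 c hc))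
      rw [cent_zp g (mc h.e4.symm) d (k d hd), mul_inv_cancel_right]
      exact mul_mem (k c hc) (k d hd)) (zpowers_le_of_mem h.tg.sQ)
    have hz := h.not_conj' fun q hq => by
      rcases (mem_zpowers_two h.e1).mp (h2 ▸ hq) with rfl | rfl
      exacts [mul_one 1, h.e1]
    obtain ⟨n, k, h3, h4⟩ := h.cnt_S hz
    have h5 := h.cnt_a hz
    obtain ⟨m, hm⟩ := Nat.coprime_two_right.mp (h.oc.coprime_dvd_right (show 2 ∣ 6 by norm_num))
    rw [h.card, h2, h.card_zp, hm] at h4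
    omega
  push Not at h1
  obtain ⟨v, hv, h1⟩ := h1
  obtain ⟨vQ, h2⟩ := (mA v).mp hv
  have vs := h.tg.cs v vQ
  have vz : v * a ^ 4 * v⁻¹ = a ^ 4 * s := by
    rw [h2.resolve_left h1, mul_assoc, mul_assoc, ← vs.inv_left.eq, mul_inv_cancel_left]
  have vs' : v * s * v⁻¹ = s := by rw [vs.eq, mul_inv_cancel_right]
  have tz : a ^ 2 * s * a ^ 4 * (a ^ 2 * s)⁻¹ = a ^ 4 := by rw [h.tz.eq, mul_inv_cancel_right]
  have zzs : a ^ 4 * s * a ^ 4 = s := by rw [← h.sz.eq, mul_assoc, h.zz, mul_one]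
  have ts := h.ts
  have ts' := h.ts'
  rw [h.sz.eq] at ts ts'
  have key : ∀ j, j * a ^ 4 * j⁻¹ = a ^ 4 * s → j * s * j⁻¹ = s →
      a ^ 2 * s * j * a ^ 4 * (a ^ 2 * s * j)⁻¹ = s ∧
      a ^ 2 * s * j * s * (a ^ 2 * s * j)⁻¹ = a ^ 4 * s ∧
      a ^ 2 * s * j * (a ^ 4 * s) * (a ^ 2 * s * j)⁻¹ = a ^ 4 := fun j e1 e2 => by
    have e : ∀ u, a ^ 2 * s * j * u * (a ^ 2 * s * j)⁻¹ =
        a ^ 2 * s * (j * u * j⁻¹) * (a ^ 2 * s)⁻¹ := fun u => by group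
    refine ⟨by rw [e, e1, ts'], by rw [e, e2, ts], ?_⟩
    rw [e, cmul j, e1, e2, mul_assoc (a ^ 4), h.e1, mul_one, tz]
  obtain ⟨k1, k2, k3⟩ := key v vz vs'
  have e0 : ∀ u, v * (a ^ 2 * s * v * (a ^ 2 * s)⁻¹) * u * (v * (a ^ 2 * s * v * (a ^ 2 * s)⁻¹))⁻¹ =
      v * (a ^ 2 * s * v * (a ^ 2 * s * u * (a ^ 2 * s)⁻¹) * (a ^ 2 * s * v)⁻¹) * v⁻¹ := fun u => by
    have : a ^ 2 * s * u * (a ^ 2 * s)⁻¹ = (a ^ 2 * s)⁻¹ * u * (a ^ 2 * s)⁻¹⁻¹ := by rw [h.ti, h.ti]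
    rw [this]
    group
  obtain ⟨-, -, k, h3, h4⟩ := exists_three (y := v * (a ^ 2 * s * v * (a ^ 2 * s)⁻¹))
    (z := a ^ 4) (s := s) (by rw [e0, tz, k1, vs']) (by rw [e0, ts, k3, vz])
    (by rw [e0, ts', k2, cmul, vz, vs', mul_assoc, h.e1, mul_one]) h.s_ne
  have hD : ∀ u, Commute u (a ^ 4) → Commute u s →
      u = 1 ∨ u = a ^ 4 ∨ u = s ∨ u = a ^ 4 * s := fun u c1 c2 => by
    rcases h.cent_D vQ h3 h4 c2 c1 with e | e
    · rcases hA u e c1 with e | e <;> simp [e]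
    · rcases hA _ e (c1.mul_left (Commute.refl _)) with e | e <;>
        simp [eq_mul_inv_of_mul_eq e, h.zi, h.sz.eq]
  obtain ⟨j, jj, jz, js⟩ : ∃ j, j * j = 1 ∧ j * a ^ 4 * j⁻¹ = a ^ 4 * s ∧ j * s * j⁻¹ = s := by
    rcases hA _ (mul_mem vQ vQ) (mul_inv_eq_iff_eq_mul.mp (by
      calc _ = v * (v * a ^ 4 * v⁻¹) * v⁻¹ := by group
        _ = _ := by rw [vz, cmul, vz, vs', mul_assoc, h.e1, mul_one])) with e | e
    · exact ⟨v, e, vz, vs'⟩
    · refine ⟨v * a ^ 4, ?_, by rw [← vz]; group, by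
        rw [(vs.mul_left h.sz.symm).eq, mul_inv_cancel_right]⟩
      calc _ = v * a ^ 4 * v⁻¹ * (v * v) * a ^ 4 := by group
        _ = 1 := by rw [vz, e, mul_assoc (a ^ 4), h.e1, mul_one, h.zz]
  obtain ⟨k1, k2, k3⟩ := key j jz js
  obtain ⟨c1, c2, -⟩ := exists_three k1 k2 k3 h.s_ne
  have z2 : (a ^ 2) ^ 2 = a ^ 4 := by rw [← pow_mul]
  refine h.m11 (w := a ^ 2 * s * j) ⟨by rw [← pow_mul, h.e0], z2 ▸ h.z1, h.e1, ?_, ?_, z2 ▸ k1, ?_,
    z2 ▸ hD, (Commute.refl a).inv_left.pow_right 2, ?_⟩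
  · rw [h.sa, mul_assoc, h.e1, mul_one, eq_inv_iff_mul_eq_one, ← pow_add, h.e0]
  · have e : a ^ 2 * s * j * (a ^ 2 * s * j) ^ 3 * (a ^ 2 * s * j)⁻¹ = (a ^ 2 * s * j) ^ 3 := by
      rw [((Commute.refl _).pow_right 3).eq, mul_inv_cancel_right]
    rcases hD _ c1 c2 with e1 | e1 | e1 | e1
    · exact e1
    all_goals rw [e1] at e
    · exact absurd (k1.symm.trans e) h.s_ne
    · exact absurd (mul_eq_right.mp (k2.symm.trans e)) h.z1
    · exact absurd (mul_eq_left.mp (k3.symm.trans e).symm) h.s1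
  · rw [← mul_assoc _ _ j, h.tt, one_mul, mul_inv_rev, h.ti, inv_eq_of_mul_eq_one_right jj]
  · rw [inv_inv, mul_assoc, ← pow_one a, h.sa]
    group

theorem case_b {r : G} (hr : r ∈ cap Q (a ^ 2 * s)) (r1 : r ≠ 1) : False := by
  obtain ⟨w, wQ, hw⟩ := h.exists_w h.tg hr r1 fun w hw ww _ c =>
    h.two_D (h.aconj (h.tg.cs w hw) c).1 (h.aconj (h.tg.cs w hw) c).2
      (El2.of_sq (by rw [conj_mul, ww]; simp))
  have f := h.wf hw
  have wsQ := mul_mem wQ h.tg.sQ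
  have xQ := h.tg.nm _ wsQ
  have hD := fun u => h.cent_D xQ (k := 1) (by rw [pow_one]; exact f.y3)
    (by rw [pow_one]; exact h.y1 hw) (u := u)
  have hO := h.O_eq xQ (k := 1) (by rw [pow_one]; exact f.y3) (by rw [pow_one]; exact h.y1 hw)
  have hc := h.card
  rw [hO, card_bot] at hc
  have ws : w ≠ s := fun e => h.z1 (by
    have := Base.wt hw
    rwa [e, h.ts, mul_eq_left] at this)
  have hA : ∀ u, u ∈ Q ⊓ centralizer {a ^ 4} ↔ u = 1 ∨ u = w ∨ u = s ∨ u = w * s := fun u =>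
    ⟨fun hu => by
      rcases h.mem_cap' hu.1 (cm' ⟨u, hu.2⟩) with e | e <;> rcases h.cap_eq h.tg hw wQ e with e | e
      · simp [e]
      · simp [e]
      · simp [eq_mul_inv_of_mul_eq e, h.si]
      · simp [eq_mul_inv_of_mul_eq e, h.si], by
      rintro (rfl | rfl | rfl | rfl)
      exacts [one_mem _, ⟨wQ, mc (Base.wz hw)⟩, ⟨h.tg.sQ, mc h.sz⟩,
        ⟨wsQ, mc ((Base.wz hw).mul_left h.sz)⟩]⟩
  have h4 := H3.card_eq_four (h.w1 hw) h.s1 ws h.e1 hA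
  obtain ⟨A, mA, cA, dec, com⟩ := h.star h.tg (h.tq _ h.sz.symm).nm
  have le : Q ⊓ centralizer {a ^ 4} ≤ A := fun u hu => (mA u).mpr ⟨hu.1, Or.inl (cm' ⟨u, hu.2⟩)⟩
  have gw : g * w * g⁻¹ = g * (w * s) * g⁻¹ * s := by
    rw [cmul g, ← h.e4, mul_inv_cancel_right, mul_assoc _ s, h.e1, mul_one]
  have gs : g * s * g⁻¹ = s := by rw [← h.e4, mul_inv_cancel_right]
  have wx : Commute w (g * (w * s) * g⁻¹) := f.xw.symm
  have sx : Commute s (g * (w * s) * g⁻¹) := f.xs.symm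
  have cws : Commute w s := hw.ws
  by_cases h1 : A ≤ Q ⊓ centralizer {a ^ 4}
  · rw [le_antisymm h1 le, h4] at cA
    refine h.cnt_P (h.not_conj' fun q hq => ?_) hw (by omega)
    obtain ⟨c, hc, d, hd, rfl⟩ := dec q hq
    have k : ∀ c ∈ A, c * c = 1 ∧ Commute c (g * (w * s) * g⁻¹) ∧ Commute c s ∧
        ∀ p, Commute p (g * (w * s) * g⁻¹) → Commute p s → Commute p (g * c * g⁻¹) := fun c hc => by
      rcases (hA c).mp (h1 hc) with rfl | rfl | rfl | rfl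
      · simp
      · exact ⟨hw.ww, wx, cws, fun p c1 c2 => gw ▸ c1.mul_right c2⟩
      · exact ⟨h.e1, sx, Commute.refl _, fun p _ c2 => gs.symm ▸ c2⟩
      · exact ⟨by rw [cws.symm.mul_mul_mul_comm, hw.ww, h.e1, mul_one], wx.mul_left sx,
          cws.mul_left (Commute.refl s), fun p c1 _ => c1⟩
    rw [((k d hd).2.2.2 c (k c hc).2.1 (k c hc).2.2.1).symm.mul_mul_mul_comm, (k c hc).1, conj_mul,
      (k d hd).1]
    simp
  have h8 : Nat.card A = 8 := by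
    have e1 := L0.SC3.two_mul_card_le le h1
    have e2 := L0.SC3.card_le_two_mul le fun p hp q hq e1 e2 => by
      obtain ⟨pQ, e3⟩ := (mA p).mp hp
      obtain ⟨qQ, e4⟩ := (mA q).mp hq
      refine ⟨mul_mem pQ qQ, mc ?_⟩
      rw [Commute, SemiconjBy, mul_assoc, e4.resolve_left fun e => e2 ⟨qQ, mc e⟩, ← mul_assoc,
        ← mul_assoc, e3.resolve_left fun e => e1 ⟨pQ, mc e⟩, mul_assoc _ q, (h.tg.cs q qQ).eq,
        ← mul_assoc, mul_assoc _ s s, h.e1, mul_one, mul_assoc]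
    omega
  have h32 : Nat.card Q = 32 := by
    rw [h8] at cA
    omega
  obtain ⟨B, mB, cB⟩ := H3.exists_ext2 (A := Q ⊓ centralizer {a ^ 4}) (r := a ^ 4)
    (by rw [h.zz]; exact one_mem _) (fun e => h.z_not h.tg e.1) fun u hu => by
      rwa [← (cm' ⟨u, hu.2⟩).eq, mul_inv_cancel_right]
  have hK : ∀ K : Subgroup G, (∀ p ∈ K, Commute p s ∧ Commute p (w * s) ∧
      Commute p (g * (w * s) * g⁻¹)) → Nat.card K ≤ 8 := fun K H => by
    have e1 := f.cs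
    have e2 := f.cv
    have e3 := f.cx
    generalize a * (g * (w * s) * g⁻¹) * a ^ 2 = c at e1 e2 e3
    have k : ∀ p ∈ K, c * p * c⁻¹ ∈ B := fun p hp => by
      have c1 := e1 ▸ (H p hp).1.conj c
      have c2 := e2 ▸ (H p hp).2.1.conj c
      have c3 := e3 ▸ (H p hp).2.2.conj c
      exact (mB _).mpr ((hD _ (by simpa using c1.inv_right.mul_right (c3.mul_right c2.inv_right))
        c2).imp (fun e => ⟨e, mc c2⟩) fun e => ⟨e, mc (c2.mul_left (Commute.refl _))⟩)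
    rw [show 8 = Nat.card B by omega]
    exact Nat.card_le_card_of_injective (fun p : K => (⟨_, k p p.2⟩ : B)) fun p q e =>
      Subtype.ext (by simpa using e)
  have zen : ∀ q ∈ Q, (∀ p ∈ Q, p * q = q * p) → q = 1 ∨ q = s := fun q hq H => by
    by_contra hn
    have nm : ∀ y, Commute y s → ∀ q ∈ Q ⊓ centralizer (Q : Set G),
        y * q * y⁻¹ ∈ Q ⊓ centralizer (Q : Set G) := fun y c q hq =>
      ⟨(h.tq y c).nm q hq.1, fun p hp => by
        simpa [mul_assoc] using (Commute.conj (hq.2 _ ((h.tq _ c.inv_left).nm p hp)) y).eq⟩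
    have sZ : s ∈ Q ⊓ centralizer (Q : Set G) := ⟨h.tg.sQ, h.tg.cs⟩
    obtain ⟨A', -, cA', -⟩ := h.star ⟨h.tg.two.to_le inf_le_left, sZ, fun q hq => h.tg.cs q hq.1,
      nm g h.e4.symm⟩ (nm _ h.sz.symm)
    have e1 := L0.SC3.two_mul_card_le (zpowers_le_of_mem sZ) fun e =>
      hn ((mem_zpowers_two h.e1).mp (e ⟨hq, H⟩))
    have le' : Q ⊓ centralizer (Q : Set G) ≤ centralizer {s, w * s, g * (w * s) * g⁻¹} :=
      inf_le_right.trans (centralizer_le (by simp [Set.insert_subset_iff, h.tg.sQ, wsQ, xQ]))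
    have e2 := hK (centralizer {s, w * s, g * (w * s) * g⁻¹}) fun p hp =>
      ⟨(hp _ (by simp)).symm, (hp _ (by simp)).symm, (hp _ (by simp)).symm⟩
    have e3 := card_le_of_le le'
    rw [h.card_zp] at e1
    have e4 : Nat.card A' = 4 := by
      have : Nat.card A' ≤ 4 := by nlinarith
      interval_cases Nat.card A' <;> omega
    rw [e4] at cA'
    have e5 : w * s ∈ Q ⊓ centralizer (Q : Set G) := (eq_of_le_of_card_ge le' (by omega)).ge (by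
      rintro _ (rfl | rfl | rfl)
      exacts [cws.symm.mul_right (Commute.refl _), rfl, (wx.mul_left sx).symm])
    have := hK Q fun p hp => ⟨h.tg.cs p hp, e5.2 p hp, (nm g h.e4.symm _ e5).2 p hp⟩
    omega
  obtain ⟨a', b, x, y, hr, e, h1, h2, h3, h4⟩ := H7.Asch.local_rel
    ⟨h.tg.sQ, h.e1, h.s1, h.tg.cs, com h8, zen, h32⟩ π
    (fun u => (h.ker u).trans (by simp [hO])) ⟨g, h.e3, h.g1, h.e4.symm⟩
    (fun y y3 y1 ys q hq c => by
      obtain ⟨k, hk⟩ := El2.of_mem h.tg.two hq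
      exact h.eq_of_two y3 y1 ys.symm h.e1 h.s1 c (h.tg.cs q hq) hk) wQ ws ⟨_, f.cs⟩
  rcases H7.Asch.concl_of_rel h32 hr (e ▸ h.s1) (by rw [e]; omega) h1 h2 h3 h4 wQ (e ▸ ws)
    (e ▸ ⟨_, f.cs⟩) with ⟨N, hN, -, -, h5, -⟩ | ⟨⟨e⟩⟩ | ⟨⟨e⟩⟩ | ⟨⟨e⟩⟩
  · rcases hN.eq_bot_or_eq_top with rfl | rfl
    · simp at h5
    · have := orderOf_dvd_natCard g
      rw [card_top] at h5
      rw [h5, orderOf_three h.e3 h.g1] at this
      omega
  · have h5 := two_mul_nat_card_alternatingGroup (α := Fin 8)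
    have h6 := h.idx ⊤ le_top
    have h7 := (closure ({a, s, g} : Set G)).card_mul_index
    rw [relIndex_top_right, Nat.ModEq] at h6
    rw [← Nat.card_congr e.toEquiv, Nat.card_perm, Nat.card_fin] at h5
    rw [h.card_N] at h7
    norm_num [Nat.factorial] at h5
    omega
  · have h5 := two_mul_nat_card_alternatingGroup (α := Fin 9)
    rw [← Nat.card_congr e.toEquiv, Nat.card_perm, Nat.card_fin] at h5
    norm_num [Nat.factorial] at h5
    exact h.n27 (by omega)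
  · exact h.n27 (by rw [Nat.card_congr e.toEquiv, Golay.card_M12]; norm_num)

end C1

end Cfsg.Agent.H4.Sd9
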