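import Cfsg.Agent.L0.U3Def
import Cfsg.Agent.H3.PermChar
import Cfsg.Agent.H3.PSL2Rec

/-! `PSL₂(q)`, `q = 23, 25, 47, 81`, is determined by its order and one vertex of the degree graph. -/

set_option autoImplicit false

namespace Cfsg.Agent.H4.U3L

open Cfsg Cfsg.Agent.H3 Cfsg.Agent.H2.D1 Finset Subgroup MulAction
open scoped MatrixGroups

universe u v

variable {G : Type u} [Group G] [Finite G] {p : ℕ} [hp : Fact p.Prime] {x : G}

/-- All divisors of `m` congruent to one modulo `p` are listed in `l`. -/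
def chk (m p : ℕ) (l : List ℕ) : Bool :=
  (List.range (m / p + 1)).all fun k => m % (p * k + 1) != 0 || l.contains (p * k + 1)

omit hp in
theorem mem_of_chk {m d : ℕ} {l : List ℕ} (h : chk m p l = true) (m0 : 0 < m) (hd : d ∣ m * p)
    (h1 : d % p = 1) : d ∈ l := by
  have e : d = p * (d / p) + 1 := by rw [← h1, Nat.div_add_mod]
  have h2 : d ∣ m := Nat.Coprime.dvd_of_dvd_mul_right (by rw [e]; simp) hd
  have := List.all_eq_true.1 h (d / p)
    (List.mem_range.2 (Nat.lt_succ_of_le (Nat.div_le_div_right (Nat.le_of_dvd m0 h2))))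
  rw [← e] at this
  simpa [Nat.mod_eq_zero_of_dvd h2] using this

omit hp in
theorem not_pp {m : ℕ} {l : List ℕ} (h : chk m p l = true) (m0 : 0 < m)
    (hl : ∀ d ∈ l, d = 1 ∨ 2 ∣ d ∧ (3 ∣ d ∨ 5 ∣ d)) (d : ℕ) (h1 : IsPrimePow d) (h2 : d ∣ m * p) :
    d % p ≠ 1 := fun h3 => by
  rcases hl d (mem_of_chk h m0 h2 h3) with e | ⟨e1, e2 | e2⟩
  · exact h1.ne_one e
  · exact absurd ((isPrimePow_iff_unique_prime_dvd.1 h1).unique ⟨Nat.prime_two, e1⟩
      ⟨Nat.prime_three, e2⟩) (by decide)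
  · exact absurd ((isPrimePow_iff_unique_prime_dvd.1 h1).unique ⟨Nat.prime_two, e1⟩
      ⟨Nat.prime_five, e2⟩) (by decide)

omit hp [Finite G] in
theorem ns_of_simple (hs : IsSimpleGroup G) (h : ¬ (Nat.card G).Prime) : NS G :=
  { hs with
    nc := by_contra fun e => by
      let _ : CommGroup G := { (inferInstance : Group G) with mul_comm := by simpa using e }
      exact h IsSimpleGroup.prime_card }

theorem reduce {S : Type v} [Group S] [Finite S] {n : ℕ} (hn : Nat.card G = n)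
    (hd : degreePrimes G = degreePrimes S) (hD : HasDeg S p) (h2 : p ≠ 2 ∧ p ∣ n ∧ ¬ p ^ 2 ∣ n)
    (pp : ∀ d, IsPrimePow d → d ∣ n → d % p ≠ 1)
    (hT : ∀ (T : Type u) [Group T] [Finite T] [NS T] (y : T), Ctx p y → Nat.card T ∣ n →
      Nat.card T = n) : NS G := by
  obtain ⟨x, hx⟩ := exists_ctx (G := G) h2.1 (hn ▸ h2.2.1) (hn ▸ h2.2.2)
  obtain ⟨L, M, T, _, _, hL⟩ := hx.exists_LM
  have := hL.nM
  have : NS T := { hL.simple with
    nc := by_contra fun e => hL.not_le hx (hasDeg_iff_mem.1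
      (hd.ge (⟨hp.out, hasDeg_iff_mem.2 hD⟩ : p ∈ degreePrimes S)).2) (by simpa using e)
      (hx.le_cent hL.cop fun d d1 d2 => pp d d1 (hn ▸ d2.trans (card_subgroup_dvd_card M))) }
  have h1 : Nat.card T ∣ n := (Dvd.intro_left _ rfl).trans (hn ▸ hL.card_dvd)
  obtain ⟨y, hy⟩ := exists_ctx (G := T) h2.1 (hL.dvd hx) fun e => h2.2.2 (e.trans h1)
  obtain ⟨f⟩ := hL.ns_of_card ((hT T y hy h1).trans hn.symm)
  obtain ⟨a, b, hab⟩ := NS.nc (G := T)
  exact { f.isSimpleGroup with
    nc := ⟨f.symm a, f.symm b, fun e => hab (by simpa using congrArg f e)⟩ }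

variable [NS G]

theorem nums (h : Ctx p x) {m : ℕ} {l : List ℕ} (hc : chk m p (1 :: l) = true) (m0 : 0 < m)
    (hd : Nat.card G ∣ m * p) : ∃ N ∈ l, Nat.card (Sylow p G) = N ∧
      N * (Nat.card h.H * Nat.card h.K) ∣ m ∧
      Nat.card G = N * (Nat.card h.H * Nat.card h.K) * p := by
  have h1 := h.card_eq
  have h2 : Nat.card G = Nat.card (Sylow p G) * (Nat.card h.H * Nat.card h.K) * p := by
    rw [← h1]; ring
  refine ⟨_, (List.mem_cons.1 (mem_of_chk hc m0 (dvd_trans ⟨_, by rw [h2, mul_assoc]⟩ hd)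
    (Eq.trans (card_sylow_modEq_one p G) (Nat.mod_eq_of_lt hp.out.one_lt)))).resolve_left
    fun e => ?_, rfl, Nat.dvd_of_mul_dvd_mul_right hp.out.pos (h2 ▸ hd), h2⟩
  rw [h.syl.card_eq_index_normalizer, index_eq_one] at e
  exact Ctx.normalizer_ne_top (fun e => h.ne_one (mem_bot.1 (e ▸ mem_zpowers x)))
    (ne_top_of_isPGroup h.syl.2) e

theorem shp (h : Ctx p x) {e lo n : ℕ} (B : Blk p x e lo) (hn : Nat.card G = n) (s : ℕ)
    (hs : n ≤ s * s) (Ls : List (List Ent))
    (hP : blk n p e lo ((List.range' 2 s).filter fun d => n % d == 0)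
      (fun l => (l.map fun a : Ent => a.1 * (a.2.1 : ℤ)).sum == 1 && !Ls.contains l) = false) :
    ∃ l : List _, l.Perm B.R.toList ∧ l.map B.ent ∈ Ls := by
  by_contra! k
  rw [B.blk_sound hn (fun χ hχ => ?_) fun l hl => ?_] at hP
  · exact absurd hP (by simp)
  · have h1 := two_le_deg (B.mem χ hχ).2 (B.deg χ hχ)
    have h2 := (B.deg_sq_lt χ hχ).trans_le (hn ▸ hs)
    rw [Nat.mul_self_lt_mul_self_iff] at h2
    simp only [List.mem_filter, List.mem_range'_1, beq_iff_eq]
    exact ⟨⟨h1, by omega⟩,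
      Nat.mod_eq_zero_of_dvd (hn ▸ irr_degree_dvd_card χ.2 (B.deg χ hχ))⟩
  · simp only [Bool.and_eq_true, beq_iff_eq, Bool.not_eq_true', ← Bool.not_eq_true,
      List.contains_iff_mem]
    refine ⟨?_, k l hl⟩
    have := B.lin h (IsPReg.one p)
    rw [sum_congr rfl fun χ hχ => by rw [B.deg χ hχ]] at this
    rw [List.map_map, (hl.map _).sum_eq, sum_map_toList]
    exact_mod_cast this

theorem zass (h : Nat.card (Sylow p G) = p + 1) (h1 : (p + 1) * p < Nat.card G) :
    HasDeg G p ∧ ∀ (F : Type v) [Field F] [Fintype F], Fintype.card F = p →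
      Nonempty (G ≃* PSL(2, F)) := by
  have hi : Function.Injective (toPermHom G (Sylow p G)) := by
    obtain ⟨P⟩ : Nonempty (Sylow p G) := inferInstance
    refine (MonoidHom.ker_eq_bot_iff _).1 ((MonoidHom.normal_ker _).eq_bot_or_eq_top.resolve_right
      fun e => ?_)
    have : normalizer (P : Set G) = ⊤ := eq_top_iff.2 fun g _ => Sylow.smul_eq_iff_mem_normalizer.1
      (Equiv.congr_fun (show toPermHom G (Sylow p G) g = 1 from
        (e ▸ mem_top g : g ∈ (toPermHom G (Sylow p G)).ker)) P)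
    rw [P.card_eq_index_normalizer, this, index_top] at h
    have := hp.out.pos
    omega
  have Z0 := zs_range_sylow h
  have Z : Zs G (Sylow p G) := ⟨fun h1 h2 => by
    obtain ⟨⟨_, g, rfl⟩, hg⟩ := Z0.two h1 h2
    exact ⟨g, hg⟩, fun g a b c h1 h2 h3 h4 h5 h6 => hi ((congrArg Subtype.val
      (Z0.three ⟨_, g, rfl⟩ a b c h1 h2 h3 h4 h5 h6)).trans (map_one _).symm)⟩
  have : Nontrivial (Sylow p G) := Finite.one_lt_card_iff_nontrivial.1 (by have := hp.out.pos; omega)
  refine ⟨⟨⟨_, isIrrCharacter_perm_sub_one Z.isTwo⟩, (dg_of (d := p) (by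
    simp only [fixedBy_one_eq_univ, Nat.card_univ, h]; simp)).symm.dvd⟩,
    fun F _ _ hF => ?_⟩
  obtain ⟨a, b, hab⟩ := exists_pair_ne (Sylow p G)
  have h3 := Z.card_eq hab
  have h4 := Z.card_root hab
  have h5 : Nat.card (Z.root a) = p := by omega
  obtain ⟨g, hg, g1⟩ := (stabilizer G a ⊓ stabilizer G b).bot_or_exists_ne_one.resolve_left
    fun e => by
      rw [e, card_bot, h5] at h3
      omega
  rcases H9.psl_or_two_of_isZassenhaus (Ω := Sylow p G) ⟨⟨fun e => hi (Equiv.ext e)⟩, Z.isTwo,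
    Z.three, ⟨g, g1, a, b, hab, hg⟩, fun N hN hT => ⟨a, by
      rcases hN.eq_bot_or_eq_top with rfl | rfl
      · obtain ⟨⟨_, rfl⟩, e⟩ := hT.exists_smul_eq a b
        exact absurd ((one_smul G a).symm.trans e) hab
      · exact fun e => g1 (congrArg Subtype.val (mem_bot.1
          (e ▸ hg.1 : (⟨g, mem_top g⟩ : (⊤ : Subgroup G)) ∈ ⊥)))⟩⟩ a with
    ⟨F', _, _, e, ⟨f⟩⟩ | ⟨-, u, w, e⟩
  · exact ⟨f.trans (H6.pslCongr (FiniteField.ringEquivOfCardEq (e.trans (h5.trans hF.symm))))⟩
  · exact absurd ((isCyclic_of_prime_card h5).isMulCommutative.is_comm.comm u w) e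

omit [NS G] in
theorem half {r q a s j t N : ℕ} (hP : H3.Par r q a p 2) (hn : Nat.card G = q * (a * p * 2))
    (hS : Shape G p N 2 [[(1, q, 1), (-1, 2 * a, t)]]) (hs : s.Prime)
    (ha : a = 2 ^ (j + 1) * s ∧ (2 * a).Coprime (q * p) ∧ ¬ s ^ 2 ∣ q * (a * p * 2) ∧ r ≠ p)
    (F : Type v) [Field F] [Finite F] (hF : Nat.card F = q) : Nonempty (G ≃* PSL(2, F)) := by
  obtain ⟨x, h, B, l, hl, -, -, hK, hL⟩ := hS
  obtain ⟨χ, l, rfl, e1, hL⟩ := List.map_eq_cons_iff.1 (List.mem_singleton.1 hL)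
  obtain ⟨θ, l, rfl, e2, hL⟩ := List.map_eq_cons_iff.1 hL
  obtain rfl := List.map_eq_nil_iff.1 hL
  obtain ⟨ha, hc, hq, rp⟩ := ha
  have hr := hP.prime
  have d1 := B.deg χ ((B.mem_R hl).2 (by simp))
  have d2 := B.deg θ ((B.mem_R hl).2 (by simp))
  have k1 : ∀ g y : G, orderOf y = p → (orderOf g).Prime → g * y = y * g → orderOf g = p :=
    fun g y hy hg c => by_contra fun e => hg.ne_one (Nat.dvd_one.1 (hK ▸ h.dvd_K
      ((Nat.coprime_primes hg hp.out).2 e)
      (hy ▸ orderOf_dvd_natCard _ (mem_centralizer_singleton_iff.2 c.symm))))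
  have k2 : ∀ g : G, (orderOf g).Prime → orderOf g = r ∨ orderOf g ∣ 2 * a ∨ orderOf g = p :=
    fun g hg => by
      obtain ⟨f, hf⟩ := hP.pow
      have := orderOf_dvd_natCard g
      rw [hn, show q * (a * p * 2) = q * (2 * a * p) by ring, hg.dvd_mul, hg.dvd_mul,
        Nat.prime_dvd_prime_iff_eq hg hp.out] at this
      exact this.imp_left fun e => (Nat.prime_dvd_prime_iff_eq hg hr).1 (hg.dvd_of_dvd_pow (hf ▸ e))
  have hA : ∀ x y : G, x * y = y * x → x ^ r = 1 → (orderOf y).Coprime r → x = 1 ∨ y = 1 :=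
    fun u y c hu hy => by
      by_contra! k
      obtain ⟨i, hi⟩ := exists_prime_pow_of_ne_one k.2
      have o1 : orderOf u = r := by have := Fact.mk hr; exact orderOf_eq_prime hu k.1
      have c' : Commute u (y ^ i) := Commute.pow_right c i
      have o2 : (orderOf (y ^ i)).Coprime r := hy.coprime_dvd_left (orderOf_pow_dvd i)
      generalize y ^ i = z at hi c' o2
      have o3 : orderOf (u * z) = r * orderOf z := by
        rw [c'.orderOf_mul_eq_mul_orderOf_of_coprime (o1 ▸ o2.symm), o1]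
      rcases k2 z hi with e | e | e
      · exact hr.ne_one (by simpa [e] using o2)
      · have := B.lin h (g := u * z) (by
          rw [IsPReg, o3]
          exact Nat.Coprime.mul_left ((Nat.coprime_primes hr hp.out).2 rp)
            ((hc.coprime_dvd_left e).coprime_dvd_right (dvd_mul_left _ _)))
        rw [B.sum_R hl] at this
        simp only [List.map_cons, List.sum_cons, List.map_nil, List.sum_nil] at this
        rw [irr_eq_zero_of_defect_zero hr χ.2 d1 (fun k hk e => hr.ne_one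
          (Nat.eq_one_of_dvd_coprimes hP.coprime_s hP.dvd_q (by
            rw [hn, e1] at hk
            rwa [Nat.eq_of_mul_eq_mul_left (by have := hP.two_lt; omega) hk])))
          (o3 ▸ dvd_mul_right _ _), irr_eq_zero_of_defect_zero hi θ.2 d2 (fun k hk e' => hi.ne_one
          (Nat.eq_one_of_dvd_coprimes hc e (by
            rw [hn, e2, show q * (a * p * 2) = 2 * a * (q * p) by ring] at hk
            rwa [Nat.eq_of_mul_eq_mul_left (by have := hP.two_lt; have := hP.ha; omega) hk])))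
          (o3 ▸ dvd_mul_left _ _)] at this
        simp at this
      · exact rp (o1 ▸ k1 u z e (o1 ▸ hr) c')
  have k3 : ∀ g : G, (orderOf g).Prime → orderOf g ≠ 2 → orderOf g ≠ r →
      orderOf g = s ∨ orderOf g = p := fun g hg g2 gr => by
    refine ((k2 g hg).resolve_left gr).imp_left fun e => ?_
    rw [ha, ← mul_assoc, ← pow_succ', hg.dvd_mul, Nat.prime_dvd_prime_iff_eq hg hs] at e
    exact e.resolve_left fun e =>
      g2 ((Nat.prime_dvd_prime_iff_eq hg Nat.prime_two).1 (hg.dvd_of_dvd_pow e))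
  refine nonempty_mulEquiv_psl2_of_local hP hn hA (fun _ ρ o1 o2 o3 => Or.inr
    fun y z c1 c2 oy _ => ?_) (fun _ e => absurd e (by
      rw [ha, pow_succ, Nat.not_odd_iff_even]
      exact (even_two.mul_left _).mul_right _)) F hF
  have := Fact.mk o1
  have hρ : Ctx (orderOf ρ) ρ := ⟨o2, rfl, by
    rcases k3 ρ o1 o2 o3 with e | e <;> rw [e]
    exacts [hn ▸ hq, h.nsq]⟩
  have m : pReg (orderOf ρ) y = 1 := by_contra fun k => by
    obtain ⟨i, hi⟩ := exists_prime_pow_of_ne_one k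
    have c : Commute (pReg (orderOf ρ) y ^ i) ρ := (Commute.pReg_left c1).pow_left i
    have o4 := (isPReg_pReg (p := orderOf ρ) y).coprime_dvd_left (orderOf_pow_dvd i)
    have o5 := oy.of_dvd_nat (orderOf_dvd_of_mem_zpowers
      (pow_mem (pReg_mem_zpowers (orderOf ρ) y) i))
    generalize pReg (orderOf ρ) y ^ i = w at hi c o4 o5
    have o6 := (Nat.coprime_primes hi o1).1 o4
    rcases k3 w hi (fun e => by rw [e] at o5; exact absurd o5 (by decide)) (fun e => by
      rcases hA w ρ c (e ▸ pow_orderOf_eq_one w) (e ▸ o4.symm) with k | k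
      exacts [ne_one_of_orderOf_prime hi k, ne_one_of_orderOf_prime o1 k]) with e | e
    · rcases k3 ρ o1 o2 o3 with e' | e'
      exacts [o6 (e.trans e'.symm), o6 ((k1 w ρ e' hi c).trans e'.symm)]
    · exact o6 (e.trans (k1 ρ w e o1 c.symm).symm)
  obtain ⟨i, hi⟩ := hρ.pPart_mem_zp (Eq.symm c1)
  rw [← pPart_mul_pReg (orderOf ρ) y, m, mul_one, ← hi]
  exact (Commute.zpow_right c2 i).symm

instance instFact23 : Fact (Nat.Prime 23) := ⟨by norm_num⟩
instance instFact41 : Fact (Nat.Prime 41) := ⟨by norm_num⟩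
instance instFact47 : Fact (Nat.Prime 47) := ⟨by norm_num⟩

theorem eq_of_prime {e k r : ℕ} (hr : r.Prime) (h : e * k ∣ r) (h2 : 2 ≤ e) : e = r ∧ k = 1 := by
  have h1 : e = r := ((Nat.dvd_prime hr).1 ((dvd_mul_right e k).trans h)).resolve_left (by omega)
  rw [h1] at h
  exact ⟨h1, Nat.dvd_one.1 (Nat.dvd_of_mul_dvd_mul_left hr.pos (by rwa [mul_one]))⟩

theorem one {N r : ℕ} (h : Ctx p x) (hr : r.Prime) (hc : chk (N * r) p [1, N] = true) (N0 : 0 < N)
    (hd : Nat.card G ∣ N * r * p) : Nat.card G = N * r * p ∧ Nat.card (Sylow p G) = N ∧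
      Nat.card h.H = r ∧ Nat.card h.K = 1 := by
  obtain ⟨N', h1, h2, h3, h4⟩ := nums h hc (Nat.mul_pos N0 hr.pos) hd
  obtain rfl := List.mem_singleton.1 h1
  obtain ⟨h5, h6⟩ := eq_of_prime hr (Nat.dvd_of_mul_dvd_mul_left N0 h3) h.two_le_e
  rw [h5, h6, mul_one] at h4
  exact ⟨h4, h2, h5, h6⟩

theorem n13 (h : Ctx 13 x) (hd : Nat.card G ∣ 600 * 13) : Nat.card G = 7800 ∧
    Nat.card (Sylow 13 G) = 300 ∧ Nat.card h.H = 2 ∧ Nat.card h.K = 1 := by
  obtain ⟨N, h1, h2, h3, h4⟩ := nums h (l := [40, 300]) (by decide +kernel) (by norm_num) hd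
  have h5 := h.two_le_e
  simp only [List.mem_cons, List.not_mem_nil, or_false] at h1
  rcases h1 with rfl | rfl
  · exfalso
    have h6 : Nat.card h.H * Nat.card h.K ∣ 15 := Nat.dvd_of_mul_dvd_mul_left (by norm_num) h3
    have h7 : Nat.card h.H ∣ 12 := ⟨h.H.index, by have := h.card_H_mul; omega⟩
    have h8 := (eq_of_prime (k := 1) Nat.prime_three (by
      rw [mul_one]; exact Nat.dvd_gcd ((dvd_mul_right _ _).trans h6) h7) h5).1
    rw [h8] at h6 h4
    rcases (Nat.dvd_prime Nat.prime_five).1 (Nat.dvd_of_mul_dvd_mul_left three_pos h6) with e | e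
    · have := card_mem_surv (G := G) (by rw [h4, e]; norm_num)
      rw [h4, e] at this
      exact absurd this (by decide)
    · obtain ⟨B⟩ := h.exists_blk
      rw [h8, e] at B
      rw [e] at h4
      obtain ⟨l, -, k⟩ := shp h B h4 89 (by norm_num) [] (by decide +kernel)
      simp at k
  · obtain ⟨h6, h7⟩ := eq_of_prime Nat.prime_two (Nat.dvd_of_mul_dvd_mul_left (by norm_num) h3) h5
    rw [h6, h7] at h4
    exact ⟨h4, h2, h6, h7⟩

theorem mk_shape (h : Ctx p x) {n N e : ℕ} (hn : Nat.card G = n ∧ Nat.card (Sylow p G) = N ∧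
    Nat.card h.H = e ∧ Nat.card h.K = 1) (s : ℕ) (hs : n ≤ s * s) (Ls : List (List Ent))
    (hP : blk n p e 0 ((List.range' 2 s).filter fun d => n % d == 0)
      (fun l => (l.map fun a : Ent => a.1 * (a.2.1 : ℤ)).sum == 1 && !Ls.contains l) = false) :
    Shape G p N e Ls := by
  obtain ⟨B⟩ := h.exists_blk
  obtain ⟨h1, h2, rfl, h4⟩ := hn
  rw [h4] at B
  obtain ⟨l, h5, h6⟩ := shp h B h1 s hs Ls hP
  exact ⟨x, h, B, l, h5, h2, rfl, h4, h6⟩

theorem sh25 (hn : Nat.card G = 7800) : Shape G 13 300 2 [[(1, 25, 1), (-1, 2 * 12, 6)]] := by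
  obtain ⟨x, h⟩ := exists_ctx (G := G) (p := 13) (by norm_num) (by norm_num [hn]) (by norm_num [hn])
  exact mk_shape h (n13 h hn.dvd) 89 (by norm_num) _ (by decide +kernel)

theorem sh81 (hn : Nat.card G = 265680) :
    Shape G 41 3240 2 [[(1, 81, 1), (-1, 2 * 40, 20)]] := by
  obtain ⟨x, h⟩ := exists_ctx (G := G) (p := 41) (by norm_num) (by norm_num [hn]) (by norm_num [hn])
  exact mk_shape h (one h Nat.prime_two (by decide +kernel) (by norm_num) hn.dvd) 516
    (by norm_num) _ (by decide +kernel)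

theorem zs' {r : ℕ} (hr : r.Prime) (hn : Nat.card G = (p + 1) * r * p)
    (hc : chk ((p + 1) * r) p [1, p + 1] = true) (h2 : p ≠ 2 ∧ ¬ p ^ 2 ∣ (p + 1) * r * p) :
    HasDeg G p ∧ ∀ (F : Type v) [Field F] [Fintype F], Fintype.card F = p →
      Nonempty (G ≃* PSL(2, F)) := by
  obtain ⟨x, h⟩ := exists_ctx (G := G) h2.1 (hn ▸ dvd_mul_left _ _) (hn ▸ h2.2)
  refine zass (one h hr hc p.succ_pos hn.dvd).2.1 ?_
  rw [hn]
  exact Nat.mul_lt_mul_of_pos_right (lt_mul_of_one_lt_right p.succ_pos hr.one_lt) hp.out.pos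

end Cfsg.Agent.H4.U3L

namespace Cfsg.Agent.L0.U3

open Cfsg Cfsg.Agent.H2.D1 Cfsg.Agent.H4.U3L

theorem l2 {F : Type*} [Field F] [Fintype F] (hF : Fintype.card F ∈ ({23, 25, 47, 81} : Finset ℕ))
    {G : Type*} [Group G] [Finite G]
    (hc : Nat.card G = Nat.card (Matrix.ProjectiveSpecialLinearGroup (Fin 2) F))
    (hd : degreePrimes G = degreePrimes (Matrix.ProjectiveSpecialLinearGroup (Fin 2) F)) :
    Nonempty (G ≃* Matrix.ProjectiveSpecialLinearGroup (Fin 2) F) := by
  have h1 := H3.card_psl2_mul (F := F)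
  have h2 := Matrix.ProjectiveSpecialLinearGroup.rank_two_simple (F := F)
  rw [Nat.card_eq_fintype_card] at h2
  simp only [Finset.mem_insert, Finset.mem_singleton] at hF
  rcases hF with e | e | e | e <;> rw [e] at h1 h2 <;> norm_num at h1
  · have hn : Nat.card (Matrix.ProjectiveSpecialLinearGroup (Fin 2) F) = (23 + 1) * 11 * 23 := by
      omega
    have := ns_of_simple (h2 (by norm_num)) (by rw [hn]; norm_num)
    have := reduce (p := 23) (hc.trans hn) hd (zs'.{_, 0} (by norm_num) hn (by decide +kernel)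
      (by decide)).1 (by decide) (not_pp (l := [1, 24]) (by decide +kernel) (by norm_num) (by decide))
      fun T _ _ _ y hy hT => (one hy (by norm_num) (by decide +kernel) (by norm_num) hT).1
    exact (zs' (by norm_num) (hc.trans hn) (by decide +kernel) (by decide)).2 F e
  · have hn : Nat.card (Matrix.ProjectiveSpecialLinearGroup (Fin 2) F) = 7800 := by omega
    have := ns_of_simple (h2 (by norm_num)) (by rw [hn]; norm_num)
    have := reduce (p := 13) (hc.trans hn) hd ((sh25 hn).hasDeg hn (by decide)) (by decide)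
      (not_pp (p := 13) (m := 600) (l := [1, 40, 300]) (by decide +kernel) (by norm_num) (by decide))
      fun T _ _ _ y hy hT => (n13 hy hT).1
    exact half (r := 5) (j := 1) ⟨by norm_num, ⟨2, rfl⟩, rfl, rfl, by decide, by decide⟩
      (hc.trans hn) (sh25 (hc.trans hn)) Nat.prime_three (by decide) F
      (Nat.card_eq_fintype_card.trans e)
  · have hn : Nat.card (Matrix.ProjectiveSpecialLinearGroup (Fin 2) F) = (47 + 1) * 23 * 47 := by
      omega
    have := ns_of_simple (h2 (by norm_num)) (by rw [hn]; norm_num)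
    have := reduce (p := 47) (hc.trans hn) hd (zs'.{_, 0} (by norm_num) hn (by decide +kernel)
      (by decide)).1 (by decide) (not_pp (l := [1, 48]) (by decide +kernel) (by norm_num) (by decide))
      fun T _ _ _ y hy hT => (one hy (by norm_num) (by decide +kernel) (by norm_num) hT).1
    exact (zs' (by norm_num) (hc.trans hn) (by decide +kernel) (by decide)).2 F e
  · have hn : Nat.card (Matrix.ProjectiveSpecialLinearGroup (Fin 2) F) = 265680 := by omega
    have := ns_of_simple (h2 (by norm_num)) (by rw [hn]; norm_num)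
    have := reduce (p := 41) (hc.trans hn) hd ((sh81 hn).hasDeg hn (by decide)) (by decide)
      (not_pp (p := 41) (m := 6480) (l := [1, 3240]) (by decide +kernel) (by norm_num) (by decide))
      fun T _ _ _ y hy hT => (one (N := 3240) hy Nat.prime_two (by decide +kernel) (by norm_num) hT).1
    exact half (r := 3) (j := 2) ⟨by norm_num, ⟨4, rfl⟩, rfl, rfl, by decide, by decide⟩
      (hc.trans hn) (sh81 (hc.trans hn)) Nat.prime_five (by decide) F
      (Nat.card_eq_fintype_card.trans e)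

end Cfsg.Agent.L0.U3
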